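import Groth.Prelude.Def_MoreMor
import Mathlib.AlgebraicGeometry.Morphisms.UniversallyOpen
import Mathlib.AlgebraicGeometry.Cover.QuasiCompact

set_option autoImplicit false
universe u
open CategoryTheory CategoryTheory.Limits AlgebraicGeometry TopologicalSpace

namespace Groth.Agent.FlatMor68.Basic

theorem spec_quot_surj {A : Type u} [CommRing A] (I : Ideal A) (hI : I ^ 2 = ⊥)
    (p : Spec (CommRingCat.of A)) :
    ∃ q, Spec.map (CommRingCat.ofHom (Ideal.Quotient.mk I)) q = p := by
  suffices p ∈ Set.range (PrimeSpectrum.comap (Ideal.Quotient.mk I)) from this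
  rw [range_comap_of_surjective _ _ Ideal.Quotient.mk_surjective, Ideal.mk_ker]
  intro a ha
  have : a ^ 2 = 0 := by
    have := Ideal.pow_mem_pow ha 2
    rw [hI] at this; exact this
  exact p.2.mem_of_pow_mem 2 (this ▸ zero_mem _)

theorem exists_maximal_generization {α : Type u} [TopologicalSpace α] [QuasiSober α] [T0Space α]
    (x : α) : ∃ ξ, ξ ⤳ x ∧ ∀ z, z ⤳ ξ → z = ξ := by
  obtain ⟨Z, hZ, hsub⟩ := exists_mem_irreducibleComponents_subset_of_isIrreducible {x} isIrreducible_singleton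
  refine ⟨hZ.1.genericPoint, ?_, fun z hz => ?_⟩
  · exact (hZ.1.isGenericPoint_genericPoint (isClosed_of_mem_irreducibleComponents _ hZ)).specializes
      (hsub rfl)
  · have hg := hZ.1.isGenericPoint_genericPoint (isClosed_of_mem_irreducibleComponents _ hZ)
    have h1 : Z ⊆ closure {z} := by
      rw [← hg.def]
      exact (specializes_iff_closure_subset).1 hz
    have h2 := hZ.2 isIrreducible_singleton.closure h1
    exact (specializes_iff_mem_closure.2 (h1 hg.mem)).antisymm
      (hg.specializes (h2 (subset_closure rfl))) |>.eq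

theorem maximal_map {X Y : Scheme.{u}} (f : X ⟶ Y) [Flat f] {ξ : X} (hξ : ∀ z, z ⤳ ξ → z = ξ)
    {η : Y} (hη : η ⤳ f ξ) : η = f ξ := by
  obtain ⟨z, hz, rfl⟩ := (Flat.generalizingMap f) hη
  rw [hξ z hz]

theorem maximal_mem_dense {Y : Scheme.{u}} [IsLocallyNoetherian Y] (U : Y.Opens) (hU : Dense (U : Set Y))
    (η : Y) (hη : ∀ z, z ⤳ η → z = η) : η ∈ U := by
  obtain ⟨W, hW, hηW, -⟩ := Opens.isBasis_iff_nbhd.mp Y.isBasis_affineOpens (Opens.mem_top η)
  have : IsAffine (W : Scheme.{u}) := hW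
  have : AlgebraicGeometry.IsNoetherian (W : Scheme.{u}) := {}
  have hfin : (genericPoints (W : Scheme.{u})).Finite :=
    genericPoints.finite (TopologicalSpace.NoetherianSpace.finite_irreducibleComponents)
  let S : Set Y := ((Scheme.Opens.ι W) '' genericPoints (W : Scheme.{u})) \ {η}
  let C : Set Y := ⋃ s ∈ S, closure {s}
  have hC : IsClosed C := ((hfin.image _).subset Set.sdiff_subset).isClosed_biUnion fun _ _ => isClosed_closure
  have hηC : η ∉ C := by
    simp only [C, Set.mem_iUnion]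
    rintro ⟨s, hs, hs'⟩
    exact hs.2 (hη s (specializes_iff_mem_closure.2 hs'))
  obtain ⟨z, hz, hzU⟩ := hU.inter_open_nonempty _ (W.2.inter hC.isOpen_compl) ⟨η, hηW, hηC⟩
  obtain ⟨ξ, hξ, hξm⟩ := exists_maximal_generization (α := (W : Scheme.{u})) ⟨z, hz.1⟩
  have hgen : ξ ∈ genericPoints (W : Scheme.{u}) := by
    obtain ⟨Z, hZ, hsub⟩ := exists_mem_irreducibleComponents_subset_of_isIrreducible {ξ} isIrreducible_singleton
    have hg := hZ.1.isGenericPoint_genericPoint (isClosed_of_mem_irreducibleComponents _ hZ)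
    have := hξm _ (hg.specializes (hsub rfl))
    show closure {ξ} ∈ irreducibleComponents _
    rw [← this, hg.def]; exact hZ
  have hsp : (Scheme.Opens.ι W) ξ ⤳ z := hξ.map (Scheme.Opens.ι W).continuous
  by_cases he : (Scheme.Opens.ι W) ξ = η
  · exact he ▸ hsp.mem_open U.2 hzU
  · exact absurd (Set.mem_biUnion (show (Scheme.Opens.ι W) ξ ∈ S from ⟨⟨ξ, hgen, rfl⟩, he⟩) (specializes_iff_mem_closure.1 hsp)) hz.2

end Groth.Agent.FlatMor68.Basic
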