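import Groth.Statements.S10887
import Groth.Statements.S10935
import Groth.Statements.S19202
import Groth.Agent.Ega11.RegLocal
import Groth.Agent.Div89.WeakAss
import Groth.Agent.FlatMor68.Basic
import Groth.Agent.Cyc90.Gen
import Mathlib.RingTheory.Flat.TorsionFree
import Mathlib.AlgebraicGeometry.Morphisms.Flat
import Mathlib.Topology.KrullDimension
import Mathlib.RingTheory.Ideal.AssociatedPrime.Localization

set_option autoImplicit false
universe u
open CategoryTheory CategoryTheory.Limits AlgebraicGeometry TopologicalSpace IsLocalRing Groth.Agent.FlatMor68.Basic Groth.Agent.Cyc90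

namespace Groth.Agent.FlatMor68.DedekindFlat

theorem isPrincipalIdealRing_of_regular (R : Type u) [CommRing R] [IsRegularLocalRing R]
    (h : ringKrullDim R ≤ 1) : IsPrincipalIdealRing R := by
  have := Groth.Agent.Ega11.RegLocal.isDomain R
  have h1 : (maximalIdeal R).spanFinrank ≤ 1 := by
    have h2 := (IsRegularLocalRing.spanFinrank_maximalIdeal (R := R)).le.trans h
    exact_mod_cast h2
  have hfg : Submodule.FG (maximalIdeal R) := IsNoetherian.noetherian _
  have hp : (maximalIdeal R).IsPrincipal := by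
    rw [← Submodule.span_generators (maximalIdeal R)]
    have hc := hfg.finite_generators
    have := hc.to_subtype
    have h3 : (maximalIdeal R).generators.Subsingleton :=
      (Set.ncard_le_one_iff_subsingleton (s := (maximalIdeal R).generators)).1 (hfg.generators_ncard ▸ h1)
    rcases h3.eq_empty_or_singleton with he | ⟨a, ha⟩
    · rw [he]; exact ⟨0, by simp⟩
    · rw [ha]; exact ⟨a, rfl⟩
  exact ((tfae_of_isNoetherianRing_of_isLocalRing_of_isDomain R).out 4 0).1 hp

theorem stalk_dim_le {Y : Scheme.{u}} (y : Y) : ringKrullDim (Y.presheaf.stalk y) ≤ topologicalKrullDim Y := by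
  rw [ringKrullDim_stalk_eq_coheight]
  refine (Order.coheight_le_krullDim y).trans (le_of_eq ?_)
  exact Order.krullDim_eq_of_orderIso (irreducibleSetEquivPoints (α := Y)).symm

/-- over stalks which are principal ideal domains, flatness is absence of torsion -/
theorem flat_iff_nzd {X Y : Scheme.{u}} (f : X ⟶ Y)
    (hY : ∀ y : Y, IsDomain (Y.presheaf.stalk y) ∧ IsPrincipalIdealRing (Y.presheaf.stalk y)) :
    Flat f ↔ ∀ (x : X) (a : Y.presheaf.stalk (f x)), a ≠ 0 →
      ∀ s, (f.stalkMap x).hom a * s = 0 → s = 0 := by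
  rw [Flat.iff_flat_stalkMap]
  refine forall_congr' fun x => ?_
  have := (hY (f x)).1
  have := (hY (f x)).2
  algebraize [(f.stalkMap x).hom]
  show Module.Flat _ _ ↔ _
  rw [Module.Flat.flat_iff_torsion_eq_bot_of_isBezout, eq_bot_iff]
  constructor
  · intro h a ha s hs
    exact h ((Submodule.mem_torsion_iff s).2 ⟨⟨a, mem_nonZeroDivisors_of_ne_zero ha⟩, hs⟩)
  · rintro h s hs
    obtain ⟨⟨a, ha⟩, has⟩ := (Submodule.mem_torsion_iff s).1 hs
    exact h a (nonZeroDivisors.ne_zero ha) s has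

theorem genPrime_eq_comap {X : Scheme.{u}} {x z : X} (h : z ⤳ x) (a : X.presheaf.stalk x) :
    a ∈ (genPrime h).asIdeal ↔ ¬ IsUnit ((X.presheaf.stalkSpecializes h).hom a) := by
  exact Iff.rfl

theorem notMem_genPrime {X Y : Scheme.{u}} (f : X ⟶ Y) {x z : X} (h : z ⤳ x)
    (a : Y.presheaf.stalk (f x))
    (ha : IsUnit ((Y.presheaf.stalkSpecializes (h.map f.continuous)).hom a)) :
    (f.stalkMap x).hom a ∉ (genPrime h).asIdeal := by
  rw [genPrime_eq_comap, not_not]
  exact (Scheme.Hom.stalkSpecializes_stalkMap_apply f z x h a) ▸ ha.map (f.stalkMap z).hom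

theorem isUnit_spec_generic {Y : Scheme.{u}} {η y : Y} (h : η ⤳ y) [IsDomain (Y.presheaf.stalk y)]
    [IsReduced Y] (hη : ∀ z, z ⤳ η → z = η)
    (a : Y.presheaf.stalk y) (ha : a ≠ 0) : IsUnit ((Y.presheaf.stalkSpecializes h).hom a) := by
  by_contra hu
  have h0 : genPrime h = (⊥ : PrimeSpectrum (Y.presheaf.stalk y)) := by
    refine le_antisymm ?_ bot_le
    have hm := genPrime_fromSpecStalk (X := Y) (x := y) ⊥
    rw [← hm]
    refine (genPrime_le_iff h _).2 ?_
    have hb : (genPrime (fromSpecStalk_specializes (X := Y) (x := y) ⊥)).asIdeal ≤ (genPrime h).asIdeal := by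
      rw [hm]; exact bot_le
    rw [genPrime_le_iff] at hb
    rw [hη _ hb]
  exact ha (by simpa [h0] using (genPrime_eq_comap h a).2 hu)

theorem maximal_of_minimal {X : Scheme.{u}} {x : X} (q : Ideal (X.presheaf.stalk x))
    (hq : q ∈ minimalPrimes (X.presheaf.stalk x)) :
    ∀ z, z ⤳ (X.fromSpecStalk x).base ⟨q, hq.isPrime⟩ →
      z = (X.fromSpecStalk x).base ⟨q, hq.isPrime⟩ := by
  intro z hz
  set p : PrimeSpectrum (X.presheaf.stalk x) := ⟨q, hq.isPrime⟩
  have hp := fromSpecStalk_specializes p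
  have h1 : (genPrime (hz.trans hp)).asIdeal ≤ (genPrime hp).asIdeal := (genPrime_le_iff _ _).2 hz
  rw [genPrime_fromSpecStalk p] at h1
  have h2 : q ≤ (genPrime (hz.trans hp)).asIdeal := hq.2 ⟨inferInstance, bot_le⟩ h1
  have h3 : (genPrime hp).asIdeal ≤ (genPrime (hz.trans hp)).asIdeal := by
    rw [genPrime_fromSpecStalk p]; exact h2
  exact (hz.antisymm ((genPrime_le_iff _ _).1 h3)).eq

theorem nzd_of_reduced {X Y : Scheme.{u}} (f : X ⟶ Y) [IsReduced X] (x : X) (a : Y.presheaf.stalk (f x))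
    (h : ∀ z (hz : z ⤳ x), (∀ w, w ⤳ z → w = z) → IsUnit ((Y.presheaf.stalkSpecializes (hz.map f.continuous)).hom a))
    (s : X.presheaf.stalk x) (hs : (f.stalkMap x).hom a * s = 0) : s = 0 := by
  refine IsNilpotent.eq_zero ?_
  rw [← mem_nilradical, nilradical, ← Ideal.sInf_minimalPrimes, Ideal.mem_sInf]
  intro q hq
  have := notMem_genPrime f (fromSpecStalk_specializes ⟨q, hq.isPrime⟩) a
    (h _ (fromSpecStalk_specializes ⟨q, hq.isPrime⟩) (maximal_of_minimal q hq))
  rw [genPrime_fromSpecStalk] at this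
  exact ((hq.isPrime).mem_or_mem (hs ▸ zero_mem q)).resolve_left this

theorem assPrime_maximal_of_localization {X : Scheme.{u}} {x : X} [IsNoetherianRing (X.presheaf.stalk x)]
    (q : PrimeSpectrum (X.presheaf.stalk x)) (hq : IsAssociatedPrime q.asIdeal (X.presheaf.stalk x)) :
    Curv2.IsAssPoint (Coh.structureModule X) ((X.fromSpecStalk x).base q) := by
  rw [Groth.Agent.Div89.isAssPoint_iff_isWeakAssPoint, Groth.Agent.Div89.isWeakAssPoint_structureModule_iff']
  have h := fromSpecStalk_specializes q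
  letI := (X.presheaf.stalkSpecializes h).hom.toAlgebra
  haveI hl := isLocalization_genPrime h
  haveI := isLocalizedModule_iff_isLocalization' (genPrime h).asIdeal.primeCompl
    (X.presheaf.stalk ((X.fromSpecStalk x).base q)) |>.2 hl
  refine Module.associatedPrimes.mem_associatedPrimes_of_comap_mem_associatedPrimes_of_isLocalizedModule
    (genPrime h).asIdeal.primeCompl (Algebra.linearMap (X.presheaf.stalk x) (X.presheaf.stalk ((X.fromSpecStalk x).base q)))
    _ ?_
  show IsAssociatedPrime _ _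
  have e := (IsLocalization.AtPrime.under_maximalIdeal (X.presheaf.stalk ((X.fromSpecStalk x).base q))
    (genPrime h).asIdeal).trans (congrArg PrimeSpectrum.asIdeal (genPrime_fromSpecStalk q))
  exact (congrArg (fun I => IsAssociatedPrime I (X.presheaf.stalk x)) e).mpr hq

theorem nzd_of_ass {X Y : Scheme.{u}} (f : X ⟶ Y) [IsLocallyNoetherian X] (x : X) (a : Y.presheaf.stalk (f x))
    (h : ∀ z (hz : z ⤳ x), Curv2.IsAssPoint (Coh.structureModule X) z →
      IsUnit ((Y.presheaf.stalkSpecializes (hz.map f.continuous)).hom a))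
    (s : X.presheaf.stalk x) (hs : (f.stalkMap x).hom a * s = 0) : s = 0 := by
  by_contra hs0
  have : (f.stalkMap x).hom a ∈ ⋃ p ∈ associatedPrimes (X.presheaf.stalk x) (X.presheaf.stalk x), (p : Set (X.presheaf.stalk x)) := by
    rw [biUnion_associatedPrimes_eq_zero_divisors]
    exact ⟨s, hs0, hs⟩
  obtain ⟨q, hq, hqa⟩ := Set.mem_iUnion₂.1 this
  have := notMem_genPrime f (fromSpecStalk_specializes ⟨q, hq.isPrime⟩) a
    (h _ (fromSpecStalk_specializes ⟨q, hq.isPrime⟩) (assPrime_maximal_of_localization ⟨q, hq.isPrime⟩ hq))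
  rw [genPrime_fromSpecStalk] at this
  exact this hqa

theorem eq_zero_of_assPoint_flat {X Y : Scheme.{u}} (f : X ⟶ Y) [Flat f] (x : X) [IsDomain (Y.presheaf.stalk (f x))]
    (hx : Curv2.IsAssPoint (Coh.structureModule X) x) : maximalIdeal (Y.presheaf.stalk (f x)) = ⊥ := by
  rw [Groth.Agent.Div89.isAssPoint_iff_isWeakAssPoint, Groth.Agent.Div89.isWeakAssPoint_structureModule_iff'] at hx
  obtain ⟨hp, s, hs⟩ := hx
  refine eq_bot_iff.2 fun t ht => ?_
  by_contra ht0
  algebraize [(f.stalkMap x).hom]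
  haveI : Module.Flat (Y.presheaf.stalk (f x)) (X.presheaf.stalk x) := Flat.stalkMap f x
  have h1 : IsSMulRegular (X.presheaf.stalk x) t :=
    Module.Flat.isSMulRegular_of_nonZeroDivisors (mem_nonZeroDivisors_of_ne_zero ht0)
  have hm : (f.stalkMap x).hom t ∈ maximalIdeal (X.presheaf.stalk x) := map_nonunit _ t ht
  rw [hs] at hm
  obtain ⟨n, hn⟩ := hm
  rw [Submodule.mem_colon_singleton, Submodule.mem_bot, ← map_pow] at hn
  have hs0 : s = 0 := (h1.pow n) (by simpa [Algebra.smul_def, RingHom.algebraMap_toAlgebra] using hn)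
  exact hp.ne_top (by rw [hs, hs0]; simp)

theorem nzd_sections (R : Type u) [CommRing R] [IsDomain R]
    {X : Scheme.{u}} (p : X ⟶ Spec (CommRingCat.of R)) [Flat p] (a : Γ(Spec (CommRingCat.of R), ⊤))
    (ha : a ≠ 0) (V : X.Opens) (t : Γ(X, V)) (h : (p.appLE ⊤ V le_top).hom a * t = 0) : t = 0 := by
  haveI : IsDomain Γ(Spec (CommRingCat.of R), ⊤) :=
    (Scheme.ΓSpecIso (CommRingCat.of R)).commRingCatIsoToRingEquiv.toMulEquiv.isDomain
  refine TopCat.Presheaf.section_ext X.sheaf V t 0 fun x hx => ?_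
  show X.presheaf.germ V x hx t = X.presheaf.germ V x hx 0
  obtain ⟨_, ⟨W, hW, rfl⟩, hxW, hWV⟩ :=
    X.isBasis_affineOpens.exists_subset_of_mem_open hx V.isOpen
  have hfl := Flat.flat_appLE p (U := ⊤) (isAffineOpen_top _) (V := W) hW le_top
  algebraize [(p.appLE ⊤ W le_top).hom]
  haveI : Module.Flat Γ(Spec (CommRingCat.of R), ⊤) Γ(X, W) := hfl
  replace hWV : W ≤ V := hWV
  have h1 : IsSMulRegular Γ(X, W) a :=
    Module.Flat.isSMulRegular_of_nonZeroDivisors (mem_nonZeroDivisors_of_ne_zero ha)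
  have h2 := congrArg (X.presheaf.map (homOfLE hWV).op).hom h
  rw [map_mul, map_zero] at h2
  have h3 : (X.presheaf.map (homOfLE hWV).op).hom t = 0 := by
    refine h1 ?_
    simp only [Algebra.smul_def, RingHom.algebraMap_toAlgebra, mul_zero]
    rw [← h2]
    refine congrArg (fun z : Γ(X, W) => z * (X.presheaf.map (homOfLE hWV).op).hom t) ?_
    exact (congr(CommRingCat.Hom.hom $(Scheme.Hom.appLE_map p (V' := W) (le_top : V ≤ p ⁻¹ᵁ ⊤) (homOfLE hWV).op) a)).symm
  rw [← TopCat.Presheaf.germ_res_apply X.presheaf (homOfLE hWV) x hxW, h3, map_zero, map_zero]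

end Groth.Agent.FlatMor68.DedekindFlat
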