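import Groth.Agent.FlatMor68.LocFree
import Groth.Agent.Pure3.Basic
import Groth.Agent.QCqs72.Basic
import Mathlib.AlgebraicGeometry.Morphisms.ClosedImmersion
import Mathlib.AlgebraicGeometry.Morphisms.Flat
import Groth.Prelude.Def_CohB1

set_option autoImplicit false
set_option backward.isDefEq.respectTransparency.types false
set_option linter.style.haveILetI false

noncomputable section

universe u

open CategoryTheory Limits AlgebraicGeometry TopologicalSpace Opposite PrimeSpectrum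
open Groth.Agent.QC70

namespace Groth.Agent.FlatMor68.PureClosed

variable {X : Scheme.{u}}

theorem mem_prime_iff {U : X.Opens} (hU : IsAffineOpen U) {x : X} (hx : x ∈ U) (a : Γ(X, U)) :
    a ∈ (hU.primeIdealOf ⟨x, hx⟩).asIdeal ↔ x ∉ X.basicOpen a := by
  rw [mem_basicOpen_iff_primeCompl hU hx]
  exact not_not.symm

theorem mem_of_fromSpec {U : X.Opens} (hU : IsAffineOpen U) (p : PrimeSpectrum Γ(X, U)) :
    hU.fromSpec p ∈ U := hU.range_fromSpec.subset ⟨_, rfl⟩

theorem primeIdealOf_fromSpec {U : X.Opens} (hU : IsAffineOpen U) (p : PrimeSpectrum Γ(X, U))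
    (h : hU.fromSpec p ∈ U) : hU.primeIdealOf ⟨hU.fromSpec p, h⟩ = p :=
  hU.fromSpec.isOpenEmbedding.injective (hU.fromSpec_primeIdealOf ⟨_, h⟩)

theorem mem_support_iff_prime (I : X.IdealSheafData) (U : X.affineOpens) {x : X} (hx : x ∈ U.1) :
    x ∈ I.support ↔ U.2.primeIdealOf ⟨x, hx⟩ ∈ zeroLocus (I.ideal U : Set Γ(X, U.1)) := by
  rw [I.mem_support_iff_of_mem hx, Scheme.mem_zeroLocus_iff]
  exact forall_congr' fun a => imp_congr_right fun _ => (mem_prime_iff U.2 hx a).symm

theorem pure_of_flat (I : X.IdealSheafData) [Flat I.subschemeι] (U : X.affineOpens) :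
    (I.ideal U).Pure := by
  have h := Flat.flat_appLE I.subschemeι U.2 (U.2.preimage I.subschemeι) le_rfl
  rw [← Scheme.Hom.app_eq_appLE] at h
  letI := (I.subschemeι.app U.1).hom.toAlgebra
  haveI : Module.Flat Γ(X, U.1) Γ(I.subscheme, I.subschemeι ⁻¹ᵁ U.1) := h
  have hk : LinearMap.ker (Algebra.linearMap Γ(X, U.1) Γ(I.subscheme, I.subschemeι ⁻¹ᵁ U.1)) =
      I.ideal U := I.ker_subschemeι_app U
  exact Module.Flat.of_linearEquiv ((Submodule.quotEquivOfEq _ _ hk.symm).trans
    ((Algebra.linearMap Γ(X, U.1) Γ(I.subscheme, I.subschemeι ⁻¹ᵁ U.1)).quotKerEquivOfSurjective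
      (I.subschemeι_app_surjective U)))

theorem flat_of_pure (I : X.IdealSheafData) (h : ∀ U : X.affineOpens, (I.ideal U).Pure) :
    Flat I.subschemeι := by
  refine (HasRingHomProperty.iff_exists_appLE (P := @Flat)
    (RingHom.Flat.stableUnderComposition.stableUnderCompositionWithLocalizationAway
      RingHom.Flat.holdsForLocalizationAway).left).mpr fun x => ?_
  obtain ⟨U, hU, hxU, -⟩ := exists_isAffineOpen_mem_and_subset (X := X)
    (x := I.subschemeι.base x) (U := ⊤) trivial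
  refine ⟨⟨U, hU⟩, ⟨I.subschemeι ⁻¹ᵁ U, hU.preimage _⟩, hxU, le_rfl, ?_⟩
  rw [← Scheme.Hom.app_eq_appLE]
  letI := (I.subschemeι.app U).hom.toAlgebra
  have hk : LinearMap.ker (Algebra.linearMap Γ(X, U) Γ(I.subscheme, I.subschemeι ⁻¹ᵁ U)) =
      I.ideal ⟨U, hU⟩ := I.ker_subschemeι_app ⟨U, hU⟩
  haveI := h ⟨U, hU⟩
  exact Module.Flat.of_linearEquiv ((Submodule.quotEquivOfEq _ _ hk.symm).trans
    ((Algebra.linearMap Γ(X, U) Γ(I.subscheme, I.subschemeι ⁻¹ᵁ U)).quotKerEquivOfSurjective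
      (I.subschemeι_app_surjective ⟨U, hU⟩))).symm

theorem germ_eq_zero_of_pure (I : X.IdealSheafData) (U : X.affineOpens) (h : (I.ideal U).Pure)
    {a : Γ(X, U.1)} (ha : a ∈ I.ideal U) {x : X} (hxI : x ∈ I.support) (hx : x ∈ U.1) :
    X.presheaf.germ U.1 x hx a = 0 := by
  haveI := h
  obtain ⟨b, hb, hab⟩ := Ideal.exists_eq_mul_of_pure ha
  have hbx : ¬ IsUnit (X.presheaf.germ U.1 x hx b) := fun hu =>
    (mem_prime_iff U.2 hx b).mp ((mem_support_iff_prime I U hx).mp hxI hb)
      ((Scheme.mem_basicOpen X b x hx).mpr hu)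
  have hu : IsUnit (1 - X.presheaf.germ U.1 x hx b) :=
    IsLocalRing.isUnit_one_sub_self_of_mem_nonunits _ hbx
  refine (hu.mul_left_eq_zero).mp ?_
  rw [mul_sub, mul_one, ← map_mul, ← hab, sub_self]

theorem stable_support (I : X.IdealSheafData) (h : ∀ U : X.affineOpens, (I.ideal U).Pure) :
    StableUnderGeneralization (I.support : Set X) := by
  intro x y hyx hx
  obtain ⟨U, hU, hxU, -⟩ := exists_isAffineOpen_mem_and_subset (X := X) (x := x) (U := ⊤) trivial
  have hyU : y ∈ U := hyx.mem_open U.2 hxU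
  refine (mem_support_iff_prime I ⟨U, hU⟩ hyU).mpr fun a ha => ?_
  refine (mem_prime_iff hU hyU a).mpr fun hya => ?_
  have h0 := germ_eq_zero_of_pure I ⟨U, hU⟩ (h _) ha hx hxU
  have hu := (Scheme.mem_basicOpen X a y hyU).mp hya
  rw [← TopCat.Presheaf.germ_stalkSpecializes_apply X.presheaf hxU hyx a, h0, map_zero] at hu
  exact not_isUnit_zero hu

theorem exists_pure_ideal (Z : Set X) (hc : IsClosed Z) (hs : StableUnderGeneralization Z)
    (U : X.affineOpens) : ∃ I : Ideal Γ(X, U.1), I.Pure ∧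
      ∀ p, p ∈ zeroLocus (I : Set Γ(X, U.1)) ↔ U.2.fromSpec p ∈ Z := by
  obtain ⟨I, hI, hIZ⟩ := Pure3.exists_pure (U.2.fromSpec ⁻¹' Z) (hc.preimage U.2.fromSpec.continuous)
    (fun p q hqp hp => hs (hqp.map U.2.fromSpec.continuous) hp)
  exact ⟨I, hI, fun p => by rw [hIZ]; rfl⟩

theorem pure_map {A B : Type u} [CommRing A] [CommRing B] [Algebra A B] (I : Ideal A) (hI : I.Pure) :
    (I.map (algebraMap A B)).Pure := by
  haveI := hI
  exact Module.Flat.of_linearEquiv (Algebra.TensorProduct.quotIdealMapEquivTensorQuot B I).toLinearEquiv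

/-- The closed subscheme structure of a closed set stable under generalization. -/
theorem exists_idealSheaf (Z : Set X) (hc : IsClosed Z) (hs : StableUnderGeneralization Z) :
    ∃ I : X.IdealSheafData, Flat I.subschemeι ∧ (I.support : Set X) = Z := by
  choose J hJ hJZ using exists_pure_ideal Z hc hs
  let I : X.IdealSheafData := Scheme.IdealSheafData.mkOfMemSupportIff J (fun U f => by
    letI : Algebra Γ(X, U.1) Γ(X, (X.affineBasicOpen f).1) :=
      (X.presheaf.map (homOfLE (X.basicOpen_le f)).op).hom.toAlgebra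
    refine (@Ideal.zeroLocus_inj_of_pure _ _ _ _ (pure_map (B := Γ(X, (X.affineBasicOpen f).1)) _ (hJ U))
      (hJ (X.affineBasicOpen f))).mp (Set.ext fun p => ?_)
    rw [hJZ]
    set x := (X.affineBasicOpen f).2.fromSpec p
    have hxD : x ∈ X.basicOpen f := mem_of_fromSpec _ p
    have hxU : x ∈ U.1 := X.basicOpen_le f hxD
    have hp := primeIdealOf_fromSpec (X.affineBasicOpen f).2 p hxD
    have hxZ := hJZ U (U.2.primeIdealOf ⟨x, hxU⟩)
    rw [U.2.fromSpec_primeIdealOf ⟨x, hxU⟩] at hxZ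
    rw [← hxZ]
    constructor
    · intro h a ha
      refine (mem_prime_iff U.2 hxU a).mpr fun hxa => ?_
      have h1 := h (Ideal.mem_map_of_mem _ ha)
      rw [← hp] at h1
      refine (mem_prime_iff (X.affineBasicOpen f).2 hxD _).mp h1 ?_
      show x ∈ X.basicOpen (X.presheaf.map (homOfLE (X.basicOpen_le f)).op a)
      rw [Scheme.basicOpen_res]
      exact ⟨hxD, hxa⟩
    · intro h
      refine SetLike.coe_subset_coe.mpr (Ideal.map_le_iff_le_comap.mpr fun a ha => ?_)
      rw [Ideal.mem_comap, ← hp]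
      refine (mem_prime_iff (X.affineBasicOpen f).2 hxD _).mpr fun hxa => ?_
      change x ∈ X.basicOpen (X.presheaf.map (homOfLE (X.basicOpen_le f)).op a) at hxa
      rw [Scheme.basicOpen_res] at hxa
      exact (mem_prime_iff U.2 hxU a).mp (h ha) hxa.2) Z (fun U x hx => by
    rw [Scheme.mem_zeroLocus_iff]
    refine Iff.trans ?_ (forall_congr' fun a => imp_congr_right fun _ => mem_prime_iff U.2 hx a)
    refine Iff.trans ?_ (hJZ U (U.2.primeIdealOf ⟨x, hx⟩)).symm |>.trans Iff.rfl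
    rw [U.2.fromSpec_primeIdealOf ⟨x, hx⟩])
  exact ⟨I, flat_of_pure I fun U => hJ U, rfl⟩

theorem t9351 (X : Scheme.{u}) :
    Set.BijOn (fun I : X.IdealSheafData => I.support) {I : X.IdealSheafData | Flat I.subschemeι}
        {Z : TopologicalSpace.Closeds ↑X | StableUnderGeneralization (Z : Set ↑X)} ∧
      ∀ I : X.IdealSheafData, Flat I.subschemeι → ∀ (Y : Scheme.{u}) (g : Y ⟶ X),
        Set.range g.base ⊆ (I.support : Set ↑X) → ∃ g' : Y ⟶ I.subscheme, g' ≫ I.subschemeι = g := by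
  refine ⟨⟨fun I (hI : Flat I.subschemeι) => stable_support I fun U => @pure_of_flat _ I hI U,
    fun I (hI : Flat I.subschemeι) I' (hI' : Flat I'.subschemeι) he => ?_, fun Z hZ => ?_⟩,
    fun I hI Y g hg => ?_⟩
  · refine Scheme.IdealSheafData.ext (funext fun U => ?_)
    haveI := @pure_of_flat _ I hI U
    haveI := @pure_of_flat _ I' hI' U
    refine Ideal.zeroLocus_inj_of_pure.mp (Set.ext fun p => ?_)
    have h1 := mem_support_iff_prime I U (mem_of_fromSpec U.2 p)
    have h2 := mem_support_iff_prime I' U (mem_of_fromSpec U.2 p)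
    rw [primeIdealOf_fromSpec U.2 p] at h1 h2
    rw [← h1, ← h2]
    exact iff_of_eq (congrArg (fun Z : Closeds X => U.2.fromSpec p ∈ Z) he)
  · obtain ⟨I, hI, hIZ⟩ := exists_idealSheaf (Z : Set X) Z.isClosed hZ
    exact ⟨I, hI, SetLike.coe_injective hIZ⟩
  · have hker : I.subschemeι.ker ≤ g.ker := by
      rw [Scheme.IdealSheafData.ker_subschemeι]
      refine Scheme.IdealSheafData.le_ofIdeals_iff.mpr fun U a ha => ?_
      rw [RingHom.mem_ker]
      refine TopCat.Presheaf.section_ext Y.sheaf _ _ 0 fun y hy => ?_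
      show Y.presheaf.germ (g ⁻¹ᵁ U.1) y hy (g.app U.1 a) = Y.presheaf.germ (g ⁻¹ᵁ U.1) y hy 0
      rw [← Scheme.Hom.germ_stalkMap_apply g U.1 y hy a,
        germ_eq_zero_of_pure I U (@pure_of_flat _ I hI U) ha (hg ⟨y, rfl⟩) hy, map_zero, map_zero]
    exact ⟨IsClosedImmersion.lift I.subschemeι g hker, IsClosedImmersion.lift_fac _ _ _⟩

end Groth.Agent.FlatMor68.PureClosed
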