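import Mathlib.AlgebraicGeometry.Fiber
import Mathlib.AlgebraicGeometry.FunctionField

set_option autoImplicit false
universe u
open CategoryTheory CategoryTheory.Limits AlgebraicGeometry IsLocalRing

namespace Groth.Agent.FlatMor68.FibreStalk


theorem stalkMap_eq_zero_of_field {Z W S : Scheme.{u}} (a : Z ⟶ W) (b : W ⟶ S)
    (hW : ∀ w : W, maximalIdeal (W.presheaf.stalk w) = ⊥) (g : Z ⟶ S) (hg : g = a ≫ b) (z : Z)
    (r : S.presheaf.stalk (g z)) (hr : r ∈ maximalIdeal (S.presheaf.stalk (g z))) :
    g.stalkMap z r = 0 := by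
  subst hg
  rw [Scheme.Hom.stalkMap_comp]
  have : (b.stalkMap (a z)).hom r ∈ maximalIdeal (W.presheaf.stalk (a z)) := by
    rw [mem_maximalIdeal, mem_nonunits_iff] at hr ⊢
    exact fun h => hr (IsLocalHom.map_nonunit (self := b.toLRSHom.prop (a z)) r h)
  rw [hW, Ideal.mem_bot] at this
  show (a.stalkMap z).hom ((b.stalkMap (a z)).hom r) = 0
  rw [this, map_zero]

theorem spec_field_stalk_maximalIdeal (K : Type u) [Field K] (w : Spec (CommRingCat.of K)) :
    maximalIdeal ((Spec (CommRingCat.of K)).presheaf.stalk w) = ⊥ := by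
  rw [← isField_iff_maximalIdeal_eq]
  rw [Subsingleton.elim w (genericPoint (Spec (CommRingCat.of K)))]
  exact Field.toIsField (Spec (CommRingCat.of K)).functionField

theorem fiberι_stalkMap_surjective {X S : Scheme.{u}} (f : X ⟶ S) (s : S) (z : f.fiber s) :
    Function.Surjective ((f.fiberι s).stalkMap z) :=
  (f.fiberι s).stalkMap_surjective z

theorem ker_fiberι_stalkMap {X S : Scheme.{u}} (f : X ⟶ S) (s : S) (z : f.fiber s) :
    RingHom.ker ((f.fiberι s).stalkMap z).hom =
      (maximalIdeal (S.presheaf.stalk (f (f.fiberι s z)))).map (f.stalkMap (f.fiberι s z)).hom := by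
  set x := f.fiberι s z with hx
  let J := (maximalIdeal (S.presheaf.stalk (f x))).map (f.stalkMap x).hom
  refine le_antisymm (fun r hr => ?_) ?_
  · have hs : f x = s := by
      rw [hx, ← Scheme.Hom.comp_apply, Scheme.Hom.fiber_fac, Scheme.Hom.comp_apply,
        Scheme.fromSpecResidueField_apply]
    have hJle : J ≤ maximalIdeal (X.presheaf.stalk x) := Ideal.map_le_iff_le_comap.2 fun t ht => by
      rw [Ideal.mem_comap, mem_maximalIdeal, mem_nonunits_iff] at *
      exact fun h => ht (IsLocalHom.map_nonunit (self := f.toLRSHom.prop x) t h)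
    have hJ : J ≠ ⊤ := ne_top_of_le_ne_top (maximalIdeal.isMaximal _).ne_top hJle
    have : Nontrivial (X.presheaf.stalk x ⧸ J) := Ideal.Quotient.nontrivial_iff.2 hJ
    have : IsLocalRing (X.presheaf.stalk x ⧸ J) :=
      IsLocalRing.of_surjective' (Ideal.Quotient.mk J) Ideal.Quotient.mk_surjective
    let A : CommRingCat.{u} := CommRingCat.of (X.presheaf.stalk x ⧸ J)
    let q : X.presheaf.stalk x ⟶ A := CommRingCat.ofHom (Ideal.Quotient.mk J)
    have : IsLocalHom q.hom := IsLocalHom.of_surjective (Ideal.Quotient.mk J) Ideal.Quotient.mk_surjective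
    let χ : S.residueField (f x) ⟶ A := CommRingCat.ofHom
      (Ideal.Quotient.lift _ ((f.stalkMap x) ≫ q).hom fun t ht =>
        Ideal.Quotient.eq_zero_iff_mem.2 (Ideal.mem_map_of_mem _ ht))
    let β : Spec A ⟶ X := Spec.map q ≫ X.fromSpecStalk x
    have hχ : Spec.map χ ≫ S.fromSpecResidueField (f x) = β ≫ f := by
      rw [Scheme.fromSpecResidueField, ← Spec.map_comp_assoc, Category.assoc,
        ← Scheme.SpecMap_stalkMap_fromSpecStalk, ← Spec.map_comp_assoc]
      rfl
    let ℓ : Spec A ⟶ f.fiber s := pullback.lift β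
      (Spec.map χ ≫ Spec.map (S.residueFieldCongr hs.symm).hom)
      (by rw [← hχ, Category.assoc, Scheme.residueFieldCongr_fromSpecResidueField])
    have hℓ : β = ℓ ≫ f.fiberι s := (pullback.lift_fst _ _ _).symm
    have hβ : β (closedPoint A) = x := by
      show X.fromSpecStalk x (Spec.map q (closedPoint A)) = x
      rw [Spec_closedPoint, Scheme.fromSpecStalk_closedPoint]
    have hℓz : ℓ (closedPoint A) = z := by
      apply (f.fiberι s).isEmbedding.injective
      refine Eq.trans ?_ hβ
      rw [hℓ]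
      rfl
    obtain ⟨U, hxU, b, rfl⟩ := X.presheaf.exists_germ_eq r
    have h0 : ∀ z' : f.fiber s, z' = z → ∀ h, (f.fiberι s).stalkMap z' (X.presheaf.germ U (f.fiberι s z') h b) = 0 := by
      rintro _ rfl h; exact hr
    have key : ∀ β' : Spec A ⟶ X, β' = ℓ ≫ f.fiberι s → ∀ h,
        Scheme.stalkClosedPointTo β' (X.presheaf.germ U (β' (closedPoint A)) h b) = 0 := by
      rintro _ rfl h
      rw [Scheme.stalkClosedPointTo_comp]
      refine (congrArg (Scheme.stalkClosedPointTo ℓ).hom (h0 _ hℓz h)).trans (map_zero _)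
    have hU : β (closedPoint A) ∈ U := by rw [hβ]; exact hxU
    have := Scheme.germ_stalkClosedPointTo_Spec_fromSpecStalk q U hU
    have h2 := DFunLike.congr_fun (congrArg CommRingCat.Hom.hom this) b
    exact Ideal.Quotient.eq_zero_iff_mem.1 (h2.symm.trans (key β hℓ hU))
  · refine Ideal.map_le_iff_le_comap.2 fun r hr => ?_
    have h := stalkMap_eq_zero_of_field (f.fiberToSpecResidueField s) (S.fromSpecResidueField s)
      (spec_field_stalk_maximalIdeal (S.residueField s)) (f.fiberι s ≫ f) (f.fiber_fac s) z r hr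
    rw [Scheme.Hom.stalkMap_comp] at h
    exact h

noncomputable def fibreStalkEquiv {X S : Scheme.{u}} (f : X ⟶ S) (s : S) (z : f.fiber s) :
    (X.presheaf.stalk (f.fiberι s z) ⧸
      (maximalIdeal (S.presheaf.stalk (f (f.fiberι s z)))).map (f.stalkMap (f.fiberι s z)).hom) ≃+*
      (f.fiber s).presheaf.stalk z :=
  (Ideal.quotEquivOfEq (ker_fiberι_stalkMap f s z).symm).trans
    (RingHom.quotientKerEquivOfSurjective (fiberι_stalkMap_surjective f s z))

theorem fibreStalkEquiv_mk {X S : Scheme.{u}} (f : X ⟶ S) (s : S) (z : f.fiber s)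
    (r : X.presheaf.stalk (f.fiberι s z)) :
    fibreStalkEquiv f s z (Ideal.Quotient.mk _ r) = (f.fiberι s).stalkMap z r := rfl

noncomputable def fibreStalkEquivAt {X S : Scheme.{u}} (f : X ⟶ S) (x : X) :
    (X.presheaf.stalk x ⧸ (maximalIdeal (S.presheaf.stalk (f x))).map (f.stalkMap x).hom) ≃+*
      (f.fiber (f x)).presheaf.stalk (f.asFiber x) := by
  have h := f.fiberι_asFiber x
  exact cast (by rw [h]) (fibreStalkEquiv f (f x) (f.asFiber x))

end Groth.Agent.FlatMor68.FibreStalk
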