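import Mathlib
import Groth.Agent.ConsProp93.DimScheme

set_option backward.isDefEq.respectTransparency.types false
set_option autoImplicit false
universe u

open CategoryTheory CategoryTheory.Limits AlgebraicGeometry TopologicalSpace

namespace Groth.Agent.FlatMor68.FibDimBC

theorem dim_eq_of_isPullback_field {k k' : Type u} [Field k] [Field k'] (φ : k →+* k')
    {Y Y' : Scheme.{u}} (w : Y ⟶ Spec (CommRingCat.of k)) [LocallyOfFiniteType w] [QuasiCompact w]
    (e : Y' ⟶ Y) (w' : Y' ⟶ Spec (CommRingCat.of k'))
    (hsq : IsPullback e w' w (Spec.map (CommRingCat.ofHom φ))) :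
    topologicalKrullDim Y' = topologicalKrullDim Y := by
  obtain ⟨a, d, ha, hd⟩ := ConsProp93.exists_dim_pullback w
  let _ : Algebra k k' := φ.toAlgebra
  have h1 : topologicalKrullDim ↥Y = d := by
    rw [← hd k (by simpa using ha)]
    have : IsIso (Spec.map (CommRingCat.ofHom (algebraMap k k))) := by
      show IsIso (Spec.map (𝟙 (CommRingCat.of k))); infer_instance
    exact (ConsProp93.dim_of_iso (pullback.fst w _)).symm
  rw [h1, ← hd k' ((map_ne_zero_iff _ φ.injective).mpr ha)]
  exact ConsProp93.dim_of_iso hsq.isoPullback.hom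

theorem t9777 {X Y X' Y' : Scheme.{u}} (f : X ⟶ Y) [QuasiCompact f] [LocallyOfFiniteType f]
    (g : Y' ⟶ Y) (f' : X' ⟶ Y') (g' : X' ⟶ X) (hc : IsPullback g' f' f g) (y' : Y') :
    topologicalKrullDim ↑(f'.fiber y') = topologicalKrullDim ↑(f.fiber (g y')) := by
  have hsq := isPullback_fiberToSpecResidueField_of_isPullback hc y'
  have : LocallyOfFiniteType (f.fiberToSpecResidueField (g y')) :=
    MorphismProperty.pullback_snd (P := @LocallyOfFiniteType) _ _ inferInstance
  have : QuasiCompact (f.fiberToSpecResidueField (g y')) :=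
    MorphismProperty.pullback_snd (P := @QuasiCompact) _ _ inferInstance
  exact dim_eq_of_isPullback_field (g.residueFieldMap y').hom _ _ _ hsq

end Groth.Agent.FlatMor68.FibDimBC
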