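import Groth.Statements.S13997
import Groth.Statements.S13998
import Groth.Statements.S14008
import Groth.Agent.MP99.Basic
import Mathlib.RingTheory.Finiteness.NilpotentKer
import Mathlib.AlgebraicGeometry.ZariskisMainTheorem
import Mathlib.AlgebraicGeometry.Noetherian

set_option autoImplicit false
universe u
open CategoryTheory CategoryTheory.Limits AlgebraicGeometry TopologicalSpace

namespace Groth.Agent.FlatMor68.ThickeningFT

theorem finiteType_of_surjective_nilpotent {A B C : Type u} [CommRing A] [CommRing B] [CommRing C]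
    (f : A →+* B) (π : B →+* C) (hπ : Function.Surjective π) (hfg : (RingHom.ker π).FG)
    (hnil : RingHom.ker π ≤ nilradical B) (h : (π.comp f).FiniteType) : f.FiniteType := by
  classical
  algebraize [f, π, π.comp f]
  obtain ⟨s, hs⟩ := h
  choose σ hσ using hπ
  let D := Algebra.adjoin A ((s.image σ : Finset B) : Set B)
  haveI : Algebra.FiniteType A D :=
    ⟨(Subalgebra.fg_top D).2 ⟨s.image σ, rfl⟩⟩
  have hsur : Function.Surjective (algebraMap D C) := by
    intro c
    have : c ∈ Algebra.adjoin A (s : Set C) := hs ▸ Algebra.mem_top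
    induction this using Algebra.adjoin_induction with
    | mem x hx =>
      exact ⟨⟨σ x, Algebra.subset_adjoin (Finset.mem_coe.2 (Finset.mem_image_of_mem _ hx))⟩, hσ x⟩
    | algebraMap r => exact ⟨algebraMap A D r, rfl⟩
    | add x y _ _ hx hy =>
      obtain ⟨a, rfl⟩ := hx; obtain ⟨b, rfl⟩ := hy; exact ⟨a + b, map_add _ _ _⟩
    | mul x y _ _ hx hy =>
      obtain ⟨a, rfl⟩ := hx; obtain ⟨b, rfl⟩ := hy; exact ⟨a * b, map_mul _ _ _⟩
  haveI : Module.Finite D C := Module.Finite.of_surjective (Algebra.linearMap D C) hsur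
  let π' : B →ₐ[D] C := { π with commutes' := fun _ => rfl }
  haveI : Module.Finite D B := Module.finite_of_surjective_of_ker_le_nilradical π'
    (fun c => ⟨σ c, hσ c⟩) hnil hfg
  exact Algebra.FiniteType.trans (S := D) inferInstance (Module.Finite.finiteType B)

theorem ker_app_eq {Y₀ Y : Scheme.{u}} (i : Y₀ ⟶ Y) [QuasiCompact i] (U : Y.affineOpens) :
    RingHom.ker (i.app U.1).hom = i.ker.ideal U := (Scheme.Hom.ker_apply i U).symm

theorem lft_of_comp_thickening {X Y Y₀ : Scheme.{u}} (F : Y ⟶ X) (i : Y₀ ⟶ Y) [IsClosedImmersion i]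
    (h : ∀ (U : X.affineOpens) (V : Y.affineOpens), V.1 ≤ F ⁻¹ᵁ U.1 →
      (i.ker.ideal V).FG ∧ IsNilpotent (i.ker.ideal V))
    [LocallyOfFiniteType (i ≫ F)] : LocallyOfFiniteType F := by
  refine ⟨fun {U} hU {V} hV e => ?_⟩
  obtain ⟨hfg, n, hn⟩ := h ⟨U, hU⟩ ⟨V, hV⟩ e
  have hW : IsAffineOpen (i ⁻¹ᵁ V) := hV.preimage i
  refine finiteType_of_surjective_nilpotent _ (i.app V).hom ?_ ?_ ?_ ?_
  · exact i.app_surjective V hV
  · rw [ker_app_eq i ⟨V, hV⟩]; exact hfg
  · rw [ker_app_eq i ⟨V, hV⟩]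
    intro a ha
    refine ⟨n, ?_⟩
    have := Ideal.pow_mem_pow ha n
    rwa [hn] at this
  · have h1 := (i ≫ F).finiteType_appLE hU hW (fun y hy => e hy)
    rw [← CommRingCat.hom_comp]
    convert h1 using 2
    rw [Scheme.Hom.app_eq_appLE, Scheme.Hom.appLE_comp_appLE]

theorem lft_iff {X X₀ Y Y₀ : Scheme.{u}}
    (F : Y ⟶ X) (F₀ : Y₀ ⟶ X₀) (i : Y₀ ⟶ Y) (j : X₀ ⟶ X) [IsClosedImmersion i] [IsClosedImmersion j]
    (h : ∀ (U : X.affineOpens) (V : Y.affineOpens), V.1 ≤ F ⁻¹ᵁ U.1 →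
      (i.ker.ideal V).FG ∧ IsNilpotent (i.ker.ideal V))
    (w : F₀ ≫ j = i ≫ F) :
    LocallyOfFiniteType F ↔ LocallyOfFiniteType F₀ := by
  refine ⟨fun hF => ?_, fun hF => ?_⟩
  · have : LocallyOfFiniteType (F₀ ≫ j) := by rw [w]; infer_instance
    exact locallyOfFiniteType_of_comp F₀ j
  · have : LocallyOfFiniteType (i ≫ F) := by rw [← w]; infer_instance
    exact lft_of_comp_thickening F i h

theorem isSeparated_of_comp_surjective {X Y Z : Scheme.{u}} (a : X ⟶ Y) (g : Y ⟶ Z)
    [IsSeparated (a ≫ g)] [UniversallyClosed a] [Surjective a] : IsSeparated g := by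
  let m := pullback.map (a ≫ g) (a ≫ g) g g a a (𝟙 Z) (by simp) (by simp)
  have hm : UniversallyClosed m :=
    MorphismProperty.pullbackMap (P := @UniversallyClosed) ‹_› ‹_› rfl rfl
  have e : a ≫ pullback.diagonal g = pullback.diagonal (a ≫ g) ≫ m := by
    apply pullback.hom_ext <;> simp only [m, Category.assoc, pullback.diagonal_fst,
      pullback.diagonal_snd, pullback.lift_fst, pullback.lift_snd, pullback.diagonal_fst_assoc,
      pullback.diagonal_snd_assoc, Category.comp_id]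
  have : UniversallyClosed (a ≫ pullback.diagonal g) := by rw [e]; infer_instance
  have := UniversallyClosed.of_comp_surjective a (pullback.diagonal g)
  rw [isSeparated_iff]
  refine IsClosedImmersion.of_isPreimmersion _ ?_
  rw [← Set.image_univ]
  exact Scheme.Hom.isClosedMap (pullback.diagonal g) _ isClosed_univ

theorem finite_preimage_of_bijective_comp {X X₀ Y Y₀ : Scheme.{u}} (F : Y ⟶ X) (F₀ : Y₀ ⟶ X₀)
    (i : Y₀ ⟶ Y) (j : X₀ ⟶ X) [Surjective i] (hj : Function.Injective j)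
    (hF₀ : ∀ x, (F₀ ⁻¹' {x}).Finite) (w : F₀ ≫ j = i ≫ F) (x : X) : (F ⁻¹' {x}).Finite := by
  refine Set.Finite.subset ((Set.Finite.biUnion (((Set.subsingleton_singleton (a := x)).preimage hj).finite)
    (fun x₀ _ => hF₀ x₀)).image i) ?_
  intro y hy
  obtain ⟨z, rfl⟩ := i.surjective y
  refine ⟨z, Set.mem_biUnion (x := F₀ z) ?_ rfl, rfl⟩
  show j (F₀ z) = x
  rw [← Scheme.Hom.comp_apply, w, Scheme.Hom.comp_apply]
  exact hy

end Groth.Agent.FlatMor68.ThickeningFT
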