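import Groth.Agent.QC70.Colim
import Groth.Agent.QC70.StalkLoc
import Groth.Agent.LF71.Restrict
import Mathlib.RingTheory.Localization.Free
import Mathlib.RingTheory.Flat.LocallyFree
import Mathlib.RingTheory.Spectrum.Prime.FreeLocus

set_option autoImplicit false
set_option backward.isDefEq.respectTransparency.types false
set_option linter.style.haveILetI false

noncomputable section

universe u

open CategoryTheory Limits AlgebraicGeometry TopologicalSpace Opposite

namespace Groth.Agent.FlatMor68.LocFree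

open QC70

variable {X : Scheme.{u}}

/-- The global sections of the module on the spectrum are the sections over the affine open. -/
def specGammaEquiv (M : X.Modules) {U : X.Opens} (hU : IsAffineOpen U) :
    Γ(specRes M hU, ⊤) ≃ₗ[Γ(X, U)] Γ(M, U) where
  toFun x := res M (fromSpec_image_top hU).ge ((M.restrictAppIso hU.fromSpec ⊤).hom x)
  invFun y := (M.restrictAppIso hU.fromSpec ⊤).inv (res M (fromSpec_image_top hU).le y)
  left_inv x := by simp [res_res, res_self]
  right_inv y := by simp [res_res, res_self]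
  map_add' x y := by rw [map_add, res_add]
  map_smul' r x := by
    rw [specRes_smul M hU ⊤ (fromSpec_image_top hU).le, res_smul, resO_resO, resO_self]
    rfl

/-- A quasi-coherent module with free sections on an affine open is free there. -/
theorem restrict_iso_free (M : X.Modules) [M.IsQuasicoherent] {U : X.Opens} (hU : IsAffineOpen U)
    (n : ℕ) (b : Γ(M, U) ≃ₗ[Γ(X, U)] (Fin n → Γ(X, U))) :
    Nonempty (M.restrict U.ι ≅ FlatMod.freeMod (↑U : Scheme.{u}) n) := by
  let R := Γ(X, U)
  let c : (ULift.{u} (Fin n) →₀ R) ≃ₗ[R] (Fin n → R) :=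
    Finsupp.domLCongr Equiv.ulift ≪≫ₗ Finsupp.linearEquivFunOnFinite R R (Fin n)
  let e₁ : moduleSpecΓFunctor.obj (specRes M hU) ≅ ModuleCat.of R (ULift.{u} (Fin n) →₀ R) :=
    LinearEquiv.toModuleIso (X₁ := Γ(specRes M hU, ⊤)) (specGammaEquiv M hU ≪≫ₗ b ≪≫ₗ c.symm)
  let e₂ : specRes M hU ≅ SheafOfModules.free.{u} (R := (Spec R).ringCatSheaf) (ULift.{u} (Fin n)) :=
    (tildeIsoSpecRes M hU).symm ≪≫ (tilde.functor R).mapIso e₁ ≪≫ tildeFinsupp _
  let e₃ : SheafOfModules.free.{u} (R := (Spec R).ringCatSheaf) (ULift.{u} (Fin n)) ≅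
      FlatMod.freeMod (Spec R) n :=
    Sigma.whiskerEquiv (g := fun _ : Fin n => Coh.structureModule (Spec R)) Equiv.ulift (fun _ => Iso.refl _)
  exact ⟨(Scheme.Modules.restrictFunctorCongr hU.isoSpec_hom_fromSpec.symm).app M ≪≫
    (Scheme.Modules.restrictFunctorComp hU.isoSpec.hom hU.fromSpec).app M ≪≫
    (Scheme.Modules.restrictFunctor hU.isoSpec.hom).mapIso (e₂ ≪≫ e₃) ≪≫
    LF71.restrictFree hU.isoSpec.hom n⟩

/-- Quasi-coherent modules which have finite free sections around every point are locally free. -/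
theorem isFinLocFree_of_sections (M : X.Modules) [M.IsQuasicoherent]
    (h : ∀ x : X, ∃ (U : X.Opens), IsAffineOpen U ∧ x ∈ U ∧
      Module.Free Γ(X, U) Γ(M, U) ∧ Module.Finite Γ(X, U) Γ(M, U)) :
    FlatMod.IsFinLocFree M := by
  intro x
  obtain ⟨U, hU, hx, hfr, hfi⟩ := h x
  haveI := hfr; haveI := hfi
  haveI : Nontrivial Γ(X, U) := (X.presheaf.germ U x hx).hom.domain_nontrivial
  exact ⟨U, _, hx, restrict_iso_free M hU _ (Module.finBasis Γ(X, U) Γ(M, U)).equivFun⟩

/-- Sections over a basic open as a module over the sections over the open. -/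
abbrev basicModule (M : X.Modules) {U : X.Opens} (r : Γ(X, U)) :
    Module Γ(X, U) Γ(M, X.basicOpen r) :=
  Module.compHom _ (X.presheaf.map (homOfLE (X.basicOpen_le r)).op).hom

/-- Restriction to a basic open. -/
def resLinear (M : X.Modules) {U : X.Opens} (r : Γ(X, U)) :
    @LinearMap Γ(X, U) Γ(X, U) _ _ (RingHom.id _) Γ(M, U) Γ(M, X.basicOpen r) _ _ _ (basicModule M r) :=
  letI := basicModule M r
  { toFun := fun m => res M (X.basicOpen_le r) m
    map_add' := fun a b => res_add _ a b
    map_smul' := fun a m => res_smul _ a m }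

theorem isLocalizedModule_res (M : X.Modules) {U : X.Opens} (hM : IsLocAt M U) (r : Γ(X, U)) :
    letI := basicModule M r
    IsLocalizedModule.Away r (resLinear M r) := by
  letI := basicModule M r
  have hu : IsUnit (resO X (X.basicOpen_le r) r) := RingedSpace.isUnit_res_basicOpen _ r
  refine IsLocalizedModule.Away.mk_of_addCommGroup ?_ (fun s => ?_) (fun t ht => hM.eq_zero_of r t ht)
  · rw [Module.End.isUnit_iff]
    obtain ⟨v, hv⟩ := hu
    refine ⟨fun a b hab => ?_, fun a => ⟨(↑v⁻¹ : Γ(X, X.basicOpen r)) • a, ?_⟩⟩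
    · have h' : resO X (X.basicOpen_le r) r • a = resO X (X.basicOpen_le r) r • b := hab
      rw [← hv] at h'
      exact v.isUnit.smul_left_cancel.mp h'
    · change resO X (X.basicOpen_le r) r • ((↑v⁻¹ : Γ(X, X.basicOpen r)) • a) = a
      rw [← hv, smul_smul, Units.mul_inv, one_smul]
  · obtain ⟨n, t, ht⟩ := hM.exists_of r s
    exact ⟨n, t, by
      change resO X (X.basicOpen_le r) (r ^ n) • s = res M (X.basicOpen_le r) t
      rw [ht, resO_pow]⟩

/-- Free localizations give free sections over basic opens. -/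
theorem free_basicOpen (M : X.Modules) [M.IsQuasicoherent] {U : X.Opens} (hU : IsAffineOpen U)
    (r : Γ(X, U)) [Module.Finite Γ(X, U) Γ(M, U)]
    [Module.Free (Localization (Submonoid.powers r)) (LocalizedModule.Away r Γ(M, U))] :
    Module.Free Γ(X, X.basicOpen r) Γ(M, X.basicOpen r) ∧
      Module.Finite Γ(X, X.basicOpen r) Γ(M, X.basicOpen r) := by
  let R := Γ(X, U)
  letI := basicModule M r
  letI : Algebra R Γ(X, X.basicOpen r) := (X.presheaf.map (homOfLE (X.basicOpen_le r)).op).hom.toAlgebra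
  haveI : IsScalarTower R Γ(X, X.basicOpen r) Γ(M, X.basicOpen r) :=
    IsScalarTower.of_algebraMap_smul fun a m => rfl
  haveI : IsLocalization.Away r Γ(X, X.basicOpen r) := hU.isLocalization_basicOpen r
  haveI : IsLocalizedModule.Away r (resLinear M r) :=
    isLocalizedModule_res M (isLocAt_of_isQuasicoherent M hU) r
  let L := Localization (Submonoid.powers r)
  let e : Γ(M, X.basicOpen r) ≃ₗ[R] LocalizedModule.Away r Γ(M, U) :=
    (IsLocalizedModule.iso (Submonoid.powers r) (resLinear M r)).symm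
  haveI : Module.Finite L (LocalizedModule.Away r Γ(M, U)) :=
    Module.Finite.of_isLocalizedModule (Submonoid.powers r) (Rₚ := L)
      (LocalizedModule.mkLinearMap (Submonoid.powers r) Γ(M, U))
  let ι := Module.Free.ChooseBasisIndex L (LocalizedModule.Away r Γ(M, U))
  let b := (Module.Free.chooseBasis L (LocalizedModule.Away r Γ(M, U))).equivFun.restrictScalars R
  let g : L ≃ₗ[R] Γ(X, X.basicOpen r) :=
    (IsLocalization.algEquiv (Submonoid.powers r) L Γ(X, X.basicOpen r)).toLinearEquiv
  let E : Γ(M, X.basicOpen r) ≃ₗ[Γ(X, X.basicOpen r)] (ι → Γ(X, X.basicOpen r)) :=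
    (e ≪≫ₗ b ≪≫ₗ LinearEquiv.piCongrRight fun _ => g).extendScalarsOfIsLocalization
      (Submonoid.powers r) Γ(X, X.basicOpen r)
  exact ⟨Module.Free.of_equiv E.symm, Module.Finite.equiv E.symm⟩

/-- Finite projective sections on affine opens give local freeness. -/
theorem isFinLocFree_of_projective_sections (M : X.Modules) [M.IsQuasicoherent]
    (h : ∀ x : X, ∃ (U : X.Opens), IsAffineOpen U ∧ x ∈ U ∧
      Module.Projective Γ(X, U) Γ(M, U) ∧ Module.Finite Γ(X, U) Γ(M, U)) :
    FlatMod.IsFinLocFree M := by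
  refine isFinLocFree_of_sections M fun x => ?_
  obtain ⟨U, hU, hx, hpr, hfi⟩ := h x
  haveI := hpr; haveI := hfi
  let R := Γ(X, U)
  let p := (hU.primeIdealOf ⟨x, hx⟩).asIdeal
  haveI : Module.FinitePresentation R Γ(M, U) := Module.finitePresentation_of_projective R Γ(M, U)
  haveI : Module.Free (Localization.AtPrime p) (LocalizedModule p.primeCompl Γ(M, U)) :=
    Module.free_of_flat_of_isLocalRing
  obtain ⟨r, hr, hfree, -⟩ := Module.FinitePresentation.exists_free_localizedModule_powers
    p.primeCompl (LocalizedModule.mkLinearMap p.primeCompl Γ(M, U)) (Localization.AtPrime p)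
  refine ⟨X.basicOpen r, hU.basicOpen r, (mem_basicOpen_iff_primeCompl hU hx r).mpr hr, ?_⟩
  haveI := hfree
  exact free_basicOpen M hU r

theorem t5626 {X : Scheme.{u}} (M N : X.Modules) [HasBinaryBiproduct M N] (n : ℕ)
    (e : M ⊞ N ≅ FlatMod.freeMod X n) :
    FlatMod.IsFinLocFree M := by
  classical
  let F := FlatMod.freeMod X n
  let j : M ⟶ F := biprod.inl ≫ e.hom
  let p : F ⟶ M := e.inv ≫ biprod.fst
  have hjp : j ≫ p = 𝟙 M := by simp [j, p]
  haveI : (Coh.structureModule X).IsQuasicoherent := isQuasicoherent_unit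
  haveI hF : F.IsQuasicoherent :=
    isQuasicoherent_of_iso (Sigma.whiskerEquiv (g := fun _ : Fin n => Coh.structureModule X) Equiv.ulift.{u} (fun _ => Iso.refl _))
      (isQuasicoherent_coproduct (fun _ : ULift.{u} (Fin n) => Coh.structureModule X) fun _ => inferInstance)
  have hret : ∀ (U : X.Opens) (m : Γ(M, U)), p.app U (j.app U m) = m := fun U m =>
    congrArg (fun φ : M ⟶ M => φ.app U m) hjp
  haveI : M.IsQuasicoherent := by
    refine isQuasicoherent_of_forall_isLocAt M fun U hU => ⟨fun f s => ?_, fun f t ht => ?_⟩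
    · obtain ⟨k, t, ht⟩ := (isLocAt_of_isQuasicoherent F hU).exists_of f (j.app _ s)
      refine ⟨k, p.app U t, ?_⟩
      rw [← QC70.app_res, ht, Scheme.Modules.Hom.app_smul, hret]
    · obtain ⟨k, hk⟩ := (isLocAt_of_isQuasicoherent F hU).eq_zero_of f (j.app _ t) (by
        rw [← QC70.app_res, ht, map_zero])
      refine ⟨k, ?_⟩
      rw [← hret U (f ^ k • t), Scheme.Modules.Hom.app_smul, hk, map_zero]
  refine isFinLocFree_of_projective_sections M fun x => ?_
  obtain ⟨U, hU, hx, -⟩ := exists_isAffineOpen_mem_and_subset (X := X) (x := x) (U := ⊤) trivial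
  refine ⟨U, hU, hx, ?_⟩
  let proj : ∀ i : Fin n, F ⟶ Coh.structureModule X := fun i =>
    Sigma.desc (fun k => if i = k then 𝟙 (Coh.structureModule X) else 0)
  let inc : ∀ i : Fin n, Coh.structureModule X ⟶ F := fun i =>
    Sigma.ι (fun _ : Fin n => Coh.structureModule X) i
  have htot : (∑ i, proj i ≫ inc i) = 𝟙 F := by
    refine Sigma.hom_ext _ _ fun k => ?_
    rw [Preadditive.comp_sum, Category.comp_id]
    refine (Finset.sum_eq_single k (fun i _ hik => ?_) (by simp)).trans ?_
    · simp [proj, inc, hik]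
    · simp [proj, inc]
  let A : Γ(M, U) →ₗ[Γ(X, U)] (Fin n → Γ(X, U)) :=
    { toFun := fun m i => (show Γ(X, U) from (j ≫ proj i).app U m)
      map_add' := fun a b => funext fun i => map_add _ a b
      map_smul' := fun a m => funext fun i => Scheme.Modules.Hom.app_smul (j ≫ proj i) a m }
  let B : (Fin n → Γ(X, U)) →ₗ[Γ(X, U)] Γ(M, U) :=
    Fintype.linearCombination Γ(X, U) fun i => res M le_top ((inc i ≫ p).app ⊤ (toUnit 1))
  have hBA : B ∘ₗ A = LinearMap.id := by
    ext m
    change ∑ i, (show Γ(X, U) from (j ≫ proj i).app U m) • res M le_top ((inc i ≫ p).app ⊤ (toUnit 1)) = m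
    let ev : (M ⟶ M) →+ Γ(M, U) := AddMonoidHom.mk' (fun ψ => ψ.app U m) (fun _ _ => rfl)
    have hid : ev (j ≫ (∑ i, proj i ≫ inc i) ≫ p) = m := by
      rw [htot, Category.id_comp, hjp]; rfl
    rw [Preadditive.sum_comp, Preadditive.comp_sum, map_sum] at hid
    refine Eq.trans (Finset.sum_congr rfl fun i _ => ?_) hid
    exact (app_toUnit (inc i ≫ p) _).symm
  exact ⟨Module.Projective.of_split A B hBA,
    Module.Finite.of_surjective B (fun m => ⟨A m, LinearMap.congr_fun hBA m⟩)⟩

end Groth.Agent.FlatMor68.LocFree
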