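import Groth.Agent.QC70.StalkLoc
import Groth.Agent.FBase64.QuasiFlatOpen
import Groth.Agent.QCqs72.Basic
import Groth.Prelude.Def_FlatMod2

set_option autoImplicit false
set_option backward.isDefEq.respectTransparency.types false
set_option linter.style.haveILetI false

noncomputable section

universe u

open CategoryTheory Limits AlgebraicGeometry TopologicalSpace Opposite

namespace Groth.Agent.FlatMor68.FlatSections

open QC70

variable {X S : Scheme.{u}} (f : X ⟶ S) {M : X.Modules} {U : X.Opens} {V : S.Opens}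

theorem stalkMap_germ_appLE (e : U ≤ f ⁻¹ᵁ V) {x : X} (hx : x ∈ U) (a : Γ(S, V)) :
    (f.stalkMap x).hom (S.presheaf.germ V (f.base x) (e hx) a) =
      X.presheaf.germ U x hx ((f.appLE V U e).hom a) := by
  simp [Scheme.Hom.appLE, TopCat.Presheaf.germ_res_apply, Scheme.Hom.germ_stalkMap_apply]

/-- Flat at all points of an affine open implies flat sections. -/
theorem flat_sections (e : U ≤ f ⁻¹ᵁ V) (hU : IsAffineOpen U) (hV : IsAffineOpen V)
    (hM : IsLocAt M U) (h : ∀ x ∈ U, FlatMod.IsFlatOverAt f M x) :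
    @Module.Flat Γ(S, V) Γ(M, U) _ _ (Module.compHom _ (f.appLE V U e).hom) := by
  letI : Algebra Γ(S, V) Γ(X, U) := (f.appLE V U e).hom.toAlgebra
  letI : Module Γ(S, V) Γ(M, U) := Module.compHom _ (f.appLE V U e).hom
  haveI : IsScalarTower Γ(S, V) Γ(X, U) Γ(M, U) := IsScalarTower.of_algebraMap_smul fun r s => rfl
  refine Module.flat_of_isLocalized_maximal (R := Γ(S, V)) Γ(X, U) Γ(M, U)
    (fun P => LocalizedModule P.primeCompl Γ(M, U))
    (fun P _ => LocalizedModule.mkLinearMap P.primeCompl Γ(M, U)) fun P hP => ?_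
  let x : X := hU.fromSpec ⟨P, inferInstance⟩
  have hx : x ∈ U := hU.range_fromSpec.subset ⟨_, rfl⟩
  have hprime : hU.primeIdealOf ⟨x, hx⟩ = ⟨P, inferInstance⟩ :=
    hU.fromSpec.isOpenEmbedding.injective (hU.fromSpec_primeIdealOf ⟨x, hx⟩)
  letI := stalkModule M hx
  have hloc := isLocalizedModule_germ hM hU hx
  rw [hprime] at hloc
  haveI : IsLocalizedModule P.primeCompl (germLinear M hx) := hloc
  letI : Module Γ(S, V) (M.presheaf.stalk x) :=
    Module.compHom _ ((X.presheaf.germ U x hx).hom.comp (f.appLE V U e).hom)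
  haveI : IsScalarTower Γ(S, V) Γ(X, U) (M.presheaf.stalk x) :=
    IsScalarTower.of_algebraMap_smul fun r s => rfl
  let eq : LocalizedModule P.primeCompl Γ(M, U) ≃ₗ[Γ(S, V)] M.presheaf.stalk x :=
    (IsLocalizedModule.iso P.primeCompl (germLinear M hx)).restrictScalars Γ(S, V)
  haveI : Module.Flat Γ(S, V) (M.presheaf.stalk x) := by
    letI : Algebra Γ(S, V) (S.presheaf.stalk (f.base x)) :=
      (S.presheaf.germ V (f.base x) (e hx)).hom.toAlgebra
    haveI : IsLocalization.AtPrime (S.presheaf.stalk (f.base x))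
        (hV.primeIdealOf ⟨f.base x, e hx⟩).asIdeal := hV.isLocalization_stalk ⟨f.base x, e hx⟩
    haveI : Module.Flat Γ(S, V) (S.presheaf.stalk (f.base x)) :=
      IsLocalization.flat _ (hV.primeIdealOf ⟨f.base x, e hx⟩).asIdeal.primeCompl
    letI := FlatMod.moduleStalkOver f M x
    haveI : IsScalarTower Γ(S, V) (S.presheaf.stalk (f.base x)) (M.presheaf.stalk x) :=
      IsScalarTower.of_algebraMap_smul fun r s => by
        change (f.stalkMap x).hom (S.presheaf.germ V (f.base x) (e hx) r) • s =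
          (X.presheaf.germ U x hx ((f.appLE V U e).hom r)) • s
        rw [stalkMap_germ_appLE f e hx r]
    haveI : Module.Flat (S.presheaf.stalk (f.base x)) (M.presheaf.stalk x) := h x hx
    exact Module.Flat.trans Γ(S, V) (S.presheaf.stalk (f.base x)) _
  exact Module.Flat.of_linearEquiv eq

/-- Flat sections on one affine open give flatness at its points. -/
theorem flatAt_of_sections (e : U ≤ f ⁻¹ᵁ V) (hU : IsAffineOpen U) (hV : IsAffineOpen V)
    (hM : IsLocAt M U)
    (h : @Module.Flat Γ(S, V) Γ(M, U) _ _ (Module.compHom _ (f.appLE V U e).hom))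
    {x : X} (hx : x ∈ U) : FlatMod.IsFlatOverAt f M x := by
  letI : Algebra Γ(S, V) Γ(X, U) := (f.appLE V U e).hom.toAlgebra
  letI : Module Γ(S, V) Γ(M, U) := Module.compHom _ (f.appLE V U e).hom
  haveI : IsScalarTower Γ(S, V) Γ(X, U) Γ(M, U) := IsScalarTower.of_algebraMap_smul fun r s => rfl
  haveI : Module.Flat Γ(S, V) Γ(M, U) := h
  letI := stalkModule M hx
  haveI := isLocalizedModule_germ hM hU hx
  letI : Module Γ(S, V) (M.presheaf.stalk x) :=
    Module.compHom _ ((X.presheaf.germ U x hx).hom.comp (f.appLE V U e).hom)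
  haveI : IsScalarTower Γ(S, V) Γ(X, U) (M.presheaf.stalk x) :=
    IsScalarTower.of_algebraMap_smul fun r s => rfl
  haveI := FBase64.QuasiFlatOpen.flat_localizedModule (A := Γ(S, V))
    (hU.primeIdealOf ⟨x, hx⟩).asIdeal.primeCompl Γ(M, U)
  haveI : Module.Flat Γ(S, V) (M.presheaf.stalk x) :=
    Module.Flat.of_linearEquiv ((IsLocalizedModule.iso (hU.primeIdealOf ⟨x, hx⟩).asIdeal.primeCompl (germLinear M hx)).restrictScalars Γ(S, V)).symm
  letI : Algebra Γ(S, V) (S.presheaf.stalk (f.base x)) :=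
    (S.presheaf.germ V (f.base x) (e hx)).hom.toAlgebra
  haveI : IsLocalization.AtPrime (S.presheaf.stalk (f.base x))
      (hV.primeIdealOf ⟨f.base x, e hx⟩).asIdeal := hV.isLocalization_stalk ⟨f.base x, e hx⟩
  letI := FlatMod.moduleStalkOver f M x
  haveI : IsScalarTower Γ(S, V) (S.presheaf.stalk (f.base x)) (M.presheaf.stalk x) :=
    IsScalarTower.of_algebraMap_smul fun r s => by
      change (f.stalkMap x).hom (S.presheaf.germ V (f.base x) (e hx) r) • s =
        (X.presheaf.germ U x hx ((f.appLE V U e).hom r)) • s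
      rw [stalkMap_germ_appLE f e hx r]
  exact (Module.flat_iff_of_isLocalization (S.presheaf.stalk (f.base x))
    (hV.primeIdealOf ⟨f.base x, e hx⟩).asIdeal.primeCompl (M.presheaf.stalk x)).mpr inferInstance

theorem t9353 {X S : Scheme.{u}} (f : X ⟶ S) (F : X.Modules) (hF : Coh.IsQCoh F) :
    FlatMod.IsFlatOver f F ↔
      ∀ (U : X.Opens) (V : S.Opens) (hUV : U ≤ f ⁻¹ᵁ V), IsAffineOpen U → IsAffineOpen V →
        @Module.Flat Γ(S, V) (F.val.obj (op U)) _ _ (Module.compHom (F.val.obj (op U)) (f.appLE V U hUV).hom) := by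
  haveI : F.IsQuasicoherent := hF
  refine ⟨fun h U V e hU hV => flat_sections f e hU hV (isLocAt_of_isQuasicoherent F hU) fun x _ => h x,
    fun h x => ?_⟩
  obtain ⟨V, hV, hxV, -⟩ := exists_isAffineOpen_mem_and_subset (X := S) (x := f.base x) (U := ⊤) trivial
  obtain ⟨U, hU, hxU, e⟩ := exists_isAffineOpen_mem_and_subset (X := X) (x := x) (U := f ⁻¹ᵁ V) hxV
  exact flatAt_of_sections f e hU hV (isLocAt_of_isQuasicoherent F hU) (h U V e hU hV) hxU

theorem t9349 {X Y S : Scheme.{u}} (f : X ⟶ Y) [IsAffineHom f] (q : Y ⟶ S)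
    (F : X.Modules) (hF : Coh.IsQCoh F) :
    FlatMod.IsFlatOver (f ≫ q) F ↔ FlatMod.IsFlatOver q ((Coh.push f).obj F) := by
  haveI : F.IsQuasicoherent := hF
  have key : ∀ {U : Y.Opens} {V : S.Opens} (e : U ≤ q ⁻¹ᵁ V) (e' : f ⁻¹ᵁ U ≤ (f ≫ q) ⁻¹ᵁ V),
      @Module.Flat Γ(S, V) Γ(F, f ⁻¹ᵁ U) _ _ (Module.compHom _ ((f ≫ q).appLE V (f ⁻¹ᵁ U) e').hom) ↔
      @Module.Flat Γ(S, V) Γ((Coh.push f).obj F, U) _ _ (Module.compHom _ (q.appLE V U e).hom) := by
    intro U V e e'
    letI m1 : Module Γ(S, V) Γ(F, f ⁻¹ᵁ U) := Module.compHom _ ((f ≫ q).appLE V (f ⁻¹ᵁ U) e').hom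
    letI m2 : Module Γ(S, V) Γ((Coh.push f).obj F, U) := Module.compHom _ (q.appLE V U e).hom
    let eq : Γ(F, f ⁻¹ᵁ U) ≃ₗ[Γ(S, V)] Γ((Coh.push f).obj F, U) :=
      { toFun := fun s => s
        invFun := fun s => s
        left_inv := fun _ => rfl
        right_inv := fun _ => rfl
        map_add' := fun _ _ => rfl
        map_smul' := fun r s => by
          change ((f ≫ q).appLE V (f ⁻¹ᵁ U) e').hom r • (show Γ(F, f ⁻¹ᵁ U) from s) =
            (f.app U).hom ((q.appLE V U e).hom r) • (show Γ(F, f ⁻¹ᵁ U) from s)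
          congr 1
          rw [← CommRingCat.comp_apply]
          simp [Scheme.Hom.appLE, ← Functor.map_comp, ← Functor.map_comp_assoc] }
    exact ⟨fun _ => Module.Flat.of_linearEquiv eq.symm, fun _ => Module.Flat.of_linearEquiv eq⟩
  constructor
  · intro h y
    obtain ⟨V, hV, hyV, -⟩ := exists_isAffineOpen_mem_and_subset (X := S) (x := q.base y) (U := ⊤) trivial
    obtain ⟨U, hU, hyU, e⟩ := exists_isAffineOpen_mem_and_subset (X := Y) (x := y) (U := q ⁻¹ᵁ V) hyV
    have e' : f ⁻¹ᵁ U ≤ (f ≫ q) ⁻¹ᵁ V := fun x hx => e hx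
    have hW : IsAffineOpen (f ⁻¹ᵁ U) := hU.preimage f
    exact flatAt_of_sections q e hU hV (QCqs72.isLocAt_pushforward F f (isLocAt_of_isQuasicoherent F hW))
      ((key e e').mp (flat_sections (f ≫ q) e' hW hV (isLocAt_of_isQuasicoherent F hW) fun x _ => h x)) hyU
  · intro h x
    obtain ⟨V, hV, hyV, -⟩ := exists_isAffineOpen_mem_and_subset (X := S) (x := q.base (f.base x)) (U := ⊤) trivial
    obtain ⟨U, hU, hyU, e⟩ := exists_isAffineOpen_mem_and_subset (X := Y) (x := f.base x) (U := q ⁻¹ᵁ V) hyV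
    have e' : f ⁻¹ᵁ U ≤ (f ≫ q) ⁻¹ᵁ V := fun x hx => e hx
    have hW : IsAffineOpen (f ⁻¹ᵁ U) := hU.preimage f
    exact flatAt_of_sections (f ≫ q) e' hW hV (isLocAt_of_isQuasicoherent F hW)
      ((key e e').mpr (flat_sections q e hU hV
        (QCqs72.isLocAt_pushforward F f (isLocAt_of_isQuasicoherent F hW)) fun y _ => h y)) hyU

end Groth.Agent.FlatMor68.FlatSections
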