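import Groth.Agent.QCPull72.Sections
import Groth.Agent.QC70.StalkLoc
import Groth.Agent.FDesc60.QF2
import Groth.Agent.FlatMor68.FlatSections
import Mathlib.RingTheory.Flat.FaithfullyFlat.Basic
import Mathlib.RingTheory.Localization.BaseChange

set_option autoImplicit false
set_option backward.isDefEq.respectTransparency.types false
set_option linter.style.haveILetI false

noncomputable section

universe u

open CategoryTheory Limits AlgebraicGeometry TopologicalSpace Opposite TensorProduct
open Groth.Agent.QC70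

namespace Groth.Agent.FlatMor68.PullbackStalk

/-- Flatness over a subring descends along a faithfully flat base change. -/
theorem flat_of_flat_tensor {R S L W : Type u} [CommRing R] [CommRing S] [Algebra R S]
    [AddCommGroup L] [Module S L] [Module R L] [IsScalarTower R S L] [Module.FaithfullyFlat S L]
    [AddCommGroup W] [Module S W] [Module R W] [IsScalarTower R S W] [Module.Flat R (L ⊗[S] W)] :
    Module.Flat R W := by
  rw [Module.Flat.iff_lTensor_preserves_injective_linearMap]
  intro P Q _ _ _ _ u hu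
  let v := TensorProduct.AlgebraTensorModule.lTensor S W u
  have h1 : Function.Injective (u.lTensor (L ⊗[S] W)) :=
    Module.Flat.lTensor_preserves_injective_linearMap (M := L ⊗[S] W) u hu
  let eP := TensorProduct.AlgebraTensorModule.assoc R S S L W P
  let eQ := TensorProduct.AlgebraTensorModule.assoc R S S L W Q
  have key : ∀ t, eQ (u.lTensor (L ⊗[S] W) t) = v.lTensor L (eP t) := by
    intro t
    induction t with
    | zero => simp
    | add a b ha hb => simp only [map_add, ha, hb]
    | tmul lw p =>
      induction lw with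
      | zero => simp
      | add a b ha hb => simp only [TensorProduct.add_tmul, map_add, ha, hb]
      | tmul l w => simp [eP, eQ, v]
  have h2 : Function.Injective (v.lTensor L) := by
    intro a b hab
    obtain ⟨a', rfl⟩ := eP.surjective a
    obtain ⟨b', rfl⟩ := eP.surjective b
    rw [← key, ← key] at hab
    exact congrArg eP (h1 (eQ.injective hab))
  exact (Module.FaithfullyFlat.lTensor_injective_iff_injective S L v).mp h2

variable {X Y : Scheme.{u}} (h : X ⟶ Y) (G : Y.Modules)

/-- The stalk of the inverse image of a quasi-coherent module is the base change of the stalk. -/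
theorem nonempty_stalkPullbackEquiv [G.IsQuasicoherent] (x : X) :
    letI := (h.stalkMap x).hom.toAlgebra
    Nonempty (((Scheme.Modules.pullback h).obj G).presheaf.stalk x ≃ₗ[X.presheaf.stalk x]
      X.presheaf.stalk x ⊗[Y.presheaf.stalk (h.base x)] G.presheaf.stalk (h.base x)) := by
  letI algS := (h.stalkMap x).hom.toAlgebra
  let y := h.base x
  obtain ⟨U, V, hU, hV, hxV, e⟩ := QCPull72.exists_affine_le h x
  have hyU : y ∈ U := e hxV
  haveI := QCPull72.isQuasicoherent_pullback h G
  let M' := (Scheme.Modules.pullback h).obj G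
  letI algAB : Algebra Γ(Y, U) Γ(X, V) := (h.appLE U V e).hom.toAlgebra
  letI algAy : Algebra Γ(Y, U) (Y.presheaf.stalk y) := (Y.presheaf.germ U y hyU).hom.toAlgebra
  letI algBx : Algebra Γ(X, V) (X.presheaf.stalk x) := (X.presheaf.germ V x hxV).hom.toAlgebra
  letI algAx : Algebra Γ(Y, U) (X.presheaf.stalk x) :=
    ((X.presheaf.germ V x hxV).hom.comp (h.appLE U V e).hom).toAlgebra
  haveI : IsScalarTower Γ(Y, U) Γ(X, V) (X.presheaf.stalk x) :=
    IsScalarTower.of_algebraMap_eq fun a => rfl
  haveI : IsScalarTower Γ(Y, U) (Y.presheaf.stalk y) (X.presheaf.stalk x) :=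
    IsScalarTower.of_algebraMap_eq fun a => (FlatSections.stalkMap_germ_appLE h e hxV a).symm
  letI := stalkModule M' hxV
  letI := stalkModule G hyU
  haveI : IsScalarTower Γ(X, V) (X.presheaf.stalk x) (M'.presheaf.stalk x) :=
    IsScalarTower.of_algebraMap_smul fun r s => rfl
  haveI : IsScalarTower Γ(Y, U) (Y.presheaf.stalk y) (G.presheaf.stalk y) :=
    IsScalarTower.of_algebraMap_smul fun r s => rfl
  haveI : IsLocalization.AtPrime (X.presheaf.stalk x) (hV.primeIdealOf ⟨x, hxV⟩).asIdeal :=
    hV.isLocalization_stalk ⟨x, hxV⟩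
  haveI : IsLocalization.AtPrime (Y.presheaf.stalk y) (hU.primeIdealOf ⟨y, hyU⟩).asIdeal :=
    hU.isLocalization_stalk ⟨y, hyU⟩
  haveI := isLocalizedModule_germ (isLocAt_of_isQuasicoherent M' hV) hV hxV
  haveI := isLocalizedModule_germ (isLocAt_of_isQuasicoherent G hU) hU hyU
  let e1 := (IsLocalizedModule.isBaseChange (hV.primeIdealOf ⟨x, hxV⟩).asIdeal.primeCompl
    (X.presheaf.stalk x) (germLinear M' hxV)).equiv
  let e4 := (IsLocalizedModule.isBaseChange (hU.primeIdealOf ⟨y, hyU⟩).asIdeal.primeCompl
    (Y.presheaf.stalk y) (germLinear G hyU)).equiv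
  exact ⟨e1.symm ≪≫ₗ
    AlgebraTensorModule.congr (LinearEquiv.refl (X.presheaf.stalk x) (X.presheaf.stalk x))
      (QCPull72.sectionsPullbackEquiv h G hU hV e) ≪≫ₗ
    AlgebraTensorModule.cancelBaseChange Γ(Y, U) Γ(X, V) (X.presheaf.stalk x) (X.presheaf.stalk x) Γ(G, U) ≪≫ₗ
    (AlgebraTensorModule.cancelBaseChange Γ(Y, U) (Y.presheaf.stalk y) (X.presheaf.stalk x)
      (X.presheaf.stalk x) Γ(G, U)).symm ≪≫ₗ
    AlgebraTensorModule.congr (LinearEquiv.refl (X.presheaf.stalk x) (X.presheaf.stalk x)) e4⟩

theorem t9350 {X Y S : Scheme.{u}} (h : X ⟶ Y) (q : Y ⟶ S)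
    (G : Y.Modules) (hG : Coh.IsQCoh G) (x : X) (hflat : (h.stalkMap x).hom.Flat) :
    FlatMod.IsFlatOverAt q G (h.base x) ↔ FlatMod.IsFlatOverAt (h ≫ q) ((Scheme.Modules.pullback h).obj G) x := by
  haveI : G.IsQuasicoherent := hG
  obtain ⟨E⟩ := nonempty_stalkPullbackEquiv h G x
  let y := h.base x
  letI algS := (h.stalkMap x).hom.toAlgebra
  letI algsy : Algebra (S.presheaf.stalk (q.base y)) (Y.presheaf.stalk y) := (q.stalkMap y).hom.toAlgebra
  letI algsx : Algebra (S.presheaf.stalk (q.base y)) (X.presheaf.stalk x) :=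
    ((h.stalkMap x).hom.comp (q.stalkMap y).hom).toAlgebra
  haveI : IsScalarTower (S.presheaf.stalk (q.base y)) (Y.presheaf.stalk y) (X.presheaf.stalk x) :=
    IsScalarTower.of_algebraMap_eq fun a => rfl
  letI := FlatMod.moduleStalkOver q G y
  haveI : IsScalarTower (S.presheaf.stalk (q.base y)) (Y.presheaf.stalk y) (G.presheaf.stalk y) :=
    IsScalarTower.of_algebraMap_smul fun r s => rfl
  letI m1 : Module (S.presheaf.stalk (q.base y)) (((Scheme.Modules.pullback h).obj G).presheaf.stalk x) :=
    FlatMod.moduleStalkOver (h ≫ q) ((Scheme.Modules.pullback h).obj G) x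
  haveI : IsScalarTower (S.presheaf.stalk (q.base y)) (X.presheaf.stalk x)
      (((Scheme.Modules.pullback h).obj G).presheaf.stalk x) :=
    IsScalarTower.of_algebraMap_smul fun r s => by
      change ((h.stalkMap x).hom ((q.stalkMap y).hom r)) • s = ((h ≫ q).stalkMap x).hom r • s
      rw [Scheme.Hom.stalkMap_comp]
      rfl
  haveI : Module.Flat (Y.presheaf.stalk y) (X.presheaf.stalk x) := hflat
  haveI : IsLocalHom (algebraMap (Y.presheaf.stalk y) (X.presheaf.stalk x)) :=
    inferInstanceAs (IsLocalHom (h.stalkMap x).hom)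
  haveI : Module.FaithfullyFlat (Y.presheaf.stalk y) (X.presheaf.stalk x) :=
    Module.FaithfullyFlat.of_flat_of_isLocalHom
  have key : Module.Flat (S.presheaf.stalk (q.base y)) (G.presheaf.stalk y) ↔
      Module.Flat (S.presheaf.stalk (q.base y)) (((Scheme.Modules.pullback h).obj G).presheaf.stalk x) :=
    ⟨fun _ =>
      haveI : Module.Flat (S.presheaf.stalk (q.base y))
          (X.presheaf.stalk x ⊗[Y.presheaf.stalk y] G.presheaf.stalk y) := FDesc60.flat_tensor_of_flat
      Module.Flat.of_linearEquiv (E.restrictScalars _),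
     fun _ =>
      haveI : Module.Flat (S.presheaf.stalk (q.base y))
          (X.presheaf.stalk x ⊗[Y.presheaf.stalk y] G.presheaf.stalk y) :=
        Module.Flat.of_linearEquiv (E.restrictScalars _).symm
      flat_of_flat_tensor (L := X.presheaf.stalk x) (S := Y.presheaf.stalk y)⟩
  exact key

end Groth.Agent.FlatMor68.PullbackStalk
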