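import Groth.Agent.FlatMor68.PullbackNatural
import Groth.Prelude.Def_FlatFun
import Groth.Prelude.Def_QuotSh
import Mathlib.AlgebraicGeometry.Sites.Fpqc
import Mathlib.CategoryTheory.Sites.Over
import Mathlib.AlgebraicGeometry.Morphisms.Flat

set_option autoImplicit false
set_option backward.isDefEq.respectTransparency.types false
set_option linter.style.haveILetI false
set_option linter.unusedVariables false

noncomputable section

universe u

open CategoryTheory Limits AlgebraicGeometry TopologicalSpace Opposite TensorProduct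
open Groth.Agent.QC70 Groth.Agent.QCPull72

namespace Groth.Agent.FlatMor68.PullbackDescent

variable {X Y : Scheme.{u}}

section Stalks

variable {M N : X.Modules} (v : M ⟶ N)

theorem mono_iff : Mono v ↔ ∀ x, Function.Injective (stalkMapM v x) :=
  ⟨fun _ x => injective_stalkMapM_of_mono v x, mono_of_injective_stalkMapM v⟩

theorem epi_iff : Epi v ↔ ∀ x, Function.Surjective (stalkMapM v x) :=
  ⟨fun _ x => surjective_stalkMapM_of_epi v x, epi_of_surjective_stalkMapM v⟩

theorem isIso_iff : IsIso v ↔ ∀ x, Function.Bijective (stalkMapM v x) :=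
  ⟨fun _ x => ⟨injective_stalkMapM_of_mono v x, surjective_stalkMapM_of_epi v x⟩,
    isIso_of_bijective_stalkMapM v⟩

theorem zero_iff : v = 0 ↔ ∀ x, ∀ z, stalkMapM v x z = 0 := by
  refine ⟨?_, fun h => ?_⟩
  · rintro rfl x z
    obtain ⟨W, hx, s, rfl⟩ := germM_exist z
    rw [stalkMapM_germ]
    exact germM_zero hx
  · refine Scheme.Modules.hom_ext _ _ fun W => ?_
    ext s
    refine section_ext N _ _ fun p hp => ?_
    have h1 := h p (germM M W p hp s)
    rw [stalkMapM_germ] at h1
    obtain ⟨W', hW', hpW', h2⟩ := germM_eq_zero h1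
    exact ⟨W', hW', hpW', h2.trans (map_zero (N.presheaf.map (homOfLE hW').op).hom).symm⟩

end Stalks

variable {F F' : X.Modules} [F.IsQuasicoherent] [F'.IsQuasicoherent] (f : Y ⟶ X) (u : F ⟶ F')

theorem stalk_iff [Flat f] (y : Y) :
    (Function.Injective (stalkMapM ((Scheme.Modules.pullback f).map u) y) ↔
        Function.Injective (stalkMapM u (f.base y))) ∧
      (Function.Surjective (stalkMapM ((Scheme.Modules.pullback f).map u) y) ↔
        Function.Surjective (stalkMapM u (f.base y))) ∧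
      ((∀ z, stalkMapM ((Scheme.Modules.pullback f).map u) y z = 0) ↔
        ∀ z, stalkMapM u (f.base y) z = 0) := by
  letI := (f.stalkMap y).hom.toAlgebra
  obtain ⟨U, V, hU, hV, hy, e⟩ := QCPull72.exists_affine_le f y
  let E := PullbackNatural.stalkEquiv f hU hV e F hy
  let E' := PullbackNatural.stalkEquiv f hU hV e F' hy
  have hnat : ∀ z, E' (stalkMapM ((Scheme.Modules.pullback f).map u) y z) =
      (stalkLinear u (f.base y)).lTensor (Y.presheaf.stalk y) (E z) :=
    PullbackNatural.stalkEquiv_natural f u hU hV e hy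
  have hcomp : E' ∘ stalkMapM ((Scheme.Modules.pullback f).map u) y =
      (stalkLinear u (f.base y)).lTensor (Y.presheaf.stalk y) ∘ E := funext hnat
  haveI : Module.Flat (X.presheaf.stalk (f.base y)) (Y.presheaf.stalk y) := Flat.stalkMap f y
  haveI : IsLocalHom (algebraMap (X.presheaf.stalk (f.base y)) (Y.presheaf.stalk y)) :=
    inferInstanceAs (IsLocalHom (f.stalkMap y).hom)
  haveI : Module.FaithfullyFlat (X.presheaf.stalk (f.base y)) (Y.presheaf.stalk y) :=
    Module.FaithfullyFlat.of_flat_of_isLocalHom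
  refine ⟨?_, ?_, ?_⟩
  · rw [← Function.Injective.of_comp_iff E'.injective, hcomp,
      Function.Injective.of_comp_iff' _ E.bijective]
    exact Module.FaithfullyFlat.lTensor_injective_iff_injective _ _ (stalkLinear u (f.base y))
  · rw [← Function.Surjective.of_comp_iff' E'.bijective, hcomp,
      Function.Surjective.of_comp_iff _ E.surjective]
    exact Module.FaithfullyFlat.lTensor_surjective_iff_surjective _ _ (stalkLinear u (f.base y))
  · refine Iff.trans ⟨fun h => ?_, fun h z => ?_⟩ (Iff.trans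
      (Module.FaithfullyFlat.zero_iff_lTensor_zero (R := X.presheaf.stalk (f.base y))
        (M := Y.presheaf.stalk y) (f := stalkLinear u (f.base y))).symm ?_)
    · refine LinearMap.ext fun t => ?_
      obtain ⟨z, rfl⟩ := E.surjective t
      rw [← hnat, h, map_zero]; rfl
    · refine E'.injective ?_
      rw [hnat, h, map_zero]; rfl
    · exact ⟨fun h z => LinearMap.congr_fun h z, fun h => LinearMap.ext h⟩

/-- A jointly surjective family of flat morphisms detects the four properties. -/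
theorem of_jointly_surjective {ι : Type*} {Y : ι → Scheme.{u}} (m : ∀ i, Y i ⟶ X) [∀ i, Flat (m i)]
    (hm : ∀ x, ∃ i y, (m i).base y = x) :
    (Mono u ↔ ∀ i, Mono ((Scheme.Modules.pullback (m i)).map u)) ∧
      (Epi u ↔ ∀ i, Epi ((Scheme.Modules.pullback (m i)).map u)) ∧
      (IsIso u ↔ ∀ i, IsIso ((Scheme.Modules.pullback (m i)).map u)) ∧
      (u = 0 ↔ ∀ i, (Scheme.Modules.pullback (m i)).map u = 0) := by
  simp only [mono_iff, epi_iff, isIso_iff, zero_iff, Function.Bijective]
  have st := fun i y => stalk_iff (m i) u y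
  refine ⟨⟨fun h i y => (st i y).1.mpr (h _), fun h x => ?_⟩,
    ⟨fun h i y => (st i y).2.1.mpr (h _), fun h x => ?_⟩,
    ⟨fun h i y => ⟨(st i y).1.mpr (h _).1, (st i y).2.1.mpr (h _).2⟩, fun h x => ?_⟩,
    ⟨fun h i y => (st i y).2.2.mpr (h _), fun h x => ?_⟩⟩ <;>
  obtain ⟨i, y, rfl⟩ := hm x
  · exact (st i y).1.mp (h i y)
  · exact (st i y).2.1.mp (h i y)
  · exact ⟨(st i y).1.mp (h i y).1, (st i y).2.1.mp (h i y).2⟩
  · exact (st i y).2.2.mp (h i y)

/-- The zero morphisms. -/
def isZeroProp (Z : Scheme.{u}) : MorphismProperty Z.Modules := fun _ _ w => w = 0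

instance (Z : Scheme.{u}) : (isZeroProp Z).RespectsIso :=
  MorphismProperty.RespectsIso.mk _ (fun e w (hw : w = 0) => show _ = 0 by rw [hw, comp_zero])
    (fun e w (hw : w = 0) => show _ = 0 by rw [hw, zero_comp])

section Sheaf

variable {S : Scheme.{u}}

theorem isSheaf_genPSp (P : Over S → Prop) (hP : ∀ ⦃T T₀ : Over S⦄ (_ : T ⟶ T₀), P T₀ → P T)
    (hloc : ∀ (T : Over S) {ι : Type (u + 1)} (Ti : ι → Over S) (g : ∀ i, Ti i ⟶ T),
      (∀ i, Flat (g i).left) → (∀ x, ∃ i y, (g i).left.base y = x) → (∀ i, P (Ti i)) → P T) :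
    Presheaf.IsSheaf (QuotSh.J Scheme.fpqcPrecoverage S) (FlatFun.genPSp S P) := by
  rw [isSheaf_iff_isSheaf_of_type]
  intro T R hR x hx
  suffices h : Nonempty ((FlatFun.genPSp S P).obj (op T)) by
    obtain ⟨t⟩ := h
    exact ⟨t, fun _ _ _ => @Subsingleton.elim _ (FlatFun.genPSp_subsingleton S P _) _ _,
      fun _ _ => @Subsingleton.elim _ (FlatFun.genPSp_subsingleton S P _) _ _⟩
  have hmem : ∀ ⦃T' : Over S⦄ (g : T' ⟶ T), R.arrows g → P T' := fun T' g hg =>
    (FlatFun.genPSp_nonempty_iff_of_stable P hP T').mp ⟨x g hg⟩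
  rw [GrothendieckTopology.mem_over_iff, Precoverage.mem_toGrothendieck_iff_of_isStableUnderComposition] at hR
  obtain ⟨R₀, hR₀, hle⟩ := hR
  obtain ⟨ι, Z, g, rfl⟩ := R₀.exists_eq_ofArrows
  have h' := (Scheme.ofArrows_mem_precoverage_iff (P := @Flat)).mp
    (Scheme.propQCPrecoverage_le_precoverage _ hR₀)
  refine FlatFun.genPSp_nonempty_of P (hloc T (fun i : ι => Over.mk (g i ≫ T.hom))
    (fun i => Over.homMk (g i)) (fun i => h'.2 i) ?_ fun i => ?_)
  · intro p
    obtain ⟨i, y, hy⟩ := h'.1 p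
    exact ⟨i, y, hy⟩
  · exact hmem _ ((Sieve.overEquiv_iff R (g i)).mp (hle _ _ (Presieve.ofArrows.mk i)))

end Sheaf

section BaseChange

variable {S : Scheme.{u}} (f : X ⟶ S) {T' T : Over S} (g : T' ⟶ T)

/-- The map of base changes. -/
def bc : pullback f T'.hom ⟶ pullback f T.hom :=
  pullback.lift (pullback.fst f T'.hom) (pullback.snd f T'.hom ≫ g.left)
    (by rw [Category.assoc, Over.w g]; exact pullback.condition)

theorem bc_isPullback : IsPullback (bc f g) (pullback.snd f T'.hom) (pullback.snd f T.hom) g.left := by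
  refine IsPullback.of_right ?_ (pullback.lift_snd _ _ _) (IsPullback.of_hasPullback f T.hom)
  rw [bc, pullback.lift_fst, Over.w g]
  exact IsPullback.of_hasPullback f T'.hom

theorem map_iff_bc {A B : X.Modules} (u : A ⟶ B) (W : MorphismProperty (pullback f T'.hom).Modules)
    [W.RespectsIso] :
    W ((Scheme.Modules.pullback (pullback.fst f T'.hom)).map u) ↔
      W ((Scheme.Modules.pullback (bc f g)).map ((Scheme.Modules.pullback (pullback.fst f T.hom)).map u)) := by
  refine W.arrow_mk_iso_iff (Arrow.isoMk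
    (((Scheme.Modules.pullbackCongr (show pullback.fst f T'.hom = bc f g ≫ pullback.fst f T.hom from
      (pullback.lift_fst _ _ _).symm)).app A ≪≫ ((Scheme.Modules.pullbackComp _ _).app A).symm))
    (((Scheme.Modules.pullbackCongr (show pullback.fst f T'.hom = bc f g ≫ pullback.fst f T.hom from
      (pullback.lift_fst _ _ _).symm)).app B ≪≫ ((Scheme.Modules.pullbackComp _ _).app B).symm)) ?_)
  simp only [Arrow.mk_left, Arrow.mk_right, Arrow.mk_hom, Iso.trans_hom, Iso.app_hom, Iso.symm_hom, Iso.app_inv, Category.assoc]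
  rw [reassoc_of% (Scheme.Modules.pullbackCongr _).hom.naturality u]
  congr 1
  exact ((Scheme.Modules.pullbackComp _ _).inv.naturality u).symm

theorem map_iff_of_cover {F G : X.Modules} [F.IsQuasicoherent] [G.IsQuasicoherent] (u : F ⟶ G)
    {ι : Type*} {T : Over S} {Ti : ι → Over S} (g : ∀ i, Ti i ⟶ T) [∀ i, Flat (g i).left]
    (hg : ∀ x, ∃ i y, (g i).left.base y = x) :
    let v := fun T : Over S => (Scheme.Modules.pullback (pullback.fst f T.hom)).map u
    (Mono (v T) ↔ ∀ i, Mono (v (Ti i))) ∧ (Epi (v T) ↔ ∀ i, Epi (v (Ti i))) ∧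
      (IsIso (v T) ↔ ∀ i, IsIso (v (Ti i))) ∧ (v T = 0 ↔ ∀ i, v (Ti i) = 0) := by
  intro v
  haveI := isQuasicoherent_pullback (pullback.fst f T.hom) F
  haveI := isQuasicoherent_pullback (pullback.fst f T.hom) G
  haveI : ∀ i, Flat (bc f (g i)) := fun i =>
    MorphismProperty.of_isPullback (bc_isPullback f (g i)).flip inferInstance
  have hsurj : ∀ x, ∃ i y, (bc f (g i)).base y = x := by
    intro x
    obtain ⟨i, y, hy⟩ := hg ((pullback.snd f T.hom).base x)
    obtain ⟨z, -, hz⟩ := Scheme.exists_preimage_of_isPullback (bc_isPullback f (g i)).flip y x hy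
    exact ⟨i, z, hz⟩
  obtain ⟨h1, h2, h3, h4⟩ := of_jointly_surjective (v T) (fun i => bc f (g i)) hsurj
  refine ⟨h1.trans (forall_congr' fun i => (map_iff_bc f (g i) u (MorphismProperty.monomorphisms _)).symm),
    h2.trans (forall_congr' fun i => (map_iff_bc f (g i) u (MorphismProperty.epimorphisms _)).symm),
    h3.trans (forall_congr' fun i => (map_iff_bc f (g i) u (MorphismProperty.isomorphisms _)).symm),
    h4.trans (forall_congr' fun i => ?_)⟩
  exact (map_iff_bc f (g i) u (isZeroProp _)).symm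

end BaseChange

theorem t9017 {X S : Scheme.{u}} (f : X ⟶ S) {F G : X.Modules} [Coh.IsQCoh F] [Coh.IsQCoh G] (u : F ⟶ G)
    (T : Over S) {ι : Type u} (Ti : ι → Over S) (g : ∀ i, Ti i ⟶ T)
    (hcov : Presieve.ofArrows (fun i => (Ti i).left) (fun i => (g i).left) ∈ Scheme.fpqcPrecoverage T.left) :
    Mono ((Scheme.Modules.pullback (pullback.fst f T.hom)).map u) ↔
      ∀ i, Mono ((Scheme.Modules.pullback (pullback.fst f (Ti i).hom)).map u) := by
  have h' := (Scheme.ofArrows_mem_precoverage_iff (P := @Flat)).mp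
    (Scheme.propQCPrecoverage_le_precoverage _ hcov)
  haveI : ∀ i, Flat (g i).left := h'.2
  exact (map_iff_of_cover f u g fun x => by obtain ⟨i, y, hy⟩ := h'.1 x; exact ⟨i, y, hy⟩).1

theorem t9014 {X S : Scheme.{u}} (f : X ⟶ S) {F G : X.Modules} [Coh.IsQCoh F] [Coh.IsQCoh G] (u : F ⟶ G) :
    Presheaf.IsSheaf (QuotSh.J Scheme.fpqcPrecoverage S)
      (FlatFun.genPSp S (fun T => IsIso ((Scheme.Modules.pullback (pullback.fst f T.hom)).map u))) :=
  isSheaf_genPSp _ (fun _ _ g (_ : IsIso _) => (map_iff_bc f g u (MorphismProperty.isomorphisms _)).mpr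
      (inferInstanceAs (IsIso _)))
    fun T _ Ti g hfl hs h => haveI := hfl; (map_iff_of_cover f u g hs).2.2.1.mpr h

theorem t9015 {X S : Scheme.{u}} (f : X ⟶ S) {F G : X.Modules} [Coh.IsQCoh F] [Coh.IsQCoh G] (u : F ⟶ G) :
    Presheaf.IsSheaf (QuotSh.J Scheme.fpqcPrecoverage S)
      (FlatFun.genPSp S (fun T => Epi ((Scheme.Modules.pullback (pullback.fst f T.hom)).map u))) :=
  isSheaf_genPSp _ (fun T T₀ g (_ : Epi _) => (map_iff_bc f g u (MorphismProperty.epimorphisms _)).mpr
      (haveI := (Scheme.Modules.pullbackPushforwardAdjunction (bc f g)).leftAdjoint_preservesColimits.{0, 0}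
       inferInstanceAs (Epi _)))
    fun T _ Ti g hfl hs h => haveI := hfl; (map_iff_of_cover f u g hs).2.1.mpr h

theorem t9016 {X S : Scheme.{u}} (f : X ⟶ S) {F G : X.Modules} [Coh.IsQCoh F] [Coh.IsQCoh G] (u : F ⟶ G) :
    Presheaf.IsSheaf (QuotSh.J Scheme.fpqcPrecoverage S)
      (FlatFun.genPSp S (fun T => ((Scheme.Modules.pullback (pullback.fst f T.hom)).map u) = 0)) := by
  refine isSheaf_genPSp _ (fun T T₀ g (h : _ = 0) => ?_)
    fun T _ Ti g hfl hs h => haveI := hfl; (map_iff_of_cover f u g hs).2.2.2.mpr h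
  refine (map_iff_bc f g u (isZeroProp _)).mpr ?_
  haveI := Functor.preservesZeroMorphisms_of_isLeftAdjoint (Scheme.Modules.pullback (bc f g))
  show (Scheme.Modules.pullback (bc f g)).map _ = 0
  rw [h, Functor.map_zero]

end Groth.Agent.FlatMor68.PullbackDescent
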