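import Groth.Agent.FlatMor68.PullbackStalk
import Groth.Agent.FlatCrit65.FreeFibre
import Groth.Agent.FlatMor68.FibreStalk
import Groth.Agent.Div89.FreeStalks
import Groth.Agent.LimTop61.ModDescent

set_option backward.isDefEq.respectTransparency.types false
set_option linter.style.haveILetI false
set_option autoImplicit false
universe u

open CategoryTheory CategoryTheory.Limits AlgebraicGeometry TopologicalSpace TensorProduct IsLocalRing

namespace Groth.Agent.FlatMor68.FibreFree

section Alg

variable {R S C M : Type u} [CommRing R] [CommRing S] [CommRing C] [Algebra R S] [Algebra S C]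
  [AddCommGroup M] [Module R M] [Module S M] [IsScalarTower R S M]

/-- A finitely presented flat module whose fibre is free is free. -/
theorem free_of_free_fibre [Module.FinitePresentation S M] [Module.Flat R M]
    (m : Ideal R) (hm : m.map (algebraMap R S) ≤ Ideal.jacobson ⊥)
    (hsurj : Function.Surjective (algebraMap S C)) (hker : RingHom.ker (algebraMap S C) = m.map (algebraMap R S))
    [Nontrivial C] (h : Module.Free C (C ⊗[S] M)) : Module.Free S M := by
  classical
  let J := m.map (algebraMap R S)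
  let eC : (S ⧸ J) ≃ₐ[S] C := (Ideal.quotientEquivAlgOfEq S hker.symm).trans
    (Ideal.quotientKerAlgEquivOfSurjective (f := Algebra.ofId S C) hsurj)
  let eM : (S ⧸ J) ⊗[S] M ≃ₗ[S] C ⊗[S] M := TensorProduct.congr eC.toLinearEquiv (LinearEquiv.refl S M)
  have hzero : ∀ x : M, (1 : C) ⊗ₜ[S] x = 0 ↔ x ∈ J • (⊤ : Submodule S M) := fun x => by
    rw [← FlatCrit65.one_tmul_eq_zero_iff J x, ← eM.map_eq_zero_iff]
    simp only [eM, TensorProduct.congr_tmul, LinearEquiv.refl_apply, AlgEquiv.toLinearEquiv_apply, map_one]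
  have hlift : ∀ y : C ⊗[S] M, ∃ x, y = (1 : C) ⊗ₜ[S] x := fun y => by
    obtain ⟨y, rfl⟩ := eM.surjective y
    obtain ⟨x, rfl⟩ := FlatCrit65.exists_one_tmul J y
    exact ⟨x, by simp only [eM, TensorProduct.congr_tmul, LinearEquiv.refl_apply, AlgEquiv.toLinearEquiv_apply, map_one]⟩
  let ι := Module.Free.ChooseBasisIndex C (C ⊗[S] M)
  let e := Module.Free.chooseBasis C (C ⊗[S] M)
  have : Fintype ι := Module.Free.ChooseBasisIndex.fintype _ _
  choose b hb using fun i => hlift (e i)
  let φ : (ι →₀ S) →ₗ[S] M := Finsupp.linearCombination S b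
  have key : ∀ n : ι →₀ S, (1 : C) ⊗ₜ[S] φ n =
      Finsupp.linearCombination C e (n.mapRange (algebraMap S C) (map_zero _)) := by
    intro n
    rw [Finsupp.linearCombination_apply C, Finsupp.sum_mapRange_index (by simp)]
    simp only [φ, Finsupp.linearCombination_apply, Finsupp.sum, tmul_sum]
    refine Finset.sum_congr rfl fun i _ => ?_
    rw [hb, tmul_smul, smul_tmul', smul_tmul']
    simp [Algebra.smul_def]
  have hφ : Function.Surjective φ := by
    rw [← LinearMap.range_eq_top, eq_top_iff]
    apply Submodule.le_of_le_smul_of_le_jacobson_bot Module.Finite.fg_top hm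
    intro x _
    obtain ⟨c, hc⟩ := Finsupp.mapRange_surjective (α := ι) (algebraMap S C) (map_zero _)
      hsurj (e.repr ((1 : C) ⊗ₜ[S] x))
    have h1 : (1 : C) ⊗ₜ[S] (x - φ c) = 0 := by
      rw [tmul_sub, key, hc, e.linearCombination_repr, sub_self]
    exact Submodule.mem_sup.mpr ⟨φ c, LinearMap.mem_range_self φ c, x - φ c, (hzero _).1 h1, by simp⟩
  have hK : (LinearMap.ker φ).FG := Module.FinitePresentation.fg_ker φ hφ
  have hle : LinearMap.ker φ ≤ J • LinearMap.ker φ := by
    intro n hn
    have hn0 : φ n = 0 := hn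
    have h1 := key n
    rw [hn0, tmul_zero] at h1
    have h2 := linearIndependent_iff.mp e.linearIndependent _ h1.symm
    have h3 : n ∈ J • (⊤ : Submodule S (ι →₀ S)) := by
      rw [← n.sum_single]
      refine Submodule.sum_mem _ fun i _ => ?_
      rw [show Finsupp.single i (n i) = n i • Finsupp.single i 1 by simp]
      exact Submodule.smul_mem_smul (hker.le (by simpa using DFunLike.congr_fun h2 i)) Submodule.mem_top
    have h4 : n ∈ m • Submodule.span R (Set.range (id : (ι →₀ S) → (ι →₀ S))) := by
      rw [Set.range_id, Submodule.span_univ]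
      exact FlatCrit65.mem_smul_restrictScalars m h3
    obtain ⟨a, ha, hsum⟩ := (Submodule.mem_ideal_smul_span_iff_exists_sum m id n).1 h4
    have h5 : ∑ v : a.support, a v.1 • φ v.1 = 0 := by
      rw [← hn0, ← hsum, Finsupp.sum, map_sum, ← Finset.sum_coe_sort a.support]
      exact Finset.sum_congr rfl fun v _ => (LinearMap.map_smul_of_tower φ (a v.1) v.1).symm
    obtain ⟨κ, c, y, hy, hc⟩ := Module.Flat.isTrivialRelation_of_sum_smul_eq_zero h5
    choose w hw using fun j => hφ (y j)
    have h6 : n = ∑ v : a.support, a v.1 • (v.1 - ∑ j, c v j • w j) := by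
      have h7 : ∑ v : a.support, ∑ j, (a v.1 * c v j) • w j = 0 := by
        rw [Finset.sum_comm]
        exact Finset.sum_eq_zero fun j _ => by rw [← Finset.sum_smul, hc j, zero_smul]
      simp only [smul_sub, Finset.smul_sum, smul_smul, Finset.sum_sub_distrib]
      rw [h7, sub_zero, ← hsum, Finsupp.sum, ← Finset.sum_coe_sort a.support]
      rfl
    rw [h6]
    refine Submodule.sum_mem _ fun v _ => ?_
    rw [← algebraMap_smul S (a v.1)]
    refine Submodule.smul_mem_smul (Ideal.mem_map_of_mem _ (ha v.1)) ?_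
    rw [LinearMap.mem_ker, map_sub, map_sum, show φ v.1 = _ from hy v]
    simp only [LinearMap.map_smul_of_tower, hw, sub_self]
  exact Module.Free.of_equiv (LinearEquiv.ofBijective φ
    ⟨LinearMap.ker_eq_bot.1 (Submodule.eq_bot_of_le_smul_of_le_jacobson_bot _ _ hK hle hm), hφ⟩)

end Alg

section Geom

variable {X Y S : Scheme.{u}}

theorem finitePresentation_stalk (F : X.Modules) [CohB1.IsFP F] (x : X) :
    Module.FinitePresentation (X.presheaf.stalk x) (F.presheaf.stalk x) := by
  obtain ⟨U, hU, hx, -⟩ := exists_isAffineOpen_mem_and_subset (show x ∈ (⊤ : X.Opens) from trivial)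
  have := Props58.LocFree.finitePresentation_sections F hU
  letI := QC70.stalkModule F hx
  letI : Algebra Γ(X, U) (X.presheaf.stalk x) := (X.presheaf.germ U x hx).hom.toAlgebra
  haveI : IsScalarTower Γ(X, U) (X.presheaf.stalk x) (F.presheaf.stalk x) :=
    IsScalarTower.of_algebraMap_smul fun _ _ => rfl
  haveI : IsLocalization.AtPrime (X.presheaf.stalk x) (hU.primeIdealOf ⟨x, hx⟩).asIdeal :=
    hU.isLocalization_stalk ⟨x, hx⟩
  haveI := QC70.isLocalizedModule_germ (QC70.isLocAt_of_isQuasicoherent F hU) hU hx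
  exact Module.FinitePresentation.of_equiv (IsLocalizedModule.isBaseChange
    (hU.primeIdealOf ⟨x, hx⟩).asIdeal.primeCompl (X.presheaf.stalk x) (QC70.germLinear F hx)).equiv

theorem free_stalk_congr (F : X.Modules) {x y : X} (h : x = y)
    (hf : Module.Free (X.presheaf.stalk x) (F.presheaf.stalk x)) :
    Module.Free (X.presheaf.stalk y) (F.presheaf.stalk y) := h ▸ hf

/-- An isomorphism of modules gives an equivalence of stalks. -/
noncomputable def stalkEquivOfIso {F G : X.Modules} (e : F ≅ G) (x : X) :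
    F.presheaf.stalk x ≃ₗ[X.presheaf.stalk x] G.presheaf.stalk x :=
  LinearEquiv.ofBijective (QC70.stalkLinear e.hom x)
    ⟨QC70.injective_stalkMapM_of_mono e.hom x, QC70.surjective_stalkMapM_of_epi e.hom x⟩

theorem free_stalk_iff_of_iso {F G : X.Modules} (e : F ≅ G) (x : X) :
    Module.Free (X.presheaf.stalk x) (F.presheaf.stalk x) ↔ Module.Free (X.presheaf.stalk x) (G.presheaf.stalk x) :=
  ⟨fun _ => Module.Free.of_equiv (stalkEquivOfIso e x), fun _ => Module.Free.of_equiv (stalkEquivOfIso e x).symm⟩

/-- Free stalks pull back. -/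
theorem free_pullback (h : X ⟶ Y) (G : Y.Modules) [G.IsQuasicoherent] (x : X)
    (hf : Module.Free (Y.presheaf.stalk (h x)) (G.presheaf.stalk (h x))) :
    Module.Free (X.presheaf.stalk x) (((Scheme.Modules.pullback h).obj G).presheaf.stalk x) := by
  obtain ⟨E⟩ := PullbackStalk.nonempty_stalkPullbackEquiv h G x
  letI := (h.stalkMap x).hom.toAlgebra
  haveI := hf
  exact Module.Free.of_equiv E.symm

/-- Free stalks descend along morphisms flat at a point. -/
theorem free_of_free_pullback (h : X ⟶ Y) (G : Y.Modules) [CohB1.IsFP G] (x : X)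
    (hflat : (h.stalkMap x).hom.Flat)
    (hf : Module.Free (X.presheaf.stalk x) (((Scheme.Modules.pullback h).obj G).presheaf.stalk x)) :
    Module.Free (Y.presheaf.stalk (h x)) (G.presheaf.stalk (h x)) := by
  obtain ⟨E⟩ := PullbackStalk.nonempty_stalkPullbackEquiv h G x
  letI := (h.stalkMap x).hom.toAlgebra
  haveI : Module.Flat (Y.presheaf.stalk (h x)) (X.presheaf.stalk x) := hflat
  haveI : IsLocalHom (algebraMap (Y.presheaf.stalk (h x)) (X.presheaf.stalk x)) := h.toLRSHom.prop x
  haveI : Module.FaithfullyFlat (Y.presheaf.stalk (h x)) (X.presheaf.stalk x) :=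
    Module.FaithfullyFlat.of_flat_of_isLocalHom
  haveI := hf
  haveI := finitePresentation_stalk G (h x)
  haveI : Module.Free (X.presheaf.stalk x) (X.presheaf.stalk x ⊗[Y.presheaf.stalk (h x)] G.presheaf.stalk (h x)) :=
    Module.Free.of_equiv E
  haveI : Module.Flat (Y.presheaf.stalk (h x)) (G.presheaf.stalk (h x)) :=
    Module.Flat.of_flat_tensorProduct (Y.presheaf.stalk (h x)) (G.presheaf.stalk (h x)) (X.presheaf.stalk x)
  exact Module.free_of_flat_of_isLocalRing

/-- A finitely presented module flat over the base is free where its restriction to the fibre is. -/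
theorem free_of_free_fiber (f : X ⟶ S) (F : X.Modules) [CohB1.IsFP F] (s : S) (z : f.fiber s)
    (hfl : FlatMod.IsFlatOverAt f F (f.fiberι s z))
    (hf : Module.Free ((f.fiber s).presheaf.stalk z)
      (((Scheme.Modules.pullback (f.fiberι s)).obj F).presheaf.stalk z)) :
    Module.Free (X.presheaf.stalk (f.fiberι s z)) (F.presheaf.stalk (f.fiberι s z)) := by
  obtain ⟨E⟩ := PullbackStalk.nonempty_stalkPullbackEquiv (f.fiberι s) F z
  let x := f.fiberι s z
  let R := S.presheaf.stalk (f x)
  let B := X.presheaf.stalk x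
  let C := (f.fiber s).presheaf.stalk z
  let M := F.presheaf.stalk x
  letI : Algebra B C := ((f.fiberι s).stalkMap z).hom.toAlgebra
  letI : Algebra R B := (f.stalkMap x).hom.toAlgebra
  letI : Module R M := FlatMod.moduleStalkOver f F x
  haveI : IsScalarTower R B M := .of_algebraMap_smul fun r m => rfl
  haveI : Module.Flat R M := hfl
  haveI : Module.FinitePresentation B M := finitePresentation_stalk F x
  haveI : IsLocalHom (algebraMap R B) := f.toLRSHom.prop x
  haveI := hf
  refine free_of_free_fibre (R := R) (C := C) (maximalIdeal R) ?_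
    (FibreStalk.fiberι_stalkMap_surjective f s z) (FibreStalk.ker_fiberι_stalkMap f s z) ?_
  · rw [jacobson_eq_maximalIdeal ⊥ bot_ne_top]
    exact ((local_hom_TFAE (algebraMap R B)).out 0 2).1 (f.toLRSHom.prop x)
  · exact Module.Free.of_equiv E

theorem free_iff_free_fiber (f : X ⟶ S) (F : X.Modules) [CohB1.IsFP F] (s : S) (z : f.fiber s)
    (hfl : FlatMod.IsFlatOverAt f F (f.fiberι s z)) :
    Module.Free ((f.fiber s).presheaf.stalk z)
      (((Scheme.Modules.pullback (f.fiberι s)).obj F).presheaf.stalk z) ↔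
    Module.Free (X.presheaf.stalk (f.fiberι s z)) (F.presheaf.stalk (f.fiberι s z)) :=
  ⟨free_of_free_fiber f F s z hfl, free_pullback (f.fiberι s) F z⟩

theorem t9769 {X S X' S' : Scheme.{u}} (f : X ⟶ S) (F : X.Modules) (hF : CohB1.IsFP F)
    (hfl : FlatMod.IsFlatOver f F) (g : S' ⟶ S) (f' : X' ⟶ S') (g' : X' ⟶ X) (hc : IsPullback g' f' f g) :
    {x' : ↑X' | Module.Free ↑(X'.presheaf.stalk x') ↑(((Scheme.Modules.pullback g').obj F).presheaf.stalk x')} =
      g' ⁻¹' {x : ↑X | Module.Free ↑(X.presheaf.stalk x) ↑(F.presheaf.stalk x)} := by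
  haveI := hF
  ext x'
  refine ⟨fun h => ?_, fun h => free_pullback g' F x' h⟩
  let s' := f' x'
  have hsq := isPullback_fiberToSpecResidueField_of_isPullback hc s'
  let e : f'.fiber s' ⟶ f.fiber (g s') := pullback.map f' (S'.fromSpecResidueField s') f (S.fromSpecResidueField (g s')) g'
    (Spec.map (g.residueFieldMap s')) g hc.w.symm (by simp)
  have he : e ≫ f.fiberι (g s') = f'.fiberι s' ≫ g' := pullback.lift_fst _ _ _
  haveI : Flat (Spec.map (g.residueFieldMap s')) := by
    rw [HasRingHomProperty.Spec_iff (P := @Flat)]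
    letI := (g.residueFieldMap s').hom.toAlgebra
    exact (inferInstance : Module.Flat (S.residueField (g s')) (S'.residueField s'))
  haveI : Flat e := MorphismProperty.of_isPullback hsq.flip inferInstance
  let z' := f'.asFiber x'
  have hz' : f'.fiberι s' z' = x' := f'.fiberι_asFiber x'
  let F' := (Scheme.Modules.pullback g').obj F
  haveI : CohB1.IsFP F' := LimTop61.isFP_pullback g' F
  have h1 := free_pullback (f'.fiberι s') F' z' (free_stalk_congr F' hz'.symm h)
  let Fs := (Scheme.Modules.pullback (f.fiberι (g s'))).obj F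
  haveI : CohB1.IsFP Fs := LimTop61.isFP_pullback _ F
  let I : (Scheme.Modules.pullback (f'.fiberι s')).obj F' ≅ (Scheme.Modules.pullback e).obj Fs :=
    (Scheme.Modules.pullbackComp _ _).app F ≪≫ (Scheme.Modules.pullbackCongr he.symm).app F ≪≫
      ((Scheme.Modules.pullbackComp e (f.fiberι (g s'))).app F).symm
  have h2 := free_of_free_pullback e Fs z' (Flat.stalkMap e z') ((free_stalk_iff_of_iso I z').1 h1)
  have h3 := free_of_free_fiber f F (g s') (e z') (hfl _) h2
  refine free_stalk_congr F ?_ h3
  exact ((Scheme.Hom.comp_apply e (f.fiberι (g s')) z').symm.trans (congrArg (fun k : f'.fiber s' ⟶ X => k z') he)).trans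
    ((Scheme.Hom.comp_apply (f'.fiberι s') g' z').trans (congrArg g' hz'))

theorem t12050 (X S : Scheme.{u}) [IsNoetherian X] [IsNoetherian S]
    (f : X ⟶ S) [IsProper f] (F : X.Modules) (hF : Coh.IsCoh F) (hfl : FlatMod.IsFlatOver f F) :
    IsOpen {s : S | FlatMod.IsFinLocFree ((Scheme.Modules.pullback (f.fiberι s)).obj F)} := by
  haveI : CohB1.IsFP F := Div89.isFP_of_isCoh hF
  obtain ⟨U, hU, -⟩ := Div89.exists_open_freeLocus hF
  have key : {s : S | FlatMod.IsFinLocFree ((Scheme.Modules.pullback (f.fiberι s)).obj F)} =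
      (f '' (U : Set X)ᶜ)ᶜ := by
    ext s
    haveI : CohB1.IsFP ((Scheme.Modules.pullback (f.fiberι s)).obj F) := LimTop61.isFP_pullback _ F
    constructor
    · rintro h ⟨x, hx, rfl⟩
      refine hx ((hU x).2 (free_stalk_congr F (f.fiberι_asFiber x) ?_))
      exact free_of_free_fiber f F (f x) (f.asFiber x) (hfl _)
        (Props58.LocFree.free_stalk_of_isFinLocFree h _)
    · intro h
      refine Props58.LocFree.isFinLocFree_of_isFP inferInstance fun z => free_pullback _ F z ((hU _).1 ?_)
      by_contra hz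
      refine h ⟨_, hz, ?_⟩
      rw [← Scheme.Hom.comp_apply, f.fiber_fac, Scheme.Hom.comp_apply, Scheme.fromSpecResidueField_apply]
  rw [key]
  exact (f.isClosedMap _ U.2.isClosed_compl).isOpen_compl

end Geom

end Groth.Agent.FlatMor68.FibreFree
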