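import Groth.Agent.E4O.GenOpen
import Groth.Agent.E4O.OpenMapDims
import Groth.Agent.VarGal.QFPoint
import Mathlib

set_option backward.isDefEq.respectTransparency.types false
set_option linter.style.haveILetI false
set_option autoImplicit false
universe u

open CategoryTheory CategoryTheory.Limits AlgebraicGeometry TopologicalSpace

namespace Groth.Agent.FlatMor68.QFCurve

theorem eq_maximal_of_forall_mem {R : Type u} [CommRing R] [IsNoetherianRing R] [IsLocalRing R] [IsDomain R]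
    {g : R} (hg0 : g ≠ 0) (hgm : g ∈ IsLocalRing.maximalIdeal R)
    (h : ∀ q : Ideal R, q.IsPrime → q ≠ ⊥ → g ∈ q) (q : Ideal R) (hq : q.IsPrime) (hq0 : q ≠ ⊥) :
    q = IsLocalRing.maximalIdeal R := by
  by_contra hne
  have hqm : q ≤ IsLocalRing.maximalIdeal R := IsLocalRing.le_maximalIdeal hq.ne_top
  have hfin := (Ideal.span {g}).finite_minimalPrimes_of_isNoetherianRing R
  have hm : IsLocalRing.maximalIdeal R ∉ (Ideal.span {g}).minimalPrimes := fun hh =>
    hne (le_antisymm hqm (hh.2 ⟨hq, (Ideal.span_singleton_le_iff_mem _).2 (h q hq hq0)⟩ hqm))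
  have hav : ¬ ((IsLocalRing.maximalIdeal R : Set R) ⊆ ⋃ Q ∈ (hfin.toFinset : Set (Ideal R)), (Q : Set R)) := by
    rw [Ideal.subset_union_prime ⊥ ⊥ (fun Q hQ _ _ => (hfin.mem_toFinset.1 hQ).1.1)]
    rintro ⟨Q, hQ, hle⟩
    have hQ' := hfin.mem_toFinset.1 hQ
    exact hm (le_antisymm hle (IsLocalRing.le_maximalIdeal hQ'.1.1.ne_top) ▸ hQ')
  obtain ⟨a, ham, ha⟩ := Set.not_subset.1 hav
  obtain ⟨p, hp, hpm⟩ := Ideal.exists_minimalPrimes_le
    (I := Ideal.span {a}) (J := IsLocalRing.maximalIdeal R) ((Ideal.span_singleton_le_iff_mem _).2 ham)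
  haveI := hp.1.1
  have hap : a ∈ p := hp.1.2 (Ideal.mem_span_singleton_self a)
  have hgq := h q hq hq0
  obtain ⟨Q', hQ', -⟩ := Ideal.exists_minimalPrimes_le (I := Ideal.span {g}) (J := q)
    ((Ideal.span_singleton_le_iff_mem _).2 hgq)
  have ha0 : a ≠ 0 := fun h0 => ha (Set.mem_biUnion (hfin.mem_toFinset.2 hQ') (h0 ▸ Q'.zero_mem))
  have hp0 : p ≠ ⊥ := fun hb => ha0 (Ideal.mem_bot.1 (hb ▸ hap))
  obtain ⟨Q, hQ, hQp⟩ := Ideal.exists_minimalPrimes_le (I := Ideal.span {g}) (J := p)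
    ((Ideal.span_singleton_le_iff_mem _).2 (h p hp.1.1 hp0))
  haveI := hQ.1.1
  have hQ0 : Q ≠ ⊥ := fun hb => hg0 (Ideal.mem_bot.1 (hb ▸ hQ.1.2 (Ideal.mem_span_singleton_self g)))
  have hQne : Q ≠ p := fun e => ha (Set.mem_biUnion (hfin.mem_toFinset.2 hQ) (e ▸ hap))
  have h1 : p.height ≤ 1 := Ideal.height_le_one_of_isPrincipal_of_mem_minimalPrimes (Ideal.span {a}) p hp
  have h2 : (⊥ : Ideal R).height < Q.height :=
    Ideal.height_strict_mono_of_isPrime (bot_lt_iff_ne_bot.2 hQ0)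
  have h3 : Q.height < p.height := Ideal.height_strict_mono_of_isPrime (lt_of_le_of_ne hQp hQne)
  have h4 : (1 : ℕ∞) ≤ Q.height := by
    refine Order.one_le_iff_ne_zero.2 fun h0 => ?_
    rw [h0] at h2
    exact not_lt_bot h2
  exact absurd (lt_of_le_of_lt h4 h3) (not_lt.2 h1)

theorem exists_prime {R : Type u} [CommRing R] [IsNoetherianRing R] [IsLocalRing R]
    {g : R} (hg : ¬ IsNilpotent g) (hgm : g ∈ IsLocalRing.maximalIdeal R) :
    ∃ p : Ideal R, p.IsPrime ∧ g ∉ p ∧ ∀ q : Ideal R, q.IsPrime → p < q → q = IsLocalRing.maximalIdeal R := by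
  obtain ⟨p0, hp0⟩ : ∃ p0 : Ideal R, p0.IsPrime ∧ g ∉ p0 := by
    by_contra hc
    push Not at hc
    exact hg (by rw [nilpotent_iff_mem_prime]; exact hc)
  obtain ⟨p, ⟨hpp, hgp⟩, hmax⟩ := set_has_maximal_iff_noetherian.2 inferInstance
    {p : Ideal R | p.IsPrime ∧ g ∉ p} ⟨p0, hp0⟩
  refine ⟨p, hpp, hgp, fun q hq hpq => ?_⟩
  haveI := hpp
  haveI : IsLocalRing (R ⧸ p) := IsLocalRing.of_surjective' _ Ideal.Quotient.mk_surjective
  have hsur : Function.Surjective (Ideal.Quotient.mk p) := Ideal.Quotient.mk_surjective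
  have key := eq_maximal_of_forall_mem (R := R ⧸ p) (g := Ideal.Quotient.mk p g)
    (fun h0 => hgp (Ideal.Quotient.eq_zero_iff_mem.1 h0)) ?_ ?_ (q.map (Ideal.Quotient.mk p)) ?_ ?_
  · have e := congrArg (Ideal.comap (Ideal.Quotient.mk p)) key
    rw [Ideal.comap_map_of_surjective _ hsur, ← RingHom.ker_eq_comap_bot, Ideal.mk_ker,
      sup_eq_left.2 hpq.le] at e
    rw [e]
    haveI := Ideal.comap_isMaximal_of_surjective _ hsur (K := IsLocalRing.maximalIdeal (R ⧸ p))
    exact IsLocalRing.eq_maximalIdeal inferInstance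
  · haveI : IsLocalHom (Ideal.Quotient.mk p) := IsLocalHom.of_surjective _ hsur
    exact fun hu => hgm ((isUnit_map_iff _ g).1 hu)
  · intro Q hQ hQ0
    by_contra hgQ
    haveI := hQ
    refine hmax (Q.comap (Ideal.Quotient.mk p)) ⟨inferInstance, hgQ⟩ ?_
    refine lt_of_le_of_ne (fun z hz => by simp [Ideal.mem_comap, Ideal.Quotient.eq_zero_iff_mem.2 hz]) ?_
    intro e
    apply hQ0
    rw [← Ideal.map_comap_of_surjective _ hsur Q, ← e, Ideal.map_quotient_self]
  · exact Ideal.map_isPrime_of_surjective hsur (by rw [Ideal.mk_ker]; exact hpq.le)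
  · intro hb
    rw [Ideal.map_eq_bot_iff_le_ker, Ideal.mk_ker] at hb
    exact hpq.not_ge hb

theorem exists_point {X S : Scheme.{u}} (f : X ⟶ S) [IsLocallyNoetherian X] (x : X) (U : X.Opens)
    (hxU : x ∈ closure (U : Set X)) (hx : x ∉ U) :
    ∃ z ∈ U, z ⤳ x ∧ ∀ w : X, z ⤳ w → w ⤳ x → w = z ∨ w = x := by
  obtain ⟨u, huU, hux⟩ := E4O.exists_specializes_of_mem_closure_isLocallyConstructible
    (E4O.isLocallyConstructible_of_isOpen' U.isOpen) hxU
  let φ := X.fromSpecStalk x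
  haveI : IsNoetherianRing (X.presheaf.stalk x) := inferInstance
  have hemb : Topology.IsEmbedding φ.base := (X.fromSpecStalk x).isEmbedding
  obtain ⟨q₀, hq₀⟩ : u ∈ Set.range φ.base := by
    rw [Scheme.range_fromSpecStalk]; exact hux
  have hUo : IsOpen (φ.base ⁻¹' (U : Set X)) := U.isOpen.preimage φ.continuous
  obtain ⟨_, ⟨_, ⟨g, rfl⟩, rfl⟩, hgq, hgU⟩ := PrimeSpectrum.isBasis_basic_opens.exists_subset_of_mem_open
    (show q₀ ∈ φ.base ⁻¹' (U : Set X) by simpa [hq₀] using huU) hUo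
  have hgm : g ∈ IsLocalRing.maximalIdeal (X.presheaf.stalk x) := by
    by_contra hc
    have := hgU (show IsLocalRing.closedPoint (X.presheaf.stalk x) ∈ _ from hc)
    exact hx ((Scheme.fromSpecStalk_closedPoint (X := X) (x := x)) ▸ this)
  have hgn : ¬ IsNilpotent g := fun hn => hgq (nilpotent_iff_mem_prime.1 hn q₀.asIdeal q₀.isPrime)
  obtain ⟨p, hp, hgp, hpmax⟩ := exists_prime hgn hgm
  refine ⟨φ.base ⟨p, hp⟩, hgU hgp, ?_, ?_⟩
  · have : φ.base ⟨p, hp⟩ ∈ Set.range φ.base := ⟨_, rfl⟩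
    rwa [Scheme.range_fromSpecStalk] at this
  · intro w hzw hwx
    obtain ⟨q, rfl⟩ : w ∈ Set.range φ.base := by
      rw [Scheme.range_fromSpecStalk]; exact hwx
    have hle : p ≤ q.asIdeal := (PrimeSpectrum.le_iff_specializes ⟨p, hp⟩ q).2 (hemb.specializes_iff.1 hzw)
    rcases hle.lt_or_eq with hlt | heq
    · right
      have := hpmax q.asIdeal q.isPrime hlt
      have hq : q = IsLocalRing.closedPoint (X.presheaf.stalk x) := PrimeSpectrum.ext this
      rw [hq]; exact Scheme.fromSpecStalk_closedPoint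
    · left
      congr 1
      exact PrimeSpectrum.ext heq.symm

theorem t9779 {X S : Scheme.{u}} (f : X ⟶ S) [LocallyOfFiniteType f] [IsLocallyNoetherian S] (x : X)
    (hcl : IsClosed (Subtype.val ⁻¹' {x} : Set ↑(f ⁻¹' {f x}))) (U : X.Opens)
    (hU : ∀ x' ∈ U, f x' ≠ f x) (hxU : x ∈ closure (U : Set ↑X)) :
    ∃ (I : X.IdealSheafData) (z₀ x₀ : ↑I.subscheme), I.subschemeι x₀ = x ∧ (I.subschemeι ≫ f).QuasiFiniteAt x₀ ∧
      I.subschemeι z₀ ∈ U ∧ I.subschemeι z₀ ⤳ x ∧ f (I.subschemeι z₀) ≠ f x := by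
  haveI : IsLocallyNoetherian X := LocallyOfFiniteType.isLocallyNoetherian f
  obtain ⟨z, hzU, hzx, hz⟩ := exists_point f x U hxU (fun h => hU x h rfl)
  let I := Scheme.IdealSheafData.vanishingIdeal (Closeds.closure {z} : Closeds X)
  have hr : Set.range I.subschemeι.base = closure {z} := by
    rw [Scheme.IdealSheafData.range_subschemeι, Scheme.IdealSheafData.coe_support_vanishingIdeal]
    rfl
  obtain ⟨z₀, hz₀⟩ : z ∈ Set.range I.subschemeι.base := hr ▸ subset_closure rfl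
  obtain ⟨x₀, hx₀⟩ : x ∈ Set.range I.subschemeι.base := hr ▸ specializes_iff_mem_closure.1 hzx
  refine ⟨I, z₀, x₀, hx₀, ?_, by rw [hz₀]; exact hzU, by rw [hz₀]; exact hzx, by rw [hz₀]; exact hU z hzU⟩
  rw [Scheme.Hom.quasiFiniteAt_iff_isOpen_singleton_asFiber]
  set h := I.subschemeι ≫ f
  have hie : Topology.IsEmbedding I.subschemeι.base := I.subschemeι.isEmbedding
  haveI : LocallyOfFiniteType (h.fiberToSpecResidueField (h x₀)) :=
    MorphismProperty.pullback_snd _ _ inferInstance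
  haveI : IsLocallyNoetherian (h.fiber (h x₀)) :=
    LocallyOfFiniteType.isLocallyNoetherian (h.fiberToSpecResidueField (h x₀))
  have hbase : ∀ v : h.fiber (h x₀), f (I.subschemeι (h.fiberι _ v)) = f x := by
    intro v
    have : h.fiberι _ v ∈ Set.range (h.fiberι (h x₀)) := ⟨v, rfl⟩
    rw [Scheme.Hom.range_fiberι] at this
    simpa [h, hx₀] using this
  have hmem : ∀ v : h.fiber (h x₀), z ⤳ I.subschemeι (h.fiberι _ v) := by
    intro v
    rw [specializes_iff_mem_closure, ← hr]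
    exact ⟨_, rfl⟩
  have hvx : h.fiberι _ (h.asFiber x₀) = x₀ := h.fiberι_asFiber x₀
  refine VarGal.isOpen_singleton_of_closed_maximal ?_ ?_
  · intro v hv
    have h1 := (hie.specializes_iff.2 ((h.fiberι (h x₀)).isEmbedding.specializes_iff.2 hv))
    erw [hvx, hx₀] at h1
    rcases hz _ (hmem v) h1 with e | e
    · exact absurd (e ▸ hbase v) (hU z hzU)
    · apply (h.fiberι (h x₀)).isEmbedding.injective
      erw [hvx]
      exact hie.injective (e.trans hx₀.symm)
  · intro v hv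
    have h1 := (hie.specializes_iff.2 ((h.fiberι (h x₀)).isEmbedding.specializes_iff.2 hv))
    erw [hvx, hx₀] at h1
    apply (h.fiberι (h x₀)).isEmbedding.injective
    erw [hvx]
    refine hie.injective (Eq.trans ?_ hx₀.symm)
    have hs : (⟨x, rfl⟩ : ↥(f ⁻¹' {f x})) ⤳ ⟨I.subschemeι (h.fiberι _ v), hbase v⟩ :=
      Topology.IsEmbedding.subtypeVal.specializes_iff.1 h1
    exact hs.mem_closed hcl rfl

end Groth.Agent.FlatMor68.QFCurve
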