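import Groth.Agent.CAlg1.Miracle
import Groth.Agent.CAlg1.CMPoly
import Groth.Agent.CAlg6.RegularNormal
import Groth.Agent.FlatMor68.DedekindFlat
import Mathlib.RingTheory.IntegralClosure.GoingDown
import Mathlib.AlgebraicGeometry.Morphisms.Finite

set_option autoImplicit false
set_option backward.isDefEq.respectTransparency.types false
set_option linter.style.haveILetI false

universe u

open CategoryTheory Limits AlgebraicGeometry TopologicalSpace IsLocalRing
open Groth.Agent.Cyc90

namespace Groth.Agent.FlatMor68.RegularFiniteFlat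

theorem flat_local {A B : Type u} [CommRing A] [CommRing B] [IsRegularLocalRing A] [IsRegularLocalRing B]
    [Algebra A B] [IsLocalHom (algebraMap A B)] (hinj : Function.Injective (algebraMap A B))
    (hB : ∀ b : B, ∃ c d : B, IsIntegral A c ∧ IsIntegral A d ∧ IsUnit d ∧ b * d = c) :
    Module.Flat A B := by
  haveI := CAlg1.isDomain_regular A
  haveI := CAlg1.isDomain_regular B
  haveI := CAlg6.isIntegrallyClosed_of_regular A
  haveI := CAlg1.cm_of_isRegularLocalRing B
  let S := integralClosure A B
  have hS : Function.Injective (algebraMap A S) := fun a b h => hinj (congrArg Subtype.val h)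
  haveI : FaithfulSMul A S := (faithfulSMul_iff_algebraMap_injective A S).2 hS
  haveI : Algebra.IsIntegral A S := inferInstance
  haveI hgd : Algebra.HasGoingDown A S := inferInstance
  let mS : Ideal S := (maximalIdeal B).comap (algebraMap S B)
  haveI : mS.IsPrime := Ideal.IsPrime.comap _
  haveI : IsLocalization.AtPrime B mS := by
    refine ⟨⟨fun s => ?_, fun b => ?_, fun {s t} h => ⟨1, by rw [Subtype.ext h]⟩⟩⟩
    · by_contra hu
      exact s.2 (show (algebraMap S B) s ∈ maximalIdeal B from hu)
    · obtain ⟨c, d, hc, hd, hdu, hbd⟩ := hB b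
      exact ⟨(⟨c, hc⟩, ⟨⟨d, hd⟩, fun h => h hdu⟩), hbd⟩
  have hmS : mS.under A = maximalIdeal A := by
    show ((maximalIdeal B).comap (algebraMap S B)).comap (algebraMap A S) = _
    rw [Ideal.comap_comap]
    exact ((local_hom_TFAE (algebraMap A B)).out 0 4).1 (by assumption)
  haveI : mS.LiesOver (maximalIdeal A) := ⟨hmS.symm⟩
  have hle : ringKrullDim A ≤ ringKrullDim B := by
    rw [← maximalIdeal_height_eq_ringKrullDim, IsLocalization.AtPrime.ringKrullDim_eq_height mS B]
    obtain ⟨l, hl, hlen⟩ := (maximalIdeal A).exists_ltSeries_length_eq_height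
    haveI : mS.LiesOver l.last.asIdeal := by rw [hl]; infer_instance
    obtain ⟨l', hlen', hl', -⟩ := Ideal.exists_ltSeries_of_hasGoingDown l mS
    refine WithBot.coe_le_coe.mpr ?_
    rw [← hlen, ← hlen', (⟨mS, inferInstance⟩ : PrimeSpectrum S).height_eq_orderHeight]
    exact Order.length_le_height hl'.le
  have hfib : ringKrullDim (B ⧸ (maximalIdeal A).map (algebraMap A B)) = 0 := by
    haveI : Nontrivial (B ⧸ (maximalIdeal A).map (algebraMap A B)) := Ideal.Quotient.nontrivial_iff.mpr
      fun h => (maximalIdeal.isMaximal B).ne_top (top_le_iff.mp (h ▸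
        Ideal.map_le_iff_le_comap.mpr fun a ha => map_nonunit _ a ha))
    haveI : Ring.KrullDimLE 0 (B ⧸ (maximalIdeal A).map (algebraMap A B)) := by
      refine Ring.krullDimLE_zero_iff.mpr fun P hP => ?_
      let P' := P.comap (Ideal.Quotient.mk _)
      have hmP : (maximalIdeal A).map (algebraMap A B) ≤ P' := fun b hb => by
        show Ideal.Quotient.mk _ b ∈ P
        rw [Ideal.Quotient.eq_zero_iff_mem.mpr hb]; exact P.zero_mem
      haveI : (P'.comap (algebraMap S B)).IsMaximal := by
        refine Ideal.isMaximal_of_isIntegral_of_isMaximal_comap (R := A) _ ?_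
        have : (P'.comap (algebraMap S B)).comap (algebraMap A S) = maximalIdeal A := by
          rw [Ideal.comap_comap]
          exact ((maximalIdeal.isMaximal A).eq_of_le (Ideal.IsPrime.comap _).ne_top
            (Ideal.map_le_iff_le_comap.mp hmP)).symm
        rw [this]; infer_instance
      have he : P'.comap (algebraMap S B) = mS :=
        (‹(P'.comap (algebraMap S B)).IsMaximal›.eq_of_le (Ideal.IsPrime.ne_top inferInstance)
          (Ideal.comap_mono (le_maximalIdeal (Ideal.IsPrime.ne_top inferInstance))))
      have hP' : P' = maximalIdeal B := by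
        rw [← IsLocalization.map_under mS.primeCompl B P', show P'.under S = mS from he]
        exact IsLocalization.AtPrime.map_eq_maximalIdeal mS B
      rw [← Ideal.map_comap_of_surjective _ Ideal.Quotient.mk_surjective P]
      haveI : P'.IsMaximal := hP'.symm ▸ maximalIdeal.isMaximal B
      refine Ideal.IsMaximal.map_of_surjective_of_ker_le Ideal.Quotient.mk_surjective ?_
      rw [Ideal.mk_ker]; exact hmP
    exact ringKrullDimZero_iff_ringKrullDim_eq_zero.mp inferInstance
  refine CAlg1.miracle_flatness _ A B rfl ?_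
  refine le_antisymm (EGA4Alg4.ringKrullDim_le_add_fibre A B) ?_
  rw [hfib, add_zero]
  exact hle

theorem t10881 {X Y : Scheme.{u}} (f : X ⟶ Y) [IsFinite f]
    [IsLocallyNoetherian X] [IsLocallyNoetherian Y]
    (hX : ∀ x : X, IsRegularLocalRing (X.presheaf.stalk x))
    (hY : ∀ y : Y, IsRegularLocalRing (Y.presheaf.stalk y))
    (hdom : ∀ Z ∈ irreducibleComponents (X : Type u), closure (f.base '' Z) ∈ irreducibleComponents (Y : Type u)) :
    Flat f := by
  rw [Flat.iff_flat_stalkMap]
  intro x
  haveI := hX x
  haveI := hY (f.base x)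
  haveI := CAlg1.isDomain_regular (X.presheaf.stalk x)
  haveI := CAlg1.isDomain_regular (Y.presheaf.stalk (f.base x))
  haveI : IsReduced Y := by
    haveI : ∀ y : Y, _root_.IsReduced (Y.presheaf.stalk y) := fun y => by
      haveI := hY y
      haveI := CAlg1.isDomain_regular (Y.presheaf.stalk y)
      infer_instance
    exact isReduced_of_isReduced_stalk Y
  algebraize [(f.stalkMap x).hom]
  haveI : IsLocalHom (algebraMap (Y.presheaf.stalk (f.base x)) (X.presheaf.stalk x)) :=
    inferInstanceAs (IsLocalHom (f.stalkMap x).hom)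
  refine flat_local ?_ fun b => ?_
  · -- the generic point above `x` goes to a generic point
    rw [injective_iff_map_eq_zero]
    intro a ha
    by_contra ha0
    let p0 : PrimeSpectrum (X.presheaf.stalk x) := ⟨⊥, Ideal.isPrime_bot⟩
    let ξ := (X.fromSpecStalk x).base p0
    have hξx : ξ ⤳ x := fromSpecStalk_specializes p0
    have hξ : ∀ z, z ⤳ ξ → z = ξ := DedekindFlat.maximal_of_minimal ⊥
      (by rw [IsDomain.minimalPrimes_eq_singleton_bot]; rfl)
    have hcomp : closure ({ξ} : Set X) ∈ irreducibleComponents (X : Type u) := by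
      refine ⟨isIrreducible_singleton.closure, fun W hW hle => ?_⟩
      obtain ⟨w, hw⟩ := QuasiSober.sober hW.closure isClosed_closure
      have hwξ : w ⤳ ξ := hw.specializes (subset_closure (hle (subset_closure rfl)))
      rw [← hξ w hwξ]
      exact subset_closure.trans (hw.symm.le)
    have hfξ : ∀ z, z ⤳ f.base ξ → z = f.base ξ := fun z hz => by
      have h1 := hdom _ hcomp
      have h2 : closure (f.base '' closure {ξ}) = closure {f.base ξ} := by
        rw [closure_image_closure f.continuous, Set.image_singleton]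
      rw [h2] at h1
      have h3 : closure ({f.base ξ} : Set Y) ≤ closure {z} := specializes_iff_closure_subset.mp hz
      have h4 := h1.2 isIrreducible_singleton.closure h3
      exact (Specializes.antisymm (specializes_iff_closure_subset.mpr h4) hz).eq.symm
    have h1 := DedekindFlat.notMem_genPrime f hξx a
      (DedekindFlat.isUnit_spec_generic (hξx.map f.continuous) hfξ a ha0)
    rw [genPrime_fromSpecStalk p0] at h1
    exact h1 ha
  · obtain ⟨U, hU, hyU, -⟩ := exists_isAffineOpen_mem_and_subset (X := Y) (x := f.base x) (U := ⊤) trivial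
    have hV : IsAffineOpen (f ⁻¹ᵁ U) := hU.preimage f
    have hxV : x ∈ f ⁻¹ᵁ U := hyU
    letI : Algebra Γ(X, f ⁻¹ᵁ U) (X.presheaf.stalk x) := (X.presheaf.germ _ x hxV).hom.toAlgebra
    haveI : IsLocalization.AtPrime (X.presheaf.stalk x) (hV.primeIdealOf ⟨x, hxV⟩).asIdeal :=
      hV.isLocalization_stalk ⟨x, hxV⟩
    obtain ⟨⟨c, d⟩, hcd⟩ := IsLocalization.surj (hV.primeIdealOf ⟨x, hxV⟩).asIdeal.primeCompl b
    have hint : ∀ s : Γ(X, f ⁻¹ᵁ U), IsIntegral (Y.presheaf.stalk (f.base x))
        (X.presheaf.germ _ x hxV s) := by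
      intro s
      have hfin : (f.app U).hom.Finite := IsFinite.finite_app f U hU
      obtain ⟨P, hPm, hP⟩ := hfin.to_isIntegral s
      refine ⟨P.map (Y.presheaf.germ U (f.base x) hyU).hom, hPm.map _, ?_⟩
      rw [RingHom.algebraMap_toAlgebra, Polynomial.eval₂_map]
      have h2 : (f.stalkMap x).hom.comp (Y.presheaf.germ U (f.base x) hyU).hom =
          (X.presheaf.germ _ x hxV).hom.comp (f.app U).hom :=
        RingHom.ext fun a => Scheme.Hom.germ_stalkMap_apply f U x hyU a
      rw [h2, ← Polynomial.hom_eval₂, hP, map_zero]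
    exact ⟨_, _, hint c, hint d, IsLocalization.map_units _ d, hcd⟩

end Groth.Agent.FlatMor68.RegularFiniteFlat
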