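import Groth.Agent.FlatMor68.LocFree
import Groth.Agent.FlatMor68.PureClosed
import Groth.Agent.QC70.FiniteType
import Groth.Agent.Pure3.Basic
import Groth.Prelude.Def_CohB1

set_option autoImplicit false
set_option backward.isDefEq.respectTransparency.types false
set_option linter.style.haveILetI false

noncomputable section

universe u

open CategoryTheory Limits AlgebraicGeometry TopologicalSpace Opposite PrimeSpectrum
open Groth.Agent.QC70

namespace Groth.Agent.FlatMor68.FlatFiniteRank

variable {X : Scheme.{u}}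

/-- Sections over an affine open of a flat module are flat. -/
theorem flat_sections_self (F : X.Modules) [F.IsQuasicoherent] (hF : FlatMod.IsFlat F)
    {U : X.Opens} (hU : IsAffineOpen U) : Module.Flat Γ(X, U) Γ(F, U) := by
  refine Module.flat_of_localized_maximal _ fun P hP => ?_
  let x : X := hU.fromSpec ⟨P, inferInstance⟩
  have hx : x ∈ U := PureClosed.mem_of_fromSpec hU _
  have hprime := PureClosed.primeIdealOf_fromSpec hU ⟨P, inferInstance⟩ hx
  letI := stalkModule F hx
  have hloc := isLocalizedModule_germ (isLocAt_of_isQuasicoherent F hU) hU hx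
  rw [hprime] at hloc
  haveI : IsLocalizedModule P.primeCompl (germLinear F hx) := hloc
  letI : Algebra Γ(X, U) (X.presheaf.stalk x) := (X.presheaf.germ U x hx).hom.toAlgebra
  haveI : IsScalarTower Γ(X, U) (X.presheaf.stalk x) (F.presheaf.stalk x) :=
    IsScalarTower.of_algebraMap_smul fun r s => rfl
  haveI : IsLocalization.AtPrime (X.presheaf.stalk x) (hU.primeIdealOf ⟨x, hx⟩).asIdeal :=
    hU.isLocalization_stalk ⟨x, hx⟩
  haveI : Module.Flat (X.presheaf.stalk x) (F.presheaf.stalk x) := hF x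
  haveI : Module.Flat Γ(X, U) (F.presheaf.stalk x) :=
    (Module.flat_iff_of_isLocalization (X.presheaf.stalk x)
      (hU.primeIdealOf ⟨x, hx⟩).asIdeal.primeCompl _).mp inferInstance
  exact Module.Flat.of_linearEquiv (IsLocalizedModule.iso P.primeCompl (germLinear F hx))

/-- The rank of a stalk. -/
def stalkRank (F : X.Modules) (x : X) : ℕ :=
  Module.finrank (X.presheaf.stalk x) (F.presheaf.stalk x)

theorem rankAtStalk_eq (F : X.Modules) [F.IsQuasicoherent] {U : X.Opens} (hU : IsAffineOpen U)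
    [Module.Finite Γ(X, U) Γ(F, U)] [Module.Flat Γ(X, U) Γ(F, U)] {x : X} (hx : x ∈ U) :
    Module.rankAtStalk Γ(F, U) (hU.primeIdealOf ⟨x, hx⟩) = stalkRank F x := by
  letI := stalkModule F hx
  letI : Algebra Γ(X, U) (X.presheaf.stalk x) := (X.presheaf.germ U x hx).hom.toAlgebra
  haveI : IsScalarTower Γ(X, U) (X.presheaf.stalk x) (F.presheaf.stalk x) :=
    IsScalarTower.of_algebraMap_smul fun r s => rfl
  let p := hU.primeIdealOf ⟨x, hx⟩
  haveI : IsLocalization.AtPrime (X.presheaf.stalk x) p.asIdeal := hU.isLocalization_stalk ⟨x, hx⟩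
  haveI : IsLocalizedModule p.asIdeal.primeCompl (germLinear F hx) :=
    isLocalizedModule_germ (isLocAt_of_isQuasicoherent F hU) hU hx
  have hbc := IsLocalizedModule.isBaseChange p.asIdeal.primeCompl (X.presheaf.stalk x) (germLinear F hx)
  haveI : Module.Finite (X.presheaf.stalk x) (F.presheaf.stalk x) :=
    Module.Finite.of_isLocalizedModule p.asIdeal.primeCompl (Rₚ := X.presheaf.stalk x) (germLinear F hx)
  haveI : Module.Flat (X.presheaf.stalk x) (F.presheaf.stalk x) :=
    Module.Flat.of_isLocalizedModule (X.presheaf.stalk x) p.asIdeal.primeCompl (germLinear F hx)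
  haveI : Module.Free (X.presheaf.stalk x) (F.presheaf.stalk x) := Module.free_of_flat_of_isLocalRing
  have h := Module.rankAtStalk_isBaseChange hbc (IsLocalRing.closedPoint (X.presheaf.stalk x))
  rw [Module.rankAtStalk_eq_finrank_of_free] at h
  rw [show hU.primeIdealOf ⟨x, hx⟩ = (IsLocalRing.closedPoint (X.presheaf.stalk x)).comap
    (algebraMap Γ(X, U) (X.presheaf.stalk x)) from PrimeSpectrum.ext
      (IsLocalization.AtPrime.under_maximalIdeal (X.presheaf.stalk x) p.asIdeal).symm, ← h]
  rfl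

theorem isFinLocFree_of_flat_finite (F : X.Modules) [F.IsQuasicoherent] [F.IsFiniteType]
    (hF : FlatMod.IsFlat F)
    (h : ∀ Z : Set X, IsClosed Z → StableUnderGeneralization Z → IsOpen Z) :
    FlatMod.IsFinLocFree F := by
  have hfin : ∀ {U : X.Opens}, IsAffineOpen U → Module.Finite Γ(X, U) Γ(F, U) :=
    fun hU => finite_sections_of_isFiniteType F hU
  have hle : ∀ k, IsOpen {x : X | stalkRank F x ≤ k} := by
    intro k
    rw [isOpen_iff_forall_mem_open]
    intro x hxk
    obtain ⟨U, hU, hx, -⟩ := exists_isAffineOpen_mem_and_subset (X := X) (x := x) (U := ⊤) trivial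
    haveI := hfin hU
    haveI := flat_sections_self F hF hU
    obtain ⟨φ, W, hW, hpW, -, hsurj⟩ := Pure3.exists_open_surjective (M := Γ(F, U)) (hU.primeIdealOf ⟨x, hx⟩)
    refine ⟨hU.fromSpec '' W, ?_, hU.fromSpec.isOpenEmbedding.isOpenMap W hW,
      ⟨_, hpW, hU.fromSpec_primeIdealOf ⟨x, hx⟩⟩⟩
    rintro _ ⟨q, hq, rfl⟩
    have h1 := Pure3.rank_le_of_surjective φ q (hsurj q hq)
    have h2 := rankAtStalk_eq F hU (PureClosed.mem_of_fromSpec hU q)
    rw [PureClosed.primeIdealOf_fromSpec hU q] at h2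
    rw [rankAtStalk_eq F hU hx] at h1
    change stalkRank F _ ≤ k
    rw [← h2]
    exact h1.trans hxk
  have hge : ∀ k, IsOpen {x : X | k ≤ stalkRank F x} := by
    intro k
    rcases k with _ | k
    · simp
    apply h
    · rw [show {x : X | k + 1 ≤ stalkRank F x} = {x | stalkRank F x ≤ k}ᶜ by ext x; simp]
      exact (hle k).isClosed_compl
    · intro x y hyx hxk
      obtain ⟨U, hU, hx, -⟩ := exists_isAffineOpen_mem_and_subset (X := X) (x := x) (U := ⊤) trivial
      have hy : y ∈ U := hyx.mem_open U.2 hx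
      haveI := hfin hU
      haveI := flat_sections_self F hF hU
      show k + 1 ≤ stalkRank F y
      rw [← rankAtStalk_eq F hU hy, Module.rankAtStalk_eq_of_le_of_finite_of_flat Γ(F, U)
        (q := hU.primeIdealOf ⟨x, hx⟩), rankAtStalk_eq F hU hx]
      · exact hxk
      · intro a ha
        rw [PureClosed.mem_prime_iff hU hy] at ha
        rw [PureClosed.mem_prime_iff hU hx]
        exact fun hxa => ha (hyx.mem_open (X.basicOpen a).2 hxa)
  refine LocFree.isFinLocFree_of_sections F fun x => ?_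
  have hlc : IsOpen {y : X | stalkRank F y = stalkRank F x} := by
    rw [show {y : X | stalkRank F y = stalkRank F x} =
      {y | stalkRank F y ≤ stalkRank F x} ∩ {y | stalkRank F x ≤ stalkRank F y} by
        ext y; simp [le_antisymm_iff]]
    exact (hle _).inter (hge _)
  obtain ⟨U, hU, hx, hUsub⟩ := exists_isAffineOpen_mem_and_subset (X := X) (x := x)
    (U := ⟨_, hlc⟩) rfl
  haveI := hfin hU
  haveI := flat_sections_self F hF hU
  obtain ⟨a, ha, hfree⟩ := Module.Free.away_of_finite_of_flat_of_rankAtStalk_constant Γ(F, U)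
    (hU.primeIdealOf ⟨x, hx⟩).asIdeal (fun m _ => by
      have h1 := rankAtStalk_eq F hU (PureClosed.mem_of_fromSpec hU ⟨m, inferInstance⟩)
      rw [PureClosed.primeIdealOf_fromSpec hU ⟨m, inferInstance⟩] at h1
      rw [h1]
      exact (hUsub (PureClosed.mem_of_fromSpec hU ⟨m, inferInstance⟩)).trans
        (rankAtStalk_eq F hU hx).symm)
  haveI := hfree
  refine ⟨X.basicOpen a, hU.basicOpen a, (mem_basicOpen_iff_primeCompl hU hx a).mpr ha, ?_⟩
  exact LocFree.free_basicOpen F hU a

/-- A finite locally free module with zero sections off a closed set and nonzero ones on it. -/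
theorem isOpen_support_of_flat (I : X.IdealSheafData) [Flat I.subschemeι]
    (hF : FlatMod.IsFinLocFree ((Coh.push I.subschemeι).obj (Coh.structureModule I.subscheme))) :
    IsOpen (I.support : Set X) := by
  classical
  rw [isOpen_iff_forall_mem_open]
  intro x hx
  obtain ⟨W, n, hxW, ⟨e⟩⟩ := hF x
  refine ⟨W, fun y hy => ?_, W.2, hxW⟩
  let F := (Coh.push I.subschemeι).obj (Coh.structureModule I.subscheme)
  let inc : ∀ i : Fin n, Coh.structureModule (W : Scheme.{u}) ⟶ FlatMod.freeMod W n := fun i =>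
    Sigma.ι (fun _ : Fin n => Coh.structureModule (W : Scheme.{u})) i
  have happ : ∀ (O : (W : Scheme.{u}).Opens) (s : Γ(F.restrict W.ι, O)),
      e.inv.app O (e.hom.app O s) = s := fun O s =>
    congrArg (fun φ : F.restrict W.ι ⟶ F.restrict W.ι => φ.app O s) e.hom_inv_id
  by_contra hyI
  rcases Nat.eq_zero_or_pos n with rfl | hn
  · obtain ⟨z, hz⟩ : x ∈ Set.range I.subschemeι.base := by
      rw [Scheme.IdealSheafData.range_subschemeι]; exact hx
    have h0 : 𝟙 (FlatMod.freeMod (W : Scheme.{u}) 0) = 0 := Sigma.hom_ext _ _ fun i => i.elim0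
    have hs : Subsingleton Γ(F.restrict W.ι, ⊤) := ⟨fun a b => by
      rw [← happ ⊤ a, ← happ ⊤ b]
      congr 1
      have hz0 : ∀ t : Γ(FlatMod.freeMod (W : Scheme.{u}) 0, ⊤), t = 0 := fun t =>
        congrArg (fun φ : FlatMod.freeMod (W : Scheme.{u}) 0 ⟶ FlatMod.freeMod W 0 => φ.app ⊤ t) h0
      rw [hz0 (e.hom.app ⊤ a), hz0 (e.hom.app ⊤ b)]⟩
    have hs' : Subsingleton Γ(I.subscheme, I.subschemeι ⁻¹ᵁ (W.ι ''ᵁ ⊤)) :=
      ((F.restrictAppIso W.ι ⊤).addCommGroupIsoToAddEquiv.symm.toEquiv.subsingleton : Subsingleton Γ(F, W.ι ''ᵁ ⊤))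
    have hzmem : z ∈ I.subschemeι ⁻¹ᵁ (W.ι ''ᵁ ⊤) := by
      show I.subschemeι.base z ∈ W.ι ''ᵁ ⊤
      rw [hz, W.ι_image_top]; exact hxW
    haveI : Nontrivial Γ(I.subscheme, I.subschemeι ⁻¹ᵁ (W.ι ''ᵁ ⊤)) :=
      (I.subscheme.presheaf.germ _ z hzmem).hom.domain_nontrivial
    exact not_subsingleton Γ(I.subscheme, I.subschemeι ⁻¹ᵁ (W.ι ''ᵁ ⊤)) hs'
  · let i₀ : Fin n := ⟨0, hn⟩
    let pr : FlatMod.freeMod (W : Scheme.{u}) n ⟶ Coh.structureModule (W : Scheme.{u}) :=
      Sigma.desc fun _ => 𝟙 _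
    have hip : inc i₀ ≫ pr = 𝟙 _ := Sigma.ι_desc _ _
    let O : (W : Scheme.{u}).Opens := W.ι ⁻¹ᵁ ⟨(I.support : Set X)ᶜ, I.support.isClosed.isOpen_compl⟩
    have hsub : Subsingleton Γ(F.restrict W.ι, O) := by
      have hE : I.subschemeι ⁻¹ᵁ (W.ι ''ᵁ O) = ⊥ := by
        refine Opens.ext (Set.eq_empty_iff_forall_notMem.mpr fun z hz => ?_)
        obtain ⟨w, hw, hwz⟩ := hz
        refine hw ?_
        rw [← Scheme.IdealSheafData.range_subschemeι]
        exact ⟨z, hwz.symm⟩
      have : Subsingleton Γ(I.subscheme, I.subschemeι ⁻¹ᵁ (W.ι ''ᵁ O)) := by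
        rw [hE]; infer_instance
      exact @Equiv.subsingleton _ _ (F.restrictAppIso W.ι O).addCommGroupIsoToAddEquiv.toEquiv this
    have hyO : (⟨y, hy⟩ : W) ∈ O := hyI
    let one : Γ(Coh.structureModule (W : Scheme.{u}), O) := (1 : Γ((W : Scheme.{u}), O))
    have h1 : one = 0 := by
      have h2 : (inc i₀ ≫ pr).app O one = pr.app O ((inc i₀).app O one) := rfl
      rw [hip] at h2
      have h3 : (inc i₀).app O one = 0 := by
        have : Function.Injective (e.inv.app O) := (ConcreteCategory.bijective_of_isIso (e.inv.app O)).1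
        exact this (Subsingleton.elim _ _)
      rw [h3, map_zero] at h2
      exact h2
    haveI : Nontrivial Γ((W : Scheme.{u}), O) :=
      ((W : Scheme.{u}).presheaf.germ O ⟨y, hy⟩ hyO).hom.domain_nontrivial
    exact one_ne_zero (α := Γ((W : Scheme.{u}), O)) h1

theorem t9352 (X : Scheme.{u}) :
    (∀ F : X.Modules, Coh.IsQCoh F → CohB1.IsFT F → FlatMod.IsFlat F → FlatMod.IsFinLocFree F) ↔
      ∀ Z : Set ↑X, IsClosed Z → StableUnderGeneralization Z → IsOpen Z := by
  refine ⟨fun h Z hc hs => ?_, fun h F hq hft hF => ?_⟩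
  · obtain ⟨I, hI, hIZ⟩ := PureClosed.exists_idealSheaf Z hc hs
    let F := (Coh.push I.subschemeι).obj (Coh.structureModule I.subscheme)
    haveI : (Coh.structureModule I.subscheme).IsQuasicoherent := isQuasicoherent_unit
    haveI hq : F.IsQuasicoherent := QCqs72.isQuasicoherent_pushforward (Coh.structureModule I.subscheme) I.subschemeι
    have hsec : ∀ U : X.affineOpens, Module.Finite Γ(X, U.1) Γ(F, U.1) ∧ Module.Flat Γ(X, U.1) Γ(F, U.1) := by
      intro U
      letI := (I.subschemeι.app U.1).hom.toAlgebra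
      let eF : Γ(F, U.1) ≃ₗ[Γ(X, U.1)] Γ(I.subscheme, I.subschemeι ⁻¹ᵁ U.1) :=
        { toFun := fun s => s
          invFun := fun s => s
          left_inv := fun _ => rfl
          right_inv := fun _ => rfl
          map_add' := fun _ _ => rfl
          map_smul' := fun _ _ => rfl }
      haveI : Module.Flat Γ(X, U.1) Γ(I.subscheme, I.subschemeι ⁻¹ᵁ U.1) := by
        have := Flat.flat_appLE I.subschemeι U.2 (U.2.preimage I.subschemeι) le_rfl
        rwa [← Scheme.Hom.app_eq_appLE] at this
      haveI : Module.Finite Γ(X, U.1) Γ(I.subscheme, I.subschemeι ⁻¹ᵁ U.1) :=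
        Module.Finite.of_surjective (Algebra.linearMap _ _) (I.subschemeι_app_surjective U)
      exact ⟨Module.Finite.equiv eF.symm, Module.Flat.of_linearEquiv eF⟩
    have hft : CohB1.IsFT F := isFiniteType_of_finite_sections F (fun U : X.affineOpens => U.1)
      (iSup_affineOpens_eq_top X) (fun U => U.2) fun U => (hsec U).1
    have hfl : FlatMod.IsFlat F := fun x => by
      obtain ⟨U, hU, hx, -⟩ := exists_isAffineOpen_mem_and_subset (X := X) (x := x) (U := ⊤) trivial
      letI := stalkModule F hx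
      letI : Algebra Γ(X, U) (X.presheaf.stalk x) := (X.presheaf.germ U x hx).hom.toAlgebra
      haveI : IsScalarTower Γ(X, U) (X.presheaf.stalk x) (F.presheaf.stalk x) :=
        IsScalarTower.of_algebraMap_smul fun r s => rfl
      haveI : IsLocalization.AtPrime (X.presheaf.stalk x) (hU.primeIdealOf ⟨x, hx⟩).asIdeal :=
        hU.isLocalization_stalk ⟨x, hx⟩
      haveI := isLocalizedModule_germ (isLocAt_of_isQuasicoherent F hU) hU hx
      haveI := (hsec ⟨U, hU⟩).2
      exact Module.Flat.of_isLocalizedModule (X.presheaf.stalk x)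
        (hU.primeIdealOf ⟨x, hx⟩).asIdeal.primeCompl (germLinear F hx)
    rw [← hIZ]
    exact isOpen_support_of_flat I (h F hq hft hfl)
  · haveI : F.IsQuasicoherent := hq
    haveI : F.IsFiniteType := hft
    exact isFinLocFree_of_flat_finite F hF h

end Groth.Agent.FlatMor68.FlatFiniteRank
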