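import Groth.Agent.FlatMor68.PullbackStalk

set_option autoImplicit false
set_option backward.isDefEq.respectTransparency.types false
set_option linter.style.haveILetI false
set_option linter.unusedVariables false

noncomputable section

universe u

open CategoryTheory Limits AlgebraicGeometry TopologicalSpace Opposite TensorProduct
open Groth.Agent.QC70 Groth.Agent.QCPull72

namespace Groth.Agent.FlatMor68.PullbackNatural

variable {X Y : Scheme.{u}} (f : Y ⟶ X) {F F' : X.Modules} [F.IsQuasicoherent] [F'.IsQuasicoherent]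
  (u : F ⟶ F') {U : X.Opens} (hU : IsAffineOpen U) {V : Y.Opens} (hV : IsAffineOpen V) (e : V ≤ f ⁻¹ᵁ U)

/-- A morphism on sections, as a linear map. -/
def appLinear {M N : X.Modules} (v : M ⟶ N) (W : X.Opens) : Γ(M, W) →ₗ[Γ(X, W)] Γ(N, W) where
  toFun m := v.app W m
  map_add' := map_add _
  map_smul' := Scheme.Modules.Hom.app_smul v

theorem specTopIso_natural {M N : X.Modules} (v : M ⟶ N) :
    moduleSpecΓFunctor.map ((Scheme.Modules.restrictFunctor hU.fromSpec).map v) ≫ (specTopIso N hU).hom =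
      (specTopIso M hU).hom ≫ ModuleCat.ofHom (appLinear v U) := by
  ext x
  exact (QC70.app_res v _ _).symm

theorem tildeIsoSpecRes_natural :
    (Scheme.Modules.restrictFunctor hU.fromSpec).map u ≫ (tildeIsoSpecRes F' hU).inv =
      (tildeIsoSpecRes F hU).inv ≫
        tilde.map (moduleSpecΓFunctor.map ((Scheme.Modules.restrictFunctor hU.fromSpec).map u)) := by
  rw [Iso.comp_inv_eq, Category.assoc, Iso.eq_inv_comp]
  have h := Scheme.Modules.fromTildeΓNatTrans.naturality
    ((Scheme.Modules.restrictFunctor hU.fromSpec).map u)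
  simp only [Functor.comp_map, Functor.id_map, tilde.functor_map] at h
  exact h.symm

theorem specResPullbackIso_natural :
    (Scheme.Modules.restrictFunctor hV.fromSpec).map ((Scheme.Modules.pullback f).map u) ≫
        (specResPullbackIso f F' hU hV e).hom =
      (specResPullbackIso f F hU hV e).hom ≫
        tilde.map ((ModuleCat.extendScalars (f.appLE U V e).hom).map (ModuleCat.ofHom (appLinear u U))) := by
  have n1 := (Scheme.Modules.restrictFunctorIsoPullback hV.fromSpec).hom.naturality
    ((Scheme.Modules.pullback f).map u)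
  have n2 := (Scheme.Modules.pullbackComp hV.fromSpec f).hom.naturality u
  have n3 := (Scheme.Modules.pullbackCongr (hU.SpecMap_appLE_fromSpec f hV e).symm).hom.naturality u
  have n4 := (Scheme.Modules.pullbackComp (Spec.map (f.appLE U V e)) hU.fromSpec).inv.naturality u
  have n5 := congrArg (Scheme.Modules.pullback (Spec.map (f.appLE U V e))).map
    ((Scheme.Modules.restrictFunctorIsoPullback hU.fromSpec).inv.naturality u)
  have n6 := congrArg (Scheme.Modules.pullback (Spec.map (f.appLE U V e))).map (tildeIsoSpecRes_natural u hU)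
  have n7 : (tilde.functor _).map (moduleSpecΓFunctor.map ((Scheme.Modules.restrictFunctor hU.fromSpec).map u)) ≫
      (tilde.functor _).map (specTopIso F' hU).hom =
      (tilde.functor _).map (specTopIso F hU).hom ≫ (tilde.functor _).map (ModuleCat.ofHom (appLinear u U)) := by
    rw [← Functor.map_comp, ← Functor.map_comp, specTopIso_natural]
  have n7' := congrArg (Scheme.Modules.pullback (Spec.map (f.appLE U V e))).map n7
  have n8 := (TildePull72.pullbackTildeIso (f.appLE U V e)).hom.naturality (ModuleCat.ofHom (appLinear u U))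
  simp only [Functor.comp_map, Functor.map_comp, tilde.functor_map] at n1 n2 n3 n4 n5 n6 n7' n8
  unfold specResPullbackIso
  simp only [Iso.trans_hom, Iso.app_hom, Iso.symm_hom, Iso.app_inv, Functor.mapIso_hom, Functor.map_comp, tilde.functor_map, Category.assoc]
  rw [reassoc_of% n1, reassoc_of% n2, reassoc_of% n3, reassoc_of% n4, reassoc_of% n5, reassoc_of% n6]
  erw [reassoc_of% n7']
  erw [n8]
  rfl

theorem sectionsPullbackEquiv_apply (G : X.Modules) [G.IsQuasicoherent]
    (x : Γ((Scheme.Modules.pullback f).obj G, V)) :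
    sectionsPullbackEquiv f G hU hV e x = (sectionsPullbackIso f G hU hV e).hom.hom x := rfl

theorem extendScalars_map_apply {A B : CommRingCat.{u}} (φ : A ⟶ B) {M N : Type u} [AddCommGroup M] [Module A M]
    [AddCommGroup N] [Module A N] (l : M →ₗ[A] N) :
    letI := φ.hom.toAlgebra
    ∀ t : B ⊗[A] M, ((ModuleCat.extendScalars φ.hom).map (ModuleCat.ofHom l)).hom t = l.lTensor B t := by
  intro t
  rfl

theorem sectionsPullbackEquiv_natural (m : Γ((Scheme.Modules.pullback f).obj F, V)) :
    letI := (f.appLE U V e).hom.toAlgebra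
    sectionsPullbackEquiv f F' hU hV e (((Scheme.Modules.pullback f).map u).app V m) =
      (appLinear u U).lTensor Γ(Y, V) (sectionsPullbackEquiv f F hU hV e m) := by
  let v := (Scheme.Modules.pullback f).map u
  have h0 : ModuleCat.ofHom (appLinear v V) ≫ (sectionsPullbackIso f F' hU hV e).hom =
      (sectionsPullbackIso f F hU hV e).hom ≫
        (ModuleCat.extendScalars (f.appLE U V e).hom).map (ModuleCat.ofHom (appLinear u U)) := by
    have k1 : ModuleCat.ofHom (appLinear v V) ≫ (specTopIso _ hV).inv =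
        (specTopIso _ hV).inv ≫ moduleSpecΓFunctor.map ((Scheme.Modules.restrictFunctor hV.fromSpec).map v) := by
      rw [Iso.comp_inv_eq, Category.assoc, Iso.eq_inv_comp]
      exact (specTopIso_natural hV v).symm
    have k2 := congrArg moduleSpecΓFunctor.map (specResPullbackIso_natural f u hU hV e)
    rw [Functor.map_comp, Functor.map_comp] at k2
    have k3 := tilde.toTildeΓNatIso.inv.naturality
      ((ModuleCat.extendScalars (f.appLE U V e).hom).map (ModuleCat.ofHom (appLinear u U)))
    simp only [Functor.comp_map, Functor.id_map] at k3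
    unfold sectionsPullbackIso
    simp only [Iso.trans_hom, Iso.symm_hom, Functor.mapIso_hom, Category.assoc]
    erw [reassoc_of% k1, reassoc_of% k2]
    erw [k3]
    rfl
  have h1 := LinearMap.congr_fun (congrArg ModuleCat.Hom.hom h0) m
  rw [ModuleCat.hom_comp, ModuleCat.hom_comp, LinearMap.comp_apply, LinearMap.comp_apply] at h1
  rw [sectionsPullbackEquiv_apply, sectionsPullbackEquiv_apply]
  rw [ModuleCat.hom_ofHom] at h1
  have h2 := extendScalars_map_apply (f.appLE U V e) (appLinear u U) ((sectionsPullbackIso f F hU hV e).hom.hom m)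
  rw [show ((Scheme.Modules.pullback f).map u).app V m = appLinear v V m from rfl, h1, h2]

section Algebra

variable {A B C D : Type u} [CommRing A] [CommRing B] [CommRing C] [CommRing D] [Algebra A B] [Algebra A C]
  [Algebra A D] [Algebra B D] [Algebra C D] [IsScalarTower A B D] [IsScalarTower A C D]
  {N N' : Type u} [AddCommGroup N] [Module A N] [AddCommGroup N'] [Module A N']
  {P P' : Type u} [AddCommGroup P] [Module C P] [AddCommGroup P'] [Module C P']

/-- Two base changes of base changes agree. -/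
def chain (π : C ⊗[A] N ≃ₗ[C] P) : D ⊗[B] (B ⊗[A] N) ≃ₗ[D] D ⊗[C] P :=
  AlgebraTensorModule.cancelBaseChange A B D D N ≪≫ₗ
    (AlgebraTensorModule.cancelBaseChange A C D D N).symm ≪≫ₗ
    AlgebraTensorModule.congr (LinearEquiv.refl D D) π

theorem chain_natural (π : C ⊗[A] N ≃ₗ[C] P) (π' : C ⊗[A] N' ≃ₗ[C] P') (l : N →ₗ[A] N') (l' : P →ₗ[C] P')
    (hl : ∀ n, π' (1 ⊗ₜ l n) = l' (π (1 ⊗ₜ n))) (d : D) (t : B ⊗[A] N) :
    chain π' (d ⊗ₜ[B] l.lTensor B t) = l'.lTensor D (chain π (d ⊗ₜ[B] t)) := by
  induction t with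
  | zero => simp
  | add a b ha hb => simp only [map_add, TensorProduct.tmul_add, ha, hb]
  | tmul b n => simp [chain, hl]

variable {M M₂ Q Q₂ : Type u} [AddCommGroup M] [Module B M] [AddCommGroup M₂] [Module B M₂]
  [AddCommGroup Q] [Module B Q] [Module D Q] [IsScalarTower B D Q]
  [AddCommGroup Q₂] [Module B Q₂] [Module D Q₂] [IsScalarTower B D Q₂]

/-- The stalk equivalence, abstractly. -/
def core {g : M →ₗ[B] Q} (hg : IsBaseChange D g) (Ψ : M ≃ₗ[B] B ⊗[A] N) (π : C ⊗[A] N ≃ₗ[C] P) :
    Q ≃ₗ[D] D ⊗[C] P :=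
  hg.equiv.symm ≪≫ₗ AlgebraTensorModule.congr (LinearEquiv.refl D D) Ψ ≪≫ₗ chain π

theorem core_natural {g : M →ₗ[B] Q} (hg : IsBaseChange D g) (Ψ : M ≃ₗ[B] B ⊗[A] N) (π : C ⊗[A] N ≃ₗ[C] P)
    {g₂ : M₂ →ₗ[B] Q₂} (hg₂ : IsBaseChange D g₂) (Ψ₂ : M₂ ≃ₗ[B] B ⊗[A] N') (π' : C ⊗[A] N' ≃ₗ[C] P')
    (v : M → M₂) (w : Q →ₗ[D] Q₂) (hw : ∀ m, w (g m) = g₂ (v m))
    (l : N →ₗ[A] N') (hΨ : ∀ m, Ψ₂ (v m) = l.lTensor B (Ψ m)) (l' : P →ₗ[C] P')
    (hl : ∀ n, π' (1 ⊗ₜ l n) = l' (π (1 ⊗ₜ n))) (z : Q) :
    core hg₂ Ψ₂ π' (w z) = l'.lTensor D (core hg Ψ π z) := by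
  suffices h : (core hg₂ Ψ₂ π').toLinearMap ∘ₗ w =
      AlgebraTensorModule.lTensor D D l' ∘ₗ (core hg Ψ π).toLinearMap from LinearMap.congr_fun h z
  refine hg.algHom_ext _ _ fun m => ?_
  change core hg₂ Ψ₂ π' (w (g m)) = l'.lTensor D (core hg Ψ π (g m))
  rw [hw]
  simp only [core, LinearEquiv.trans_apply, IsBaseChange.equiv_symm_apply, AlgebraTensorModule.congr_tmul,
    LinearEquiv.refl_apply, hΨ]
  exact chain_natural π π' l l' hl 1 (Ψ m)

end Algebra

section Stalk

variable (G : X.Modules) [G.IsQuasicoherent]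

/-- The stalk of the inverse image in charts. -/
def stalkEquiv {x : Y} (hx : x ∈ V) :
    letI := (f.stalkMap x).hom.toAlgebra
    ((Scheme.Modules.pullback f).obj G).presheaf.stalk x ≃ₗ[Y.presheaf.stalk x]
      Y.presheaf.stalk x ⊗[X.presheaf.stalk (f.base x)] G.presheaf.stalk (f.base x) :=
  letI algS := (f.stalkMap x).hom.toAlgebra
  have hy : f.base x ∈ U := e hx
  haveI := QCPull72.isQuasicoherent_pullback f G
  letI M' := (Scheme.Modules.pullback f).obj G
  letI : Algebra Γ(X, U) Γ(Y, V) := (f.appLE U V e).hom.toAlgebra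
  letI : Algebra Γ(X, U) (X.presheaf.stalk (f.base x)) := (X.presheaf.germ U (f.base x) hy).hom.toAlgebra
  letI : Algebra Γ(Y, V) (Y.presheaf.stalk x) := (Y.presheaf.germ V x hx).hom.toAlgebra
  letI : Algebra Γ(X, U) (Y.presheaf.stalk x) :=
    ((Y.presheaf.germ V x hx).hom.comp (f.appLE U V e).hom).toAlgebra
  haveI : IsScalarTower Γ(X, U) Γ(Y, V) (Y.presheaf.stalk x) :=
    IsScalarTower.of_algebraMap_eq fun a => rfl
  haveI : IsScalarTower Γ(X, U) (X.presheaf.stalk (f.base x)) (Y.presheaf.stalk x) :=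
    IsScalarTower.of_algebraMap_eq fun a => (FlatSections.stalkMap_germ_appLE f e hx a).symm
  letI := stalkModule M' hx
  letI := stalkModule G hy
  haveI : IsScalarTower Γ(Y, V) (Y.presheaf.stalk x) (M'.presheaf.stalk x) :=
    IsScalarTower.of_algebraMap_smul fun r s => rfl
  haveI : IsScalarTower Γ(X, U) (X.presheaf.stalk (f.base x)) (G.presheaf.stalk (f.base x)) :=
    IsScalarTower.of_algebraMap_smul fun r s => rfl
  haveI : IsLocalization.AtPrime (Y.presheaf.stalk x) (hV.primeIdealOf ⟨x, hx⟩).asIdeal :=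
    hV.isLocalization_stalk ⟨x, hx⟩
  haveI : IsLocalization.AtPrime (X.presheaf.stalk (f.base x)) (hU.primeIdealOf ⟨f.base x, hy⟩).asIdeal :=
    hU.isLocalization_stalk ⟨f.base x, hy⟩
  haveI := isLocalizedModule_germ (isLocAt_of_isQuasicoherent M' hV) hV hx
  haveI := isLocalizedModule_germ (isLocAt_of_isQuasicoherent G hU) hU hy
  core (IsLocalizedModule.isBaseChange (hV.primeIdealOf ⟨x, hx⟩).asIdeal.primeCompl
      (Y.presheaf.stalk x) (germLinear M' hx)) (sectionsPullbackEquiv f G hU hV e)
    (IsLocalizedModule.isBaseChange (hU.primeIdealOf ⟨f.base x, hy⟩).asIdeal.primeCompl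
      (X.presheaf.stalk (f.base x)) (germLinear G hy)).equiv

end Stalk

theorem stalkEquiv_natural {x : Y} (hx : x ∈ V)
    (z : ((Scheme.Modules.pullback f).obj F).presheaf.stalk x) :
    letI := (f.stalkMap x).hom.toAlgebra
    stalkEquiv f hU hV e F' hx (stalkMapM ((Scheme.Modules.pullback f).map u) x z) =
      (stalkLinear u (f.base x)).lTensor (Y.presheaf.stalk x) (stalkEquiv f hU hV e F hx z) := by
  letI algS := (f.stalkMap x).hom.toAlgebra
  have hy : f.base x ∈ U := e hx
  haveI := QCPull72.isQuasicoherent_pullback f F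
  haveI := QCPull72.isQuasicoherent_pullback f F'
  letI : Algebra Γ(X, U) Γ(Y, V) := (f.appLE U V e).hom.toAlgebra
  letI : Algebra Γ(X, U) (X.presheaf.stalk (f.base x)) := (X.presheaf.germ U (f.base x) hy).hom.toAlgebra
  letI : Algebra Γ(Y, V) (Y.presheaf.stalk x) := (Y.presheaf.germ V x hx).hom.toAlgebra
  letI : Algebra Γ(X, U) (Y.presheaf.stalk x) :=
    ((Y.presheaf.germ V x hx).hom.comp (f.appLE U V e).hom).toAlgebra
  haveI : IsScalarTower Γ(X, U) Γ(Y, V) (Y.presheaf.stalk x) :=
    IsScalarTower.of_algebraMap_eq fun a => rfl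
  haveI : IsScalarTower Γ(X, U) (X.presheaf.stalk (f.base x)) (Y.presheaf.stalk x) :=
    IsScalarTower.of_algebraMap_eq fun a => (FlatSections.stalkMap_germ_appLE f e hx a).symm
  letI := stalkModule ((Scheme.Modules.pullback f).obj F) hx
  letI := stalkModule ((Scheme.Modules.pullback f).obj F') hx
  letI := stalkModule F hy
  letI := stalkModule F' hy
  haveI : IsScalarTower Γ(Y, V) (Y.presheaf.stalk x) (((Scheme.Modules.pullback f).obj F).presheaf.stalk x) :=
    IsScalarTower.of_algebraMap_smul fun r s => rfl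
  haveI : IsScalarTower Γ(Y, V) (Y.presheaf.stalk x) (((Scheme.Modules.pullback f).obj F').presheaf.stalk x) :=
    IsScalarTower.of_algebraMap_smul fun r s => rfl
  haveI : IsScalarTower Γ(X, U) (X.presheaf.stalk (f.base x)) (F.presheaf.stalk (f.base x)) :=
    IsScalarTower.of_algebraMap_smul fun r s => rfl
  haveI : IsScalarTower Γ(X, U) (X.presheaf.stalk (f.base x)) (F'.presheaf.stalk (f.base x)) :=
    IsScalarTower.of_algebraMap_smul fun r s => rfl
  exact core_natural _ _ _ _ _ _ (fun m => ((Scheme.Modules.pullback f).map u).app V m)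
    (stalkLinear ((Scheme.Modules.pullback f).map u) x)
    (fun m => stalkMapM_germ _ hx m) (appLinear u U)
    (sectionsPullbackEquiv_natural f u hU hV e) (stalkLinear u (f.base x))
    (fun n => by
      rw [IsBaseChange.equiv_tmul, IsBaseChange.equiv_tmul, one_smul, one_smul]
      exact (stalkMapM_germ u hy n).symm) z

end Groth.Agent.FlatMor68.PullbackNatural
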