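import Groth.Prelude.Def_MoreMor
import Groth.Agent.FlatMor67.LiftAffine
import Mathlib.RingTheory.Unramified.Finite
import Mathlib.AlgebraicGeometry.Morphisms.FormallyUnramified
import Mathlib.RingTheory.RingHom.FaithfullyFlat

set_option autoImplicit false
universe u
open TensorProduct

namespace Groth.Agent.FlatMor68.FlatUnramified

theorem formallyEtale_of_flat {A B : Type u} [CommRing A] [CommRing B] [Algebra A B]
    [Module.Flat A B] [Algebra.EssFiniteType A B] [Algebra.FormallyUnramified A B] :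
    Algebra.FormallyEtale A B := by
  refine Algebra.FormallyEtale.iff_comp_bijective.mpr fun C _ _ I hI =>
    ⟨Algebra.FormallyUnramified.comp_injective I hI, fun g => ?_⟩
  obtain ⟨t, ht, ht1⟩ := Algebra.FormallyUnramified.iff_exists_tensorProduct.mp ‹_›
  -- the base change of `B` to `C ⧸ I` and its section
  let π : C ⊗[A] B →ₐ[C] C ⧸ I :=
    Algebra.TensorProduct.lift (Algebra.ofId C (C ⧸ I)) g (fun _ _ => .all _ _)
  let π' : ((C ⧸ I) ⊗[A] B) →ₐ[C ⧸ I] C ⧸ I :=
    Algebra.TensorProduct.lift (AlgHom.id (C ⧸ I) (C ⧸ I)) g (fun _ _ => .all _ _)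
  let G : B ⊗[A] B →ₐ[A] ((C ⧸ I) ⊗[A] B) := Algebra.TensorProduct.map g (AlgHom.id A B)
  let q : C ⊗[A] B →ₐ[A] ((C ⧸ I) ⊗[A] B) :=
    Algebra.TensorProduct.map (Ideal.Quotient.mkₐ A I) (AlgHom.id A B)
  have hπq : ∀ x, π' (q x) = π x := by
    intro x
    induction x with
    | zero => simp
    | tmul c b => simp [π, π', q]
    | add x y hx hy => simp [hx, hy]
  have hπG : ∀ x, π' (G x) = g (Algebra.TensorProduct.lmul' A x) := by
    intro x
    induction x with
    | zero => simp
    | tmul c b => simp [π', G]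
    | add x y hx hy => simp [hx, hy]
  have hτ : ∀ x : ((C ⧸ I) ⊗[A] B), G t * x = G t * algebraMap (C ⧸ I) ((C ⧸ I) ⊗[A] B) (π' x) := by
    intro x
    induction x with
    | zero => simp
    | tmul c b =>
      have h : G ((1 ⊗ₜ b - b ⊗ₜ 1) * t) = 0 := by rw [ht, map_zero]
      simp only [map_mul, map_sub, G, Algebra.TensorProduct.map_tmul, map_one,
        AlgHom.id_apply, sub_mul, sub_eq_zero] at h
      have : π' (c ⊗ₜ b) = c * g b := by simp [π']
      rw [this, show (c ⊗ₜ b : ((C ⧸ I) ⊗[A] B)) = c ⊗ₜ 1 * 1 ⊗ₜ b by simp,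
        show algebraMap (C ⧸ I) ((C ⧸ I) ⊗[A] B) (c * g b) = c ⊗ₜ 1 * g b ⊗ₜ 1 by simp,
        mul_left_comm, mul_comm (G t), h]
      ring
    | add x y hx hy => rw [mul_add, hx, hy, map_add, map_add, mul_add]
  obtain ⟨h, hh⟩ : ∃ h, q h = G t :=
    TensorProduct.map_surjective Ideal.Quotient.mk_surjective Function.surjective_id _
  have hπh : π h = 1 := by rw [← hπq, hh, hπG, ht1, map_one]
  let C' := Localization.Away h
  let σ : C' →ₐ[C] C ⧸ I := IsLocalization.liftAlgHom (M := Submonoid.powers h) (f := π)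
    (fun y => by obtain ⟨_, n, rfl⟩ := y; simp [hπh])
  have hker : ∀ y : C', σ y = 0 → y ∈ I.map (algebraMap C C') := by
    intro y hy
    obtain ⟨x, ⟨_, n, rfl⟩, rfl⟩ := IsLocalization.exists_mk'_eq (Submonoid.powers h) y
    have hx : π x = 0 := by
      have := congrArg σ (IsLocalization.mk'_spec C' x (⟨h ^ n, n, rfl⟩ : Submonoid.powers h))
      simp only [σ, map_mul, hy, zero_mul] at this
      simpa [σ] using this.symm
    have hz : q (h * x) = 0 := by rw [map_mul, hh, hτ, hπq, hx, map_zero, mul_zero]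
    have hqk : RingHom.ker q = Ideal.map (Algebra.TensorProduct.includeLeft : C →ₐ[A] C ⊗[A] B) I := by
      have := Algebra.TensorProduct.rTensor_ker (R := A) (C := B) (f := Ideal.Quotient.mkₐ A I)
        (Ideal.Quotient.mkₐ_surjective A I)
      rw [show RingHom.ker (Ideal.Quotient.mkₐ A I) = I from Ideal.Quotient.mkₐ_ker A I] at this
      exact this
    have hmem : h * x ∈ I.map (algebraMap C (C ⊗[A] B)) := by
      have : h * x ∈ RingHom.ker q := hz
      rw [hqk] at this; exact this
    have h2 : algebraMap _ C' (h * x) ∈ I.map (algebraMap C C') := by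
      rw [IsScalarTower.algebraMap_eq C (C ⊗[A] B) C', ← Ideal.map_map]
      exact Ideal.mem_map_of_mem _ hmem
    rw [map_mul] at h2
    have h3 := (Ideal.unit_mul_mem_iff_mem _ (IsLocalization.Away.algebraMap_isUnit h)).1 h2
    rw [IsLocalization.mk'_eq_mul_mk'_one]
    exact Ideal.mul_mem_right _ _ h3
  have hdec : ∀ y : C', ∃ c, y - algebraMap C C' c ∈ I.map (algebraMap C C') := by
    intro y
    obtain ⟨c, hc⟩ := Ideal.Quotient.mk_surjective (σ y)
    exact ⟨c, hker _ (by rw [map_sub, σ.commutes, ← hc]; exact sub_self _)⟩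
  have hsur : Function.Surjective (algebraMap C C') := by
    have hI' : ∀ z ∈ I.map (algebraMap C C'), ∃ c, algebraMap C C' c = z := by
      intro z hz
      refine Submodule.span_induction ?_ ⟨0, map_zero _⟩
        (fun _ _ _ _ ⟨a, ha⟩ ⟨b, hb⟩ => ⟨a + b, by rw [map_add, ha, hb]⟩) ?_ hz
      · rintro _ ⟨i, hi, rfl⟩; exact ⟨i, rfl⟩
      · rintro y z hz ⟨a, rfl⟩
        obtain ⟨c, hc⟩ := hdec y
        refine ⟨c * a, ?_⟩
        have : (y - algebraMap C C' c) * algebraMap C C' a ∈ I.map (algebraMap C C') * I.map (algebraMap C C') :=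
          Ideal.mul_mem_mul hc hz
        rw [← pow_two, ← Ideal.map_pow, hI, Ideal.map_bot, Ideal.mem_bot, sub_mul, sub_eq_zero] at this
        rw [smul_eq_mul, map_mul, this]
    intro y
    obtain ⟨c, hc⟩ := hdec y
    obtain ⟨d, hd⟩ := hI' _ hc
    exact ⟨c + d, by rw [map_add, hd, add_sub_cancel]⟩
  have : Module.Flat (C ⊗[A] B) C' := IsLocalization.flat C' (Submonoid.powers h)
  have : Module.Flat C C' := Module.Flat.trans C (C ⊗[A] B) C'
  have : Module.FaithfullyFlat C C' := by
    refine Module.FaithfullyFlat.of_comap_surjective fun P => ?_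
    obtain ⟨P', hP'⟩ : P ∈ Set.range (PrimeSpectrum.comap (Ideal.Quotient.mk I)) := by
      rw [range_comap_of_surjective _ _ Ideal.Quotient.mk_surjective, Ideal.mk_ker]
      intro a ha
      have := Ideal.pow_mem_pow ha 2
      rw [hI, Ideal.mem_bot] at this
      exact P.2.mem_of_pow_mem 2 (this ▸ zero_mem _)
    refine ⟨PrimeSpectrum.comap σ.toRingHom P', ?_⟩
    rw [← hP', ← PrimeSpectrum.comap_comp_apply]
    congr 1
    exact σ.comp_algebraMap
  let e : C ≃ₐ[C] C' := AlgEquiv.ofBijective (Algebra.ofId C C')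
    ⟨(RingHom.faithfullyFlat_algebraMap_iff.mpr this).injective, hsur⟩
  let L : B →ₐ[A] C := (e.symm.toAlgHom.restrictScalars A).comp
    (((IsScalarTower.toAlgHom C (C ⊗[A] B) C').restrictScalars A).comp Algebra.TensorProduct.includeRight)
  refine ⟨L, AlgHom.ext fun b => ?_⟩
  have h1 : σ (e (L b)) = Ideal.Quotient.mk I (L b) := σ.commutes _
  have h2 : σ (e (L b)) = g b := by
    simp [L, σ, π]
  exact h1.symm.trans h2

end Groth.Agent.FlatMor68.FlatUnramified
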