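import Groth.Agent.Fam20.QuasiSection
import Groth.Agent.FlatMor66.OnePoint
import Mathlib

/-!
An étale slice through a point of a smooth morphism with separable residue field extension.
-/

set_option autoImplicit false
set_option linter.style.haveILetI false
set_option backward.isDefEq.respectTransparency.types false

universe u

open CategoryTheory CategoryTheory.Limits AlgebraicGeometry TopologicalSpace TensorProduct

namespace Groth.Agent.FlatMor68.EtaleSlice

/-- A quasi-section through a prime whose residue field lies in a separable extension. -/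
theorem exists_qs_of_separable {R B K : Type u} [CommRing R] [CommRing B] [Algebra R B]
    [Algebra.Smooth R B] [Field K] [Algebra R K] (ev : B →ₐ[R] K)
    (p : Ideal R) [p.IsPrime] (hp : ∀ r, algebraMap R K r = 0 ↔ r ∈ p)
    [Algebra p.ResidueField K] [IsScalarTower R p.ResidueField K]
    [Algebra.IsSeparable p.ResidueField K] :
    ∃ (W : Fam20.QS R B) (χ : W.Z →ₐ[R] K), ∀ b, χ (algebraMap B W.Z b) = ev b := by
  let Q : Ideal B := RingHom.ker ev.toRingHom
  haveI : Q.IsPrime := RingHom.ker_isPrime _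
  have hpQ : p = Q.comap (Algebra.ofId R B).toRingHom := by
    ext r
    show r ∈ p ↔ ev (algebraMap R B r) = 0
    rw [AlgHom.commutes, hp]
  let m : p.ResidueField →ₐ[R] Q.ResidueField := Ideal.ResidueField.mapₐ p Q (Algebra.ofId R B) hpQ
  let jQ : Q.ResidueField →ₐ[R] K := Ideal.ResidueField.liftₐ Q ev (fun b hb => hb)
    (fun b hb => isUnit_iff_ne_zero.2 hb)
  have hjm : jQ.comp m = IsScalarTower.toAlgHom R p.ResidueField K :=
    Ideal.ResidueField.algHom_ext (by ext)
  letI : Algebra p.ResidueField Q.ResidueField := m.toRingHom.toAlgebra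
  haveI : IsScalarTower R p.ResidueField Q.ResidueField := IsScalarTower.of_algHom m
  let jQ' : Q.ResidueField →ₐ[p.ResidueField] K :=
    { jQ.toRingHom with commutes' := fun c => DFunLike.congr_fun hjm c }
  haveI : Algebra.IsSeparable p.ResidueField Q.ResidueField :=
    Algebra.IsSeparable.of_algHom p.ResidueField K jQ'
  haveI : Algebra.FormallyUnramified p.ResidueField Q.ResidueField :=
    Algebra.FormallyUnramified.of_isSeparable _ _
  haveI : Algebra.FormallyUnramified R (R ⧸ p) := Algebra.FormallyUnramified.quotient _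
  haveI : Algebra.FormallyUnramified (R ⧸ p) p.ResidueField :=
    Algebra.FormallyUnramified.of_isLocalization (nonZeroDivisors (R ⧸ p))
  haveI : Algebra.FormallyUnramified R p.ResidueField := .comp R (R ⧸ p) p.ResidueField
  haveI : Algebra.FormallyUnramified R Q.ResidueField := .comp R p.ResidueField Q.ResidueField
  obtain ⟨W, ⟨χ⟩⟩ := Fam20.exists_qs (R := R) Q
  refine ⟨W, jQ.comp (χ.restrictScalars R), fun b => ?_⟩
  show jQ (χ (algebraMap B W.Z b)) = ev b
  rw [χ.commutes]
  exact DFunLike.congr_fun (Ideal.ResidueField.liftₐ_comp_toAlgHom Q ev (fun b hb => hb)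
    (fun b hb => isUnit_iff_ne_zero.2 hb)) b

/-- The slice. -/
theorem exists_slice {X S : Scheme.{u}} (f : X ⟶ S) [Smooth f] (x : X)
    (hsep : @Algebra.IsSeparable (S.residueField (f x)) (X.residueField x) _ _
      (f.residueFieldMap x).hom.toAlgebra) :
    ∃ (Z : Scheme.{u}) (i : Z ⟶ X) (z : Z), IsImmersion i ∧ Etale (i ≫ f) ∧ i z = x ∧
      ∀ z' : ↑Z, f (i z') = f x → z' = z := by
  obtain ⟨_, ⟨V, hV, rfl⟩, hsV, -⟩ :=
    S.isBasis_affineOpens.exists_subset_of_mem_open (Set.mem_univ (f x)) isOpen_univ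
  obtain ⟨_, ⟨U, hU, rfl⟩, hxU, hUV⟩ :=
    X.isBasis_affineOpens.exists_subset_of_mem_open (show x ∈ f ⁻¹ᵁ V from hsV) (f ⁻¹ᵁ V).2
  have hsm := f.smooth_appLE hV hU hUV
  algebraize [(f.appLE V U hUV).hom]
  let evX : Γ(X, U) →+* X.residueField x := (X.evaluation U x hxU).hom
  let evS : Γ(S, V) →+* S.residueField (f x) := (S.evaluation V (f x) hsV).hom
  letI : Algebra Γ(S, V) (X.residueField x) := (evX.comp (algebraMap Γ(S, V) Γ(X, U))).toAlgebra
  let ev : Γ(X, U) →ₐ[Γ(S, V)] X.residueField x := { evX with commutes' := fun _ => rfl }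
  have hnat : ∀ r, (f.residueFieldMap x).hom (evS r) = algebraMap Γ(S, V) (X.residueField x) r := fun r => by
    show f.residueFieldMap x (S.evaluation V (f x) hsV r) = X.evaluation U x hxU (f.appLE V U hUV r)
    rw [Scheme.evaluation_naturality_apply]
    simp only [Scheme.evaluation, Scheme.Hom.appLE, CommRingCat.comp_apply]
    rw [TopCat.Presheaf.germ_res_apply]
  let pp : PrimeSpectrum Γ(S, V) := ⟨RingHom.ker evS, RingHom.ker_isPrime _⟩
  let p := pp.asIdeal
  haveI : p.IsPrime := pp.isPrime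
  letI : Algebra Γ(S, V) (S.residueField (f x)) := evS.toAlgebra
  let i : p.ResidueField →ₐ[Γ(S, V)] S.residueField (f x) :=
    Ideal.ResidueField.liftₐ p (Algebra.ofId _ _) (fun r hr => hr) (fun r hr => isUnit_iff_ne_zero.2 hr)
  have hi : ∀ r, i (algebraMap Γ(S, V) p.ResidueField r) = evS r := fun r => i.commutes r
  have hibij : Function.Bijective i := by
    refine ⟨i.toRingHom.injective, fun a => ?_⟩
    obtain ⟨b, rfl⟩ := Ideal.Quotient.mk_surjective a
    letI := S.presheaf.algebra_section_stalk ⟨f x, hsV⟩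
    haveI := hV.isLocalization_stalk ⟨f x, hsV⟩
    obtain ⟨⟨r, t⟩, hrt⟩ := IsLocalization.surj (hV.primeIdealOf ⟨f x, hsV⟩).asIdeal.primeCompl b
    have h1 : S.residue (f x) b * evS (t : Γ(S, V)) = evS r := by
      have := congrArg (S.residue (f x)) hrt
      rwa [map_mul] at this
    have ht : evS (t : Γ(S, V)) ≠ 0 := by
      have h2 : IsUnit (algebraMap Γ(S, V) (S.presheaf.stalk (f x)) t) :=
        IsLocalization.map_units _ t
      exact (h2.map (S.residue (f x)).hom).ne_zero
    refine ⟨algebraMap _ p.ResidueField r * (algebraMap _ p.ResidueField (t : Γ(S, V)))⁻¹, ?_⟩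
    rw [map_mul, map_inv₀, hi, hi, ← h1, mul_inv_cancel_right₀ ht]
    rfl
  letI : Algebra (S.residueField (f x)) (X.residueField x) := (f.residueFieldMap x).hom.toAlgebra
  haveI : Algebra.IsSeparable (S.residueField (f x)) (X.residueField x) := hsep
  letI : Algebra p.ResidueField (X.residueField x) := ((f.residueFieldMap x).hom.comp i.toRingHom).toAlgebra
  haveI : IsScalarTower Γ(S, V) p.ResidueField (X.residueField x) := IsScalarTower.of_algebraMap_eq fun r => by
    show _ = (f.residueFieldMap x).hom (i (algebraMap Γ(S, V) p.ResidueField r))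
    rw [hi, hnat]
  haveI : Algebra.IsSeparable p.ResidueField (X.residueField x) := by
    let e₁ := (RingEquiv.ofBijective i.toRingHom hibij).symm
    refine Algebra.IsSeparable.of_equiv_equiv e₁ (RingEquiv.refl (X.residueField x)) (RingHom.ext fun a => ?_)
    show (f.residueFieldMap x).hom (i (e₁ a)) = algebraMap (S.residueField (f x)) (X.residueField x) a
    rw [show i (e₁ a) = a from (RingEquiv.ofBijective i.toRingHom hibij).apply_symm_apply a]
    rfl
  have hp : ∀ r, algebraMap Γ(S, V) (X.residueField x) r = 0 ↔ r ∈ p := fun r => by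
    rw [← hnat, map_eq_zero_iff _ (f.residueFieldMap x).hom.injective]
    rfl
  obtain ⟨W, χ, hχ⟩ := exists_qs_of_separable ev p hp
  haveI := W.etale
  let Bh := Localization.Away W.h
  let c₁ : Spec (CommRingCat.of W.Z) ⟶ Spec (CommRingCat.of Bh) := Spec.map (CommRingCat.ofHom W.proj.toRingHom)
  let c₂ : Spec (CommRingCat.of Bh) ⟶ Spec Γ(X, U) :=
    Spec.map (CommRingCat.ofHom (algebraMap Γ(X, U) Bh))
  haveI : IsClosedImmersion c₁ := IsClosedImmersion.spec_of_surjective _ W.surj
  haveI : IsOpenImmersion c₂ := IsOpenImmersion.of_isLocalization W.h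
  let π : Spec (CommRingCat.of W.Z) ⟶ X := c₁ ≫ c₂ ≫ hU.fromSpec
  have hπf : π ≫ f = Spec.map (CommRingCat.ofHom (algebraMap Γ(S, V) W.Z)) ≫ hV.fromSpec := by
    simp only [π, Category.assoc]
    rw [← IsAffineOpen.SpecMap_appLE_fromSpec f hV hU hUV]
    simp only [c₁, c₂, ← Spec.map_comp_assoc]
    congr 2
    refine CommRingCat.hom_ext (RingHom.ext fun r => ?_)
    show W.proj (algebraMap Γ(X, U) Bh (algebraMap Γ(S, V) Γ(X, U) r)) = algebraMap Γ(S, V) W.Z r
    rw [AlgHom.commutes, ← IsScalarTower.algebraMap_apply]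
  haveI : Etale (π ≫ f) := by
    rw [hπf]
    haveI : Etale (Spec.map (CommRingCat.ofHom (algebraMap Γ(S, V) W.Z))) :=
      HasRingHomProperty.Spec_iff.mpr (RingHom.etale_algebraMap.mpr W.etale)
    infer_instance
  let z₀ : PrimeSpectrum W.Z := ⟨RingHom.ker χ.toRingHom, RingHom.ker_isPrime _⟩
  have hz₀ : π z₀ = x := by
    have h1 : c₂ (c₁ z₀) = hU.primeIdealOf ⟨x, hxU⟩ := by
      refine PrimeSpectrum.ext (Ideal.ext fun b => ?_)
      show χ (W.proj (algebraMap Γ(X, U) Bh b)) = 0 ↔ _
      rw [AlgHom.commutes, hχ]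
      show X.evaluation U x hxU b = 0 ↔ _
      rw [Scheme.evaluation_eq_zero_iff_notMem_basicOpen]
      have h2 : hU.primeIdealOf ⟨x, hxU⟩ ∈ hU.fromSpec ⁻¹ᵁ X.basicOpen b ↔ x ∈ X.basicOpen b := by
        show hU.fromSpec (hU.primeIdealOf ⟨x, hxU⟩) ∈ X.basicOpen b ↔ _
        rw [hU.fromSpec_primeIdealOf]
      rw [← h2, hU.fromSpec_preimage_basicOpen]
      exact not_not
    show (c₁ ≫ c₂ ≫ hU.fromSpec) z₀ = x
    rw [Scheme.Hom.comp_apply, Scheme.Hom.comp_apply, h1, hU.fromSpec_primeIdealOf]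
  let g := π ≫ f
  haveI : LocallyQuasiFinite g := FlatMor66.lqf_of_etale g
  have hiso : IsOpen ({g.asFiber z₀} : Set ↥(g.fiber (g z₀))) :=
    Scheme.Hom.quasiFiniteAt_iff_isOpen_singleton_asFiber.mp (g.quasiFiniteAt z₀)
  obtain ⟨O, hO, hOz⟩ := (g.fiberι (g z₀)).isEmbedding.isInducing.isOpen_iff.1 hiso
  let O' : (Spec (CommRingCat.of W.Z)).Opens := ⟨O, hO⟩
  have hzO : z₀ ∈ O' := by
    have : g.asFiber z₀ ∈ (g.fiberι (g z₀)) ⁻¹' O := by rw [hOz]; rfl
    rwa [Set.mem_preimage, Scheme.Hom.fiberι_asFiber] at this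
  have hgz : g z₀ = f x := by
    rw [Scheme.Hom.comp_apply, hz₀]
  refine ⟨O', O'.ι ≫ π, ⟨z₀, hzO⟩, inferInstance, ?_, hz₀, fun z' hz' => Subtype.ext ?_⟩
  · rw [Category.assoc]
    infer_instance
  · have hz'' : g z'.1 = g z₀ := by
      rw [hgz, ← hz']
      rfl
    obtain ⟨w, hw⟩ : z'.1 ∈ Set.range (g.fiberι (g z₀)) := by
      rw [Scheme.Hom.range_fiberι]
      exact hz''
    have h2 : w ∈ (g.fiberι (g z₀)) ⁻¹' O := by
      show g.fiberι (g z₀) w ∈ O
      rw [hw]
      exact z'.2
    rw [hOz] at h2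
    rw [← hw, Set.mem_singleton_iff.1 h2, Scheme.Hom.fiberι_asFiber]

end Groth.Agent.FlatMor68.EtaleSlice
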