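import Groth.Agent.FlatMor68.KoszulCalc
import Groth.Agent.S1492

set_option backward.isDefEq.respectTransparency.types false
set_option linter.style.haveILetI false
set_option autoImplicit false
universe u

open CategoryTheory CategoryTheory.Limits AlgebraicGeometry

namespace Groth.Agent.FlatMor68.KoszulFpqc

theorem descend {X Y X' Y' : Scheme.{u}} (f : X ⟶ Y) (g : Y' ⟶ Y) [Flat g] [Surjective g] [QuasiCompact g]
    (f' : X' ⟶ Y') (g' : X' ⟶ X) (hsq : IsPullback g' f' f g)
    (hf' : ∀ x' : X', Synt.IsKoszulAt f' x') : ∀ x : X, Synt.IsKoszulAt f x := by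
  have h' := (KoszulCalc.forall_isKoszulAt_iff f').1 hf'
  have h := Groth.Agent.S1492.result f f' g' g hsq fun U V hU hV e => KoszulCalc.lci_appLE h' hU hV e
  refine (KoszulCalc.forall_isKoszulAt_iff f).2 ?_
  rw [HasRingHomProperty.iff_appLE (P := KoszulCalc.lciProp.{u})]
  exact fun V U e => h U.1 V.1 U.2 V.2 e

end Groth.Agent.FlatMor68.KoszulFpqc
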