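import Groth.Agent.FlatMor68.PerfHom
import Groth.Agent.LCI19.Local
import Groth.Agent.DR39.BC
import Groth.Agent.DR39.Perf
import Mathlib.RingTheory.TensorProduct.Quotient

/-! Quotients by Koszul-regular ideals are perfect modules; S7070. -/

set_option autoImplicit false
set_option backward.isDefEq.respectTransparency.types false
set_option linter.style.haveILetI false

universe u

open CategoryTheory CategoryTheory.Limits CategoryTheory.Pretriangulated
open scoped TensorProduct

attribute [local instance] HasDerivedCategory.standard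

namespace Groth.Agent.FlatMor68.PerfKoszul

open DR39 Koszul19

variable {A : Type u} [CommRing A]

theorem perfect_inD_free (M : Type u) [AddCommGroup M] [Module A M] [Module.Finite A M] [Module.Projective A M] :
    DRing.IsPerfect A (Dual.inD A M) :=
  (perfect_iff _).2 ⟨(pc'_iff_forall_pc _).2 (pc_inD_of_FP M), 0, 0, ta_inD_of_flat (A := A) M⟩

theorem perfect_koszul (l : List A) : DRing.IsPerfect A ((QA A).obj (Koszul.koszul A l)) := by
  induction l with
  | nil =>
    exact perfect_of_iso (perfect_inD_free A)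
      ((DerivedCategory.singleFunctorIsoCompQ (ModuleCat.{u} A) 0).app (ModuleCat.of A A))
  | cons f l ih =>
    exact perfect_obj₃
      (DerivedCategory.mappingCone_triangle_distinguished (f • 𝟙 (Koszul.koszul A l))) ih ih

theorem perfect_quotient_of_kR (l : List A) (hl : KR l) :
    DRing.IsPerfect A (Dual.inD A (A ⧸ Ideal.ofList l)) := by
  let X := (QA A).obj (Koszul.koszul A l)
  have hz : ∀ i : ℤ, i ≠ 0 → IsZero ((HF A i).obj X) := fun i hi =>
    ((isZero_homology_iff_ex _ i).2 (hl i hi)).of_iso (HQIso _ i)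
  haveI : X.IsGE 0 := (DerivedCategory.isGE_iff X 0).2 fun i hi => hz i (by omega)
  haveI : X.IsLE 0 := (DerivedCategory.isLE_iff X 0).2 fun i hi => hz i (by omega)
  obtain ⟨Y, ⟨e⟩⟩ := DerivedCategory.exists_iso_singleFunctor_obj_of_isGE_of_isLE X 0
  let eY : Y ≅ ModuleCat.of A (A ⧸ Ideal.ofList l) :=
    ((DerivedCategory.singleFunctorCompHomologyFunctorIso (ModuleCat.{u} A) 0).app Y).symm ≪≫
      ((HF A 0).mapIso e).symm ≪≫ HQIso _ 0 ≪≫ homologyIsoHc _ (-1) 0 1 (by omega) (by omega) ≪≫
      (hcZero l).toModuleIso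
  exact perfect_of_iso (perfect_koszul l) (e ≪≫ (DerivedCategory.singleFunctor (ModuleCat.{u} A) 0).mapIso eY)

theorem perfect_quotient_of_koszulRegular {I : Ideal A} (h : LCI.IsKoszulRegularIdeal I) :
    DRing.IsPerfect A (Dual.inD A (A ⧸ I)) := by
  rw [LCI19.isKoszulRegularIdeal_iff] at h
  have hp : ∀ p : PrimeSpectrum A, ∃ g : A, g ∉ p.asIdeal ∧
      DRing.IsPerfect (Localization.Away g)
        ((DF (extA A (Localization.Away g))).obj (Dual.inD A (A ⧸ I))) := by
    intro p
    have key : ∀ g : A, DRing.IsPerfect (Localization.Away g)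
        (Dual.inD (Localization.Away g) (Localization.Away g ⧸ I.map (algebraMap A (Localization.Away g)))) →
        DRing.IsPerfect (Localization.Away g)
          ((DF (extA A (Localization.Away g))).obj (Dual.inD A (A ⧸ I))) := by
      intro g hg
      obtain ⟨e⟩ := rep_inD_baseChange (A := A) (B := Localization.Away g) (A ⧸ I)
      exact perfect_of_iso hg ((DerivedCategory.singleFunctor (ModuleCat.{u} (Localization.Away g)) 0).mapIso
        (Algebra.TensorProduct.quotIdealMapEquivTensorQuot (Localization.Away g) I).toLinearEquiv.toModuleIso ≪≫ e.symm)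
    by_cases hI : I ≤ p.asIdeal
    · obtain ⟨g, hg, l, -, hl, hl'⟩ := h p hI
      refine ⟨g, hg, key g ?_⟩
      rw [hl']
      exact perfect_quotient_of_kR _ hl
    · obtain ⟨g, hgI, hg⟩ := Set.not_subset.1 hI
      refine ⟨g, hg, key g (perfect_of_isZero (Functor.map_isZero _ ?_))⟩
      haveI : Subsingleton (Localization.Away g ⧸ I.map (algebraMap A (Localization.Away g))) :=
        Ideal.Quotient.subsingleton_iff.2 (Ideal.eq_top_of_isUnit_mem _ (Ideal.mem_map_of_mem _ hgI)
          (IsLocalization.Away.algebraMap_isUnit g))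
      exact ModuleCat.isZero_of_subsingleton (ModuleCat.of _ _)
  choose g hg hP using hp
  have htop : Ideal.span (Set.range g) = ⊤ := by
    by_contra hne
    obtain ⟨m, hm, hle⟩ := Ideal.exists_le_maximal _ hne
    exact hg ⟨m, hm.isPrime⟩ (hle (Ideal.subset_span ⟨_, rfl⟩))
  obtain ⟨s, hs, hs'⟩ := Submodule.mem_span_finite_of_mem_span
    (show (1 : A) ∈ Submodule.span A (Set.range g) from (Ideal.eq_top_iff_one _).1 htop)
  let f : Fin s.card → A := fun i => (s.equivFin.symm i).1
  have hf : Ideal.span (Set.range f) = ⊤ := by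
    refine (Ideal.eq_top_iff_one _).2 (Ideal.span_mono ?_ hs')
    exact fun x hx => ⟨s.equivFin ⟨x, hx⟩, by simp [f]⟩
  have hgood : ∀ i, DRing.IsPerfect (Localization.Away (f i))
      ((DF (extA A (Localization.Away (f i)))).obj (Dual.inD A (A ⧸ I))) := by
    intro i
    have hall : ∀ x ∈ Set.range g, DRing.IsPerfect (Localization.Away x)
        ((DF (extA A (Localization.Away x))).obj (Dual.inD A (A ⧸ I))) := by
      rintro _ ⟨p, rfl⟩
      exact hP p
    exact hall _ (hs (s.equivFin.symm i).2)
  have hz := isZero_of_away f hf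
  choose hpc a b hta using fun i => (perfect_iff _).1 (hgood i)
  obtain ⟨a₀, ha₀⟩ := (Set.finite_range a).bddBelow
  obtain ⟨b₀, hb₀⟩ := (Set.finite_range b).bddAbove
  have hTA : ∀ i, TA a₀ b₀ ((DF (extA A (Localization.Away (f i)))).obj (Dual.inD A (A ⧸ I))) := fun i =>
    TA.mono (hta i) (ha₀ ⟨i, rfl⟩) (hb₀ ⟨i, rfl⟩)
  exact (perfect_iff _).2 ⟨(pc'_iff_forall_pc _).2 fun m =>
      pc_descent hz (finite_of_away f hf) (b := b₀ + 1) (fun i => (hTA i).acyc) (fun i => pc_of_pc' (hpc i) m),
    a₀, b₀, ta_descent hz hTA⟩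

theorem t7070 (A B : Type u) [CommRing A] [CommRing B] [Algebra A B]
    (h : LCI.IsLCI A B) : MoreMor.IsPerfectHom A B := by
  obtain ⟨-, n, φ, hφ, hker⟩ := h
  refine (PerfHom.t7066 A B).2 ⟨n, φ, hφ, ?_⟩
  letI := φ.toRingHom.toAlgebra
  let e : (MvPolynomial (Fin n) A ⧸ RingHom.ker φ.toRingHom) ≃ₗ[MvPolynomial (Fin n) A] B :=
    (Submodule.quotEquivOfEq (RingHom.ker φ.toRingHom) (LinearMap.ker (Algebra.linearMap (MvPolynomial (Fin n) A) B)) rfl).trans
      ((Algebra.linearMap (MvPolynomial (Fin n) A) B).quotKerEquivOfSurjective hφ)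
  exact perfect_of_iso (perfect_quotient_of_koszulRegular hker)
    ((DerivedCategory.singleFunctor _ 0).mapIso e.toModuleIso)

end Groth.Agent.FlatMor68.PerfKoszul
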