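import Groth.Agent.FlatMor68.KoszulCalc
import Groth.Agent.S7070

set_option backward.isDefEq.respectTransparency.types false
set_option linter.style.haveILetI false
set_option autoImplicit false
universe u
open CategoryTheory CategoryTheory.Limits AlgebraicGeometry

namespace Groth.Agent.FlatMor68.KoszulPerfect

theorem perf {X Y : Scheme.{u}} (f : X ⟶ Y) (hf : ∀ x : X, Synt.IsKoszulAt f x) :
    MoreMor.IsPerfectMor f := by
  intro U V hU hV hUV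
  letI := (f.appLE V U hUV).hom.toAlgebra
  exact Groth.Agent.S7070.result _ _ (KoszulCalc.lci_appLE ((KoszulCalc.forall_isKoszulAt_iff f).1 hf) hU hV hUV)

theorem isLCI_algEquiv {A B C : Type u} [CommRing A] [CommRing B] [CommRing C] [Algebra A B] [Algebra A C]
    (e : B ≃ₐ[A] C) (h : LCI.IsLCI A B) : LCI.IsLCI A C := by
  obtain ⟨hft, n, a, ha, hk⟩ := h
  haveI := hft
  refine ⟨Algebra.FiniteType.equiv hft e, n, e.toAlgHom.comp a, e.surjective.comp ha, ?_⟩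
  have : RingHom.ker (e.toAlgHom.comp a).toRingHom = RingHom.ker a.toRingHom := by
    ext z; simp
  rwa [this]

theorem baseChange {X Y X' Y' : Scheme.{u}} (f : X ⟶ Y) (g : Y' ⟶ Y) [Flat g]
    (f' : X' ⟶ Y') (g' : X' ⟶ X) (hsq : IsPullback g' f' f g)
    (hf : ∀ x : X, Synt.IsKoszulAt f x) : ∀ x' : X', Synt.IsKoszulAt f' x' := by
  rw [KoszulCalc.forall_isKoszulAt_iff] at hf
  intro x'
  obtain ⟨_, ⟨V, hV, rfl⟩, hxV, -⟩ :=
    Y.isBasis_affineOpens.exists_subset_of_mem_open (Set.mem_univ (f (g' x'))) isOpen_univ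
  obtain ⟨_, ⟨U, hU, rfl⟩, hxU, hUV⟩ :=
    X.isBasis_affineOpens.exists_subset_of_mem_open (show g' x' ∈ f ⁻¹ᵁ V from hxV) (f ⁻¹ᵁ V).isOpen
  have hxV' : g (f' x') ∈ V := by
    rw [← Scheme.Hom.comp_apply, ← hsq.w, Scheme.Hom.comp_apply]; exact hxV
  obtain ⟨_, ⟨V', hV', rfl⟩, hxW, hV'V⟩ :=
    Y'.isBasis_affineOpens.exists_subset_of_mem_open (show f' x' ∈ g ⁻¹ᵁ V from hxV') (g ⁻¹ᵁ V).isOpen
  let W : X'.Opens := g' ⁻¹ᵁ U ⊓ f' ⁻¹ᵁ V'
  have hWU : W ≤ g' ⁻¹ᵁ U := inf_le_left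
  have hWV : W ≤ f' ⁻¹ᵁ V' := inf_le_right
  have hW : IsAffineOpen W := by
    have : IsAffine _ := hV
    have : IsAffine _ := hV'
    have : IsAffine _ := hU
    exact .of_isIso (Scheme.Hom.isPullback_resLE hsq hV'V hUV rfl).isoPullback.hom
  refine KoszulSyntomic.isKoszulAt_of_lci f' x' hW hV' hWV ⟨hxU, hxW⟩ ?_
  have hP := (isIso_pushoutSection_iff hsq hV'V hUV (UY := W) rfl).1
    (isIso_pushoutSection_of_isAffineOpen hsq hV'V hUV rfl hV hV' hU)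
  letI a1 := (g.appLE V V' hV'V).hom.toAlgebra
  letI a2 := (f.appLE V U hUV).hom.toAlgebra
  letI a3 := (f'.appLE V' W hWV).hom.toAlgebra
  letI a4 := (g'.appLE U W hWU).hom.toAlgebra
  letI a5 : Algebra Γ(Y, V) Γ(X', W) := ((g.appLE V V' hV'V) ≫ (f'.appLE V' W hWV)).hom.toAlgebra
  haveI : IsScalarTower Γ(Y, V) Γ(Y', V') Γ(X', W) := .of_algebraMap_eq' rfl
  haveI : IsScalarTower Γ(Y, V) Γ(X, U) Γ(X', W) := .of_algebraMap_eq' (congrArg CommRingCat.Hom.hom hP.w.symm)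
  haveI : Algebra.IsPushout Γ(Y, V) Γ(Y', V') Γ(X, U) Γ(X', W) :=
    CommRingCat.isPushout_iff_isPushout.1 hP.flip
  haveI : Module.Flat Γ(Y, V) Γ(Y', V') :=
    RingHom.flat_algebraMap_iff.1 (HasRingHomProperty.appLE @Flat g ‹_› ⟨V, hV⟩ ⟨V', hV'⟩ hV'V)
  exact isLCI_algEquiv (Algebra.IsPushout.equiv Γ(Y, V) Γ(Y', V') Γ(X, U) Γ(X', W))
    (LCICalc.isLCI_baseChange Γ(Y, V) Γ(Y', V') Γ(X, U) (KoszulCalc.lci_appLE hf hU hV hUV))

end Groth.Agent.FlatMor68.KoszulPerfect
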