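import Groth.Agent.FlatMor67.LCIComp
import Groth.Agent.FlatMor67.LCIMor
import Groth.Agent.LCI19.Local
import Groth.Agent.RelGCI94.SmoothSyn
import Groth.Agent.RelGCI94.SyntProperty
import Groth.Agent.S9287
import Groth.Agent.S9363
import Groth.Agent.S9699
import Groth.Prelude.Def_RegImm
import Mathlib

set_option backward.isDefEq.respectTransparency.types false
set_option linter.style.haveILetI false
set_option autoImplicit false
universe u

open CategoryTheory CategoryTheory.Limits AlgebraicGeometry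

namespace Groth.Agent.FlatMor68.KoszulSyntomic

/-- A surjection with Koszul-regular kernel is lci. -/
theorem isLCI_of_surjective {B C : Type u} [CommRing B] [CommRing C] [Algebra B C]
    (hs : Function.Surjective (algebraMap B C))
    (hk : LCI.IsKoszulRegularIdeal (RingHom.ker (algebraMap B C))) : LCI.IsLCI B C := by
  let e := MvPolynomial.isEmptyAlgEquiv B (Fin 0)
  refine ⟨.of_surjective (Algebra.ofId B C) hs, 0, (Algebra.ofId B C).comp e.toAlgHom, hs.comp e.surjective, ?_⟩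
  rw [show RingHom.ker ((Algebra.ofId B C).comp e.toAlgHom).toRingHom =
    (RingHom.ker (algebraMap B C)).comap e.toRingEquiv.toRingHom from rfl]
  exact (LCI19.isKoszulRegularIdeal_comap_equiv e.toRingEquiv).2 hk

theorem isKoszulRegularIdeal_ofList {A : Type u} [CommRing A] (rs : List A)
    (h : LCI.IsKoszulRegularSeq A rs) : LCI.IsKoszulRegularIdeal (Ideal.ofList rs) := by
  rw [LCI19.isKoszulRegularIdeal_iff]
  intro p _
  refine ⟨1, (Ideal.ne_top_iff_one _).1 p.isPrime.ne_top, rs, fun x hx => Ideal.subset_span hx,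
    ((Koszul19.kR_iff rs).2 h).map, LCI19.map_ofList _ _⟩

/-- The restriction of a Koszul-regular closed immersion over a smaller basic open. -/
theorem isLCI_localization {B C B' C' : Type u} [CommRing B] [CommRing C] [CommRing B'] [CommRing C']
    [Algebra B C] [Algebra B B'] [Algebra C C'] [Algebra B' C'] [Algebra B C'] [IsScalarTower B C C']
    [IsScalarTower B B' C'] (g : B) [IsLocalization.Away g B'] [IsLocalization.Away (algebraMap B C g) C']
    (hs : Function.Surjective (algebraMap B C))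
    (hk : LCI.IsKoszulRegularIdeal (RingHom.ker (algebraMap B C))) : LCI.IsLCI B' C' := by
  have hM : (Submonoid.powers g).map (algebraMap B C) = Submonoid.powers (algebraMap B C g) :=
    Submonoid.map_powers _ g
  have hy : Submonoid.powers g ≤ (Submonoid.powers (algebraMap B C g)).comap (algebraMap B C) :=
    hM ▸ Submonoid.le_comap_map _
  have hmap : algebraMap B' C' = IsLocalization.map C' (algebraMap B C) hy := by
    refine IsLocalization.ringHom_ext (Submonoid.powers g) ?_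
    ext b
    simp [← IsScalarTower.algebraMap_apply]
  haveI : Module.Flat B B' := IsLocalization.flat B' (Submonoid.powers g)
  refine isLCI_of_surjective ?_ ?_
  · rw [hmap]
    intro z
    obtain ⟨c, ⟨_, n, rfl⟩, rfl⟩ := IsLocalization.exists_mk'_eq (Submonoid.powers (algebraMap B C g)) z
    obtain ⟨b, rfl⟩ := hs c
    refine ⟨IsLocalization.mk' B' b (⟨g ^ n, ⟨n, rfl⟩⟩ : Submonoid.powers g), ?_⟩
    rw [IsLocalization.map_mk']
    congr 1
    exact Subtype.ext (map_pow _ _ _)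
  · rw [hmap, IsLocalization.ker_map C' (algebraMap B C) hM]
    exact LCI19.isKoszulRegularIdeal_map hk

/-- Near a point where it is Koszul, a morphism is given by an lci ring map. -/
theorem exists_lci_of_isKoszulAt {X S : Scheme.{u}} (f : X ⟶ S) (x : X) (h : Synt.IsKoszulAt f x) :
    ∃ (U : X.affineOpens) (V : S.affineOpens) (e : U.1 ≤ f ⁻¹ᵁ V.1), x ∈ U.1 ∧
      letI := (f.appLE V.1 U.1 e).hom.toAlgebra
      LCI.IsLCI Γ(S, V.1) Γ(X, U.1) := by
  obtain ⟨U, P, i, π, hx, -, ⟨-, hreg⟩, hsm, hfac⟩ := h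
  haveI := hsm
  obtain ⟨⟨A, hA⟩, hzA, hcl, rs, hrs, hker⟩ := hreg ⟨x, hx⟩
  change LCI.IsKoszulRegularSeq Γ(P, A) rs at hrs
  haveI := hcl
  haveI : IsAffine A.toScheme := hA
  haveI : IsAffine (i ⁻¹ᵁ A).toScheme := isAffine_of_isAffineHom (i ∣_ A)
  have hW0 : IsAffineOpen (i ⁻¹ᵁ A) := ‹IsAffine (i ⁻¹ᵁ A).toScheme›
  have hsurj : Function.Surjective (i.app A) := by
    have h1 : Function.Surjective (i ∣_ A).appTop := (i ∣_ A).app_surjective ⊤ (isAffineOpen_top _)
    rw [morphismRestrict_appTop] at h1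
    have h2 : Function.Surjective (i.app (A.ι ''ᵁ ⊤)) := fun c => by
      obtain ⟨z, hz⟩ := h1 ((U.toScheme.presheaf.map (eqToHom (image_morphismRestrict_preimage i A ⊤)).op).hom c)
      exact ⟨z, (ConcreteCategory.bijective_of_isIso
        (U.toScheme.presheaf.map (eqToHom (image_morphismRestrict_preimage i A ⊤)).op)).1 hz⟩
    rwa [Scheme.Opens.ι_image_top] at h2
  obtain ⟨_, ⟨V, hV, rfl⟩, hzV, -⟩ :=
    S.isBasis_affineOpens.exists_subset_of_mem_open (Set.mem_univ (π (i ⟨x, hx⟩))) isOpen_univ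
  obtain ⟨g, hg, hzg⟩ := hA.exists_basicOpen_le (V := π ⁻¹ᵁ V) ⟨i ⟨x, hx⟩, hzV⟩ hzA
  have hB : IsAffineOpen (P.basicOpen g) := hA.basicOpen g
  have hW : IsAffineOpen (i ⁻¹ᵁ P.basicOpen g) := by
    rw [Scheme.preimage_basicOpen]; exact hW0.basicOpen _
  have eW : i ⁻¹ᵁ P.basicOpen g ≤ i ⁻¹ᵁ A := i.preimage_mono (P.basicOpen_le g)
  letI a1 : Algebra Γ(S, V) Γ(P, P.basicOpen g) := (π.appLE V _ hg).hom.toAlgebra
  letI a2 : Algebra Γ(P, P.basicOpen g) Γ(U, i ⁻¹ᵁ P.basicOpen g) := (i.app _).hom.toAlgebra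
  letI a0 : Algebra Γ(P, A) Γ(U, i ⁻¹ᵁ A) := (i.app A).hom.toAlgebra
  letI b1 : Algebra Γ(P, A) Γ(P, P.basicOpen g) := (P.presheaf.map (homOfLE (P.basicOpen_le g)).op).hom.toAlgebra
  letI b2 : Algebra Γ(U, i ⁻¹ᵁ A) Γ(U, i ⁻¹ᵁ P.basicOpen g) :=
    (U.toScheme.presheaf.map (homOfLE eW).op).hom.toAlgebra
  letI b3 : Algebra Γ(P, A) Γ(U, i ⁻¹ᵁ P.basicOpen g) := ((algebraMap _ _).comp (i.app A).hom).toAlgebra
  haveI : IsScalarTower Γ(P, A) Γ(U, i ⁻¹ᵁ A) Γ(U, i ⁻¹ᵁ P.basicOpen g) := .of_algebraMap_eq' rfl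
  haveI : IsScalarTower Γ(P, A) Γ(P, P.basicOpen g) Γ(U, i ⁻¹ᵁ P.basicOpen g) :=
    .of_algebraMap_eq' (congrArg CommRingCat.Hom.hom (i.naturality (homOfLE (P.basicOpen_le g)).op).symm)
  haveI := hA.isLocalization_basicOpen g
  haveI : IsLocalization.Away (algebraMap Γ(P, A) Γ(U, i ⁻¹ᵁ A) g) Γ(U, i ⁻¹ᵁ P.basicOpen g) :=
    hW0.isLocalization_of_eq_basicOpen _ (homOfLE eW) (Scheme.preimage_basicOpen i g)
  have hk : LCI.IsKoszulRegularIdeal (RingHom.ker (algebraMap Γ(P, A) Γ(U, i ⁻¹ᵁ A))) := by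
    rw [show RingHom.ker (algebraMap Γ(P, A) Γ(U, i ⁻¹ᵁ A)) = Ideal.ofList rs from hker]
    exact isKoszulRegularIdeal_ofList rs hrs
  have h2 := isLCI_localization (B' := Γ(P, P.basicOpen g)) (C' := Γ(U, i ⁻¹ᵁ P.basicOpen g)) g hsurj hk
  have h1 : LCI.IsLCI Γ(S, V) Γ(P, P.basicOpen g) :=
    ((S9287.result _ _).1 ((S9363.result π).1 (S9699.result π) ⟨_, hB⟩ ⟨V, hV⟩ hg)).2
  letI a3 : Algebra Γ(S, V) Γ(U, i ⁻¹ᵁ P.basicOpen g) := ((algebraMap _ _).comp (π.appLE V _ hg).hom).toAlgebra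
  haveI : IsScalarTower Γ(S, V) Γ(P, P.basicOpen g) Γ(U, i ⁻¹ᵁ P.basicOpen g) := .of_algebraMap_eq' rfl
  have h3 := FlatMor67.isLCI_trans h1 h2
  have e' : U.ι ''ᵁ (i ⁻¹ᵁ P.basicOpen g) ≤ f ⁻¹ᵁ V := by
    rintro _ ⟨y, hy, rfl⟩
    have h4 : π (i y) ∈ V := hg hy
    rwa [← Scheme.Hom.comp_apply, hfac, Scheme.Hom.comp_apply] at h4
  refine ⟨⟨_, hW.image_of_isOpenImmersion U.ι⟩, ⟨V, hV⟩, e', ⟨⟨x, hx⟩, hzg, rfl⟩, ?_⟩
  letI := (f.appLE V (U.ι ''ᵁ (i ⁻¹ᵁ P.basicOpen g)) e').hom.toAlgebra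
  refine FlatMor67.isLCI_of_algEquiv
    (AlgEquiv.ofRingEquiv (f := (U.ι.appIso (i ⁻¹ᵁ P.basicOpen g)).commRingCatIsoToRingEquiv.symm) ?_) h3
  intro r
  apply (U.ι.appIso (i ⁻¹ᵁ P.basicOpen g)).commRingCatIsoToRingEquiv.injective
  rw [RingEquiv.apply_symm_apply]
  have key : π.appLE V (P.basicOpen g) hg ≫ i.app (P.basicOpen g) =
      f.appLE V _ e' ≫ (U.ι.appIso (i ⁻¹ᵁ P.basicOpen g)).hom := by
    rw [Scheme.Hom.appIso_hom', Scheme.Hom.app_eq_appLE, Scheme.Hom.appLE_comp_appLE, Scheme.Hom.appLE_comp_appLE]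
    congr 1
  exact ConcreteCategory.congr_hom key r

theorem ker_app_basicOpen {R C : CommRingCat.{u}} (φ : R ⟶ C) (g : R) :
    RingHom.ker ((Spec.map φ).app (PrimeSpectrum.basicOpen g)).hom =
      (RingHom.ker φ.hom).map (algebraMap R Γ(Spec R, PrimeSpectrum.basicOpen g)) := by
  letI := φ.hom.toAlgebra
  let D : (Spec R).Opens := PrimeSpectrum.basicOpen g
  have hM : (Submonoid.powers g).map φ.hom = Submonoid.powers (φ.hom g) := Submonoid.map_powers _ g
  have hy : Submonoid.powers g ≤ (Submonoid.powers (φ.hom g)).comap φ.hom := hM ▸ Submonoid.le_comap_map _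
  haveI : IsLocalization.Away (φ.hom g) Γ(Spec C, (Spec.map φ) ⁻¹ᵁ D) :=
    inferInstanceAs (IsLocalization.Away (φ.hom g) Γ(Spec C, PrimeSpectrum.basicOpen (φ.hom g)))
  haveI : IsLocalization.Away g Γ(Spec R, D) :=
    inferInstanceAs (IsLocalization.Away g Γ(Spec R, PrimeSpectrum.basicOpen g))
  have hmap : ((Spec.map φ).app D).hom = IsLocalization.map Γ(Spec C, (Spec.map φ) ⁻¹ᵁ D) φ.hom hy := by
    refine IsLocalization.ringHom_ext (Submonoid.powers g) ?_
    ext b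
    simp only [RingHom.coe_comp, Function.comp_apply, IsLocalization.map_eq]
    have hn := ConcreteCategory.congr_hom ((Spec.map φ).naturality (homOfLE le_top : D ⟶ ⊤).op)
      ((Scheme.ΓSpecIso R).inv b)
    have hn2 := ConcreteCategory.congr_hom (Scheme.ΓSpecIso_inv_naturality φ) b
    simp only [CommRingCat.comp_apply] at hn hn2
    exact hn.trans (congrArg _ hn2.symm)
  change RingHom.ker ((Spec.map φ).app D).hom = _
  rw [hmap, IsLocalization.ker_map _ φ.hom hM]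

theorem isRegularImmersionAt_of_surjective {Z : Scheme.{u}} {R C : CommRingCat.{u}} (φ : R ⟶ C)
    (hφ : Function.Surjective φ) (hk : LCI.IsKoszulRegularIdeal (RingHom.ker φ.hom)) (e : Z ≅ Spec C) (z : Z) :
    RegImm.IsRegularImmersionAt .koszul (e.hom ≫ Spec.map φ) z := by
  haveI : IsClosedImmersion (Spec.map φ) := IsClosedImmersion.spec_of_surjective φ hφ
  have hmem : RingHom.ker φ.hom ≤ ((e.hom ≫ Spec.map φ) z).asIdeal := fun a ha => by
    show φ.hom a ∈ (e.hom z).asIdeal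
    rw [show φ.hom a = 0 from ha]; exact Ideal.zero_mem _
  obtain ⟨g, hg, l, hl, hI⟩ := hk ((e.hom ≫ Spec.map φ) z) hmem
  let D : (Spec R).Opens := PrimeSpectrum.basicOpen g
  have hD : IsAffineOpen D := by
    have h0 := (isAffineOpen_top (Spec R)).basicOpen ((Scheme.ΓSpecIso R).inv g)
    rwa [basicOpen_eq_of_affine] at h0
  haveI : IsLocalization.Away g Γ(Spec R, D) :=
    inferInstanceAs (IsLocalization.Away g Γ(Spec R, PrimeSpectrum.basicOpen g))
  let E : Localization.Away g ≃ₐ[R] Γ(Spec R, D) := IsLocalization.algEquiv (Submonoid.powers g) _ _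
  refine ⟨⟨D, hD⟩, hg, IsZariskiLocalAtTarget.restrict (inferInstance : IsClosedImmersion (e.hom ≫ Spec.map φ)) D,
    l.map E, ?_, ?_⟩
  · show LCI.IsKoszulRegularSeq Γ(Spec R, D) (l.map E)
    letI := E.toRingEquiv.toRingHom.toAlgebra
    haveI : Module.Flat (Localization.Away g) Γ(Spec R, D) :=
      Module.Flat.of_linearEquiv (AddEquiv.toLinearEquiv E.toRingEquiv.toAddEquiv
        (fun a b => map_mul E.toRingEquiv a b) : Localization.Away g ≃ₗ[Localization.Away g] Γ(Spec R, D)).symm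
    exact (Koszul19.kR_iff _).1 ((Koszul19.kR_iff l).2 hl).map
  · show RingHom.ker ((e.hom ≫ Spec.map φ).app D).hom = _
    rw [Scheme.Hom.comp_app]
    refine (RingHom.ker_comp_of_injective ((Spec.map φ).app D).hom
      (f := (e.hom.app (Spec.map φ ⁻¹ᵁ D)).hom) (ConcreteCategory.bijective_of_isIso _).1).trans ?_
    rw [ker_app_basicOpen φ g, show (algebraMap R Γ(Spec R, PrimeSpectrum.basicOpen g)) =
        (E.toRingEquiv.toRingHom).comp (algebraMap R (Localization.Away g)) from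
        RingHom.ext fun a => (E.commutes a).symm, ← Ideal.map_map]
    rw [show (Ideal.map (algebraMap R (Localization.Away g)) (RingHom.ker φ.hom)) = Ideal.ofList l from hI,
      LCI19.map_ofList]
    rfl

theorem isKoszulAt_of_lci {X S : Scheme.{u}} (f : X ⟶ S) (x : X) {U : X.Opens} (hU : IsAffineOpen U)
    {V : S.Opens} (hV : IsAffineOpen V) (e : U ≤ f ⁻¹ᵁ V) (hx : x ∈ U)
    (h : letI := (f.appLE V U e).hom.toAlgebra; LCI.IsLCI Γ(S, V) Γ(X, U)) : Synt.IsKoszulAt f x := by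
  letI := (f.appLE V U e).hom.toAlgebra
  obtain ⟨-, n, α, hα, hk⟩ := h
  let R := CommRingCat.of (MvPolynomial (Fin n) Γ(S, V))
  let φ : R ⟶ Γ(X, U) := CommRingCat.ofHom α.toRingHom
  let ψ : Γ(S, V) ⟶ R := CommRingCat.ofHom MvPolynomial.C
  let i : (U : Scheme.{u}) ⟶ Spec R := hU.isoSpec.hom ≫ Spec.map φ
  haveI : IsClosedImmersion (Spec.map φ) := IsClosedImmersion.spec_of_surjective φ hα
  haveI hsm : Smooth (Spec.map ψ) := by
    rw [HasRingHomProperty.Spec_iff (P := @Smooth)]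
    show RingHom.Smooth (algebraMap Γ(S, V) (MvPolynomial (Fin n) Γ(S, V)))
    rw [RingHom.smooth_algebraMap]
    exact ⟨inferInstance, inferInstance⟩
  have hψφ : ψ ≫ φ = f.appLE V U e := by
    ext1
    exact α.comp_algebraMap
  have hcomp : i ≫ Spec.map ψ ≫ hV.fromSpec = U.ι ≫ f := by
    simp only [i, Category.assoc]
    rw [← Spec.map_comp_assoc, hψφ, hV.SpecMap_appLE_fromSpec f hU, IsAffineOpen.isoSpec_hom_fromSpec_assoc]
  haveI : IsClosedImmersion i := inferInstance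
  refine ⟨U, Spec R, i, Spec.map ψ ≫ hV.fromSpec, hx, ?_,
    ⟨inferInstance, isRegularImmersionAt_of_surjective φ hα hk hU.isoSpec⟩, inferInstance, hcomp⟩
  rw [← hcomp]; infer_instance

theorem t9758 {X S : Scheme.{u}} (f : X ⟶ S) :
    (Flat f ∧ ∀ x : X, Synt.IsKoszulAt f x) ↔ Synt.IsSyntomicMor f := by
  constructor
  · rintro ⟨hfl, h⟩ x
    obtain ⟨U, V, e, hx, hlci⟩ := exists_lci_of_isKoszulAt f x (h x)
    refine ⟨U, V, e, hx, ?_⟩
    letI := (f.appLE V.1 U.1 e).hom.toAlgebra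
    exact (S9287.result _ _).2 ⟨f.flat_appLE V.2 U.2 e, hlci⟩
  · intro h
    have key := (S9363.result f).1 h
    refine ⟨(HasRingHomProperty.iff_appLE (P := @Flat)).2 fun V U e => ?_, fun x => ?_⟩
    · letI := (f.appLE V.1 U.1 e).hom.toAlgebra
      exact ((S9287.result _ _).1 (key U V e)).1
    · obtain ⟨U, V, e, hx, hs⟩ := h x
      letI := (f.appLE V.1 U.1 e).hom.toAlgebra
      exact isKoszulAt_of_lci f x U.2 V.2 e hx ((S9287.result _ _).1 hs).2

end Groth.Agent.FlatMor68.KoszulSyntomic
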