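import Groth.Agent.Koszul19.Seq
import Groth.Prelude.Def_RegImm
import Mathlib.AlgebraicGeometry.Morphisms.Smooth
import Mathlib.AlgebraicGeometry.Morphisms.Immersion

/-! Regular immersions are Koszul at every point (S9773). -/

set_option autoImplicit false
set_option backward.isDefEq.respectTransparency.types false
set_option linter.style.haveILetI false

universe u

open CategoryTheory Limits AlgebraicGeometry

namespace Groth.Agent.FlatMor68.RegKoszul

theorem t9773 {Z X : Scheme.{u}} (i : Z ⟶ X) (k : RegImm.Kind)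
    (hk : k = RegImm.Kind.regular ∨ k = RegImm.Kind.koszul) (hi : RegImm.IsRegularImmersion k i) (z : Z) :
    Synt.IsKoszulAt i z := by
  obtain ⟨himm, hat⟩ := hi
  haveI := himm
  refine ⟨⊤, X, (⊤ : Z.Opens).ι ≫ i, 𝟙 X, Set.mem_univ z, inferInstance, ⟨inferInstance, fun w => ?_⟩,
    inferInstance, Category.comp_id _⟩
  obtain ⟨U, hU, hcl, rs, hrs, hker⟩ := hat ((⊤ : Z.Opens).ι.base w)
  haveI := hcl
  haveI : IsIso (⊤ : Z.Opens).ι := inferInstanceAs (IsIso Z.topIso.hom)
  refine ⟨U, hU, ?_, rs, ?_, ?_⟩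
  · rw [morphismRestrict_comp]
    haveI : IsClosedImmersion ((⊤ : Z.Opens).ι ∣_ (i ⁻¹ᵁ U.1)) := inferInstance
    exact MorphismProperty.comp_mem _ _ _ ‹_› hcl
  · rcases hk with rfl | rfl
    · exact (Koszul19.kR_iff rs).1 (Koszul19.kR_of_isWeaklyRegular rs hrs.toIsWeaklyRegular)
    · exact hrs
  · rw [Scheme.Hom.comp_app]
    show RingHom.ker (RingHom.comp ((⊤ : Z.Opens).ι.app (i ⁻¹ᵁ U.1)).hom (i.app U.1).hom) = _
    exact (RingHom.ker_comp_of_injective _ (ConcreteCategory.bijective_of_isIso _).1).trans hker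

end Groth.Agent.FlatMor68.RegKoszul
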