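import Groth.Agent.FlatMor68.LCICalc
import Groth.Agent.FlatMor68.KoszulSyntomic
import Groth.Agent.FlatMor68.RegKoszul

set_option backward.isDefEq.respectTransparency.types false
set_option linter.style.haveILetI false
set_option autoImplicit false
universe u

open CategoryTheory CategoryTheory.Limits AlgebraicGeometry

namespace Groth.Agent.FlatMor68.KoszulCalc

open LCICalc KoszulSyntomic

def lciProp : MorphismProperty Scheme.{u} :=
  affineLocally (fun {R S} [CommRing R] [CommRing S] => @LCIHom R S _ _)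

instance : HasRingHomProperty lciProp.{u} (fun {R S} [CommRing R] [CommRing S] => @LCIHom R S _ _) where
  isLocal_ringHomProperty := lciHom_isLocal
  eq_affineLocally' := rfl

variable {X Y Z : Scheme.{u}}

theorem forall_isKoszulAt_iff (f : X ⟶ Y) : (∀ x, Synt.IsKoszulAt f x) ↔ lciProp f := by
  rw [HasRingHomProperty.iff_exists_appLE (P := lciProp.{u}) lciHom_source]
  constructor
  · intro h x
    obtain ⟨U, V, e, hx, hs⟩ := exists_lci_of_isKoszulAt f x (h x)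
    exact ⟨V, U, hx, e, hs⟩
  · intro h x
    obtain ⟨V, U, hx, e, hs⟩ := h x
    exact isKoszulAt_of_lci f x U.2 V.2 e hx hs

theorem lci_appLE {f : X ⟶ Y} (hf : lciProp f) {U : X.Opens} (hU : IsAffineOpen U) {V : Y.Opens}
    (hV : IsAffineOpen V) (e : U ≤ f ⁻¹ᵁ V) :
    letI := (f.appLE V U e).hom.toAlgebra
    LCI.IsLCI Γ(Y, V) Γ(X, U) :=
  HasRingHomProperty.appLE lciProp f hf ⟨V, hV⟩ ⟨U, hU⟩ e

theorem exists_charts (f : X ⟶ Y) (g : Y ⟶ Z) (x : X) :
    ∃ (U : X.Opens) (_ : IsAffineOpen U) (V : Y.Opens) (_ : IsAffineOpen V) (W : Z.Opens) (_ : IsAffineOpen W)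
      (_ : U ≤ f ⁻¹ᵁ V) (_ : V ≤ g ⁻¹ᵁ W), x ∈ U := by
  obtain ⟨_, ⟨W, hW, rfl⟩, hxW, -⟩ :=
    Z.isBasis_affineOpens.exists_subset_of_mem_open (Set.mem_univ (g (f x))) isOpen_univ
  obtain ⟨_, ⟨V, hV, rfl⟩, hxV, hVW⟩ := Y.isBasis_affineOpens.exists_subset_of_mem_open hxW (g ⁻¹ᵁ W).isOpen
  obtain ⟨_, ⟨U, hU, rfl⟩, hxU, hUV⟩ :=
    X.isBasis_affineOpens.exists_subset_of_mem_open (show x ∈ f ⁻¹ᵁ V from hxV) (f ⁻¹ᵁ V).isOpen
  exact ⟨U, hU, V, hV, W, hW, hUV, hVW, hxU⟩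

theorem lciProp_comp (f : X ⟶ Y) (g : Y ⟶ Z) (hf : lciProp f) (hg : lciProp g) : lciProp (f ≫ g) := by
  rw [← forall_isKoszulAt_iff]
  intro x
  obtain ⟨U, hU, V, hV, W, hW, e₁, e₂, hx⟩ := exists_charts f g x
  refine isKoszulAt_of_lci _ x hU hW (e₁.trans (f.preimage_mono e₂)) hx ?_
  letI := (g.appLE W V e₂).hom.toAlgebra
  letI := (f.appLE V U e₁).hom.toAlgebra
  letI := ((f ≫ g).appLE W U (e₁.trans (f.preimage_mono e₂))).hom.toAlgebra
  haveI : IsScalarTower Γ(Z, W) Γ(Y, V) Γ(X, U) := .of_algebraMap_eq'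
    (congrArg CommRingCat.Hom.hom (Scheme.Hom.appLE_comp_appLE f g W V U e₂ e₁).symm)
  exact FlatMor67.isLCI_trans (lci_appLE hg hV hW e₂) (lci_appLE hf hU hV e₁)

theorem lciProp_of_comp_smooth (f : X ⟶ Y) (g : Y ⟶ Z) [Smooth g] (h : lciProp (f ≫ g)) : lciProp f := by
  rw [← forall_isKoszulAt_iff]
  intro x
  obtain ⟨U, hU, V, hV, W, hW, e₁, e₂, hx⟩ := exists_charts f g x
  refine isKoszulAt_of_lci _ x hU hV e₁ hx ?_
  letI := (g.appLE W V e₂).hom.toAlgebra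
  letI := (f.appLE V U e₁).hom.toAlgebra
  letI := ((f ≫ g).appLE W U (e₁.trans (f.preimage_mono e₂))).hom.toAlgebra
  haveI : IsScalarTower Γ(Z, W) Γ(Y, V) Γ(X, U) := .of_algebraMap_eq'
    (congrArg CommRingCat.Hom.hom (Scheme.Hom.appLE_comp_appLE f g W V U e₂ e₁).symm)
  haveI : Algebra.Smooth Γ(Z, W) Γ(Y, V) := HasRingHomProperty.appLE @Smooth g ‹_› ⟨W, hW⟩ ⟨V, hV⟩ e₂
  exact isLCI_of_comp_smooth Γ(Z, W) Γ(Y, V) Γ(X, U) (lci_appLE h hU hW _)

theorem lciProp_smooth (f : X ⟶ Y) [Smooth f] : lciProp f := by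
  rw [HasRingHomProperty.iff_appLE (P := lciProp.{u})]
  intro V U e
  letI := (f.appLE V.1 U.1 e).hom.toAlgebra
  haveI : Algebra.Smooth Γ(Y, V.1) Γ(X, U.1) := HasRingHomProperty.appLE @Smooth f ‹_› V U e
  exact isLCI_of_smooth Γ(Y, V.1) Γ(X, U.1)

theorem lciProp_of_isRegularImmersion (i : X ⟶ Y) (h : RegImm.IsRegularImmersion .koszul i) : lciProp i :=
  (forall_isKoszulAt_iff i).1 (RegKoszul.t9773 i .koszul (Or.inr rfl) h)

theorem isClosedImmersion_restrict (i : X ⟶ Y) [IsImmersion i] {A : Y.Opens} (hA : A ≤ i.coborderRange) :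
    IsClosedImmersion (i ∣_ A) := by
  have e : i.liftCoborder ≫ i.coborderRange.ι = i := i.liftCoborder_ι
  have h2 : IsClosedImmersion ((i.liftCoborder ≫ i.coborderRange.ι) ∣_ A) := by
    rw [morphismRestrict_comp]
    haveI : IsIso (i.coborderRange.ι ∣_ A) := by
      haveI : Epi (i.coborderRange.ι ∣_ A).base := (TopCat.epi_iff_surjective _).2 fun y => by
        obtain ⟨w, hw⟩ : (A.ι y) ∈ Set.range i.coborderRange.ι := by
          rw [Scheme.Opens.range_ι]; exact hA y.2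
        exact ⟨⟨w, show i.coborderRange.ι w ∈ A from hw ▸ y.2⟩, Subtype.ext
          ((congrArg (fun k : _ ⟶ Y => k _) (morphismRestrict_ι i.coborderRange.ι A)).trans hw)⟩
      exact IsOpenImmersion.isIso _
    haveI : IsClosedImmersion (i.liftCoborder ∣_ (i.coborderRange.ι ⁻¹ᵁ A)) :=
      IsZariskiLocalAtTarget.restrict (P := @IsClosedImmersion) inferInstance _
    exact MorphismProperty.RespectsIso.postcomp (P := @IsClosedImmersion) _ _ ‹_›
  rwa [e] at h2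

theorem isRegularImmersionAt_of_lciProp (i : X ⟶ Y) (h : lciProp i) {A : Y.Opens} (hA : IsAffineOpen A)
    (hclA : IsClosedImmersion (i ∣_ A)) (z : X) (hzA : i z ∈ A) : RegImm.IsRegularImmersionAt .koszul i z := by
  haveI := hclA
  haveI : IsAffine A.toScheme := hA
  haveI : IsAffine (i ⁻¹ᵁ A).toScheme := isAffine_of_isAffineHom (i ∣_ A)
  have hW : IsAffineOpen (i ⁻¹ᵁ A) := ‹IsAffine (i ⁻¹ᵁ A).toScheme›
  have hsurj : Function.Surjective (i.app A) := by
    have h1 : Function.Surjective (i ∣_ A).appTop := (i ∣_ A).app_surjective ⊤ (isAffineOpen_top _)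
    rw [morphismRestrict_appTop] at h1
    have h2 : Function.Surjective (i.app (A.ι ''ᵁ ⊤)) := fun c => by
      obtain ⟨y, hy⟩ := h1 ((X.presheaf.map (eqToHom (image_morphismRestrict_preimage i A ⊤)).op).hom c)
      exact ⟨y, (ConcreteCategory.bijective_of_isIso
        (X.presheaf.map (eqToHom (image_morphismRestrict_preimage i A ⊤)).op)).1 hy⟩
    rwa [Scheme.Opens.ι_image_top] at h2
  letI a0 : Algebra Γ(Y, A) Γ(X, i ⁻¹ᵁ A) := (i.app A).hom.toAlgebra
  have hlci : LCI.IsLCI Γ(Y, A) Γ(X, i ⁻¹ᵁ A) := by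
    have := lci_appLE h hW hA (le_refl _)
    rwa [← Scheme.Hom.app_eq_appLE] at this
  have hk : LCI.IsKoszulRegularIdeal (RingHom.ker (i.app A).hom) := by
    obtain ⟨-, n, α, hα, hkα⟩ := hlci
    let e := MvPolynomial.isEmptyAlgEquiv Γ(Y, A) (Fin 0)
    let β : MvPolynomial (Fin 0) Γ(Y, A) →ₐ[Γ(Y, A)] Γ(X, i ⁻¹ᵁ A) := (Algebra.ofId _ _).comp e.toAlgHom
    have h2 := (LCI19.isKoszulRegularIdeal_ker_indep α hα β (hsurj.comp e.surjective)).1 hkα
    rw [show RingHom.ker β.toRingHom = (RingHom.ker (i.app A).hom).comap e.toRingEquiv.toRingHom from rfl] at h2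
    exact (LCI19.isKoszulRegularIdeal_comap_equiv e.toRingEquiv).1 h2
  let zp := hA.primeIdealOf ⟨i z, hzA⟩
  have hzp : RingHom.ker (i.app A).hom ≤ zp.asIdeal := by
    intro a ha
    by_contra hna
    have h1 : i z ∈ Y.basicOpen a := by
      have h0 : hA.fromSpec zp ∈ Y.basicOpen a := by rw [← hA.fromSpec_image_basicOpen]; exact ⟨_, hna, rfl⟩
      rwa [hA.fromSpec_primeIdealOf] at h0
    have h2 : z ∈ i ⁻¹ᵁ Y.basicOpen a := h1
    rw [Scheme.preimage_basicOpen, show i.app A a = 0 from ha, Scheme.basicOpen_zero] at h2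
    exact h2
  obtain ⟨g, hg, l, hl, hI⟩ := hk zp hzp
  haveI := hA.isLocalization_basicOpen g
  have eW : i ⁻¹ᵁ Y.basicOpen g ≤ i ⁻¹ᵁ A := i.preimage_mono (Y.basicOpen_le g)
  letI b1 : Algebra Γ(Y, A) Γ(Y, Y.basicOpen g) := (Y.presheaf.map (homOfLE (Y.basicOpen_le g)).op).hom.toAlgebra
  letI b2 : Algebra Γ(X, i ⁻¹ᵁ A) Γ(X, i ⁻¹ᵁ Y.basicOpen g) := (X.presheaf.map (homOfLE eW).op).hom.toAlgebra
  haveI : IsLocalization.Away ((i.app A).hom g) Γ(X, i ⁻¹ᵁ Y.basicOpen g) :=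
    hW.isLocalization_of_eq_basicOpen _ (homOfLE eW) (Scheme.preimage_basicOpen i g)
  have hM : (Submonoid.powers g).map (i.app A).hom = Submonoid.powers ((i.app A).hom g) := Submonoid.map_powers _ g
  have hy : Submonoid.powers g ≤ (Submonoid.powers ((i.app A).hom g)).comap (i.app A).hom := hM ▸ Submonoid.le_comap_map _
  have hmap : (i.app (Y.basicOpen g)).hom = IsLocalization.map Γ(X, i ⁻¹ᵁ Y.basicOpen g) (i.app A).hom hy := by
    refine IsLocalization.ringHom_ext (Submonoid.powers g) ?_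
    ext b
    simp only [RingHom.coe_comp, Function.comp_apply, IsLocalization.map_eq]
    exact ConcreteCategory.congr_hom (i.naturality (homOfLE (Y.basicOpen_le g)).op) b
  let E : Localization.Away g ≃ₐ[Γ(Y, A)] Γ(Y, Y.basicOpen g) := IsLocalization.algEquiv (Submonoid.powers g) _ _
  refine ⟨⟨_, hA.basicOpen g⟩, ?_, ?_, l.map E, ?_, ?_⟩
  · have h0 : hA.fromSpec zp ∈ Y.basicOpen g := by rw [← hA.fromSpec_image_basicOpen]; exact ⟨_, hg, rfl⟩
    rwa [hA.fromSpec_primeIdealOf] at h0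
  · show IsClosedImmersion (i ∣_ Y.basicOpen g)
    have := IsZariskiLocalAtTarget.restrict hclA (A.ι ⁻¹ᵁ Y.basicOpen g)
    refine ((MorphismProperty.arrow_mk_iso_iff @IsClosedImmersion (morphismRestrictRestrict i A _ ≪≫
      morphismRestrictEq i ?_))).1 this
    rw [Scheme.Hom.image_preimage_eq_opensRange_inf, Scheme.Opens.opensRange_ι, inf_eq_right]
    exact Y.basicOpen_le g
  · show LCI.IsKoszulRegularSeq Γ(Y, Y.basicOpen g) (l.map E)
    letI := E.toRingEquiv.toRingHom.toAlgebra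
    haveI : Module.Flat (Localization.Away g) Γ(Y, Y.basicOpen g) :=
      Module.Flat.of_linearEquiv (AddEquiv.toLinearEquiv E.toRingEquiv.toAddEquiv
        (fun a b => map_mul E.toRingEquiv a b) : Localization.Away g ≃ₗ[Localization.Away g] Γ(Y, Y.basicOpen g)).symm
    exact (Koszul19.kR_iff _).1 ((Koszul19.kR_iff l).2 hl).map
  · show RingHom.ker (i.app (Y.basicOpen g)).hom = _
    rw [hmap, IsLocalization.ker_map _ (i.app A).hom hM, show algebraMap Γ(Y, A) Γ(Y, Y.basicOpen g) =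
        E.toRingEquiv.toRingHom.comp (algebraMap Γ(Y, A) (Localization.Away g)) from
        RingHom.ext fun a => (E.commutes a).symm, ← Ideal.map_map]
    rw [show (Ideal.map (algebraMap Γ(Y, A) (Localization.Away g)) (RingHom.ker (i.app A).hom)) = Ideal.ofList l from hI,
      LCI19.map_ofList]
    rfl

/-- An lci immersion is Koszul-regular. -/
theorem isRegularImmersion_of_lciProp (i : X ⟶ Y) [IsImmersion i] (h : lciProp i) :
    RegImm.IsRegularImmersion .koszul i := by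
  refine ⟨inferInstance, fun z => ?_⟩
  obtain ⟨_, ⟨A, hA, rfl⟩, hzA, hAO⟩ :=
    Y.isBasis_affineOpens.exists_subset_of_mem_open (show i z ∈ i.coborderRange from subset_coborder ⟨z, rfl⟩)
      i.coborderRange.isOpen
  exact isRegularImmersionAt_of_lciProp i h hA (isClosedImmersion_restrict i hAO) z hzA

theorem t9729 {S : Scheme.{u}} (f : X ⟶ Y) (g : Y ⟶ S) [Smooth g]
    (h : ∀ x : X, Synt.IsKoszulAt (f ≫ g) x) (x : X) : Synt.IsKoszulAt f x :=
  (forall_isKoszulAt_iff f).2 (lciProp_of_comp_smooth f g ((forall_isKoszulAt_iff _).1 h)) x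

theorem t9728 {S U P P' : Scheme.{u}} (q : U ⟶ S)
    (p : P ⟶ S) (p' : P' ⟶ S) [Smooth p] [Smooth p'] (i : U ⟶ P) (i' : U ⟶ P') [IsImmersion i] [IsImmersion i']
    (hi : i ≫ p = q) (hi' : i' ≫ p' = q) (u : U) :
    (∃ V : U.Opens, u ∈ V ∧ RegImm.IsRegularImmersion RegImm.Kind.koszul (V.ι ≫ i)) ↔
      (∃ V : U.Opens, u ∈ V ∧ RegImm.IsRegularImmersion RegImm.Kind.koszul (V.ι ≫ i')) := by
  have key : ∀ {P₁ P₂ : Scheme.{u}} (p₁ : P₁ ⟶ S) (p₂ : P₂ ⟶ S) [Smooth p₁] [Smooth p₂] (j₁ : U ⟶ P₁) (j₂ : U ⟶ P₂)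
      [IsImmersion j₂] (_ : j₁ ≫ p₁ = j₂ ≫ p₂) (V : U.Opens),
      RegImm.IsRegularImmersion RegImm.Kind.koszul (V.ι ≫ j₁) → RegImm.IsRegularImmersion RegImm.Kind.koszul (V.ι ≫ j₂) := by
    intro P₁ P₂ p₁ p₂ _ _ j₁ j₂ _ e V h
    refine isRegularImmersion_of_lciProp _ (lciProp_of_comp_smooth _ p₂ ?_)
    rw [Category.assoc, ← e, ← Category.assoc]
    exact lciProp_comp _ _ (lciProp_of_isRegularImmersion _ h) (lciProp_smooth p₁)
  exact ⟨fun ⟨V, hu, h⟩ => ⟨V, hu, key p p' i i' (hi.trans hi'.symm) V h⟩,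
    fun ⟨V, hu, h⟩ => ⟨V, hu, key p' p i' i (hi'.trans hi.symm) V h⟩⟩

theorem t8661 (f : X ⟶ Y) (g : Y ⟶ Z)
    (hf : ∀ x : X, Synt.IsKoszulAt f x) (hg : ∀ y : Y, Synt.IsKoszulAt g y) : ∀ x : X, Synt.IsKoszulAt (f ≫ g) x :=
  (forall_isKoszulAt_iff _).2 (lciProp_comp f g ((forall_isKoszulAt_iff f).1 hf) ((forall_isKoszulAt_iff g).1 hg))

theorem t8656 (f : X ⟶ Y) (hf : ∀ x : X, Synt.IsKoszulAt f x)
    (p : Z ⟶ Y) [Smooth p] (i : X ⟶ Z) [IsImmersion i] (h : i ≫ p = f) :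
    RegImm.IsRegularImmersion .koszul i :=
  isRegularImmersion_of_lciProp i (lciProp_of_comp_smooth i p (h.symm ▸ (forall_isKoszulAt_iff f).1 hf))

theorem t8657 {V V' : Scheme.{u}} (i : X ⟶ V) [IsImmersion i] (j : X ⟶ V') [IsImmersion j]
    (p : V' ⟶ V) [Smooth p] (h : j ≫ p = i) :
    RegImm.IsRegularImmersion .koszul i ↔ RegImm.IsRegularImmersion .koszul j := by
  constructor
  · intro hi
    exact isRegularImmersion_of_lciProp j (lciProp_of_comp_smooth j p (h.symm ▸ lciProp_of_isRegularImmersion i hi))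
  · intro hj
    exact isRegularImmersion_of_lciProp i (h ▸ lciProp_comp j p (lciProp_of_isRegularImmersion j hj) (lciProp_smooth p))

end Groth.Agent.FlatMor68.KoszulCalc
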