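import Groth.Agent.FlatMor68.KoszulCancel
import Groth.Agent.FlatMor68.KoszulCalc
import Groth.Agent.FlatMor68.KoszulPerfect
import Groth.Agent.RelGCI94.LiftQuot
import Groth.Agent.RelGCI94.SyntProperty
import Groth.Agent.RelGCI94.SyntKoszul
import Groth.Agent.RelGCI94.Koszul
import Groth.Agent.LCI19.Target
import Groth.Agent.LCI19.DescentIdeal
import Groth.Agent.S0113

set_option backward.isDefEq.respectTransparency.types false
set_option linter.style.haveILetI false
set_option autoImplicit false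
universe u

open CategoryTheory CategoryTheory.Limits AlgebraicGeometry TensorProduct
open Groth.Agent.RelGCI94

namespace Groth.Agent.FlatMor68.SyntomicDescent

/-- Cancellation with the lci hypothesis on an algebra with a polynomial model. -/
theorem cancel_aux {A R S R' T : Type u} [CommRing A] [CommRing R] [CommRing S] [CommRing R'] [CommRing T]
    [Algebra A R] [Algebra R S] [Algebra A T] (hs : Function.Surjective (algebraMap R S)) (G : List R)
    (hker : RingHom.ker (algebraMap R S) = Ideal.ofList G) (hG : Koszul19.KR G)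
    (φ : R →+* R') (hφ : Function.Surjective φ) (hG' : Koszul19.KR (G.map φ))
    (π : R →ₐ[A] T) (hπ : Function.Surjective π)
    (hπker : RingHom.ker π.toRingHom = (Ideal.ofList (G.map φ)).comap φ)
    {N : ℕ} (e : MvPolynomial (Fin N) A ≃ₐ[A] R) (hT : LCI.IsLCI A T) :
    LCI.IsKoszulRegularIdeal (((Ideal.ofList (G.map φ)).comap φ).map (algebraMap R S)) := by
  refine KoszulCancel.isKoszulRegularIdeal_map_of_cancel hs G hker hG φ hφ hG' ?_
  have h1 := LCI19.isKoszulRegularIdeal_ker_of_isLCI hT (π.comp e.toAlgHom) (hπ.comp e.surjective)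
  have h2 : RingHom.ker (π.comp e.toAlgHom).toRingHom =
      ((Ideal.ofList (G.map φ)).comap φ).comap e.toRingEquiv.toRingHom := by
    rw [← hπker]; rfl
  rw [h2] at h1
  exact (LCI19.isKoszulRegularIdeal_comap_equiv e.toRingEquiv).1 h1

set_option maxHeartbeats 1000000 in
/-- A quotient of a relative global complete intersection by an ideal from the base. -/
theorem isKoszulRegularIdeal_map_relGCI {A P : Type u} [CommRing A] [CommRing P] [Algebra A P] {n : ℕ}
    (eP : MvPolynomial (Fin n) A ≃ₐ[A] P)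
    (I : Ideal P) {m c : ℕ} (G : Fin c → MvPolynomial (Fin m) P)
    (hG : Synt.IsRelGCI P m c G) (T : Type u) [CommRing T] [Algebra A T]
    [Algebra P T] [IsScalarTower A P T]
    (e : T ≃ₐ[P] (Synt.RelGCIRing P m c G ⧸ I.map (algebraMap P (Synt.RelGCIRing P m c G))))
    (hT : LCI.IsLCI A T) :
    LCI.IsKoszulRegularIdeal (I.map (algebraMap P (Synt.RelGCIRing P m c G))) := by
  let R := MvPolynomial (Fin m) P
  let E := Synt.RelGCIRing P m c G
  let Gl : List R := List.ofFn G
  have hspan : Ideal.span (Set.range G) = Ideal.ofList Gl := (Koszul19.ofList_ofFn G).symm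
  let φ : R →+* MvPolynomial (Fin m) (P ⧸ I) := MvPolynomial.map (Ideal.Quotient.mk I)
  have hφ : Function.Surjective φ := MvPolynomial.map_surjective _ Ideal.Quotient.mk_surjective
  obtain ⟨K, hKdef⟩ : ∃ K : Ideal R, K = (Ideal.ofList (Gl.map φ)).comap φ := ⟨_, rfl⟩
  have hφker : RingHom.ker φ = I.map MvPolynomial.C := by
    rw [show φ = MvPolynomial.map (Ideal.Quotient.mk I) from rfl, MvPolynomial.ker_map, Ideal.mk_ker]
  have hK : K = Ideal.ofList Gl ⊔ I.map MvPolynomial.C := by
    rw [hKdef, show Ideal.ofList (Gl.map φ) = (Ideal.ofList Gl).map φ from (Ideal.map_ofList φ Gl).symm, Ideal.comap_map_of_surjective _ hφ, ← RingHom.ker_eq_comap_bot, hφker]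
  let π₀' : R →ₐ[A] T := ((e.symm.toAlgHom.comp (Ideal.Quotient.mkₐ P _)).comp
    (Ideal.Quotient.mkₐ P (Ideal.span (Set.range G)))).restrictScalars A
  have hπ₀' : Function.Surjective π₀' :=
    (e.symm.surjective.comp Ideal.Quotient.mk_surjective).comp Ideal.Quotient.mk_surjective
  have hker₀' : RingHom.ker π₀'.toRingHom = K := by
    rw [hK, ← hspan]
    have h1 : RingHom.ker π₀'.toRingHom = (I.map (algebraMap P E)).comap (Ideal.Quotient.mk (Ideal.span (Set.range G))) := by
      ext x
      show e.symm (Ideal.Quotient.mk _ (Ideal.Quotient.mk _ x)) = 0 ↔ _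
      rw [map_eq_zero_iff _ e.symm.injective, Ideal.Quotient.eq_zero_iff_mem, Ideal.mem_comap]
    rw [h1, show algebraMap P E = (Ideal.Quotient.mk (Ideal.span (Set.range G))).comp MvPolynomial.C from rfl,
      ← Ideal.map_map, Ideal.comap_map_of_surjective _ Ideal.Quotient.mk_surjective, ← RingHom.ker_eq_comap_bot,
      Ideal.mk_ker, sup_comm]
  obtain ⟨π₀, hπ₀, hker₀⟩ : ∃ π : R →ₐ[A] T, Function.Surjective π ∧ RingHom.ker π.toRingHom = K :=
    ⟨π₀', hπ₀', hker₀'⟩
  clear hker₀' hπ₀'
  let eR : MvPolynomial (Fin (m + n)) A ≃ₐ[A] R :=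
    ((MvPolynomial.renameEquiv A finSumFinEquiv.symm).trans (MvPolynomial.sumAlgEquiv A (Fin m) (Fin n))).trans
      (MvPolynomial.mapAlgEquiv (Fin m) eP)
  have hGφ : Koszul19.KR (Gl.map φ) := by
    rw [List.map_ofFn]
    exact kR_ofFn _ _ _ _ (isRelGCI_map (A := P ⧸ I) G hG)
  have hsR : Function.Surjective (algebraMap R (R ⧸ Ideal.span (Set.range G))) := Ideal.Quotient.mk_surjective
  have hkerR : RingHom.ker (algebraMap R (R ⧸ Ideal.span (Set.range G))) = Ideal.ofList Gl := by
    rw [Ideal.Quotient.algebraMap_eq, Ideal.mk_ker, hspan]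
  have hkrG : Koszul19.KR Gl := kR_ofFn P m c G hG
  rw [hKdef] at hker₀
  have hcancel := cancel_aux (A := A) (T := T) (R' := MvPolynomial (Fin m) (P ⧸ I)) (R := R) (S := R ⧸ Ideal.span (Set.range G)) hsR Gl hkerR hkrG φ hφ hGφ
    π₀ hπ₀ hker₀ eR hT
  rw [← hKdef] at hcancel
  have hEq : K.map (algebraMap R (R ⧸ Ideal.span (Set.range G))) = I.map (algebraMap P E) := by
    rw [hK, Ideal.map_sup, Ideal.map_map, ← hspan, Ideal.Quotient.algebraMap_eq, Ideal.map_quotient_self, bot_sup_eq]
    rfl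
  rwa [hEq] at hcancel

theorem isUnit_away {P E : Type u} [CommRing P] [CommRing E] [Algebra P E] (g : P) :
    IsUnit (((algebraMap E (Localization.Away (algebraMap P E g))).comp (algebraMap P E)) g) :=
  IsLocalization.Away.algebraMap_isUnit (S := Localization.Away (algebraMap P E g)) (algebraMap P E g)

theorem faithfullyFlat_away {P E : Type u} [CommRing P] [CommRing E] [Algebra P E] [Module.Flat P E] (g : P)
    (hg : ∀ p : PrimeSpectrum P, g ∉ p.asIdeal → ∃ r, PrimeSpectrum.comap (algebraMap P E) r = p) :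
    letI := (IsLocalization.Away.lift (S := Localization.Away g) g
      (isUnit_away (E := E) g)).toAlgebra
    Module.FaithfullyFlat (Localization.Away g) (Localization.Away (algebraMap P E g)) := by
  let Eg := Localization.Away (algebraMap P E g)
  let Pg := Localization.Away g
  have hu : IsUnit (((algebraMap E Eg).comp (algebraMap P E)) g) := isUnit_away g
  letI := (IsLocalization.Away.lift (S := Pg) g hu).toAlgebra
  haveI : IsScalarTower P Pg Eg :=
    IsScalarTower.of_algebraMap_eq fun a => (IsLocalization.Away.lift_eq g hu a).symm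
  haveI : Module.Flat P Eg := Module.Flat.trans P E Eg
  haveI := LCI19.flat_over_localization (Submonoid.powers g) Pg Eg
  refine Module.FaithfullyFlat.of_comap_surjective fun y => ?_
  let p := PrimeSpectrum.comap (algebraMap P Pg) y
  have hgp : g ∉ p.asIdeal := fun h =>
    y.2.ne_top (Ideal.eq_top_of_isUnit_mem _ h (IsLocalization.Away.algebraMap_isUnit g))
  obtain ⟨r, hr⟩ := hg p hgp
  have hgr : algebraMap P E g ∉ r.asIdeal := fun h => hgp (by rw [← hr]; exact h)
  obtain ⟨z, hz⟩ : r ∈ Set.range (PrimeSpectrum.comap (algebraMap E Eg)) := by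
    rw [PrimeSpectrum.localization_away_comap_range Eg (algebraMap P E g)]; exact hgr
  refine ⟨z, PrimeSpectrum.localization_comap_injective Pg (Submonoid.powers g) ?_⟩
  show PrimeSpectrum.comap (algebraMap P Pg) (PrimeSpectrum.comap (algebraMap Pg Eg) z) = p
  rw [← PrimeSpectrum.comap_comp_apply, ← IsScalarTower.algebraMap_eq, IsScalarTower.algebraMap_eq P E Eg,
    PrimeSpectrum.comap_comp_apply, hz, hr]

/-- Local complete intersection maps descend along faithfully flat syntomic maps on the source. -/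
theorem isLCI_of_syntomic_faithfullyFlat (A B C : Type u) [CommRing A] [CommRing B] [CommRing C] [Algebra A B]
    [Algebra A C] [Algebra B C] [IsScalarTower A B C] [Module.FaithfullyFlat B C]
    (hBC : Synt.IsSyntomic B C) (hAC : LCI.IsLCI A C) : LCI.IsLCI A B := by
  haveI := hAC.1
  haveI := hBC.2.1
  haveI : Algebra.FiniteType A B := Groth.Agent.S0113.result (R := A) (A := B) (B := C)
  obtain ⟨n, π, hπ⟩ := Algebra.FiniteType.iff_quotient_mvPolynomial''.1 ‹Algebra.FiniteType A B›
  refine ⟨inferInstance, n, π, hπ, (LCI19.isKoszulRegularIdeal_iff _).2 fun p hp => ?_⟩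
  let P := MvPolynomial (Fin n) A
  let I : Ideal P := RingHom.ker π.toRingHom
  let eB : (P ⧸ I) ≃ₐ[A] B := Ideal.quotientKerAlgEquivOfSurjective hπ
  letI aP : Algebra P C := ((algebraMap B C).comp π.toRingHom).toAlgebra
  letI aQ : Algebra (P ⧸ I) C := ((algebraMap B C).comp eB.toRingEquiv.toRingHom).toAlgebra
  haveI : IsScalarTower A P C := .of_algebraMap_eq fun a => by
    show _ = algebraMap B C (π (algebraMap A P a))
    rw [AlgHom.commutes, ← IsScalarTower.algebraMap_apply]
  haveI : IsScalarTower P (P ⧸ I) C := IsScalarTower.mk fun x y z => by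
    obtain ⟨y, rfl⟩ := Ideal.Quotient.mk_surjective y
    show algebraMap B C (π (x * y)) * z = algebraMap B C (π x) * (algebraMap B C (π y) * z)
    rw [map_mul, map_mul, mul_assoc]
  have hQC : Synt.IsSyntomic (P ⧸ I) C :=
    syntomicHom_isLocal.respectsIso.2 (algebraMap B C) eB.toRingEquiv (syntomicHom_algebraMap.2 hBC)
  let q : Ideal B := p.asIdeal.map π.toRingHom
  haveI : q.IsPrime := Ideal.map_isPrime_of_surjective hπ hp
  have hq : q.comap π.toRingHom = p.asIdeal := by
    rw [Ideal.comap_map_of_surjective π.toRingHom hπ, ← RingHom.ker_eq_comap_bot, sup_eq_left.2 hp]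
  obtain ⟨q', hq'⟩ := PrimeSpectrum.comap_surjective_of_faithfullyFlat (B := C) ⟨q, inferInstance⟩
  obtain ⟨a, ha, m₀, c₀, F, hF, ⟨e⟩⟩ := exists_relGCI_at hQC q'.asIdeal
  let T := Localization.Away a
  obtain ⟨m, c, G, hG, ⟨eT⟩⟩ := exists_lift_relGCI P I m₀ c₀ F hF e
  have hTl : LCI.IsLCI A T := FlatMor67.isLCI_trans hAC (LCICalc.isLCI_away a T)
  have hJ := isKoszulRegularIdeal_map_relGCI (AlgEquiv.refl : P ≃ₐ[A] P) I G hG T eT hTl
  let E := Synt.RelGCIRing P m c G
  have hEsyn := isSyntomic_relGCIRing P m c G hG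
  haveI := hEsyn.1
  haveI := hEsyn.2.1
  -- a point of `E` over `p`
  obtain ⟨Q, hQ⟩ : q' ∈ Set.range (PrimeSpectrum.comap (algebraMap C T)) := by
    rw [PrimeSpectrum.localization_away_comap_range T a]; exact ha
  have hp_mem : p ∈ Set.range (PrimeSpectrum.comap (algebraMap P E)) := by
    refine ⟨PrimeSpectrum.comap (eT.symm.toRingEquiv.toRingHom.comp (Ideal.Quotient.mk _)) Q, ?_⟩
    rw [← PrimeSpectrum.comap_comp_apply]
    have : (eT.symm.toRingEquiv.toRingHom.comp (Ideal.Quotient.mk _)).comp (algebraMap P E) = algebraMap P T :=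
      RingHom.ext fun x => eT.symm.commutes x
    rw [this, IsScalarTower.algebraMap_eq P C T, PrimeSpectrum.comap_comp_apply, hQ]
    refine PrimeSpectrum.ext ?_
    show q'.asIdeal.comap ((algebraMap B C).comp π.toRingHom) = p.asIdeal
    rw [← Ideal.comap_comap, show q'.asIdeal.comap (algebraMap B C) = q from congrArg PrimeSpectrum.asIdeal hq', hq]
  have hopen : IsOpen (Set.range (PrimeSpectrum.comap (algebraMap P E))) :=
    (PrimeSpectrum.isOpenMap_comap_of_hasGoingDown_of_finitePresentation).isOpen_range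
  obtain ⟨_, ⟨g, rfl⟩, hgp, hsub⟩ :=
    PrimeSpectrum.isTopologicalBasis_basic_opens.exists_subset_of_mem_open hp_mem hopen
  refine LCI19.krAt_of_away (f := g) (B := Localization.Away g) ?_ p hp hgp
  let Eg := Localization.Away (algebraMap P E g)
  have hu : IsUnit (((algebraMap E Eg).comp (algebraMap P E)) g) := isUnit_away g
  letI := (IsLocalization.Away.lift (S := Localization.Away g) g hu).toAlgebra
  haveI : IsScalarTower P (Localization.Away g) Eg :=
    IsScalarTower.of_algebraMap_eq fun a => (IsLocalization.Away.lift_eq g hu a).symm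
  haveI : Module.FaithfullyFlat (Localization.Away g) Eg := faithfullyFlat_away g fun x hx => hsub hx
  refine LCI19.isKoszulRegularIdeal_descend Eg _ ?_
  rw [Ideal.map_map, ← IsScalarTower.algebraMap_eq, IsScalarTower.algebraMap_eq P E Eg, ← Ideal.map_map]
  exact LCI19.isKoszulRegularIdeal_map hJ

variable {X' X Y : Scheme.{u}}

set_option maxHeartbeats 1000000 in
theorem lciProp_descend (g : X' ⟶ X) (hg : Synt.IsSyntomicMor g) [Surjective g] (f : X ⟶ Y)
    (h : KoszulCalc.lciProp (g ≫ f)) : KoszulCalc.lciProp f := by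
  have hg' := (isSyntomicMor_iff g).1 hg
  obtain ⟨hflat, hlfp⟩ : Flat g ∧ LocallyOfFinitePresentation g := by
    constructor
    · rw [HasRingHomProperty.iff_appLE (P := @Flat)]
      intro V U e
      exact (HasRingHomProperty.appLE syntomicProp g hg' V U e).1
    · rw [HasRingHomProperty.iff_appLE (P := @LocallyOfFinitePresentation)]
      intro V U e
      exact (HasRingHomProperty.appLE syntomicProp g hg' V U e).2.1
  rw [← KoszulCalc.forall_isKoszulAt_iff]
  intro x
  obtain ⟨x', rfl⟩ := g.surjective x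
  obtain ⟨U, hU, V, hV, W, hW, e₁, e₂, hx⟩ := KoszulCalc.exists_charts g f x'
  haveI : UniversallyOpen g := UniversallyOpen.of_flat _
  have hopen : IsOpen (g '' (U : Set X')) := g.isOpenMap U U.2
  obtain ⟨b, hbU, hxb⟩ := hV.exists_basicOpen_le (V := ⟨_, hopen⟩) ⟨g x', ⟨x', hx, rfl⟩⟩ (e₁ hx)
  let V' := X.basicOpen b
  have hV' : IsAffineOpen V' := hV.basicOpen b
  let U' := X'.basicOpen ((g.appLE V U e₁) b)
  have hU' : IsAffineOpen U' := hU.basicOpen _
  have hU'eq : U' = U ⊓ g ⁻¹ᵁ V' := Scheme.basicOpen_appLE ..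
  have e₁' : U' ≤ g ⁻¹ᵁ V' := hU'eq ▸ inf_le_right
  have e₂' : V' ≤ f ⁻¹ᵁ W := (X.basicOpen_le b).trans e₂
  refine KoszulSyntomic.isKoszulAt_of_lci f _ hV' hW e₂' hxb ?_
  letI := (f.appLE W V' e₂').hom.toAlgebra
  letI := (g.appLE V' U' e₁').hom.toAlgebra
  letI := ((g ≫ f).appLE W U' (e₁'.trans (g.preimage_mono e₂'))).hom.toAlgebra
  haveI : IsScalarTower Γ(Y, W) Γ(X, V') Γ(X', U') := .of_algebraMap_eq'
    (congrArg CommRingCat.Hom.hom (Scheme.Hom.appLE_comp_appLE g f W V' U' e₂' e₁').symm)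
  have hsyn : Synt.IsSyntomic Γ(X, V') Γ(X', U') :=
    HasRingHomProperty.appLE syntomicProp g hg' ⟨V', hV'⟩ ⟨U', hU'⟩ e₁'
  haveI := hsyn.1
  haveI : Module.FaithfullyFlat Γ(X, V') Γ(X', U') := by
    refine Module.FaithfullyFlat.of_comap_surjective fun y => ?_
    have hy : hV'.fromSpec y ∈ V' := hV'.range_fromSpec.le ⟨y, rfl⟩
    obtain ⟨u, huU, hu⟩ := hbU hy
    have huU' : u ∈ U' := by
      rw [hU'eq]
      exact ⟨huU, show g u ∈ V' by rw [hu]; exact hy⟩
    refine ⟨hU'.primeIdealOf ⟨u, huU'⟩, ?_⟩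
    apply hV'.fromSpec.isOpenEmbedding.injective
    rw [← hu]
    have h1 := congrArg (fun k : Spec Γ(X', U') ⟶ X => k (hU'.primeIdealOf ⟨u, huU'⟩))
      (hV'.SpecMap_appLE_fromSpec g hU' e₁')
    rw [Scheme.Hom.comp_apply, Scheme.Hom.comp_apply, hU'.fromSpec_primeIdealOf ⟨u, huU'⟩] at h1
    exact h1
  exact isLCI_of_syntomic_faithfullyFlat _ _ _ hsyn (KoszulCalc.lci_appLE h hU' hW _)

theorem t9730 (g : X' ⟶ X) (hg : Synt.IsSyntomicMor g) [Surjective g] (f : X ⟶ Y) :
    (∀ x' : X', Synt.IsKoszulAt (g ≫ f) x') ↔ (∀ x : X, Synt.IsKoszulAt f x) := by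
  rw [KoszulCalc.forall_isKoszulAt_iff, KoszulCalc.forall_isKoszulAt_iff]
  exact ⟨lciProp_descend g hg f, fun h => KoszulCalc.lciProp_comp g f
    ((KoszulCalc.forall_isKoszulAt_iff g).1 ((KoszulSyntomic.t9758 g).2 hg).2) h⟩

end Groth.Agent.FlatMor68.SyntomicDescent
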