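import Groth.Agent.FlatMor68.FreeGenFun
import Groth.Agent.FlatMor68.FibreFree
import Groth.Agent.AlgGrp79.SepDense
import Groth.Agent.Props58.LocFree.Affine
import Groth.Agent.S2768
import Mathlib

set_option backward.isDefEq.respectTransparency.types false
set_option linter.style.haveILetI false
set_option autoImplicit false
universe u

open CategoryTheory CategoryTheory.Limits AlgebraicGeometry Opposite TensorProduct

noncomputable section

namespace Groth.Agent.FlatMor68.FlatTopDim

open Groth.Agent.QC70 Groth.Agent.Props58.LocFree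

theorem eq_genericPoint_fiber {X T : Scheme.{u}} (q : X ⟶ T) [GeometricallyIrreducible q] {ξ : X}
    (hξ : FlatFun.IsGenericPtOfFibre q ξ) : q.asFiber ξ = genericPoint (q.fiber (q ξ)) := by
  refine ((genericPoint_spec (q.fiber (q ξ))).eq ?_).symm
  rw [IsGenericPoint, Set.eq_univ_iff_forall]
  intro z
  rw [← specializes_iff_mem_closure]
  refine (q.fiberι (q ξ)).isEmbedding.specializes_iff.1 ?_
  rw [Scheme.Hom.fiberι_asFiber]
  refine hξ _ ?_
  have : q.fiberι (q ξ) z ∈ Set.range (q.fiberι (q ξ)) := ⟨z, rfl⟩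
  rw [Scheme.Hom.range_fiberι] at this
  exact this

theorem free_stalk_of_flatAt {X T : Scheme.{u}} (q : X ⟶ T) [Smooth q] [GeometricallyIrreducible q]
    (F : X.Modules) [CohB1.IsFP F] {ξ : X} (hξ : FlatFun.IsGenericPtOfFibre q ξ)
    (hfl : FlatMod.IsFlatOverAt q F ξ) : Module.Free (X.presheaf.stalk ξ) (F.presheaf.stalk ξ) := by
  have hs : Smooth (q.fiberToSpecResidueField (q ξ)) := MorphismProperty.pullback_snd _ _ ‹Smooth q›
  haveI : IsReduced (q.fiber (q ξ)) :=
    @AlgGrp79.isReduced_of_smooth (T.residueField (q ξ)) _ _ (q.fiberToSpecResidueField (q ξ)) hs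
  haveI : IsIntegral (q.fiber (q ξ)) := isIntegral_of_irreducibleSpace_of_isReduced _
  have hz := q.fiberι_asFiber ξ
  refine FibreFree.free_stalk_congr F hz (FibreFree.free_of_free_fiber q F (q ξ) (q.asFiber ξ) (hz.symm ▸ hfl) ?_)
  rw [eq_genericPoint_fiber q hξ]
  letI : Field ((q.fiber (q ξ)).presheaf.stalk (genericPoint (q.fiber (q ξ)))) :=
    inferInstanceAs (Field (q.fiber (q ξ)).functionField)
  exact Module.Free.of_divisionRing _ _

theorem isFlatOverAt_of_free {X T : Scheme.{u}} (q : X ⟶ T) [Flat q] (F : X.Modules) (x : X)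
    (h : Module.Free (X.presheaf.stalk x) (F.presheaf.stalk x)) : FlatMod.IsFlatOverAt q F x := by
  unfold FlatMod.IsFlatOverAt
  letI := (q.stalkMap x).hom.toAlgebra
  letI := FlatMod.moduleStalkOver q F x
  haveI : IsScalarTower (T.presheaf.stalk (q x)) (X.presheaf.stalk x) (F.presheaf.stalk x) :=
    .of_algebraMap_smul fun r m => rfl
  haveI : Module.Flat (T.presheaf.stalk (q x)) (X.presheaf.stalk x) := Flat.stalkMap q x
  haveI := h
  exact Module.Flat.trans (T.presheaf.stalk (q x)) (X.presheaf.stalk x) (F.presheaf.stalk x)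

theorem isFreeOfRankNear_of_free {X : Scheme.{u}} (F : X.Modules) [CohB1.IsFP F] (x : X)
    (h : Module.Free (X.presheaf.stalk x) (F.presheaf.stalk x)) :
    FlatFun.IsFreeOfRankNear F (Module.finrank (X.presheaf.stalk x) (F.presheaf.stalk x)) x := by
  obtain ⟨_, ⟨U, hU, rfl⟩, hx, -⟩ :=
    X.isBasis_affineOpens.exists_subset_of_mem_open (Set.mem_univ x) isOpen_univ
  haveI := finitePresentation_sections F hU
  letI := stalkModule F hx
  letI : Algebra Γ(X, U) (X.presheaf.stalk x) := (X.presheaf.germ U x hx).hom.toAlgebra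
  haveI : IsScalarTower Γ(X, U) (X.presheaf.stalk x) (F.presheaf.stalk x) :=
    IsScalarTower.of_algebraMap_smul fun _ _ => rfl
  haveI : IsLocalization.AtPrime (X.presheaf.stalk x) (hU.primeIdealOf ⟨x, hx⟩).asIdeal :=
    hU.isLocalization_stalk ⟨x, hx⟩
  haveI := isLocalizedModule_germ (isLocAt_of_isQuasicoherent F hU) hU hx
  haveI := h
  obtain ⟨r, hr, h1, h2⟩ := Module.FinitePresentation.exists_free_localizedModule_powers
    (hU.primeIdealOf ⟨x, hx⟩).asIdeal.primeCompl (germLinear F hx) (X.presheaf.stalk x)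
  letI := resAlg (X.basicOpen_le r)
  letI := resModule F (X.basicOpen_le r)
  haveI := isScalarTower_res (M := F) (X.basicOpen_le r)
  haveI := hU.isLocalization_basicOpen r
  haveI := isLocalizedModule_resLin F (isLocAt_of_isQuasicoherent F hU) r
  have hfree : Module.Free Γ(X, X.basicOpen r) Γ(F, X.basicOpen r) :=
    free_of_localization_free (Submonoid.powers r) (resLin F (X.basicOpen_le r)) h1
  have hxr : x ∈ X.basicOpen r := by
    have h0 : hU.fromSpec (hU.primeIdealOf ⟨x, hx⟩) ∈ X.basicOpen r := by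
      rw [← hU.fromSpec_image_basicOpen]; exact ⟨_, hr, rfl⟩
    have h1 := hU.fromSpec_primeIdealOf ⟨x, hx⟩
    exact (h1 ▸ h0 : ((⟨x, hx⟩ : U) : X) ∈ X.basicOpen r)
  haveI := finitePresentation_sections F (hU.basicOpen r)
  haveI : Nonempty (X.basicOpen r) := ⟨⟨x, hxr⟩⟩
  haveI : Nontrivial Γ(X, X.basicOpen r) := by
    haveI : Nontrivial (X.presheaf.stalk x) := inferInstance
    exact (X.presheaf.germ (X.basicOpen r) x hxr).hom.domain_nontrivial
  have hs := stalkBasis_of_basis (hU.basicOpen r) (Module.finBasis Γ(X, X.basicOpen r) Γ(F, X.basicOpen r))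
  have he := (hs.stalkEquiv x hxr).finrank_eq
  rw [Module.finrank_fin_fun] at he
  rw [← he]
  exact FreeGenFun.isFreeOfRankNear_iff.2 ⟨_, _, hxr, hs⟩

theorem exists_bound {X : Scheme.{u}} [IsAffine X] (F : X.Modules) [CohB1.IsFP F] :
    ∃ c : ℕ, ∀ x : X, ∃ g : Fin c → F.presheaf.stalk x, Submodule.span (X.presheaf.stalk x) (Set.range g) = ⊤ := by
  have hU := isAffineOpen_top X
  haveI := finitePresentation_sections F hU
  obtain ⟨c, m, hm⟩ := Module.Finite.exists_fin (R := Γ(X, ⊤)) (M := Γ(F, ⊤))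
  refine ⟨c, fun x => ⟨fun i => germM F ⊤ x trivial (m i), top_le_iff.1 fun e he0 => ?_⟩⟩
  letI := stalkModule F (U := ⊤) (x := x) trivial
  letI : Algebra Γ(X, ⊤) (X.presheaf.stalk x) := (X.presheaf.germ ⊤ x trivial).hom.toAlgebra
  haveI : IsScalarTower Γ(X, ⊤) (X.presheaf.stalk x) (F.presheaf.stalk x) :=
    IsScalarTower.of_algebraMap_smul fun _ _ => rfl
  haveI : IsLocalization.AtPrime (X.presheaf.stalk x) (hU.primeIdealOf ⟨x, trivial⟩).asIdeal :=
    hU.isLocalization_stalk ⟨x, trivial⟩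
  haveI := isLocalizedModule_germ (isLocAt_of_isQuasicoherent F hU) hU (x := x) trivial
  obtain ⟨⟨z, s⟩, rfl⟩ := IsLocalizedModule.mk'_surjective (hU.primeIdealOf ⟨x, trivial⟩).asIdeal.primeCompl
    (germLinear F (U := ⊤) (x := x) trivial) e
  obtain ⟨v, hv⟩ := (IsLocalization.map_units (X.presheaf.stalk x) s).exists_left_inv
  have he : IsLocalizedModule.mk' (germLinear F (U := ⊤) (x := x) trivial) z s =
      v • germM F ⊤ x trivial z := by
    have h0 := IsLocalizedModule.mk'_cancel' (germLinear F (U := ⊤) (x := x) trivial) z s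
    change s.1 • _ = germM F ⊤ x trivial z at h0
    rw [← algebraMap_smul (X.presheaf.stalk x) (s : Γ(X, ⊤))] at h0
    rw [← h0, smul_smul, hv, one_smul]
  simp only [Function.uncurry_apply_pair, he]
  refine Submodule.smul_mem _ v ?_
  clear he he0
  have hz : z ∈ Submodule.span Γ(X, ⊤) (Set.range m) := hm ▸ Submodule.mem_top
  induction hz using Submodule.span_induction with
  | mem y hy => obtain ⟨i, rfl⟩ := hy; exact Submodule.subset_span ⟨i, rfl⟩
  | zero => rw [germM_zero]; exact Submodule.zero_mem _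
  | add y y' _ _ h1 h2 => rw [germM_add]; exact Submodule.add_mem _ h1 h2
  | smul a y _ h1 => rw [germM_smul]; exact Submodule.smul_mem _ _ h1

theorem finrank_pullback_le {X Y : Scheme.{u}} (f : X ⟶ Y) (M : Y.Modules) (x : X) {c : ℕ}
    (g : Fin c → M.presheaf.stalk (f x)) (hg : Submodule.span (Y.presheaf.stalk (f x)) (Set.range g) = ⊤) :
    Module.finrank (X.presheaf.stalk x) (((Scheme.Modules.pullback f).obj M).presheaf.stalk x) ≤ c := by
  letI := (f.stalkMap x).hom.toAlgebra
  letI := Module.compHom (((Scheme.Modules.pullback f).obj M).presheaf.stalk x) (f.stalkMap x).hom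
  haveI : IsScalarTower (Y.presheaf.stalk (f x)) (X.presheaf.stalk x)
      (((Scheme.Modules.pullback f).obj M).presheaf.stalk x) :=
    IsScalarTower.of_algebraMap_smul fun r e => rfl
  have h : Submodule.span (X.presheaf.stalk x) (Set.range fun i => DCK91.pullη f M x (g i)) = ⊤ := by
    rw [eq_top_iff]
    intro z hz0
    clear hz0
    induction z using (DCK91.isBaseChange_pullη f M x).inductionOn with
    | zero => exact Submodule.zero_mem _
    | tmul m =>
      have hm : m ∈ Submodule.span (Y.presheaf.stalk (f x)) (Set.range g) := hg ▸ Submodule.mem_top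
      induction hm using Submodule.span_induction with
      | mem y hy => obtain ⟨i, rfl⟩ := hy; exact Submodule.subset_span ⟨i, rfl⟩
      | zero => rw [map_zero]; exact Submodule.zero_mem _
      | add y y' _ _ h1 h2 => rw [map_add]; exact Submodule.add_mem _ h1 h2
      | smul a y _ h1 => rw [map_smul, ← algebraMap_smul (X.presheaf.stalk x) a]; exact Submodule.smul_mem _ _ h1
    | smul s n hn => exact Submodule.smul_mem _ s hn
    | add n1 n2 h1 h2 => exact Submodule.add_mem _ h1 h2
  exact (finrank_le_of_span_eq_top h).trans (Fintype.card_fin c).le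

theorem t9029 {X S : Scheme.{u}} [IsAffine X] (f : X ⟶ S) (d : ℕ) [SmoothOfRelativeDimension d f]
    [GeometricallyIrreducible f] (F : X.Modules) [Coh.IsQCoh F] (hF : CohB1.IsFP F) :
    ∃ c : ℕ, ∀ T : Over S,
      (FlatFun.DimFibresLT d (PicF.XTproj f T)
        {x | ¬ FlatMod.IsFlatOverAt (PicF.XTproj f T) (FGA.ET f F T) x}) ↔
      ∀ t : T.left, ∃ (V : T.left.Opens) (p : ℕ), t ∈ V ∧ p ≤ c ∧
        FlatFun.FreeAtGenericPts (PicF.XTproj f (Over.mk (V.ι ≫ T.hom)))
          (FGA.ET f F (Over.mk (V.ι ≫ T.hom))) p := by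
  haveI : Smooth f := SmoothOfRelativeDimension.smooth d f
  haveI := hF
  obtain ⟨c, hc⟩ := exists_bound F
  refine ⟨c, fun T => ?_⟩
  haveI : SmoothOfRelativeDimension d (pullback.snd f T.hom) :=
    haveI := smoothOfRelativeDimension_isStableUnderBaseChange d
    MorphismProperty.pullback_snd _ _ inferInstance
  haveI : CohB1.IsFP (FGA.ET f F T) := LimTop61.isFP_pullback _ F
  rw [FlatDimFun.dimFibresLT_iff]
  have hdim : ∀ ξ, FlatFun.IsGenericPtOfFibre (pullback.snd f T.hom) ξ → E4O.fdeg (pullback.snd f T.hom) ξ = d := by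
    intro ξ hξ
    have h1 := Groth.Agent.S2768.result d (pullback.snd f T.hom) ξ
    rw [E4O.fibreDimAt_eq_fdeg (f := pullback.snd f T.hom) fun z hz hfz => ((hξ z hfz).antisymm hz).eq.symm] at h1
    exact_mod_cast h1
  constructor
  · intro h t
    obtain ⟨ξ, hξt, hξ⟩ := FreeGenFun.exists_generic (pullback.snd f T.hom) t
    have hfl : FlatMod.IsFlatOverAt (pullback.snd f T.hom) (FGA.ET f F T) ξ := by
      by_contra hn
      exact absurd (hdim ξ hξ) (h ξ hn).ne
    have hfree := free_stalk_of_flatAt (pullback.snd f T.hom) (FGA.ET f F T) hξ hfl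
    set p := Module.finrank ((pullback f T.hom).presheaf.stalk ξ) ((FGA.ET f F T).presheaf.stalk ξ) with hp
    obtain ⟨U, s, hξU, hs⟩ := FreeGenFun.isFreeOfRankNear_iff.1 (isFreeOfRankNear_of_free _ ξ hfree)
    let V : T.left.Opens := ⟨pullback.snd f T.hom '' (U : Set _), (pullback.snd f T.hom).isOpenMap _ U.isOpen⟩
    refine ⟨V, p, ⟨ξ, hξU, hξt⟩, ?_, fun t' => ?_⟩
    · obtain ⟨g, hg⟩ := hc (pullback.fst f T.hom ξ)
      exact finrank_pullback_le (pullback.fst f T.hom) F ξ g hg
    · let j : Over.mk (V.ι ≫ T.hom) ⟶ T := Over.homMk V.ι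
      obtain ⟨x', hx', hgen'⟩ := FreeGenFun.exists_generic (pullback.snd f (Over.mk (V.ι ≫ T.hom)).hom) t'
      obtain ⟨ξ', hξ'q, hξ'⟩ := FreeGenFun.exists_generic (pullback.snd f T.hom) (V.ι t')
      obtain ⟨u, hu, hut⟩ : V.ι t' ∈ (V : Set T.left) := t'.2
      have hb := FreeGenFun.isGeneric_map (PullbackDescent.bc_isPullback f j) hξ' hgen' (by rw [hξ'q, hx']; rfl)
      refine ⟨x', hx', hgen', FreeGenFun.isFreeOfRankNear_of_iso (FlatDimFun.etIso f F j)
        (FreeGenFun.isFreeOfRankNear_pullback _ x' ?_)⟩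
      rw [hb]
      exact FreeGenFun.isFreeOfRankNear_iff.2 ⟨U, s, (hξ' u (hut.trans hξ'q.symm)).mem_open U.isOpen hu, hs⟩
  · intro h x hx
    obtain ⟨ξ, hξt, hξ⟩ := FreeGenFun.exists_generic (pullback.snd f T.hom) (pullback.snd f T.hom x)
    have hne : ξ ≠ x := by
      rintro rfl
      apply hx
      obtain ⟨V, p, htV, -, hV⟩ := h (pullback.snd f T.hom ξ)
      let j : Over.mk (V.ι ≫ T.hom) ⟶ T := Over.homMk V.ι
      haveI : Flat (PullbackDescent.bc f j) := by
        haveI : IsOpenImmersion j.left := inferInstanceAs (IsOpenImmersion V.ι)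
        exact MorphismProperty.of_isPullback (PullbackDescent.bc_isPullback f j).flip inferInstance
      obtain ⟨x', hx', hgen', hfree'⟩ := hV ⟨_, htV⟩
      have hb := FreeGenFun.isGeneric_map (PullbackDescent.bc_isPullback f j) hξ hgen'
        (by rw [show pullback.snd f (Over.mk (V.ι ≫ T.hom)).hom x' = ⟨_, htV⟩ from hx']; rfl)
      haveI : CohB1.IsFT (FGA.ET f F T) := inferInstance
      obtain ⟨e⟩ := FreeGenFun.stalk_free_descent (PullbackDescent.bc f j) x'
        (FreeGenFun.isFreeOfRankNear_of_iso (FlatDimFun.etIso f F j).symm hfree')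
      exact hb ▸ isFlatOverAt_of_free (pullback.snd f T.hom) _ _ (Module.Free.of_equiv e)
    have := E4O.fdeg_lt (f := pullback.snd f T.hom) (hξ x hξt.symm) hξt hne
    rwa [hdim ξ hξ] at this

end Groth.Agent.FlatMor68.FlatTopDim
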