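import Groth.Agent.RelGCI94.OverField
import Groth.Agent.RelGCI94.FieldBC
import Groth.Agent.RelGCI94.SmoothSyn
import Groth.Agent.CAlg9.CIT.Completion
import Groth.Agent.S9143
import Groth.Agent.S9365
import Groth.Agent.FlatMor68.KoszulSyntomic
import Groth.Prelude.Def_CInt

set_option backward.isDefEq.respectTransparency.types false
set_option linter.style.haveILetI false
set_option autoImplicit false
universe u

open CategoryTheory CategoryTheory.Limits AlgebraicGeometry TensorProduct IsLocalRing
open Groth.Agent.RelGCI94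

namespace Groth.Agent.FlatMor68.CIFibres

theorem isCIOver_iff_ci (k S : Type u) [Field k] [CommRing S] [IsLocalRing S] [Algebra k S]
    [Algebra.EssFiniteType k S] : Synt.IsCIOver k S ↔ Pi1.IsCompleteIntersection S := by
  constructor
  · rintro ⟨R, _, _, _, _, rs, hm, hreg, ⟨e⟩⟩
    rw [CAlg9.CIT.isCompleteIntersection_iff_isRegularIdeal
      (e.symm.toRingEquiv.toRingHom.comp (Ideal.Quotient.mk (Ideal.ofList rs)))
      (e.symm.surjective.comp Ideal.Quotient.mk_surjective)]
    refine ⟨rs, hreg, ?_⟩
    ext x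
    simp [RingHom.mem_ker, Ideal.Quotient.eq_zero_iff_mem]
  · intro h
    obtain ⟨ι, _, P, _, Φ, hΦ⟩ := S9143.exists_pres k S
    have : Algebra.EssFiniteType (MvPolynomial ι k) (Localization.AtPrime P) :=
      Algebra.EssFiniteType.of_isLocalization _ P.primeCompl
    have : Algebra.EssFiniteType k (Localization.AtPrime P) :=
      Algebra.EssFiniteType.comp k (MvPolynomial ι k) _
    have : IsRegularLocalRing (Localization.AtPrime P) := IsRegularRing.isRegularLocalRing_localization P
    obtain ⟨rs, hreg, hrs⟩ :=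
      (CAlg9.CIT.isCompleteIntersection_iff_isRegularIdeal Φ.toRingHom hΦ).1 h
    refine ⟨_, inferInstance, inferInstance, inferInstance, inferInstance, rs, fun r hr => ?_, hreg,
      ⟨(Ideal.quotientKerAlgEquivOfSurjective hΦ).symm.trans (Ideal.quotientEquivAlgOfEq k hrs.symm)⟩⟩
    exact IsLocalRing.le_maximalIdeal (RingHom.ker_ne_top Φ.toRingHom) (hrs ▸ Ideal.subset_span hr)

theorem ciAt_iff_ci {k : Type u} [Field k] {X : Scheme.{u}} (p : X ⟶ Spec (CommRingCat.of k))
    [LocallyOfFiniteType p] (x : X) : CIAt p x ↔ Pi1.IsCompleteIntersection (X.presheaf.stalk x) := by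
  obtain ⟨U, hU, hxU, -⟩ := exists_isAffineOpen_mem_and_subset (U := (⊤ : X.Opens)) (x := x) trivial
  let := (secHom p U).hom.toAlgebra
  have hft : Algebra.FiniteType k Γ(X, U) := by
    have h1 : (p.appLE ⊤ U (topLE p U)).hom.FiniteType :=
      HasRingHomProperty.appLE @LocallyOfFiniteType p ‹_› ⟨⊤, isAffineOpen_top _⟩ ⟨U, hU⟩ (topLE p U)
    exact RingHom.finiteType_algebraMap.1 (h1.comp
      (RingHom.FiniteType.of_surjective _ (ConcreteCategory.bijective_of_isIso (Scheme.ΓSpecIso (CommRingCat.of k)).inv).2))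
  rw [ciAt_iff p hU x hxU]
  set q := (hU.primeIdealOf ⟨x, hxU⟩).asIdeal
  haveI : Algebra.EssFiniteType Γ(X, U) (Localization.AtPrime q) :=
    Algebra.EssFiniteType.of_isLocalization _ q.primeCompl
  haveI : Algebra.EssFiniteType k (Localization.AtPrime q) := Algebra.EssFiniteType.comp k Γ(X, U) _
  rw [isCIOver_iff_ci]
  let := X.presheaf.algebra_section_stalk (⟨x, hxU⟩ : U)
  have : IsLocalization.AtPrime (X.presheaf.stalk x) q := hU.isLocalization_stalk ⟨x, hxU⟩
  let e := (IsLocalization.algEquiv q.primeCompl (X.presheaf.stalk x) (Localization.AtPrime q)).toRingEquiv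
  haveI : IsNoetherianRing Γ(X, U) := Algebra.FiniteType.isNoetherianRing k _
  haveI : IsNoetherianRing (Localization.AtPrime q) := IsLocalization.isNoetherianRing q.primeCompl _ inferInstance
  haveI : IsNoetherianRing (X.presheaf.stalk x) := isNoetherianRing_of_ringEquiv _ e.symm
  exact ⟨CAlg9.CIT.isCompleteIntersection_of_ringEquiv e.symm, CAlg9.CIT.isCompleteIntersection_of_ringEquiv e⟩

theorem isSyntomic_baseChange {R S : Type u} [CommRing R] [CommRing S] [Algebra R S] (A : Type u) [CommRing A]
    [Algebra R A] (h : Synt.IsSyntomic R S) : Synt.IsSyntomic A (A ⊗[R] S) := by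
  refine isSyntomic_of_local fun Q => ?_
  let q : Ideal S := Q.asIdeal.comap (Algebra.TensorProduct.includeRight.toRingHom : S →+* A ⊗[R] S)
  obtain ⟨a, ha, n, c, F, hF, ⟨e⟩⟩ := exists_relGCI_at h q
  refine ⟨(1 : A) ⊗ₜ[R] a, ha, isSyntomic_away_of_relGCI _ _ (isRelGCI_map (A := A) F hF)
    (((IsLocalization.Away.tensorProductEquivTMulRight R A a (Localization.Away a)).symm.trans
      (Algebra.TensorProduct.congr AlgEquiv.refl e)).trans (baseChangePresEquiv A F))⟩

theorem syntomicHom_isStableUnderBaseChange :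
    RingHom.IsStableUnderBaseChange (fun {R S} [CommRing R] [CommRing S] => @SyntomicHom R S _ _) := by
  refine RingHom.IsStableUnderBaseChange.mk syntomicHom_isLocal.respectsIso ?_
  intro R S T _ _ _ _ _ h
  exact syntomicHom_algebraMap.2 (isSyntomic_baseChange S (syntomicHom_algebraMap.1 h))

theorem syntomicProp_stable : syntomicProp.{u}.IsStableUnderBaseChange :=
  HasRingHomProperty.isStableUnderBaseChange syntomicHom_isStableUnderBaseChange

theorem t8660 {X Y : Scheme.{u}} (f : X ⟶ Y) [Flat f] [LocallyOfFinitePresentation f] :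
    (∀ x : X, Synt.IsKoszulAt f x) ↔ CInt.IsCIMorphism f := by
  have h1 : (∀ x : X, Synt.IsKoszulAt f x) ↔ Synt.IsSyntomicMor f :=
    ⟨fun h => (KoszulSyntomic.t9758 f).1 ⟨inferInstance, h⟩, fun h => ((KoszulSyntomic.t9758 f).2 h).2⟩
  rw [h1]
  constructor
  · intro h
    refine ⟨inferInstance, inferInstance, fun x => ?_⟩
    haveI : LocallyOfFiniteType (f.fiberToSpecResidueField (f x)) :=
      MorphismProperty.pullback_snd (P := @LocallyOfFiniteType) _ _ inferInstance
    have hs : Synt.IsSyntomicMor (f.fiberToSpecResidueField (f x)) := (isSyntomicMor_iff _).2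
      (haveI := syntomicProp_stable.{u};
        MorphismProperty.pullback_snd (P := syntomicProp.{u}) _ _ ((isSyntomicMor_iff f).1 h))
    let p : f.fiber (f x) ⟶ Spec (CommRingCat.of (Y.residueField (f x))) := f.fiberToSpecResidueField (f x)
    haveI : LocallyOfFiniteType p := ‹LocallyOfFiniteType (f.fiberToSpecResidueField (f x))›
    have hall : ∀ z, CIAt p z := ((tfae_overField p).out 0 2).1 hs
    exact (ciAt_iff_ci p (f.asFiber x)).1 (hall (f.asFiber x))
  · rintro ⟨_, _, h⟩
    refine Groth.Agent.S9365.result f fun s => ?_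
    haveI : LocallyOfFiniteType (f.fiberToSpecResidueField s) :=
      MorphismProperty.pullback_snd (P := @LocallyOfFiniteType) _ _ inferInstance
    let p : f.fiber s ⟶ Spec (CommRingCat.of (Y.residueField s)) := f.fiberToSpecResidueField s
    haveI : LocallyOfFiniteType p := ‹LocallyOfFiniteType (f.fiberToSpecResidueField s)›
    have hall : ∀ z, CIAt p z := fun z => (ciAt_iff_ci p z).2 (by
      have key : ∀ (x : X) (t : Y), f x = t → ∀ w : f.fiber t, f.fiberι t w = x →
          Pi1.IsCompleteIntersection ((f.fiber t).presheaf.stalk w) := by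
        rintro x _ rfl w hw
        obtain rfl : w = f.asFiber x := (f.fiberι _).isEmbedding.injective (hw.trans (f.fiberι_asFiber x).symm)
        exact h x
      exact key _ s ((f.range_fiberι s).le ⟨z, rfl⟩) z rfl)
    exact ((tfae_overField p).out 0 2).2 hall

end Groth.Agent.FlatMor68.CIFibres
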