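import Groth.Statements.S13097
import Groth.Agent.UH57.Basic
import Groth.Agent.FlatMor66.Thickening
import Mathlib.AlgebraicGeometry.ZariskisMainTheorem

set_option autoImplicit false
universe u
open CategoryTheory CategoryTheory.Limits AlgebraicGeometry TopologicalSpace

namespace Groth.Agent.FlatMor68.SchDense

theorem dense_of_isSchematicallyDense {X : Scheme.{u}} (U : X.Opens) (h : CInt.IsSchematicallyDense U) :
    Dense (U : Set X) := by
  rw [dense_iff_inter_open]
  intro W hW hne
  by_contra hc
  obtain ⟨x, hx⟩ := hne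
  let V : X.Opens := ⟨W, hW⟩
  have he : V ⊓ U = ⊥ := Opens.ext (Set.not_nonempty_iff_eq_empty.1 hc)
  haveI : Subsingleton Γ(X, V ⊓ U) := by rw [he]; infer_instance
  have := (h V).subsingleton
  exact zero_ne_one ((map_zero (X.presheaf.germ V x hx).hom).symm.trans
    ((congrArg _ (Subsingleton.elim (0 : Γ(X, V)) 1)).trans (map_one _)))

end Groth.Agent.FlatMor68.SchDense
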