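import Groth.Agent.RegImm10.KoszulBlow
import Groth.Agent.GrCI54.Sop
import Mathlib.RingTheory.Etale.Basic
import Mathlib.RingTheory.Smooth.Basic
import Mathlib.RingTheory.RingHom.Etale

/-!
Charts of the blow-up of affine space in a linear subspace, after étale localization.
-/

set_option autoImplicit false
set_option linter.style.haveILetI false
set_option backward.isDefEq.respectTransparency.types false

noncomputable section

universe u

open scoped TensorProduct
open MvPolynomial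

namespace Groth.Agent.FlatMor68.BlowSmoothAlg

open Groth.Agent Koszul19 RegImm10

theorem isWeaklyRegular_X (R : Type u) [CommRing R] (σ : Type) (k : ℕ) :
    RingTheory.Sequence.IsWeaklyRegular (MvPolynomial (σ ⊕ Fin k) R)
      (List.ofFn fun i : Fin k => (X (Sum.inr i) : MvPolynomial (σ ⊕ Fin k) R)) := by
  refine GrCI54.isWeaklyRegular_of_cancel fun i x hx => ?_
  rw [← Set.image_image (fun s => (X s : MvPolynomial (σ ⊕ Fin k) R)) Sum.inr] at hx ⊢
  rw [mem_ideal_span_X_image] at hx ⊢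
  intro m hm
  obtain ⟨j, hj, hne⟩ := hx (m + Finsupp.single (Sum.inr i) 1) (by
    rw [mem_support_iff, coeff_mul_X]
    exact mem_support_iff.1 hm)
  obtain ⟨j', hj', rfl⟩ := hj
  have hji : (Sum.inr j' : σ ⊕ Fin k) ≠ Sum.inr i := fun h =>
    (ne_of_lt (show j' < i from hj')) (Sum.inr_injective h)
  exact ⟨_, ⟨j', hj', rfl⟩, by simpa [Finsupp.single_eq_of_ne hji] using hne⟩

variable {R A : Type u} [CommRing R] [CommRing A] [Algebra R A] {σ : Type} {t : ℕ}

/-- The chart algebra at the first generator is smooth over the base. -/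
theorem smooth_affineAlgebra [Finite σ] (c : σ → A) (a : Fin (t + 1) → A)
    (het : (MvPolynomial.aeval (Sum.elim c a) : MvPolynomial (σ ⊕ Fin (t + 1)) R →ₐ[R] A).toRingHom.Etale)
    (𝔞 : Ideal A) (h𝔞 : Ideal.span (Set.range a) = 𝔞) :
    Algebra.Smooth R (BlowUp.affineAlgebra A 𝔞 (a 0)) := by
  let P := MvPolynomial (σ ⊕ Fin (t + 1)) R
  let Q := MvPolynomial (σ ⊕ (Unit ⊕ Fin t)) R
  let B := BlowUp.affineAlgebra A 𝔞 (a 0)
  letI : Algebra P A := (MvPolynomial.aeval (Sum.elim c a) : P →ₐ[R] A).toRingHom.toAlgebra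
  haveI : IsScalarTower R P A := IsScalarTower.of_algebraMap_eq fun r =>
    (AlgHom.commutes (MvPolynomial.aeval (Sum.elim c a) : P →ₐ[R] A) r).symm
  haveI : Algebra.Etale P A := het
  have hX : ∀ s, algebraMap P A (X s) = Sum.elim c a s := fun s => aeval_X _ s
  -- Koszul regularity
  have ha : KR (List.ofFn a) := by
    have := KR.map (B := A) (kR_of_isWeaklyRegular _ (isWeaklyRegular_X R σ (t + 1)))
    rw [List.map_ofFn] at this
    convert this using 3
    funext i
    exact (hX (Sum.inr i)).symm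
  -- the chart
  have hmem : ∀ j : Fin t, IsLocalization.mk' (Localization.Away (a 0)) (a j.succ)
      (⟨a 0, Submonoid.mem_powers (a 0)⟩ : Submonoid.powers (a 0)) ∈ B := fun j =>
    Algebra.subset_adjoin ⟨a j.succ, h𝔞 ▸ Ideal.subset_span ⟨j.succ, rfl⟩, rfl⟩
  let μ : MvPolynomial (Fin t) A →ₐ[A] B := MvPolynomial.aeval fun j => ⟨_, hmem j⟩
  have hμ : ∀ j, algebraMap A B (a 0) * μ (X j) = algebraMap A B (a j.succ) := fun j => by
    refine Subtype.ext ?_
    simp only [μ, aeval_X]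
    exact IsLocalization.mk'_spec' _ (a j.succ) (⟨a 0, Submonoid.mem_powers (a 0)⟩ : Submonoid.powers (a 0))
  have hμs : Function.Surjective μ := KoszulBlow.surjective a h𝔞 μ hμ
  have hker := KoszulBlow.ker_eq a μ hμ ha
  -- the model
  let φ : P →ₐ[R] Q := MvPolynomial.aeval (Sum.elim (fun s => X (Sum.inl s))
    (Fin.cases (X (Sum.inr (Sum.inl ()))) fun j => X (Sum.inr (Sum.inl ())) * X (Sum.inr (Sum.inr j))))
  letI : Algebra P Q := φ.toRingHom.toAlgebra
  haveI : IsScalarTower R P Q := IsScalarTower.of_algebraMap_eq fun r => (φ.commutes r).symm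
  have hφ : ∀ s, algebraMap P Q (X s) = Sum.elim (fun s => X (Sum.inl s))
      (Fin.cases (X (Sum.inr (Sum.inl ()))) fun j => X (Sum.inr (Sum.inl ())) * X (Sum.inr (Sum.inr j))) s :=
    fun s => aeval_X _ s
  let a' : A →+* B := algebraMap A B
  haveI : IsScalarTower R A B := IsScalarTower.of_algebraMap_eq fun r => Subtype.ext (IsScalarTower.algebraMap_apply R A (Localization.Away (a 0)) r)
  letI : Algebra P B := (a'.comp (algebraMap P A)).toAlgebra
  haveI : IsScalarTower P A B := IsScalarTower.of_algebraMap_eq fun _ => rfl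
  haveI : IsScalarTower R P B := IsScalarTower.of_algebraMap_eq fun r => by
    rw [IsScalarTower.algebraMap_apply R A B, IsScalarTower.algebraMap_apply R P A]; rfl
  let Ψ₀ : Q →ₐ[R] B := MvPolynomial.aeval (Sum.elim (fun s => a' (c s))
    (Sum.elim (fun _ => a' (a 0)) fun j => μ (X j)))
  have hΨ : Ψ₀.comp φ = IsScalarTower.toAlgHom R P B := by
    refine MvPolynomial.algHom_ext fun s => ?_
    show Ψ₀ (algebraMap P Q (X s)) = algebraMap A B (algebraMap P A (X s))
    rw [hφ, hX]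
    rcases s with s | j
    · exact aeval_X _ _
    · refine Fin.cases ?_ (fun j => ?_) j
      · exact aeval_X _ _
      · simp only [Sum.elim_inr, Fin.cases_succ, map_mul]
        rw [show Ψ₀ (X (Sum.inr (Sum.inl ()))) = a' (a 0) from aeval_X _ _, show Ψ₀ (X (Sum.inr (Sum.inr j))) = μ (X j) from aeval_X _ _]
        exact hμ j
  let Ψ : Q →ₐ[P] B := { Ψ₀.toRingHom with commutes' := fun p => AlgHom.congr_fun hΨ p }
  let ν : A ⊗[P] Q →ₐ[A] B :=
    Algebra.TensorProduct.lift (Algebra.ofId A B) Ψ fun _ _ => .all _ _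
  let ξ₀ : MvPolynomial (Fin t) A →ₐ[A] A ⊗[P] Q :=
    MvPolynomial.aeval fun j => (1 : A) ⊗ₜ[P] (X (Sum.inr (Sum.inr j)) : Q)
  have htw : ∀ p : P, algebraMap A (A ⊗[P] Q) (algebraMap P A p) = (1 : A) ⊗ₜ[P] algebraMap P Q p := fun p =>
    (IsScalarTower.algebraMap_apply P A (A ⊗[P] Q) p).symm.trans
      ((Algebra.TensorProduct.includeRight : Q →ₐ[P] A ⊗[P] Q).commutes p).symm
  have hξ : RingHom.ker μ ≤ RingHom.ker ξ₀ := by
    rw [hker, KoszulBlow.rels]
    refine Ideal.span_le.2 fun x hx => ?_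
    obtain ⟨j, rfl⟩ := List.mem_ofFn.1 hx
    show ξ₀ (LC16.BlowTor.rel a j) = 0
    have e0 : a 0 = algebraMap P A (X (Sum.inr 0)) := (hX (Sum.inr 0)).symm
    have e1 : a j.succ = algebraMap P A (X (Sum.inr j.succ)) := (hX (Sum.inr j.succ)).symm
    simp only [LC16.BlowTor.rel, ξ₀, map_sub, map_mul, aeval_C, aeval_X]
    rw [congrArg (algebraMap A (A ⊗[P] Q)) e0, congrArg (algebraMap A (A ⊗[P] Q)) e1, htw, htw, hφ, hφ, Algebra.TensorProduct.tmul_mul_tmul, mul_one]
    simp
  let ξ : B →ₐ[A] A ⊗[P] Q :=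
    (Ideal.Quotient.liftₐ _ ξ₀ fun x hx => hξ hx).comp (Ideal.quotientKerAlgEquivOfSurjective hμs).symm.toAlgHom
  have hξμ : ∀ z, ξ (μ z) = ξ₀ z := fun z => by
    have : (Ideal.quotientKerAlgEquivOfSurjective hμs).symm (μ z) = Ideal.Quotient.mk _ z := by
      rw [AlgEquiv.symm_apply_eq]; rfl
    show (Ideal.Quotient.liftₐ _ ξ₀ fun x hx => hξ hx)
      ((Ideal.quotientKerAlgEquivOfSurjective hμs).symm (μ z)) = _
    rw [this]; rfl
  have hνξ : ν.comp ξ = AlgHom.id A B := by
    refine AlgHom.ext fun b => ?_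
    obtain ⟨z, rfl⟩ := hμs b
    show ν (ξ (μ z)) = μ z
    rw [hξμ]
    refine AlgHom.congr_fun (show ν.comp ξ₀ = μ from MvPolynomial.algHom_ext fun j => ?_) z
    show ν (ξ₀ (X j)) = μ (X j)
    simp only [ξ₀, aeval_X, ν, Algebra.TensorProduct.lift_tmul, map_one, one_mul]
    exact aeval_X _ _
  have hξν : ξ.comp ν = AlgHom.id A (A ⊗[P] Q) := by
    apply Algebra.TensorProduct.ext
    · exact Algebra.ext_id _ _ _
    refine AlgHom.coe_ringHom_injective (MvPolynomial.ringHom_ext (fun r => ?_) fun s => ?_)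
    · show ξ (ν (1 ⊗ₜ[P] C r)) = 1 ⊗ₜ[P] C r
      rw [show (C r : Q) = algebraMap P Q (algebraMap R P r) from IsScalarTower.algebraMap_apply R P Q r,
        ← htw, AlgHom.commutes, AlgHom.commutes]
    · show ξ (ν (1 ⊗ₜ[P] X s)) = 1 ⊗ₜ[P] X s
      simp only [ν, Algebra.TensorProduct.lift_tmul, map_one, one_mul]
      show ξ (Ψ₀ (X s)) = _
      rcases s with s | u | j
      · rw [show Ψ₀ (X (Sum.inl s)) = a' (c s) from aeval_X _ _, show c s = algebraMap P A (X (Sum.inl s)) from (hX (Sum.inl s)).symm]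
        show ξ (algebraMap A B _) = _
        rw [AlgHom.commutes, htw, hφ]; rfl
      · rw [show Ψ₀ (X (Sum.inr (Sum.inl u))) = a' (a 0) from aeval_X _ _]
        show ξ (algebraMap A B _) = _
        rw [AlgHom.commutes, congrArg (algebraMap A (A ⊗[P] Q)) (show a 0 = algebraMap P A (X (Sum.inr 0)) from (hX (Sum.inr 0)).symm), htw, hφ]; rfl
      · rw [show Ψ₀ (X (Sum.inr (Sum.inr j))) = μ (X j) from aeval_X _ _, hξμ]
        exact aeval_X _ _
  let e : A ⊗[P] Q ≃ₐ[A] B := AlgEquiv.ofAlgHom ν ξ hνξ hξν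
  haveI : Algebra.Smooth R Q := ⟨inferInstance, inferInstance⟩
  haveI : Algebra.Etale Q (Q ⊗[P] A) := inferInstance
  haveI : IsScalarTower R Q (Q ⊗[P] A) := inferInstance
  haveI : Algebra.Smooth R (Q ⊗[P] A) := Algebra.Smooth.comp R Q (Q ⊗[P] A)
  let e' : Q ⊗[P] A ≃ₐ[R] B :=
    ((Algebra.TensorProduct.comm P Q A).restrictScalars R).trans (e.restrictScalars R)
  exact Algebra.Smooth.of_equiv e'

end Groth.Agent.FlatMor68.BlowSmoothAlg
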