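import Groth.Agent.Norm57.Universal
import Groth.Agent.Unr55.SmoothStalkCor
import Mathlib.AlgebraicGeometry.Morphisms.Smooth
import Mathlib.AlgebraicGeometry.PullbackCarrier
import Mathlib.AlgebraicGeometry.Morphisms.Flat

/-!
Normalization of integral schemes commutes with smooth morphisms.
-/

set_option autoImplicit false
set_option linter.style.haveILetI false
set_option backward.isDefEq.respectTransparency.types false

universe u

open CategoryTheory CategoryTheory.Limits AlgebraicGeometry

namespace Groth.Agent.FlatMor68.NormSmooth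

open Norm57

theorem isNormalScheme_of_smooth {X Y : Scheme.{u}} (f : X ⟶ Y) [Smooth f] (hY : Pi1.IsNormalScheme Y) :
    Pi1.IsNormalScheme X := fun x =>
  (Unr55.isNormalDomain_stalk_iff_of_smooth f x
    (Scheme.Hom.mem_smoothLocus.mp ((Scheme.Hom.smoothLocus_eq_top f).ge (Set.mem_univ x)))).2 (hY (f x))

/-- Maximal points map to maximal points along flat morphisms. -/
theorem isMax'_apply_of_flat {X Y : Scheme.{u}} (f : X ⟶ Y) [Flat f] {w : X} (hw : IsMax' w) :
    IsMax' (f w) := by
  intro y hy
  obtain ⟨w', hw', rfl⟩ := Flat.generalizingMap f hy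
  rw [hw w' hw']

theorem eq_genericPoint_of_isMax' {X : Scheme.{u}} [IsIntegral X] {w : X} (hw : IsMax' w) :
    w = genericPoint X :=
  (hw _ (genericPoint_specializes w)).symm

/-- Maximal points of a base change of a birational map map to the generic point. -/
theorem pullback_isMax'_fst {X Y N T : Scheme.{u}} [IsIntegral X] [IsIntegral Y] [IsIntegral N]
    (f : X ⟶ Y) [Flat f] (π : N ⟶ Y) (t : T ⟶ N) [Surjective (pullback.fst f π)]
    (hT : ∀ y, y = genericPoint N → y ∈ Set.range t) [IsPreimmersion (t ≫ π)]
    (w : ↥(pullback f π)) (hw : IsMax' w) : pullback.fst f π w = genericPoint X := by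
  have hw2 : pullback.snd f π w = genericPoint N := eq_genericPoint_of_isMax' (isMax'_apply_of_flat _ hw)
  let m : pullback f (t ≫ π) ⟶ pullback f π :=
    pullback.map f (t ≫ π) f π (𝟙 X) t (𝟙 Y) (by simp) (by simp)
  have hm : m ≫ pullback.fst f π = pullback.fst f (t ≫ π) := by
    simp [m, pullback.map, pullback.lift_fst]
  have hrange : ∀ v : ↥(pullback f π), pullback.snd f π v = genericPoint N → v ∈ Set.range m := fun v hv => by
    rw [Scheme.Pullback.range_map]
    exact ⟨⟨_, rfl⟩, hT _ hv⟩
  obtain ⟨x', hx'⟩ := hrange w hw2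
  -- the generic point of `X` lies in the image of the generic fibre
  obtain ⟨w₀, hw₀⟩ := (pullback.fst f π).surjective (genericPoint X)
  obtain ⟨w₁, hw₁max, hw₁⟩ := exists_isMax'_specializes w₀
  have hw₁' : pullback.fst f π w₁ = genericPoint X :=
    ((hw₁.map (pullback.fst f π).continuous).trans (specializes_of_eq hw₀)).antisymm (genericPoint_specializes _)|>.eq
  obtain ⟨η', hη'⟩ := hrange w₁ (eq_genericPoint_of_isMax' (isMax'_apply_of_flat _ hw₁max))
  have hsp : η' ⤳ x' := by
    rw [← (pullback.fst f (t ≫ π)).isEmbedding.isInducing.specializes_iff, ← hm, Scheme.Hom.comp_apply,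
      Scheme.Hom.comp_apply, hη', hw₁']
    exact genericPoint_specializes _
  have h := hw (m η') (hx' ▸ hsp.map m.continuous)
  rw [← h, hη', hw₁']

theorem existsUnique_iso {X Y : Scheme.{u}} (f : X ⟶ Y) [Smooth f] [IsIntegral X] [IsIntegral Y]
    [QuasiCompact (X.fromSpecStalk (genericPoint X))] [QuasiSeparated (X.fromSpecStalk (genericPoint X))]
    [QuasiCompact (Y.fromSpecStalk (genericPoint Y))] [QuasiSeparated (Y.fromSpecStalk (genericPoint Y))] :
    ∃! e : Curv2.normalization X ≅ pullback f (Curv2.normalizationι Y),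
      e.hom ≫ pullback.fst f (Curv2.normalizationι Y) = Curv2.normalizationι X := by
  let NY := Curv2.normalization Y
  let NX := Curv2.normalization X
  let ιY : NY ⟶ Y := Curv2.normalizationι Y
  let ιX : NX ⟶ X := Curv2.normalizationι X
  have : IsIntegral NY := inferInstanceAs (IsIntegral (Y.fromSpecStalk (genericPoint Y)).normalization)
  have : IsIntegral NX := inferInstanceAs (IsIntegral (X.fromSpecStalk (genericPoint X)).normalization)
  let tY : Spec (Y.presheaf.stalk (genericPoint Y)) ⟶ NY := (Y.fromSpecStalk (genericPoint Y)).toNormalization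
  let tX : Spec (X.presheaf.stalk (genericPoint X)) ⟶ NX := (X.fromSpecStalk (genericPoint X)).toNormalization
  have htY : tY ≫ ιY = Y.fromSpecStalk (genericPoint Y) := Scheme.Hom.toNormalization_fromNormalization _
  have htX : tX ≫ ιX = X.fromSpecStalk (genericPoint X) := Scheme.Hom.toNormalization_fromNormalization _
  have : IsDominant tY := inferInstanceAs (IsDominant (Y.fromSpecStalk (genericPoint Y)).toNormalization)
  have : IsDominant tX := inferInstanceAs (IsDominant (X.fromSpecStalk (genericPoint X)).toNormalization)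
  have : Subsingleton ↥(Spec (Y.presheaf.stalk (genericPoint Y))) :=
    inferInstanceAs (Subsingleton (PrimeSpectrum Y.functionField))
  have : Subsingleton ↥(Spec (X.presheaf.stalk (genericPoint X))) :=
    inferInstanceAs (Subsingleton (PrimeSpectrum X.functionField))
  have gen : ∀ {N K : Scheme.{u}} [IsIntegral N] (t : K ⟶ N) [IsDominant t] [Subsingleton K],
      ∀ y, y = genericPoint N → y ∈ Set.range t := by
    rintro N K _ t _ _ _ rfl
    obtain ⟨x⟩ := t.denseRange.nonempty
    refine ⟨x, ?_⟩
    have : Set.range t = {t x} := Set.eq_singleton_iff_unique_mem.2 ⟨⟨x, rfl⟩, by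
      rintro _ ⟨y, rfl⟩; rw [Subsingleton.elim y x]⟩
    have hd := t.denseRange
    rw [DenseRange, this] at hd
    exact (IsGenericPoint.eq (by rw [IsGenericPoint]; exact hd.closure_eq) (genericPoint_spec N))
  have hgenX : ιX (genericPoint NX) = genericPoint X := by
    obtain ⟨x, hx⟩ := gen tX _ rfl
    rw [← hx, ← Scheme.Hom.comp_apply, htX]
    have := Scheme.range_fromSpecStalk (X := X) (x := genericPoint X)
    exact (show _ ⤳ _ from this.subset ⟨x, rfl⟩).antisymm (genericPoint_specializes _) |>.eq
  have hfη : f (genericPoint X) = genericPoint Y :=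
    eq_genericPoint_of_isMax' (isMax'_apply_of_flat f fun v hv => (hv.antisymm (genericPoint_specializes v)).eq)
  let P := pullback f ιY
  have : Surjective ιY := by
    have : IsIntegralHom ιY := inferInstanceAs (IsIntegralHom (Y.fromSpecStalk (genericPoint Y)).fromNormalization)
    have : IsDominant (tY ≫ ιY) := by
      rw [htY]
      refine ⟨fun y => ?_⟩
      refine closure_mono (Set.singleton_subset_iff.2 ?_) (genericPoint_specializes y).mem_closure
      rw [Scheme.range_fromSpecStalk]; exact specializes_rfl
    have : IsDominant ιY := IsDominant.of_comp tY ιY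
    exact surjective_of_isDominant_of_isClosed_range _ ιY.isClosedMap.isClosed_range
  have : IsPreimmersion (tY ≫ ιY) := by rw [htY]; infer_instance
  have hmaxP : ∀ w : P, IsMax' w → pullback.fst f ιY w = genericPoint X :=
    pullback_isMax'_fst f ιY tY (gen tY)
  have hPn : Pi1.IsNormalScheme P := isNormalScheme_of_smooth (pullback.snd f ιY) (VarNorm.isNormalScheme Y)
  have hNn : Pi1.IsNormalScheme NX := VarNorm.isNormalScheme X
  have hmaxN : ∀ w : NX, IsMax' w → ιX w = genericPoint X := fun w hw => by
    rw [eq_genericPoint_of_isMax' hw, hgenX]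
  obtain ⟨a, ha, -⟩ := existsUnique_lift hPn (pullback.fst f ιY) hmaxP
  obtain ⟨b, hb, hbu⟩ := existsUnique_lift hNn (ιX ≫ f) (fun w hw => by
    rw [Scheme.Hom.comp_apply, hmaxN w hw, hfη])
  let c : NX ⟶ P := pullback.lift ιX b hb.symm
  have hc1 : c ≫ pullback.fst f ιY = ιX := pullback.lift_fst _ _ _
  have hc2 : c ≫ pullback.snd f ιY = b := pullback.lift_snd _ _ _
  have hca : c ≫ a = 𝟙 NX := (existsUnique_lift hNn ιX hmaxN).unique
    (show (c ≫ a) ≫ ιX = ιX by rw [Category.assoc, show a ≫ ιX = _ from ha, hc1]) (Category.id_comp _)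
  have hac : a ≫ c = 𝟙 P := by
    refine pullback.hom_ext ?_ ?_
    · rw [Category.assoc, hc1, Category.id_comp]; exact ha
    · rw [Category.assoc, hc2, Category.id_comp]
      refine (existsUnique_lift hPn (pullback.fst f ιY ≫ f) (fun w hw => by
        rw [Scheme.Hom.comp_apply, hmaxP w hw, hfη])).unique ?_ ?_
      · show (a ≫ b) ≫ ιY = _
        rw [Category.assoc, show b ≫ ιY = ιX ≫ f from hb, ← Category.assoc, show a ≫ ιX = _ from ha]
      · exact pullback.condition.symm
  refine ⟨⟨c, a, hca, hac⟩, hc1, fun e he => Iso.ext (pullback.hom_ext (he.trans hc1.symm) ?_)⟩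
  rw [hc2]
  refine hbu _ ?_
  show (e.hom ≫ pullback.snd f ιY) ≫ ιY = ιX ≫ f
  rw [Category.assoc, ← pullback.condition, ← Category.assoc]
  exact congrArg (· ≫ f) he

end Groth.Agent.FlatMor68.NormSmooth
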