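import Groth.Agent.FlatMor68.SecCompAlg
import Groth.Agent.FlatMor68.NormSmooth
import Groth.Agent.NormY57.Scheme
import Groth.Agent.NagaNorm57.Scheme
import Groth.Agent.NeronHD28.GenExtendFinite
import Groth.Prelude.Def_MoreMor

/-!
The union of the components of a section in the fibres of a smooth morphism is open.
-/

set_option autoImplicit false
set_option linter.style.haveILetI false
set_option backward.isDefEq.respectTransparency.types false

universe u

open CategoryTheory CategoryTheory.Limits AlgebraicGeometry TopologicalSpace TensorProduct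

namespace Groth.Agent.FlatMor68.SectionOpenSmooth

open RG29 SecCompAlg

/-- Connected components of the fibres of a smooth morphism are irreducible. -/
theorem isPreirreducible_connectedComponentIn {X S : Scheme.{u}} (f : X ⟶ S) [Smooth f] {s : S} {a : X}
    (ha : a ∈ f ⁻¹' {s}) : IsPreirreducible (connectedComponentIn (f ⁻¹' {s}) a) := by
  let g := f.fiberToSpecResidueField s
  haveI : Smooth g := MorphismProperty.pullback_snd _ _ inferInstance
  have hK : Pi1.IsNormalScheme (Spec (CommRingCat.of (S.residueField s))) :=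
    NeronHD28.isNormalScheme_Spec _ fun p _ => ⟨inferInstance,
      isIntegrallyClosed_of_isLocalization _ p.primeCompl p.primeCompl_le_nonZeroDivisors⟩
  have hY : Pi1.IsNormalScheme (f.fiber s) := NormSmooth.isNormalScheme_of_smooth g hK
  haveI : IsLocallyNoetherian (f.fiber s) := LocallyOfFiniteType.isLocallyNoetherian g
  let y := (f.fiberHomeo s).symm ⟨a, ha⟩
  have hZ := irreducibleComponent_mem_irreducibleComponents y
  have hclopen : IsClopen (irreducibleComponent y) :=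
    ⟨isClosed_irreducibleComponent,
      NormY57.isOpen_component hY NagaNorm57.locallyFinite_irreducibleComponents hZ⟩
  have heq : connectedComponentIn (f ⁻¹' {s}) a = f.fiberι s '' irreducibleComponent y := by
    rw [connectedComponentIn_eq_image ha]
    apply Set.Subset.antisymm
    · rintro _ ⟨w, hw, rfl⟩
      refine ⟨(f.fiberHomeo s).symm w, ?_, f.fiberι_fiberHomeo_symm s w⟩
      exact hclopen.connectedComponent_subset mem_irreducibleComponent
        ((f.fiberHomeo s).symm.continuous.image_connectedComponent_subset ⟨a, ha⟩ ⟨w, hw, rfl⟩)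
    · rintro _ ⟨w, hw, rfl⟩
      refine ⟨f.fiberHomeo s w, ?_, rfl⟩
      have h1 := (f.fiberHomeo s).continuous.image_connectedComponent_subset y
        ⟨w, irreducibleComponent_subset_connectedComponent hw, rfl⟩
      rwa [Homeomorph.apply_symm_apply] at h1
  rw [heq]
  exact isIrreducible_irreducibleComponent.isPreirreducible.image _ (f.fiberι s).continuous.continuousOn

/-- Points of the component of a section lie in the connected component of the section. -/
theorem mem_connectedComponentIn_of_mem_compSet {X S : Scheme.{u}} (f : X ⟶ S) {R B : Type u}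
    [CommRing R] [CommRing B] [Algebra R B] (σ : B →ₐ[R] R) (ι : Spec (CommRingCat.of B) ⟶ X)
    (g : Spec (CommRingCat.of R) ⟶ S)
    (h : ι ≫ f = Spec.map (CommRingCat.ofHom (algebraMap R B)) ≫ g) {x : PrimeSpectrum B}
    (hx : x ∈ compSet σ) :
    ι x ∈ connectedComponentIn (f ⁻¹' {f (ι x)})
      (ι (PrimeSpectrum.comap σ.toRingHom (PrimeSpectrum.comap (algebraMap R B) x))) := by
  obtain ⟨K, hK, hxK, hsK, hKt⟩ := exists_connected_of_mem_compSet σ hx
  have hf : ∀ y : PrimeSpectrum B, f (ι y) = g (PrimeSpectrum.comap (algebraMap R B) y) := fun y => by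
    rw [← Scheme.Hom.comp_apply, h]
    rfl
  have hsub : ι '' K ⊆ f ⁻¹' {f (ι x)} := by
    rintro _ ⟨y, hy, rfl⟩
    show f (ι y) = f (ι x)
    rw [hf, hf, hKt y hy]
  exact (hK.image _ ι.continuous.continuousOn).subset_connectedComponentIn ⟨_, hsK, rfl⟩ hsub
    ⟨_, hxK, rfl⟩

theorem mem_sectionComponents_of_mem {X S : Scheme.{u}} {f : X ⟶ S} {e : S ⟶ X} {y a : X}
    (hy : y ∈ connectedComponentIn (f ⁻¹' {f y}) a) (ha : a ∈ MoreMor.sectionComponents f e) :
    y ∈ MoreMor.sectionComponents f e := by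
  have hfy : f a = f y := by
    by_contra hne
    rw [connectedComponentIn_eq_empty (show a ∉ f ⁻¹' {f y} from hne)] at hy
    exact hy
  have ha' : a ∈ connectedComponentIn (f ⁻¹' {f y}) (e (f y)) := by
    have : a ∈ connectedComponentIn (f ⁻¹' {f a}) (e (f a)) := ha
    rwa [hfy] at this
  show y ∈ connectedComponentIn (f ⁻¹' {f y}) (e (f y))
  rw [connectedComponentIn_eq ha']
  exact hy

variable {S X : Scheme.{u}} (f : X ⟶ S) [Smooth f] (e : S ⟶ X) (he : e ≫ f = 𝟙 S)

theorem appLE_id_of_eq {S : Scheme.{u}} (g : S ⟶ S) (hg : g = 𝟙 S) (V : S.Opens) (h : V ≤ g ⁻¹ᵁ V) :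
    g.appLE V V h = 𝟙 _ := by
  subst hg
  simp only [Scheme.Hom.appLE, Scheme.Hom.id_app]
  exact S.presheaf.map_id _

include he

omit [Smooth f] in
theorem apply_section (t : S) : f (e t) = t := by
  rw [← Scheme.Hom.comp_apply, he]
  rfl

/-- The union of the components contains a neighbourhood of the section. -/
theorem exists_open_subset (s : S) :
    ∃ W : Set X, IsOpen W ∧ e s ∈ W ∧ W ⊆ MoreMor.sectionComponents f e := by
  obtain ⟨_, ⟨V₀, hV₀, rfl⟩, hsV₀, -⟩ :=
    S.isBasis_affineOpens.exists_subset_of_mem_open (Set.mem_univ s) isOpen_univ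
  have h1 : e s ∈ f ⁻¹ᵁ V₀ := by
    show f (e s) ∈ V₀
    rw [apply_section f e he]
    exact hsV₀
  obtain ⟨_, ⟨U₀, hU₀, rfl⟩, hesU, hU₀le⟩ :=
    X.isBasis_affineOpens.exists_subset_of_mem_open h1 (f ⁻¹ᵁ V₀).2
  obtain ⟨r, hr1, hr2⟩ := hV₀.exists_basicOpen_le (V := e ⁻¹ᵁ U₀ ⊓ V₀) ⟨s, hesU, hsV₀⟩ hsV₀
  let V := S.basicOpen r
  have hV : IsAffineOpen V := hV₀.basicOpen r
  let U := U₀ ⊓ f ⁻¹ᵁ V
  have hU : IsAffineOpen U := by
    have : U = X.basicOpen (f.appLE V₀ U₀ hU₀le r) := by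
      rw [Scheme.basicOpen_appLE]
    rw [this]
    exact hU₀.basicOpen _
  have hUV : U ≤ f ⁻¹ᵁ V := inf_le_right
  have hVU : V ≤ e ⁻¹ᵁ U := fun t ht => ⟨(hr1 ht).1, by
    show f (e t) ∈ V
    rw [apply_section f e he]
    exact ht⟩
  have hsm := f.smooth_appLE hV hU hUV
  have hid : ∀ a, e.appLE U V hVU (f.appLE V U hUV a) = a := fun a => by
    have h2 : f.appLE V U hUV ≫ e.appLE U V hVU = 𝟙 _ := by
      rw [Scheme.Hom.appLE_comp_appLE]
      exact appLE_id_of_eq (e ≫ f) he V _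
    exact ConcreteCategory.congr_hom h2 a
  algebraize [(f.appLE V U hUV).hom]
  let σ : Γ(X, U) →ₐ[Γ(S, V)] Γ(S, V) :=
    { (e.appLE U V hVU).hom with commutes' := hid }
  refine ⟨hU.fromSpec '' compSet σ, hU.fromSpec.isOpenEmbedding.isOpenMap _ (compSet_isOpen σ), ?_, ?_⟩
  · let t : PrimeSpectrum Γ(S, V) := hV.primeIdealOf ⟨s, hr2⟩
    refine ⟨PrimeSpectrum.comap σ.toRingHom t, ?_, ?_⟩
    · refine (mem_compSet_iff σ _ ((IsScalarTower.toAlgHom Γ(S, V) Γ(S, V) t.asIdeal.ResidueField).comp σ)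
        fun b => Ideal.algebraMap_residueField_eq_zero).2 ?_
      obtain ⟨e₀, he₀⟩ := exists_isCompIdem_secMap σ t.asIdeal.ResidueField
      refine ⟨e₀, he₀, ?_⟩
      have : ptMap ((IsScalarTower.toAlgHom Γ(S, V) Γ(S, V) t.asIdeal.ResidueField).comp σ) =
          secMap σ t.asIdeal.ResidueField := rfl
      rw [this]
      exact he₀.2.1
    · show hU.fromSpec (Spec.map (e.appLE U V hVU) t) = e s
      rw [← Scheme.Hom.comp_apply, IsAffineOpen.SpecMap_appLE_fromSpec e hU hV hVU, Scheme.Hom.comp_apply]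
      exact congrArg e (hV.fromSpec_primeIdealOf ⟨s, hr2⟩)
  · rintro _ ⟨x, hx, rfl⟩
    refine mem_sectionComponents_of_mem (mem_connectedComponentIn_of_mem_compSet f σ hU.fromSpec
      hV.fromSpec (IsAffineOpen.SpecMap_appLE_fromSpec f hV hU hUV).symm hx) ?_
    let t : PrimeSpectrum Γ(S, V) := PrimeSpectrum.comap (algebraMap Γ(S, V) Γ(X, U)) x
    have h3 : hU.fromSpec (PrimeSpectrum.comap σ.toRingHom t) = e (hV.fromSpec t) := by
      show hU.fromSpec (Spec.map (e.appLE U V hVU) t) = _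
      rw [← Scheme.Hom.comp_apply, IsAffineOpen.SpecMap_appLE_fromSpec e hU hV hVU]
      rfl
    show hU.fromSpec (PrimeSpectrum.comap σ.toRingHom t) ∈ _
    rw [h3]
    show e (hV.fromSpec t) ∈ connectedComponentIn _ (e (f (e (hV.fromSpec t))))
    rw [apply_section f e he]
    exact mem_connectedComponentIn (apply_section f e he _)

/-- The union of the components of a section in the fibres is open. -/
theorem isOpen_sectionComponents : IsOpen (MoreMor.sectionComponents f e) := by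
  refine isOpen_iff_forall_mem_open.2 fun x hx => ?_
  let s := f x
  let C := connectedComponentIn (f ⁻¹' {s}) (e s)
  obtain ⟨W, hW, hesW, hWsub⟩ := exists_open_subset f e he s
  obtain ⟨_, ⟨V, hV, rfl⟩, hsV, -⟩ :=
    S.isBasis_affineOpens.exists_subset_of_mem_open (Set.mem_univ s) isOpen_univ
  obtain ⟨_, ⟨U, hU, rfl⟩, hxU, hUV⟩ :=
    X.isBasis_affineOpens.exists_subset_of_mem_open (show x ∈ f ⁻¹ᵁ V from hsV) (f ⁻¹ᵁ V).2
  have hsm := f.smooth_appLE hV hU hUV
  algebraize [(f.appLE V U hUV).hom]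
  have hes : e s ∈ f ⁻¹' {s} := apply_section f e he s
  have hC : IsPreirreducible C := isPreirreducible_connectedComponentIn f hes
  let ι := hU.fromSpec
  have hcomm : ι ≫ f = Spec.map (CommRingCat.ofHom (algebraMap Γ(S, V) Γ(X, U))) ≫ hV.fromSpec :=
    (IsAffineOpen.SpecMap_appLE_fromSpec f hV hU hUV).symm
  have hf : ∀ y : PrimeSpectrum Γ(X, U),
      f (ι y) = hV.fromSpec (PrimeSpectrum.comap (algebraMap Γ(S, V) Γ(X, U)) y) := fun y => by
    rw [← Scheme.Hom.comp_apply, hcomm]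
    rfl
  obtain ⟨x₁, hx₁⟩ : x ∈ Set.range ι := by
    rw [IsAffineOpen.range_fromSpec]
    exact hxU
  obtain ⟨z, hzC, hzU, hzW⟩ :=
    hC U W U.2 hW ⟨x, hx, hxU⟩ ⟨e s, mem_connectedComponentIn hes, hesW⟩
  obtain ⟨y, hy⟩ : z ∈ Set.range ι := by
    rw [IsAffineOpen.range_fromSpec]
    exact hzU
  have hfz : f z = s := connectedComponentIn_subset (f ⁻¹' {s}) (e s) hzC
  have hyW : y ∈ ι ⁻¹' W := by
    show ι y ∈ W
    rw [hy]
    exact hzW
  obtain ⟨R', _, _, hR', ζ, L, _, _, φ, j₀, hfin, hζ⟩ :=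
    exists_etale_section_into (R := Γ(S, V)) (hW.preimage ι.continuous) hyW
  haveI := hR'
  let p := PrimeSpectrum.comap (algebraMap Γ(S, V) Γ(X, U)) y
  let z₁ : PrimeSpectrum Γ(X, U) :=
    ⟨RingHom.ker (φ.comp ζ).toRingHom, RingHom.ker_isPrime _⟩
  have hz₁p : PrimeSpectrum.comap (algebraMap Γ(S, V) Γ(X, U)) z₁ = p := by
    refine PrimeSpectrum.ext (Ideal.ext fun r => ?_)
    show φ (ζ (algebraMap Γ(S, V) Γ(X, U) r)) = 0 ↔ _
    rw [AlgHom.commutes, AlgHom.commutes, ← j₀.commutes r]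
    exact (map_eq_zero_iff j₀ j₀.toRingHom.injective).trans Ideal.algebraMap_residueField_eq_zero
  let K : Set (PrimeSpectrum Γ(X, U)) := ι ⁻¹' C
  have hK : _root_.IsPreconnected K := (hC.preimage ι.isOpenEmbedding).isPreconnected
  have hp : hV.fromSpec p = s := by
    rw [← hf y, hy, hfz]
  have hKp : ∀ w ∈ K, PrimeSpectrum.comap (algebraMap Γ(S, V) Γ(X, U)) w = p := fun w hw => by
    refine hV.fromSpec.isOpenEmbedding.injective ?_
    rw [hp, ← hf w]
    exact connectedComponentIn_subset (f ⁻¹' {s}) (e s) hw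
  have hz₁K : z₁ ∈ K := by
    have hW' : z₁ ∈ ι ⁻¹' W := hζ ⟨RingHom.ker φ.toRingHom, RingHom.ker_isPrime _⟩
    have h4 : f (ι z₁) = s := by rw [hf, hz₁p, hp]
    have h5 : ι z₁ ∈ connectedComponentIn (f ⁻¹' {f (ι z₁)}) (e (f (ι z₁))) := hWsub hW'
    rw [h4] at h5
    exact h5
  obtain ⟨x₂, hx₂, hx₂x⟩ := exists_mem_compSet_over ζ φ p j₀ hfin hK hKp (z := z₁)
    (fun _ => Iff.rfl) hz₁K (x := x₁) (show ι x₁ ∈ C from hx₁.symm ▸ hx)
  let inc := (Algebra.TensorProduct.includeRight (R := Γ(S, V)) (A := R') (B := Γ(X, U))).toRingHom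
  let π : Spec (CommRingCat.of (R' ⊗[Γ(S, V)] Γ(X, U))) ⟶ X := Spec.map (CommRingCat.ofHom inc) ≫ ι
  refine ⟨ι '' (PrimeSpectrum.comap inc '' compSet (ptMap ζ)), ?_, ?_, x₁, ⟨x₂, hx₂, hx₂x⟩, hx₁⟩
  · rintro _ ⟨_, ⟨w, hw, rfl⟩, rfl⟩
    have hπ : π ≫ f =
        Spec.map (CommRingCat.ofHom (algebraMap R' (R' ⊗[Γ(S, V)] Γ(X, U)))) ≫
          (Spec.map (CommRingCat.ofHom (algebraMap Γ(S, V) R')) ≫ hV.fromSpec) := by
      simp only [π, Category.assoc, hcomm]
      rw [← Spec.map_comp_assoc, ← Spec.map_comp_assoc, ← CommRingCat.ofHom_comp, ← CommRingCat.ofHom_comp]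
      congr 3
      refine RingHom.ext fun r => ?_
      show inc (algebraMap Γ(S, V) Γ(X, U) r) = _
      exact (AlgHom.commutes _ r).trans (IsScalarTower.algebraMap_apply Γ(S, V) R' _ r)
    refine mem_sectionComponents_of_mem
      (mem_connectedComponentIn_of_mem_compSet f (ptMap ζ) π _ hπ hw) (hWsub ?_)
    let t := PrimeSpectrum.comap (algebraMap R' (R' ⊗[Γ(S, V)] Γ(X, U))) w
    show ι (PrimeSpectrum.comap inc (PrimeSpectrum.comap (ptMap ζ).toRingHom t)) ∈ W
    have h6 : PrimeSpectrum.comap inc (PrimeSpectrum.comap (ptMap ζ).toRingHom t) =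
        PrimeSpectrum.comap ζ.toRingHom t := by
      refine PrimeSpectrum.ext (Ideal.ext fun b => ?_)
      show ptMap ζ ((1 : R') ⊗ₜ b) ∈ t.asIdeal ↔ _
      rw [ptMap_tmul, one_mul]
      rfl
    rw [h6]
    exact hζ t
  · exact ι.isOpenEmbedding.isOpenMap _
      (isOpenMap_comap_includeRight _ (compSet_isOpen (ptMap ζ)))

end Groth.Agent.FlatMor68.SectionOpenSmooth
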