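import Groth.Statements.S9738
import Groth.Agent.CAlg7.FlatLimit
import Groth.Agent.Div89.Comap
import Mathlib.AlgebraicGeometry.Morphisms.Flat
import Mathlib.AlgebraicGeometry.PullbackCarrier

set_option autoImplicit false
universe u
open CategoryTheory CategoryTheory.Limits AlgebraicGeometry TopologicalSpace IsLocalRing

namespace Groth.Agent.FlatMor68.FlatInfNbhd

theorem flat_quot_of_square {R A R' A' : Type u} [CommRing R] [CommRing A] [CommRing R'] [CommRing A']
    [Algebra R A] (a : R →+* R') (b : A →+* A') (φ' : R' →+* A')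
    (w : b.comp (algebraMap R A) = φ'.comp a) (ha : Function.Surjective a) (hb : Function.Surjective b)
    (J : Ideal R) (hJ : RingHom.ker a = J) (hK : RingHom.ker b = J.map (algebraMap R A))
    (hflat : φ'.Flat) : Module.Flat (R ⧸ J) (A ⧸ (J • ⊤ : Submodule R A)) := by
  subst hJ
  let e₁ : (R ⧸ RingHom.ker a) ≃+* R' := RingHom.quotientKerEquivOfSurjective ha
  algebraize [φ'.comp a]
  let ψ : (R ⧸ RingHom.ker a) →+* A' := φ'.comp e₁.toRingHom
  algebraize [ψ]
  haveI hf : Module.Flat (R ⧸ RingHom.ker a) A' :=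
    RingHom.Flat.comp (RingHom.Flat.of_bijective e₁.bijective) hflat
  haveI : IsScalarTower R (R ⧸ RingHom.ker a) A' := IsScalarTower.of_algebraMap_eq' (by
    ext r; rfl)
  let g : A →ₐ[R] A' := { b with commutes' := fun r => congr($w r) }
  have hker : LinearMap.ker g.toLinearMap = (RingHom.ker a • ⊤ : Submodule R A) := by
    rw [Ideal.smul_top_eq_map, ← hK]
    ext x
    rfl
  let e : (A ⧸ (RingHom.ker a • ⊤ : Submodule R A)) ≃ₗ[R] A' :=
    (Submodule.quotEquivOfEq _ _ hker.symm).trans (g.toLinearMap.quotKerEquivOfSurjective hb)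
  exact Module.Flat.of_linearEquiv
    (e.extendScalarsOfSurjective (S := R ⧸ RingHom.ker a) Ideal.Quotient.mk_surjective)

theorem ker_stalkMap_closedImmersion {Z X : Scheme.{u}} (i : Z ⟶ X) [IsClosedImmersion i] (z : Z) :
    RingHom.ker (i.stalkMap z).hom = Groth.Agent.Div89.stalkIdeal i.ker (i z) := by
  obtain ⟨U, hU⟩ := Groth.Agent.Div89.exists_affine_mem (i z)
  rw [Groth.Agent.Div89.stalkIdeal_eq _ U _ hU]
  let W : Z.affineOpens := ⟨i ⁻¹ᵁ U.1, U.2.preimage i⟩
  have hgerm : ∀ a, (i.stalkMap z).hom ((X.presheaf.germ U.1 (i z) hU).hom a) =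
      (Z.presheaf.germ W.1 z hU).hom ((i.app U.1).hom a) := fun a =>
    congr(CommRingCat.Hom.hom $(Scheme.Hom.germ_stalkMap i U.1 z hU) a)
  refine le_antisymm (fun r hr => ?_) (Ideal.map_le_iff_le_comap.2 fun a ha => ?_)
  · letI := Groth.Agent.Div89.stalkAlg U.1 (i z) hU
    haveI := Groth.Agent.Div89.isLocalization_stalk U (i z) hU
    letI := Groth.Agent.Div89.stalkAlg W.1 z hU
    haveI := Groth.Agent.Div89.isLocalization_stalk W z hU
    haveI := Groth.Agent.Div89.primeAt_isPrime W z hU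
    haveI := Groth.Agent.Div89.primeAt_isPrime U (i z) hU
    obtain ⟨⟨a, t⟩, hat⟩ := IsLocalization.surj (Groth.Agent.Div89.primeAt U (i z) hU).primeCompl r
    have hat' : r * (X.presheaf.germ U.1 (i z) hU).hom t.1 = (X.presheaf.germ U.1 (i z) hU).hom a := hat
    have h0 : algebraMap Γ(Z, W.1) (Z.presheaf.stalk z) ((i.app U.1).hom a) = 0 := by
      show (Z.presheaf.germ W.1 z hU).hom _ = 0
      rw [← hgerm, ← hat', map_mul, show (i.stalkMap z).hom r = 0 from hr, zero_mul]
    obtain ⟨⟨c, hc⟩, hca⟩ := (IsLocalization.map_eq_zero_iff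
      (Groth.Agent.Div89.primeAt W z hU).primeCompl (Z.presheaf.stalk z) ((i.app U.1).hom a)).1 h0
    obtain ⟨c, rfl⟩ := i.app_surjective U.1 U.2 c
    have h1 : c * a ∈ i.ker.ideal U := by
      rw [Scheme.Hom.ker_apply, RingHom.mem_ker, map_mul]; exact hca
    have h2 : IsUnit ((X.presheaf.germ U.1 (i z) hU).hom c) := by
      refine IsLocalHom.map_nonunit (self := i.toLRSHom.prop z) _ ?_
      show IsUnit ((i.stalkMap z).hom _)
      rw [hgerm]
      exact (Groth.Agent.Div89.germ_isUnit_iff W z hU _).2 hc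
    have h3 : IsUnit ((X.presheaf.germ U.1 (i z) hU).hom t.1) :=
      (Groth.Agent.Div89.germ_isUnit_iff U (i z) hU _).2 t.2
    rw [← Ideal.mul_unit_mem_iff_mem _ h3, hat', ← Ideal.unit_mul_mem_iff_mem _ h2, ← map_mul]
    exact Ideal.mem_map_of_mem _ h1
  · rw [Ideal.mem_comap, RingHom.mem_ker, hgerm]
    rw [Scheme.Hom.ker_apply, RingHom.mem_ker] at ha
    rw [ha, map_zero]

theorem ker_specializes_stalkMap {Z X : Scheme.{u}} (i : Z ⟶ X) [IsClosedImmersion i] (w : Z)
    (y : X) (h : y = i w) :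
    RingHom.ker (X.presheaf.stalkSpecializes (specializes_of_eq h.symm) ≫ i.stalkMap w).hom =
      Groth.Agent.Div89.stalkIdeal i.ker y := by
  subst h
  rw [TopCat.Presheaf.stalkSpecializes_refl, Category.id_comp, ker_stalkMap_closedImmersion]

theorem flat_stalk_quot_of_flat_pullback {X Z S : Scheme.{u}} (f : X ⟶ S) (i : Z ⟶ S)
    [IsClosedImmersion i] [Flat (pullback.snd f i)] (z : (pullback f i : Scheme.{u})) :
    letI := (f.stalkMap (pullback.fst f i z)).hom.toAlgebra
    Module.Flat (S.presheaf.stalk (f (pullback.fst f i z)) ⧸ Groth.Agent.Div89.stalkIdeal i.ker (f (pullback.fst f i z)))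
      (X.presheaf.stalk (pullback.fst f i z) ⧸
        (Groth.Agent.Div89.stalkIdeal i.ker (f (pullback.fst f i z)) • ⊤ :
          Submodule (S.presheaf.stalk (f (pullback.fst f i z))) (X.presheaf.stalk (pullback.fst f i z)))) := by
  letI := (f.stalkMap (pullback.fst f i z)).hom.toAlgebra
  have hy : f (pullback.fst f i z) = i (pullback.snd f i z) := by
    rw [← Scheme.Hom.comp_apply, pullback.condition, Scheme.Hom.comp_apply]
  refine flat_quot_of_square
    (S.presheaf.stalkSpecializes (specializes_of_eq hy.symm) ≫ i.stalkMap (pullback.snd f i z)).hom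
    ((pullback.fst f i).stalkMap z).hom ((pullback.snd f i).stalkMap z).hom ?_ ?_ ?_ _ ?_ ?_ ?_
  · have := Scheme.Hom.stalkMap_congr_hom (pullback.fst f i ≫ f) (pullback.snd f i ≫ i) pullback.condition z
    rw [Scheme.Hom.stalkMap_comp, Scheme.Hom.stalkMap_comp] at this
    exact congrArg CommRingCat.Hom.hom this
  · rw [CommRingCat.hom_comp]
    refine (i.stalkMap_surjective _).comp ?_
    exact (ConcreteCategory.bijective_of_isIso (S.presheaf.stalkCongr (.of_eq hy)).hom).2
  · exact (pullback.fst f i).stalkMap_surjective z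
  · exact ker_specializes_stalkMap i _ _ hy
  · rw [ker_stalkMap_closedImmersion, Scheme.IdealSheafData.ker_fst_of_isClosedImmersion,
      Groth.Agent.Div89.stalkIdeal_comap]
    rfl
  · exact Flat.stalkMap (pullback.snd f i) z

end Groth.Agent.FlatMor68.FlatInfNbhd
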