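import Groth.Prelude.Def_MoreMor
import Mathlib.AlgebraicGeometry.Geometrically.Reduced
import Mathlib.AlgebraicGeometry.Geometrically.Irreducible
import Mathlib.AlgebraicGeometry.Geometrically.Connected
import Mathlib.AlgebraicGeometry.Morphisms.UniversallyOpen

set_option autoImplicit false
universe u
open CategoryTheory CategoryTheory.Limits AlgebraicGeometry TopologicalSpace

namespace Groth.Agent.FlatMor68.Geom

theorem geometrically_iff_baseChange (P : ObjectProperty Scheme.{u})
    (hP : ∀ {A B : Scheme.{u}} (h : A ⟶ B) [Flat h] [Surjective h], P A → P B)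
    {X Y X' Y' : Scheme.{u}} (f : X ⟶ Y) (g : Y' ⟶ Y) (f' : X' ⟶ Y') (g' : X' ⟶ X)
    (hc : IsPullback g' f' f g) (y' : Y') :
    geometrically P (f'.fiberToSpecResidueField y') ↔
      geometrically P (f.fiberToSpecResidueField (g y')) := by
  let q : Spec (Y'.residueField y') ⟶ Spec (Y.residueField (g y')) := Spec.map (g.residueFieldMap y')
  have hq : q ≫ Y.fromSpecResidueField (g y') = Y'.fromSpecResidueField y' ≫ g :=
    Scheme.Hom.SpecMap_residueFieldMap_fromSpecResidueField g y'
  let p : f'.fiber y' ⟶ f.fiber (g y') :=
    pullback.lift (f'.fiberι y' ≫ g') (f'.fiberToSpecResidueField y' ≫ q) (by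
      rw [Category.assoc, hc.w, Category.assoc, hq, ← Category.assoc, ← Category.assoc]
      congr 1
      exact pullback.condition)
  have hp : IsPullback p (f'.fiberToSpecResidueField y') (f.fiberToSpecResidueField (g y')) q := by
    refine IsPullback.of_right ?_ (pullback.lift_snd _ _ _)
      (IsPullback.of_hasPullback f (Y.fromSpecResidueField (g y')))
    have h2 := (IsPullback.of_hasPullback f' (Y'.fromSpecResidueField y')).paste_horiz hc
    rw [← hq] at h2
    have hpf : p ≫ pullback.fst f (Y.fromSpecResidueField (g y')) = f'.fiberι y' ≫ g' :=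
      pullback.lift_fst (f := f) (g := Y.fromSpecResidueField (g y')) _ _ _
    exact hpf.symm ▸ h2
  refine ⟨fun H => ?_, fun H => MorphismProperty.of_isPullback hp H⟩
  intro K _ y Z fst snd h
  have : Surjective q := ⟨fun _ => ⟨default, Subsingleton.elim _ _⟩⟩
  obtain ⟨t⟩ : Nonempty ↥(pullback y q) := by
    obtain ⟨z, -⟩ := Scheme.Pullback.exists_preimage_pullback (f := y) (g := q)
      (default : Spec (.of K)) (default : Spec (Y'.residueField y')) (Subsingleton.elim _ _)
    exact ⟨z⟩
  let M := (pullback y q).residueField t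
  let a : Spec M ⟶ Spec (.of K) := (pullback y q).fromSpecResidueField t ≫ pullback.fst y q
  let b : Spec M ⟶ Spec (Y'.residueField y') := (pullback y q).fromSpecResidueField t ≫ pullback.snd y q
  have hab : a ≫ y = b ≫ q := by simp [a, b, pullback.condition]
  have : Surjective a := ⟨fun _ => ⟨default, Subsingleton.elim _ _⟩⟩
  let l : pullback snd a ⟶ f'.fiber y' := hp.lift (pullback.fst snd a ≫ fst) (pullback.snd snd a ≫ b)
    (by rw [Category.assoc, h.w, ← Category.assoc, pullback.condition, Category.assoc, hab, ← Category.assoc])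
  have hl : IsPullback l (pullback.snd snd a) (f'.fiberToSpecResidueField y') b := by
    refine IsPullback.of_right ?_ (hp.lift_snd _ _ _) hp
    rw [hp.lift_fst, ← hab]
    exact (IsPullback.of_hasPullback snd a).paste_horiz h
  exact hP (pullback.fst snd a) (H (K := M) b l (pullback.snd snd a) hl)

theorem irreducibleSpace_of_surjective {A B : Scheme.{u}} (h : A ⟶ B) [Surjective h]
    (hA : IrreducibleSpace A) : IrreducibleSpace B := by
  have : Nonempty B := ⟨h (Classical.arbitrary A)⟩
  have := (IrreducibleSpace.isIrreducible_univ A).image h h.continuous.continuousOn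
  rw [Set.image_univ, h.surjective.range_eq] at this
  have : PreirreducibleSpace B := ⟨this.2⟩
  exact ⟨inferInstance⟩

end Groth.Agent.FlatMor68.Geom
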