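import Groth.Prelude.Def_P1
import Mathlib
import Groth.Agent.MP99.Image

set_option backward.isDefEq.respectTransparency.types false
set_option linter.style.haveILetI false
set_option autoImplicit false
universe u

open CategoryTheory CategoryTheory.Limits AlgebraicGeometry

namespace Groth.Agent.FlatMor68.P1Modification

theorem isProper_toSpec (R : Type u) [CommRing R] (n : ℕ) : IsProper (CohB1.ProjSpace.toSpec n R) := by
  classical
  let 𝒜 := CohB1.polyGrading n R
  have hsurj : Function.Surjective (algebraMap R (𝒜 0)) := fun p => by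
    have h := p.2
    simp only [𝒜, CohB1.polyGrading, MvPolynomial.mem_homogeneousSubmodule] at h
    refine ⟨MvPolynomial.coeff 0 p.1, Subtype.ext ?_⟩
    rw [SetLike.GradeZero.coe_algebraMap, MvPolynomial.algebraMap_eq,
      ← MvPolynomial.homogeneousComponent_zero, MvPolynomial.homogeneousComponent_of_mem h, if_pos rfl]
  have : IsScalarTower R (𝒜 0) (MvPolynomial (Fin (n + 1)) R) :=
    IsScalarTower.of_algebraMap_eq (R := R) (S := 𝒜 0) (A := MvPolynomial (Fin (n + 1)) R) fun r => rfl
  have : Algebra.FiniteType (𝒜 0) (MvPolynomial (Fin (n + 1)) R) :=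
    Algebra.FiniteType.of_restrictScalars_finiteType R (𝒜 0) _
  have : IsClosedImmersion (Spec.map (CommRingCat.ofHom (algebraMap R (𝒜 0)))) :=
    IsClosedImmersion.spec_of_surjective _ hsurj
  exact MorphismProperty.comp_mem _ _ _ (inferInstance : IsProper (Proj.toSpecZero 𝒜)) inferInstance

theorem t14897
    {S : Scheme.{u}} [IsIntegral S] [CompactSpace S] [QuasiSeparatedSpace S]
    (Kb : Type u) [Field Kb] (ηb : Spec (CommRingCat.of Kb) ⟶ S) [IsDominant ηb] (f : Kb) :
    ∃ (S' : Scheme.{u}) (s : Spec (CommRingCat.of Kb) ⟶ S') (q : S' ⟶ S)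
      (F : S' ⟶ CohB1.ProjSpace 1 P1.R0.{u}),
      IsSchemeTheoreticallyDominant s ∧ IsProper q ∧ s ≫ q = ηb ∧
      s ≫ F = Spec.map (CommRingCat.ofHom (P1.chartMap 0 Kb f)) ≫
        Proj.awayι P1.grading (P1.T 0) (P1.X_mem 0) one_pos := by
  let π : CohB1.ProjSpace 1 P1.R0.{u} ⟶ Spec (CommRingCat.of P1.R0.{u}) := CohB1.ProjSpace.toSpec 1 _
  haveI : IsProper π := isProper_toSpec _ 1
  let t : S ⟶ Spec (CommRingCat.of P1.R0.{u}) := specULiftZIsTerminal.from S
  let k : Spec (CommRingCat.of Kb) ⟶ CohB1.ProjSpace 1 P1.R0.{u} :=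
    Spec.map (CommRingCat.ofHom (P1.chartMap 0 Kb f)) ≫ Proj.awayι P1.grading (P1.T 0) (P1.X_mem 0) one_pos
  let g : Spec (CommRingCat.of Kb) ⟶ pullback t π := pullback.lift ηb k (specULiftZIsTerminal.hom_ext _ _)
  haveI : IsProper (pullback.fst t π) := MorphismProperty.pullback_fst (P := @IsProper) _ _ ‹_›
  haveI : QuasiCompact (g ≫ pullback.fst t π) := by
    rw [pullback.lift_fst]; infer_instance
  haveI : QuasiCompact g := QuasiCompact.of_comp g (pullback.fst t π)
  refine ⟨g.image, g.toImage, g.imageι ≫ pullback.fst t π, g.imageι ≫ pullback.snd t π, MP99.dominant_toImage g, inferInstance, ?_, ?_⟩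
  · rw [← Category.assoc, Scheme.Hom.toImage_imageι, pullback.lift_fst]
  · rw [← Category.assoc, Scheme.Hom.toImage_imageι, pullback.lift_snd]
    rfl

end Groth.Agent.FlatMor68.P1Modification
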