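import Mathlib.RingTheory.Smooth.AdicCompletion
import Mathlib.RingTheory.Smooth.Locus
import Mathlib.RingTheory.AdicCompletion.LocalRing
import Mathlib.RingTheory.AdicCompletion.Noetherian
import Mathlib.RingTheory.DiscreteValuationRing.TFAE

set_option autoImplicit false
universe u
open IsLocalRing

namespace Groth.Agent.FlatMor68.CompleteDVR

theorem isDVR_of_complete (C : Type u) [CommRing C] [IsLocalRing C]
    [IsHausdorff (maximalIdeal C) C] (ϖ : C) (hm : maximalIdeal C = Ideal.span {ϖ})
    (hnil : ∀ n : ℕ, ϖ ^ n ≠ 0) : ∃ _ : IsDomain C, IsDiscreteValuationRing C := by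
  have key : ∀ x : C, x ≠ 0 → ∃ n : ℕ, Associated (ϖ ^ n) x := by
    intro x hx
    have : ∃ n, x ∉ (maximalIdeal C) ^ n := by
      by_contra! h
      exact hx (IsHausdorff.haus' (I := maximalIdeal C) x fun n => by
        rw [SModEq.zero, smul_eq_mul, Ideal.mul_top]; exact h n)
    classical
    have hne : Nat.find this ≠ 0 := fun h => by simpa [h] using Nat.find_spec this
    obtain ⟨n, hn⟩ := Nat.exists_eq_succ_of_ne_zero hne
    have h1 : x ∈ (maximalIdeal C) ^ n := by
      by_contra h; exact absurd (Nat.find_min' this h) (by omega)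
    rw [hm, Ideal.span_singleton_pow, Ideal.mem_span_singleton] at h1
    obtain ⟨c, rfl⟩ := h1
    refine ⟨n, associated_mul_unit_right _ c ?_⟩
    by_contra hc
    apply Nat.find_spec this
    rw [hn, pow_succ]
    refine Ideal.mul_mem_mul (Ideal.pow_mem_pow ?_ n) ((mem_maximalIdeal c).2 hc)
    rw [hm]; exact Ideal.mem_span_singleton_self ϖ
  have : NoZeroDivisors C := ⟨fun {a b} hab => by
    by_contra! h
    obtain ⟨m, u, rfl⟩ := key a h.1
    obtain ⟨n, v, rfl⟩ := key b h.2
    rw [show ϖ ^ m * ↑u * (ϖ ^ n * ↑v) = ϖ ^ (m + n) * ↑(u * v) by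
      rw [pow_add, Units.val_mul]; ring] at hab
    exact hnil _ ((Units.mul_left_eq_zero _).1 hab)⟩
  have hd : IsDomain C := NoZeroDivisors.to_isDomain C
  exact ⟨hd, IsDiscreteValuationRing.ofHasUnitMulPowIrreducibleFactorization
    ⟨ϖ, IsDiscreteValuationRing.irreducible_of_span_eq_maximalIdeal ϖ (by simpa using hnil 1) hm,
      fun hx => key _ hx⟩⟩

end Groth.Agent.FlatMor68.CompleteDVR
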