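import Groth.Agent.FlatMor68.FibreStalk
import Groth.Agent.FlatMor68.Basic
import Groth.Agent.Cyc90.Gen
import Mathlib.RingTheory.Flat.TorsionFree
import Mathlib.AlgebraicGeometry.Morphisms.Flat
import Mathlib.RingTheory.Nakayama

set_option autoImplicit false
universe u
open CategoryTheory CategoryTheory.Limits AlgebraicGeometry TopologicalSpace IsLocalRing Groth.Agent.FlatMor68.FibreStalk Groth.Agent.FlatMor68.Basic Groth.Agent.Cyc90

namespace Groth.Agent.FlatMor68.GenStalk

theorem isReduced_stalk_quot_of_fiber {X S : Scheme.{u}} (f : X ⟶ S) (s : S) [IsReduced (f.fiber s)]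
    (x : X) (hx : f x = s) :
    _root_.IsReduced (X.presheaf.stalk x ⧸ (maximalIdeal (S.presheaf.stalk (f x))).map (f.stalkMap x).hom) := by
  obtain ⟨z, rfl⟩ : x ∈ Set.range (f.fiberι s) := by rw [Scheme.Hom.range_fiberι]; exact hx
  exact isReduced_of_injective (fibreStalkEquiv f s z) (fibreStalkEquiv f s z).injective

theorem maximalIdeal_stalk_eq_bot_of_maximal {Y : Scheme.{u}} [IsReduced Y] (η : Y)
    (hη : ∀ z, z ⤳ η → z = η) : maximalIdeal (Y.presheaf.stalk η) = ⊥ := by
  refine eq_bot_iff.2 fun a ha => ?_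
  have h : IsNilpotent a := by
    rw [← mem_nilradical, nilradical_eq_sInf, Ideal.mem_sInf]
    rintro Q (hQ : Q.IsPrime)
    have h1 := genPrime_fromSpecStalk (X := Y) (x := η) ⟨Q, hQ⟩
    have h2 : ∀ z (hz : z ⤳ η), (genPrime hz).asIdeal = maximalIdeal _ := by
      intro z hz
      obtain rfl := hη z hz
      exact congrArg PrimeSpectrum.asIdeal ((genPrime_eq_iff hz (specializes_refl z)).2 rfl |>.trans (genPrime_refl z))
    have := (h2 _ _).symm.trans (congrArg PrimeSpectrum.asIdeal h1)
    change maximalIdeal _ = Q at this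
    exact this ▸ ha
  exact h.eq_zero

theorem toStalk_facts {R : Type u} [CommRing R] (p : Spec (CommRingCat.of R)) :
    (∀ r : R, IsUnit ((StructureSheaf.toStalk R p).hom r) ↔ r ∉ (PrimeSpectrum.asIdeal (R := R) p)) ∧
    ∀ r : R, PrimeSpectrum.asIdeal (R := R) p = Ideal.span {r} →
      maximalIdeal ((Spec (CommRingCat.of R)).presheaf.stalk p) = Ideal.span {(StructureSheaf.toStalk R p).hom r} := by
  let q : PrimeSpectrum R := p
  letI : Algebra R ((Spec (CommRingCat.of R)).presheaf.stalk p) := (StructureSheaf.toStalk R p).hom.toAlgebra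
  haveI : IsLocalization.AtPrime ((Spec (CommRingCat.of R)).presheaf.stalk p) q.asIdeal :=
    StructureSheaf.IsLocalization.to_stalk R q
  refine ⟨fun r => ?_, fun r hr => ?_⟩
  · exact IsLocalization.AtPrime.isUnit_to_map_iff ((Spec (CommRingCat.of R)).presheaf.stalk p) q.asIdeal r
  · refine (IsLocalization.AtPrime.map_eq_maximalIdeal q.asIdeal ((Spec (CommRingCat.of R)).presheaf.stalk p)).symm.trans ?_
    rw [show q.asIdeal = Ideal.span {r} from hr, Ideal.map_span, Set.image_singleton]
    rfl

end Groth.Agent.FlatMor68.GenStalk
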