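import Groth.Agent.FlatMor68.PullbackDescent
import Groth.Agent.FlatMor66.BCStalk
import Groth.Agent.E4O.BaseChangeDim
import Groth.Agent.Cyc90.FlatRelDim
import Groth.Agent.S9350
import Groth.Agent.VarGal.QFPoint
import Groth.Agent.Hensel20.EtaleDescent
import Groth.Prelude.Def_FlatFun
import Groth.Prelude.Def_FlatMod2

set_option backward.isDefEq.respectTransparency.types false
set_option linter.style.haveILetI false
set_option autoImplicit false
universe u

open CategoryTheory CategoryTheory.Limits AlgebraicGeometry Opposite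

namespace Groth.Agent.FlatMor68.FlatDimFun

open Groth.Agent.QC70

variable {X T : Scheme.{u}}

theorem isFlatOverAt_of_iso (q : X ⟶ T) {M N : X.Modules} (e : M ≅ N) (x : X)
    (h : FlatMod.IsFlatOverAt q M x) : FlatMod.IsFlatOverAt q N x := by
  have hb := (PullbackDescent.isIso_iff e.hom).1 inferInstance x
  unfold FlatMod.IsFlatOverAt at h ⊢
  let l := stalkLinear e.hom x
  letI := FlatMod.moduleStalkOver q M x
  letI := FlatMod.moduleStalkOver q N x
  let eL : M.presheaf.stalk x →ₗ[T.presheaf.stalk (q x)] N.presheaf.stalk x :=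
    { toFun := l
      map_add' := l.map_add
      map_smul' := fun a m => l.map_smul ((q.stalkMap x).hom a) m }
  exact Module.Flat.of_linearEquiv (LinearEquiv.ofBijective eL hb).symm

theorem isFlatOverAt_iff_of_iso (q : X ⟶ T) {M N : X.Modules} (e : M ≅ N) (x : X) :
    FlatMod.IsFlatOverAt q M x ↔ FlatMod.IsFlatOverAt q N x :=
  ⟨isFlatOverAt_of_iso q e x, isFlatOverAt_of_iso q e.symm x⟩

theorem dimFibresLT_iff (n : ℕ) (q : X ⟶ T) [LocallyOfFiniteType q] (Z : Set X) :
    FlatFun.DimFibresLT n q Z ↔ ∀ x ∈ Z, E4O.fdeg q x < n := by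
  constructor
  · intro h x hx
    have := h x hx
    rw [Cyc90.trdeg_residueField_eq_fdeg q x] at this
    exact_mod_cast this
  · intro h x hx
    rw [Cyc90.trdeg_residueField_eq_fdeg q x]
    exact_mod_cast h x hx

variable {S : Scheme.{u}}

theorem fdeg_comp_le {A B : Scheme.{u}} (k : A ⟶ B) [LocallyOfFiniteType k] [LocallyQuasiFinite k]
    (g : B ⟶ S) [LocallyOfFiniteType g] (x : A) : E4O.fdeg (k ≫ g) x ≤ E4O.fdeg g (k x) := by
  have h1 := Cyc90.trdeg_residueField_eq_fdeg k x
  have h2 := Cyc90.trdeg_residueField_eq_fdeg g (k x)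
  have h3 := Cyc90.trdeg_residueField_eq_fdeg (k ≫ g) x
  rw [VarGal.fdeg_eq_zero_of_quasiFiniteAt k (k.quasiFiniteAt x)] at h1
  let K := S.residueField (g (k x)); let L := B.residueField (k x); let M := A.residueField x
  letI aKL : Algebra K L := (g.residueFieldMap (k x)).hom.toAlgebra
  letI aLM : Algebra L M := (k.residueFieldMap x).hom.toAlgebra
  letI aKM : Algebra K M := ((k ≫ g).residueFieldMap x).hom.toAlgebra
  have : IsScalarTower K L M := IsScalarTower.of_algebraMap_eq' (by
    change ((k ≫ g).residueFieldMap x).hom = _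
    rw [Scheme.residueFieldMap_comp]
    rfl)
  have h : Algebra.trdeg K L + Algebra.trdeg L M = Algebra.trdeg K M := trdeg_add_eq K L (A := M)
  rw [h1, h2, Nat.cast_zero, add_zero] at h
  exact le_of_eq (Nat.cast_injective (h.trans h3)).symm

theorem qcohET (f : X ⟶ S) (F : X.Modules) [Coh.IsQCoh F] (T : Over S) :
    Coh.IsQCoh (FGA.ET f F T) :=
  haveI : F.IsQuasicoherent := ‹Coh.IsQCoh F›
  QCPull72.isQuasicoherent_pullback _ F

noncomputable def etIso (f : X ⟶ S) (F : X.Modules) {T' T : Over S} (g : T' ⟶ T) :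
    (Scheme.Modules.pullback (PullbackDescent.bc f g)).obj (FGA.ET f F T) ≅ FGA.ET f F T' :=
  (Scheme.Modules.pullbackComp (PullbackDescent.bc f g) (pullback.fst f T.hom)).app F ≪≫
    (Scheme.Modules.pullbackCongr (pullback.lift_fst _ _ _)).app F

theorem t9023 {X S : Scheme.{u}} (f : X ⟶ S) [LocallyOfFiniteType f] (F : X.Modules) [Coh.IsQCoh F] (n : ℕ) :
    Presheaf.IsSheaf (QuotSh.J Scheme.fpqcPrecoverage S)
      (FlatFun.genPSp S (fun T => FlatFun.DimFibresLT n (PicF.XTproj f T)
        {x | ¬ FlatMod.IsFlatOverAt (PicF.XTproj f T) (FGA.ET f F T) x})) := by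
  refine PullbackDescent.isSheaf_genPSp _ ?_ ?_
  · intro T T₀ g h
    rw [dimFibresLT_iff] at h ⊢
    intro x' hx'
    refine lt_of_le_of_lt (E4O.fdeg_le_of_isPullback (PullbackDescent.bc_isPullback f g) x') (h _ fun hf => hx' ?_)
    exact isFlatOverAt_of_iso _ (etIso f F g) x'
      (FlatMor66.isFlatOverAt_baseChange (PullbackDescent.bc_isPullback f g) _ (qcohET f F T₀) x' hf)
  · intro T ι Ti g hfl hs h
    rw [dimFibresLT_iff]
    intro x hx
    obtain ⟨i, y, hy⟩ := hs (pullback.snd f T.hom x)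
    haveI := hfl i
    obtain ⟨a, ha, -, hd⟩ :=
      E4O.exists_fdeg_eq_of_isPullback (PullbackDescent.bc_isPullback f (g i)) x y hy.symm
    have hi := (dimFibresLT_iff n _ _).1 (h i) a
    refine hd ▸ hi fun hf => hx ?_
    rw [← ha]
    exact FlatMor66.isFlatOverAt_of_baseChange (PullbackDescent.bc_isPullback f (g i)) _ (qcohET f F T) a
      (Flat.stalkMap _ _) (isFlatOverAt_of_iso _ (etIso f F (g i)).symm a hf)

theorem t9027 {X X' S : Scheme.{u}} (f : X ⟶ S) [LocallyOfFiniteType f] (F : X.Modules) [Coh.IsQCoh F]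
    (h : X' ⟶ X) [Etale h] (n : ℕ) (T : Over S)
    (hT : FlatFun.DimFibresLT n (PicF.XTproj f T)
        {x | ¬ FlatMod.IsFlatOverAt (PicF.XTproj f T) (FGA.ET f F T) x}) :
    FlatFun.DimFibresLT n (PicF.XTproj (h ≫ f) T)
        {x | ¬ FlatMod.IsFlatOverAt (PicF.XTproj (h ≫ f) T) (FGA.ET (h ≫ f) ((Scheme.Modules.pullback h).obj F) T) x} := by
  let hT' : pullback (h ≫ f) T.hom ⟶ pullback f T.hom :=
    pullback.lift (pullback.fst (h ≫ f) T.hom ≫ h) (pullback.snd (h ≫ f) T.hom)
      (by rw [Category.assoc]; exact pullback.condition)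
  have hsnd : hT' ≫ pullback.snd f T.hom = pullback.snd (h ≫ f) T.hom := pullback.lift_snd _ _ _
  have hfst : hT' ≫ pullback.fst f T.hom = pullback.fst (h ≫ f) T.hom ≫ h := pullback.lift_fst _ _ _
  have hsq : IsPullback hT' (pullback.fst (h ≫ f) T.hom) (pullback.fst f T.hom) h := by
    refine IsPullback.of_right ?_ hfst (IsPullback.of_hasPullback f T.hom).flip
    rw [hsnd]
    exact (IsPullback.of_hasPullback (h ≫ f) T.hom).flip
  haveI : Etale hT' := MorphismProperty.of_isPullback hsq.flip inferInstance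
  rw [dimFibresLT_iff] at hT ⊢
  intro x hx
  have e : (Scheme.Modules.pullback hT').obj (FGA.ET f F T) ≅
      FGA.ET (h ≫ f) ((Scheme.Modules.pullback h).obj F) T :=
    (Scheme.Modules.pullbackComp hT' (pullback.fst f T.hom)).app F ≪≫
      (Scheme.Modules.pullbackCongr hfst).app F ≪≫
      ((Scheme.Modules.pullbackComp (pullback.fst (h ≫ f) T.hom) h).app F).symm
  refine lt_of_le_of_lt ?_ (hT (hT' x) fun hfl => hx ?_)
  · show E4O.fdeg (pullback.snd (h ≫ f) T.hom) x ≤ E4O.fdeg (pullback.snd f T.hom) (hT' x)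
    rw [← hsnd]
    haveI := Hensel20.locallyQuasiFinite_of_etale hT'
    exact fdeg_comp_le hT' _ x
  · refine isFlatOverAt_of_iso _ e x ?_
    have := (Groth.Agent.S9350.result hT' (pullback.snd f T.hom) (FGA.ET f F T) (qcohET f F T) x
      (Flat.stalkMap hT' x)).1 hfl
    rwa [hsnd] at this

end Groth.Agent.FlatMor68.FlatDimFun
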