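import Mathlib.RingTheory.Flat.FaithfullyFlat.Algebra
import Mathlib.RingTheory.Flat.Stability
import Mathlib.RingTheory.Ideal.Quotient.Operations
import Mathlib.RingTheory.Spectrum.Prime.Topology
import Groth.Agent.CAlg7.FlatLimit

set_option autoImplicit false
universe u
open TensorProduct

namespace Groth.Agent.FlatMor68.Pinch

theorem lTensor_injective_aux {R P M N L F K : Type u} [CommRing R] [AddCommGroup P] [Module R P]
    [AddCommGroup M] [Module R M] [AddCommGroup N] [Module R N] [AddCommGroup L] [Module R L]
    [AddCommGroup F] [Module R F] [AddCommGroup K] [Module R K]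
    (i : P →ₗ[R] M) (d : M →ₗ[R] N) (hi : Function.Injective i) (hd : Function.Surjective d)
    (hex : Function.Exact i d) [Module.Flat R N] [Module.Flat R F]
    (s : K →ₗ[R] F) (p : F →ₗ[R] L) (hs : Function.Injective s) (hp : Function.Surjective p)
    (hsp : Function.Exact s p) : Function.Injective (i.lTensor L) := by
  rw [injective_iff_map_eq_zero]
  intro x hx
  obtain ⟨x', rfl⟩ := LinearMap.rTensor_surjective P hp x
  have h1 : p.rTensor M (i.lTensor F x') = 0 := by
    rwa [← LinearMap.comp_apply, LinearMap.rTensor_comp_lTensor, ← LinearMap.lTensor_comp_rTensor]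
  obtain ⟨k, hk⟩ := (rTensor_exact M hsp hp _).1 h1
  have h2 : s.rTensor N (d.lTensor K k) = 0 := by
    rw [← LinearMap.comp_apply, LinearMap.rTensor_comp_lTensor, ← LinearMap.lTensor_comp_rTensor,
      LinearMap.comp_apply, hk, ← LinearMap.comp_apply, ← LinearMap.lTensor_comp,
      hex.linearMap_comp_eq_zero, LinearMap.lTensor_zero, LinearMap.zero_apply]
  have h3 := (injective_iff_map_eq_zero _).1
    (Module.Flat.rTensor_preserves_injective_linearMap (M := N) s hs) _ h2
  obtain ⟨k', rfl⟩ := (lTensor_exact K hex hd _).1 h3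
  have h4 : i.lTensor F x' = i.lTensor F (s.rTensor P k') := by
    rw [← hk, ← LinearMap.comp_apply, LinearMap.rTensor_comp_lTensor, ← LinearMap.lTensor_comp_rTensor]
    rfl
  rw [Module.Flat.lTensor_preserves_injective_linearMap i hi h4, ← LinearMap.comp_apply,
    ← LinearMap.rTensor_comp, hsp.linearMap_comp_eq_zero, LinearMap.rTensor_zero, LinearMap.zero_apply]

theorem lTensor_injective_of_flat_quotient {R P M N L : Type u} [CommRing R] [AddCommGroup P] [Module R P]
    [AddCommGroup M] [Module R M] [AddCommGroup N] [Module R N] [AddCommGroup L] [Module R L]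
    (i : P →ₗ[R] M) (d : M →ₗ[R] N) (hi : Function.Injective i) (hd : Function.Surjective d)
    (hex : Function.Exact i d) [Module.Flat R N] : Function.Injective (i.lTensor L) := by
  let p : (L →₀ R) →ₗ[R] L := Finsupp.linearCombination R id
  exact @lTensor_injective_aux R P M N L (L →₀ R) (LinearMap.ker p) _ _ _ _ _ _ _ _ _ _ _ (Submodule.addCommGroup _) _ i d hi hd hex _ _ (LinearMap.ker p).subtype p Subtype.val_injective
    (fun l => ⟨Finsupp.single l 1, by simp [p]⟩) (LinearMap.exact_subtype_ker_map p)

theorem flat_of_flat_quotient {R P M N : Type u} [CommRing R] [AddCommGroup P] [Module R P]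
    [AddCommGroup M] [Module R M] [AddCommGroup N] [Module R N]
    (i : P →ₗ[R] M) (d : M →ₗ[R] N) (hi : Function.Injective i) (hd : Function.Surjective d)
    (hex : Function.Exact i d) [Module.Flat R N] [Module.Flat R M] : Module.Flat R P := by
  rw [Module.Flat.iff_rTensor_preserves_injective_linearMap]
  intro J J' _ _ _ _ f hf
  have h := (Module.Flat.rTensor_preserves_injective_linearMap (M := M) f hf).comp
    (lTensor_injective_of_flat_quotient (L := J) i d hi hd hex)
  have he : f.rTensor M ∘ i.lTensor J = i.lTensor J' ∘ f.rTensor P := by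
    rw [← LinearMap.coe_comp, ← LinearMap.coe_comp, LinearMap.rTensor_comp_lTensor, LinearMap.lTensor_comp_rTensor]
  rw [he] at h
  exact h.of_comp

theorem lTensor_injective_of_faithfullyFlat {R B C L : Type u} [CommRing R] [CommRing B] [CommRing C]
    [Algebra R B] [Algebra R C] [Algebra B C] [IsScalarTower R B C] [Module.FaithfullyFlat B C]
    [AddCommGroup L] [Module R L] :
    Function.Injective ((IsScalarTower.toAlgHom R B C).toLinearMap.lTensor L) := by
  rw [LinearMap.lTensor_inj_iff_rTensor_inj]
  have h := ((AlgebraTensorModule.cancelBaseChange R B C C L).injective).comp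
    (Module.FaithfullyFlat.tensorProduct_mk_injective (A := B) (B := C) (B ⊗[R] L))
  convert h using 1
  ext x
  induction x with
  | zero => simp
  | tmul b l => simp [Algebra.smul_def]
  | add x y hx hy =>
    simp only [Function.comp_apply, map_add] at hx hy ⊢
    rw [hx, hy]

section
variable (R A B : Type u) [CommRing R] [CommRing A] [CommRing B]
    [Algebra R A] [Algebra R B] (I : Ideal A) [Algebra B (A ⧸ I)] [IsScalarTower R B (A ⧸ I)]

abbrev pinch : Subalgebra R (B × A) :=
  AlgHom.equalizer ((IsScalarTower.toAlgHom R B (A ⧸ I)).comp (AlgHom.fst R B A))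
          ((Ideal.Quotient.mkₐ R I).comp (AlgHom.snd R B A))

noncomputable def pinchDiff : B × A →ₗ[R] A ⧸ I :=
  (IsScalarTower.toAlgHom R B (A ⧸ I)).toLinearMap.comp (LinearMap.fst R B A) -
    (Ideal.Quotient.mkₐ R I).toLinearMap.comp (LinearMap.snd R B A)

theorem pinchDiff_surjective : Function.Surjective (pinchDiff R A B I) := by
  intro c
  obtain ⟨a, rfl⟩ := Ideal.Quotient.mk_surjective c
  exact ⟨(0, -a), by simp [pinchDiff]⟩

theorem pinch_exact : Function.Exact (pinch R A B I).val.toLinearMap (pinchDiff R A B I) := by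
  intro x
  simp only [pinchDiff, LinearMap.sub_apply, sub_eq_zero]
  exact ⟨fun h => ⟨⟨x, h⟩, rfl⟩, fun ⟨y, hy⟩ => hy ▸ y.2⟩

end

end Groth.Agent.FlatMor68.Pinch
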