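import Groth.Prelude.Def_CInt
import Mathlib

/-!
Gluing two separated schemes along mutual quasi-dominations.
-/

set_option autoImplicit false
set_option linter.unusedSimpArgs false
set_option linter.style.haveILetI false
set_option backward.isDefEq.respectTransparency.types false

universe u

open CategoryTheory CategoryTheory.Limits AlgebraicGeometry TopologicalSpace

namespace Groth.Agent.FlatMor68.QuasiDomGlue

variable {S X₁ X₂ U V Y : Scheme.{u}}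

/-- Two maps to a separated scheme agreeing after a scheme-theoretically dominant map are equal. -/
theorem ext_of_dominant (u : U ⟶ V) [IsSchemeTheoreticallyDominant u] (z : Y ⟶ S) [IsSeparated z]
    (a b : V ⟶ Y) (hz : a ≫ z = b ≫ z) (h : u ≫ a = u ≫ b) : a = b := by
  let k := pullback.fst (pullback.lift a b hz) (pullback.diagonal z)
  let j : U ⟶ pullback (pullback.lift a b hz) (pullback.diagonal z) :=
    pullback.lift u (u ≫ a) (pullback.hom_ext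
      (by simp [pullback.lift_fst, pullback.lift_snd, pullback.lift_fst_assoc, pullback.lift_snd_assoc])
      (by simp [pullback.lift_fst, pullback.lift_snd, pullback.lift_fst_assoc, pullback.lift_snd_assoc, h]))
  have hj : j ≫ k = u := pullback.lift_fst _ _ _
  have : IsClosedImmersion k := inferInstance
  have hk : k.ker = ⊥ := by
    have := u.ker_eq_bot
    rw [← hj] at this
    exact le_bot_iff.1 ((Scheme.Hom.le_ker_comp j k).trans this.le)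
  have : IsIso k :=
    IsClosedImmersion.isIso_of_ker_eq k (𝟙 V) k (Category.comp_id k) (by rw [hk, Scheme.Hom.ker_eq_bot])
  have hc : k ≫ pullback.lift a b hz = pullback.snd _ _ ≫ pullback.diagonal z := pullback.condition
  have h₁ := congrArg (· ≫ pullback.fst z z) hc
  have h₂ := congrArg (· ≫ pullback.snd z z) hc
  simp only [Category.assoc, pullback.lift_fst, pullback.lift_snd, pullback.diagonal_fst,
    pullback.diagonal_snd, Category.comp_id] at h₁ h₂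
  rw [← cancel_epi k, h₁, h₂]

/-- Overlap chart of the diagonal of `Y/S` in `A ×_S B`. -/
theorem isClosed_preimage_diagonal {A B W : Scheme.{u}} (f : Y ⟶ S) (i : A ⟶ Y) (i' : B ⟶ Y)
    [IsOpenImmersion i] [IsOpenImmersion i'] (pA : A ⟶ S) (pB : B ⟶ S) (hA : i ≫ f = pA) (hB : i' ≫ f = pB)
    (o : W ⟶ A) [IsOpenImmersion o] (c : W ⟶ B) (hw : o ≫ i = c ≫ i') (hS : o ≫ pA = c ≫ pB)
    (hr : ∀ a : A, i a ∈ Set.range i' → a ∈ Set.range o)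
    (hc : IsClosed (Set.range (pullback.lift o c hS))) :
    IsClosed ((pullback.map pA pB f f i i' (𝟙 S) (by simp [hA]) (by simp [hB])) ⁻¹'
      Set.range (pullback.diagonal f)) := by
  set m := pullback.map pA pB f f i i' (𝟙 S) (by simp [hA]) (by simp [hB]) with hm
  have hm1 : m ≫ pullback.fst f f = pullback.fst pA pB ≫ i := pullback.lift_fst _ _ _
  have hm2 : m ≫ pullback.snd f f = pullback.snd pA pB ≫ i' := pullback.lift_snd _ _ _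
  convert hc using 1
  apply subset_antisymm
  · rw [← Scheme.Pullback.range_fst]
    set p := pullback.fst m (pullback.diagonal f)
    set q := pullback.snd m (pullback.diagonal f)
    have hc' : p ≫ m = q ≫ pullback.diagonal f := pullback.condition
    have e1 : p ≫ pullback.fst pA pB ≫ i = q := by
      rw [← hm1, ← Category.assoc, hc', Category.assoc, pullback.diagonal_fst, Category.comp_id]
    have e2 : p ≫ pullback.snd pA pB ≫ i' = q := by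
      rw [← hm2, ← Category.assoc, hc', Category.assoc, pullback.diagonal_snd, Category.comp_id]
    let t := IsOpenImmersion.lift o (p ≫ pullback.fst pA pB) (by
      rintro _ ⟨x, rfl⟩
      refine hr _ ⟨(p ≫ pullback.snd pA pB) x, ?_⟩
      rw [← Scheme.Hom.comp_apply, ← Scheme.Hom.comp_apply, Category.assoc, Category.assoc, e1, e2])
    have ht : t ≫ o = p ≫ pullback.fst pA pB := IsOpenImmersion.lift_fac _ _ _
    have hp : t ≫ pullback.lift o c hS = p := by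
      refine pullback.hom_ext (by simp [pullback.lift_fst, pullback.lift_snd, pullback.lift_fst_assoc, pullback.lift_snd_assoc, ht]) ?_
      rw [← cancel_mono i', Category.assoc, Category.assoc, pullback.lift_snd_assoc, Category.assoc, e2, ← hw,
        reassoc_of% ht, e1]
    rintro _ ⟨x, rfl⟩
    exact ⟨t x, by rw [← Scheme.Hom.comp_apply, hp]⟩
  · rintro _ ⟨x, rfl⟩
    refine ⟨(o ≫ i) x, ?_⟩
    rw [← Scheme.Hom.comp_apply, ← Scheme.Hom.comp_apply]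
    refine congrArg (fun g : W ⟶ pullback f f => g x) (pullback.hom_ext ?_ ?_)
    · simp [pullback.lift_fst, pullback.lift_snd, pullback.lift_fst_assoc, pullback.lift_snd_assoc, hm1]
    · simp [pullback.lift_fst, pullback.lift_snd, pullback.lift_fst_assoc, pullback.lift_snd_assoc, hm2, hw]

/-- Separatedness of a scheme covered by two separated opens with closed overlap graphs. -/
theorem isSeparated_of_two {W W' : Scheme.{u}} (f : Y ⟶ S) (i₁ : X₁ ⟶ Y) (i₂ : X₂ ⟶ Y)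
    [IsOpenImmersion i₁] [IsOpenImmersion i₂] (hcov : ∀ y : Y, y ∈ Set.range i₁ ∨ y ∈ Set.range i₂)
    (p₁ : X₁ ⟶ S) (p₂ : X₂ ⟶ S) [IsSeparated p₁] [IsSeparated p₂] (h₁ : i₁ ≫ f = p₁) (h₂ : i₂ ≫ f = p₂)
    (o : W ⟶ X₁) [IsOpenImmersion o] (c : W ⟶ X₂) (hw : o ≫ i₁ = c ≫ i₂) (hS : o ≫ p₁ = c ≫ p₂)
    (hr : ∀ a : X₁, i₁ a ∈ Set.range i₂ → a ∈ Set.range o)
    (hc : IsClosed (Set.range (pullback.lift o c hS)))
    (o' : W' ⟶ X₂) [IsOpenImmersion o'] (c' : W' ⟶ X₁) (hw' : o' ≫ i₂ = c' ≫ i₁) (hS' : o' ≫ p₂ = c' ≫ p₁)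
    (hr' : ∀ a : X₂, i₂ a ∈ Set.range i₁ → a ∈ Set.range o')
    (hc' : IsClosed (Set.range (pullback.lift o' c' hS'))) : IsSeparated f := by
  refine ⟨?_⟩
  suffices h : IsClosed (Set.range (pullback.diagonal f)) from IsClosedImmersion.of_isPreimmersion _ h
  let m11 := pullback.map p₁ p₁ f f i₁ i₁ (𝟙 S) (by simp [h₁]) (by simp [h₁])
  let m12 := pullback.map p₁ p₂ f f i₁ i₂ (𝟙 S) (by simp [h₁]) (by simp [h₂])
  let m21 := pullback.map p₂ p₁ f f i₂ i₁ (𝟙 S) (by simp [h₂]) (by simp [h₁])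
  let m22 := pullback.map p₂ p₂ f f i₂ i₂ (𝟙 S) (by simp [h₂]) (by simp [h₂])
  have h11 : IsClosed (m11 ⁻¹' Set.range (pullback.diagonal f)) :=
    isClosed_preimage_diagonal f i₁ i₁ p₁ p₁ h₁ h₁ (𝟙 X₁) (𝟙 X₁) rfl rfl (fun a _ => ⟨a, rfl⟩)
      (pullback.diagonal p₁).isClosedEmbedding.isClosed_range
  have h22 : IsClosed (m22 ⁻¹' Set.range (pullback.diagonal f)) :=
    isClosed_preimage_diagonal f i₂ i₂ p₂ p₂ h₂ h₂ (𝟙 X₂) (𝟙 X₂) rfl rfl (fun a _ => ⟨a, rfl⟩)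
      (pullback.diagonal p₂).isClosedEmbedding.isClosed_range
  have h12 : IsClosed (m12 ⁻¹' Set.range (pullback.diagonal f)) :=
    isClosed_preimage_diagonal f i₁ i₂ p₁ p₂ h₁ h₂ o c hw hS hr hc
  have h21 : IsClosed (m21 ⁻¹' Set.range (pullback.diagonal f)) :=
    isClosed_preimage_diagonal f i₂ i₁ p₂ p₁ h₂ h₁ o' c' hw' hS' hr' hc'
  rw [← isOpen_compl_iff, isOpen_iff_mem_nhds]
  intro z hz
  have key : ∀ {P : Scheme.{u}} (m : P ⟶ pullback f f) (_ : IsOpenImmersion m),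
      IsClosed (m ⁻¹' Set.range (pullback.diagonal f)) → z ∈ Set.range m →
      (Set.range (pullback.diagonal f))ᶜ ∈ nhds z := by
    rintro P m _ hm ⟨w, rfl⟩
    refine Filter.mem_of_superset ((m.isOpenEmbedding.isOpenMap _ hm.isOpen_compl).mem_nhds ⟨w, hz, rfl⟩) ?_
    rintro _ ⟨v, hv, rfl⟩
    exact hv
  rcases hcov (pullback.fst f f z) with ha | ha <;> rcases hcov (pullback.snd f f z) with hb | hb
  · exact key m11 inferInstance h11 (by rw [Scheme.Pullback.range_map]; exact ⟨ha, hb⟩)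
  · exact key m12 inferInstance h12 (by rw [Scheme.Pullback.range_map]; exact ⟨ha, hb⟩)
  · exact key m21 inferInstance h21 (by rw [Scheme.Pullback.range_map]; exact ⟨ha, hb⟩)
  · exact key m22 inferInstance h22 (by rw [Scheme.Pullback.range_map]; exact ⟨ha, hb⟩)

/-- Restriction of a dominant quasi-compact map to an open through which it factors. -/
theorem dominant_lift {j : U ⟶ X₁} [IsSchemeTheoreticallyDominant j] [QuasiCompact j]
    (a : V ⟶ X₁) [IsOpenImmersion a] (k : U ⟶ V) (hk : k ≫ a = j) : IsSchemeTheoreticallyDominant k := by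
  refine IsSchemeTheoreticallyDominant.of_isPullback (f := j) (g := a) (pX := 𝟙 U) (pY := k) ?_
  refine IsPullback.of_isLimit' ⟨by simp [hk]⟩ (PullbackCone.IsLimit.mk _ (fun s => s.fst) ?_ ?_ ?_)
  · intro s; exact Category.comp_id _
  · intro s; rw [← cancel_mono a, Category.assoc, hk]; exact s.condition
  · intro s m h1 _; simpa using h1

/-- Pushout of two open immersions over a base, with the overlap description. -/
theorem exists_pushout {W : Scheme.{u}} (o : W ⟶ X₁) (c : W ⟶ X₂) [IsOpenImmersion o] [IsOpenImmersion c]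
    (p₁ : X₁ ⟶ S) (p₂ : X₂ ⟶ S) (hS : o ≫ p₁ = c ≫ p₂) :
    ∃ (Y : Scheme.{u}) (q : Y ⟶ S) (i₁ : X₁ ⟶ Y) (i₂ : X₂ ⟶ Y), IsOpenImmersion i₁ ∧ IsOpenImmersion i₂ ∧
      i₁ ≫ q = p₁ ∧ i₂ ≫ q = p₂ ∧ o ≫ i₁ = c ≫ i₂ ∧
      (∀ y : Y, y ∈ Set.range i₁ ∨ y ∈ Set.range i₂) ∧
      (∀ (a : X₁) (b : X₂), i₁ a = i₂ b → ∃ w, o w = a ∧ c w = b) := by
  refine ⟨pushout o c, pushout.desc p₁ p₂ hS, pushout.inl o c, pushout.inr o c,
    inferInstanceAs (IsOpenImmersion (colimit.ι (span o c) WalkingSpan.left)),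
    inferInstanceAs (IsOpenImmersion (colimit.ι (span o c) WalkingSpan.right)),
    pushout.inl_desc _ _ _, pushout.inr_desc _ _ _, pushout.condition, ?_, ?_⟩
  · intro y
    obtain ⟨(_ | _ | _), x, hx⟩ := Scheme.IsLocallyDirected.ι_jointly_surjective (span o c) y
    · refine Or.inl ⟨o x, ?_⟩
      rw [← hx, ← Scheme.Hom.comp_apply]
      exact congrArg (fun m : W ⟶ pushout o c => m x) (colimit.w (span o c) WalkingSpan.Hom.fst)
    · exact Or.inl ⟨x, hx⟩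
    · exact Or.inr ⟨x, hx⟩
  · intro a b hab
    obtain ⟨k, fi, fj, x, hxa, hxb⟩ := (Scheme.IsLocallyDirected.ι_eq_ι_iff (span o c)).1 hab
    rcases k with (_ | _ | _)
    · obtain rfl : fi = WalkingSpan.Hom.fst := Subsingleton.elim _ _
      obtain rfl : fj = WalkingSpan.Hom.snd := Subsingleton.elim _ _
      exact ⟨x, hxa, hxb⟩
    · exact nomatch fj
    · exact nomatch fi

/-- Local finite type from a two-member cover. -/
theorem locallyOfFiniteType_of_two (q : Y ⟶ S) (i₁ : X₁ ⟶ Y) (i₂ : X₂ ⟶ Y) [IsOpenImmersion i₁] [IsOpenImmersion i₂]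
    (hcov : ∀ y : Y, y ∈ Set.range i₁ ∨ y ∈ Set.range i₂)
    [LocallyOfFiniteType (i₁ ≫ q)] [LocallyOfFiniteType (i₂ ≫ q)] : LocallyOfFiniteType q := by
  rw [IsZariskiLocalAtSource.iff_of_iSup_eq_top (P := @LocallyOfFiniteType) ![i₁.opensRange, i₂.opensRange]]
  · intro j
    fin_cases j
    · show LocallyOfFiniteType (i₁.opensRange.ι ≫ q)
      rw [← i₁.isoOpensRange_inv_comp, Category.assoc]; infer_instance
    · show LocallyOfFiniteType (i₂.opensRange.ι ≫ q)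
      rw [← i₂.isoOpensRange_inv_comp, Category.assoc]; infer_instance
  · refine eq_top_iff.2 fun y _ => Opens.mem_iSup.2 ?_
    rcases hcov y with h | h
    exacts [⟨0, h⟩, ⟨1, h⟩]

/-- Scheme-theoretic density checked on a two-member cover. -/
theorem dominant_of_two (i₁ : X₁ ⟶ Y) (i₂ : X₂ ⟶ Y) [IsOpenImmersion i₁] [IsOpenImmersion i₂]
    [QuasiCompact i₁] [QuasiCompact i₂]
    (hcov : ∀ y : Y, y ∈ Set.range i₁ ∨ y ∈ Set.range i₂) (u₁ : U ⟶ X₁) (u₂ : U ⟶ X₂)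
    [IsSchemeTheoreticallyDominant u₁] [IsSchemeTheoreticallyDominant u₂]
    (hU : u₁ ≫ i₁ = u₂ ≫ i₂) : IsSchemeTheoreticallyDominant (u₁ ≫ i₁) := by
  rw [isSchemeTheoreticallyDominant_iff]
  have k1 : (u₁ ≫ i₁).ker = i₁.ker := by
    rw [Scheme.Hom.ker_comp, u₁.ker_eq_bot, Scheme.IdealSheafData.map_bot]
  have k2 : (u₁ ≫ i₁).ker = i₂.ker := by
    rw [hU, Scheme.Hom.ker_comp, u₂.ker_eq_bot, Scheme.IdealSheafData.map_bot]
  refine Scheme.IdealSheafData.ext_of_iSup_eq_top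
    (ι := {V : Y.affineOpens // (V : Y.Opens) ≤ i₁.opensRange ∨
      (V : Y.Opens) ≤ i₂.opensRange}) (fun V => V.1) ?_ ?_
  · refine eq_top_iff.2 fun y _ => ?_
    rcases hcov y with hy | hy
    · obtain ⟨_, ⟨V, hV, rfl⟩, hyV, hVle⟩ :=
        Y.isBasis_affineOpens.exists_subset_of_mem_open (u := (i₁.opensRange : Set _)) hy i₁.opensRange.isOpen
      exact Opens.mem_iSup.2 ⟨⟨⟨V, hV⟩, Or.inl hVle⟩, hyV⟩
    · obtain ⟨_, ⟨V, hV, rfl⟩, hyV, hVle⟩ :=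
        Y.isBasis_affineOpens.exists_subset_of_mem_open (u := (i₂.opensRange : Set _)) hy i₂.opensRange.isOpen
      exact Opens.mem_iSup.2 ⟨⟨⟨V, hV⟩, Or.inr hVle⟩, hyV⟩
  · rintro ⟨V, hV⟩
    rcases hV with hV | hV
    · rw [k1, Scheme.Hom.ker_apply, Scheme.IdealSheafData.ideal_bot]
      have := i₁.isIso_app _ hV
      exact (RingHom.injective_iff_ker_eq_bot _).1 (ConcreteCategory.bijective_of_isIso (i₁.app V.1)).injective
    · rw [k2, Scheme.Hom.ker_apply, Scheme.IdealSheafData.ideal_bot]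
      have := i₂.isIso_app _ hV
      exact (RingHom.injective_iff_ker_eq_bot _).1 (ConcreteCategory.bijective_of_isIso (i₂.app V.1)).injective

section Main

variable (p₁ : X₁ ⟶ S) (p₂ : X₂ ⟶ S) (j₁ : U ⟶ X₁) (j₂ : U ⟶ X₂)
  (W₁ : X₁.Opens) (φ : (↑W₁ : Scheme.{u}) ⟶ X₂) (hφ : W₁.ι ≫ p₁ = φ ≫ p₂)
  (W₂ : X₂.Opens) (ψ : (↑W₂ : Scheme.{u}) ⟶ X₁) (hψ : W₂.ι ≫ p₂ = ψ ≫ p₁)

/-- The overlap map `φ ⁻¹ W₂ ⟶ ψ ⁻¹ W₁`. -/
theorem exists_transition [IsOpenImmersion j₁] [IsSchemeTheoreticallyDominant j₁] [QuasiCompact j₁]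
    [IsSeparated p₁] (hφ : W₁.ι ≫ p₁ = φ ≫ p₂) (hψ : W₂.ι ≫ p₂ = ψ ≫ p₁)
    (k₁ : U ⟶ ↑W₁) (hk₁ : k₁ ≫ W₁.ι = j₁) (hk₁' : k₁ ≫ φ = j₂)
    (k₂ : U ⟶ ↑W₂) (hk₂ : k₂ ≫ W₂.ι = j₂) (hk₂' : k₂ ≫ ψ = j₁) :
    ∃ (θ : (φ ⁻¹ᵁ W₂).toScheme ⟶ (ψ ⁻¹ᵁ W₁).toScheme) (k : U ⟶ (φ ⁻¹ᵁ W₂).toScheme),
      k ≫ (φ ⁻¹ᵁ W₂).ι = k₁ ∧
      θ ≫ (ψ ⁻¹ᵁ W₁).ι ≫ ψ = (φ ⁻¹ᵁ W₂).ι ≫ W₁.ι ∧
      θ ≫ (ψ ⁻¹ᵁ W₁).ι ≫ W₂.ι = (φ ⁻¹ᵁ W₂).ι ≫ φ := by
  let k : U ⟶ (φ ⁻¹ᵁ W₂).toScheme := IsOpenImmersion.lift (φ ⁻¹ᵁ W₂).ι k₁ (by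
    rintro _ ⟨x, rfl⟩
    rw [Scheme.Opens.range_ι]
    show φ (k₁ x) ∈ W₂
    rw [← Scheme.Hom.comp_apply, hk₁', ← hk₂, Scheme.Hom.comp_apply]
    exact (k₂ x).2)
  have hk : k ≫ (φ ⁻¹ᵁ W₂).ι = k₁ := IsOpenImmersion.lift_fac _ _ _
  let a := (φ ⁻¹ᵁ W₂).ι ≫ W₁.ι
  have : IsSchemeTheoreticallyDominant k :=
    dominant_lift (j := j₁) a k (by simp [a, reassoc_of% hk, hk₁])
  have heq : (φ ∣_ W₂) ≫ ψ = a := by
    refine ext_of_dominant k p₁ _ _ ?_ ?_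
    · simp [a, ← hψ, hφ]
    · have : k ≫ (φ ∣_ W₂) = k₂ := by
        rw [← cancel_mono W₂.ι, Category.assoc, morphismRestrict_ι, reassoc_of% hk, hk₁', hk₂]
      rw [reassoc_of% this, hk₂']
      simp [a, reassoc_of% hk, hk₁]
  let θ : (φ ⁻¹ᵁ W₂).toScheme ⟶ (ψ ⁻¹ᵁ W₁).toScheme := IsOpenImmersion.lift (ψ ⁻¹ᵁ W₁).ι (φ ∣_ W₂) (by
    rintro _ ⟨x, rfl⟩
    rw [Scheme.Opens.range_ι]
    show ψ ((φ ∣_ W₂) x) ∈ W₁
    rw [← Scheme.Hom.comp_apply, heq, Scheme.Hom.comp_apply]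
    exact ((φ ⁻¹ᵁ W₂).ι x).2)
  have hθ : θ ≫ (ψ ⁻¹ᵁ W₁).ι = φ ∣_ W₂ := IsOpenImmersion.lift_fac _ _ _
  exact ⟨θ, k, hk, by rw [reassoc_of% hθ, heq], by rw [reassoc_of% hθ, morphismRestrict_ι]⟩

/-- Closedness of the graph of the overlap. -/
theorem isClosed_graph_overlap (θ : (φ ⁻¹ᵁ W₂).toScheme ⟶ (ψ ⁻¹ᵁ W₁).toScheme)
    (hθ₁ : θ ≫ (ψ ⁻¹ᵁ W₁).ι ≫ ψ = (φ ⁻¹ᵁ W₂).ι ≫ W₁.ι)
    (hθ₂ : θ ≫ (ψ ⁻¹ᵁ W₁).ι ≫ W₂.ι = (φ ⁻¹ᵁ W₂).ι ≫ φ)
    (hφc : IsClosed (Set.range (pullback.lift W₁.ι φ hφ)))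
    (hψc : IsClosed (Set.range (pullback.lift W₂.ι ψ hψ)))
    (hS : ((φ ⁻¹ᵁ W₂).ι ≫ W₁.ι) ≫ p₁ = ((φ ⁻¹ᵁ W₂).ι ≫ φ) ≫ p₂) :
    IsClosed (Set.range (pullback.lift ((φ ⁻¹ᵁ W₂).ι ≫ W₁.ι) ((φ ⁻¹ᵁ W₂).ι ≫ φ) hS)) := by
  have e1 : pullback.lift ((φ ⁻¹ᵁ W₂).ι ≫ W₁.ι) ((φ ⁻¹ᵁ W₂).ι ≫ φ) hS =
      (φ ⁻¹ᵁ W₂).ι ≫ pullback.lift W₁.ι φ hφ := pullback.hom_ext (by simp [pullback.lift_fst, pullback.lift_snd, pullback.lift_fst_assoc, pullback.lift_snd_assoc]) (by simp [pullback.lift_fst, pullback.lift_snd, pullback.lift_fst_assoc, pullback.lift_snd_assoc])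
  have e2 : pullback.lift ((φ ⁻¹ᵁ W₂).ι ≫ W₁.ι) ((φ ⁻¹ᵁ W₂).ι ≫ φ) hS =
      θ ≫ (ψ ⁻¹ᵁ W₁).ι ≫ pullback.lift W₂.ι ψ hψ ≫ (pullbackSymmetry p₂ p₁).hom :=
    pullback.hom_ext (by simp [pullback.lift_fst, pullback.lift_snd, pullback.lift_fst_assoc, pullback.lift_snd_assoc, hθ₁]) (by simp [pullback.lift_fst, pullback.lift_snd, pullback.lift_fst_assoc, pullback.lift_snd_assoc, hθ₂])
  convert hφc.inter ((pullbackSymmetry p₂ p₁).hom.homeomorph.isClosedMap _ hψc) using 1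
  apply subset_antisymm
  · rintro _ ⟨x, rfl⟩
    refine ⟨⟨(φ ⁻¹ᵁ W₂).ι x, by rw [e1]; rfl⟩, ⟨_, ⟨(ψ ⁻¹ᵁ W₁).ι (θ x), rfl⟩, ?_⟩⟩
    rw [e2]; rfl
  · rintro z ⟨⟨w, rfl⟩, ⟨_, ⟨v, rfl⟩, hv⟩⟩
    have hv' : (pullback.lift W₂.ι ψ hψ ≫ (pullbackSymmetry p₂ p₁).hom ≫ pullback.snd p₁ p₂) v = φ w :=
      (congrArg (pullback.snd p₁ p₂) hv).trans (by rw [← Scheme.Hom.comp_apply, pullback.lift_snd])
    rw [pullbackSymmetry_hom_comp_snd, pullback.lift_fst] at hv'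
    refine ⟨⟨w, ?_⟩, by rw [e1]; rfl⟩
    show φ w ∈ W₂
    rw [← hv']
    exact v.2

theorem exists_glueing [IsNoetherian S] [IsSeparated p₁] [QuasiCompact p₁] [LocallyOfFiniteType p₁]
    [IsSeparated p₂] [QuasiCompact p₂] [LocallyOfFiniteType p₂]
    [IsOpenImmersion j₁] [IsOpenImmersion j₂]
    [IsSchemeTheoreticallyDominant j₁] [IsSchemeTheoreticallyDominant j₂]
    (hφc : IsClosed (Set.range (pullback.lift W₁.ι φ hφ)))
    (k₁ : U ⟶ ↑W₁) (hk₁ : k₁ ≫ W₁.ι = j₁) (hk₁' : k₁ ≫ φ = j₂)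
    (hψc : IsClosed (Set.range (pullback.lift W₂.ι ψ hψ)))
    (k₂ : U ⟶ ↑W₂) (hk₂ : k₂ ≫ W₂.ι = j₂) (hk₂' : k₂ ≫ ψ = j₁) :
    ∃ (Y : Scheme.{u}) (q : Y ⟶ S) (i₁ : X₁ ⟶ Y) (i₂ : X₂ ⟶ Y), IsSeparated q ∧ QuasiCompact q ∧
      LocallyOfFiniteType q ∧ IsOpenImmersion i₁ ∧ IsOpenImmersion i₂ ∧ i₁ ≫ q = p₁ ∧ i₂ ≫ q = p₂ ∧
      j₁ ≫ i₁ = j₂ ≫ i₂ ∧ QuasiCompact (j₁ ≫ i₁) ∧ IsSchemeTheoreticallyDominant (j₁ ≫ i₁) := by
  have : IsLocallyNoetherian X₁ := LocallyOfFiniteType.isLocallyNoetherian p₁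
  have : IsLocallyNoetherian X₂ := LocallyOfFiniteType.isLocallyNoetherian p₂
  have : CompactSpace X₁ := QuasiCompact.compactSpace_of_compactSpace p₁
  have : CompactSpace X₂ := QuasiCompact.compactSpace_of_compactSpace p₂
  have : IsNoetherian X₁ := ⟨⟩
  have : IsNoetherian X₂ := ⟨⟩
  have : NoetherianSpace U := j₁.isOpenEmbedding.isInducing.noetherianSpace
  have : QuasiCompact j₁ := quasiCompact_of_noetherianSpace_source j₁
  have : QuasiCompact j₂ := quasiCompact_of_noetherianSpace_source j₂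
  obtain ⟨θ, k, hk, hθ₁, hθ₂⟩ :=
    exists_transition p₁ p₂ j₁ j₂ W₁ φ W₂ ψ hφ hψ k₁ hk₁ hk₁' k₂ hk₂ hk₂'
  obtain ⟨η, k', hk', hη₁, hη₂⟩ :=
    exists_transition p₂ p₁ j₂ j₁ W₂ ψ W₁ φ hψ hφ k₂ hk₂ hk₂' k₁ hk₁ hk₁'
  let o := (φ ⁻¹ᵁ W₂).ι ≫ W₁.ι
  let o' := (ψ ⁻¹ᵁ W₁).ι ≫ W₂.ι
  have hθη : θ ≫ η = 𝟙 _ := by
    rw [← cancel_mono o, Category.id_comp, Category.assoc, hη₂, hθ₁]
  have hηθ : η ≫ θ = 𝟙 _ := by
    rw [← cancel_mono o', Category.id_comp, Category.assoc, hθ₂, hη₁]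
  have : IsIso θ := ⟨⟨η, hθη, hηθ⟩⟩
  let c := (φ ⁻¹ᵁ W₂).ι ≫ φ
  let c' := (ψ ⁻¹ᵁ W₁).ι ≫ ψ
  have hcl₀ : ∀ hS : o ≫ p₁ = c ≫ p₂, IsClosed (Set.range (pullback.lift o c hS)) :=
    fun hS => isClosed_graph_overlap p₁ p₂ W₁ φ hφ W₂ ψ hψ θ hθ₁ hθ₂ hφc hψc hS
  have hcl₀' : ∀ hS' : o' ≫ p₂ = c' ≫ p₁, IsClosed (Set.range (pullback.lift o' c' hS')) :=
    fun hS' => isClosed_graph_overlap p₂ p₁ W₂ ψ hψ W₁ φ hφ η hη₁ hη₂ hψc hφc hS'
  have e1 : k ≫ o = j₁ := by simp [o, reassoc_of% hk, hk₁]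
  have e2 : k ≫ c = j₂ := by simp [c, reassoc_of% hk, hk₁']
  have hco : c = θ ≫ o' := hθ₂.symm
  have : IsOpenImmersion c := by rw [hco]; infer_instance
  have hS : o ≫ p₁ = c ≫ p₂ := by simp only [o, c, Category.assoc, hφ]
  have hS' : o' ≫ p₂ = c' ≫ p₁ := by simp only [o', c', Category.assoc, hψ]
  have hθc : θ ≫ c' = o := hθ₁
  have ho : IsOpenImmersion o := inferInstance
  have ho' : IsOpenImmersion o' := inferInstance
  clear_value o o' c c'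
  obtain ⟨Y, q, i₁, i₂, _, _, h₁, h₂, hw, hcov, hr⟩ := exists_pushout o c p₁ p₂ hS
  have hw' : o' ≫ i₂ = c' ≫ i₁ := by
    rw [← cancel_epi θ, ← Category.assoc, ← hco, ← hw, ← Category.assoc, hθc]
  have hcl : IsClosed (Set.range (pullback.lift o c hS)) := hcl₀ hS
  have hcl' : IsClosed (Set.range (pullback.lift o' c' hS')) := hcl₀' hS'
  have hsep : IsSeparated q := isSeparated_of_two q i₁ i₂ hcov p₁ p₂ h₁ h₂ o c hw hS
    (fun a ⟨b, hb⟩ => let ⟨w, hw, _⟩ := hr a b hb.symm; ⟨w, hw⟩) hcl o' c' hw' hS'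
    (fun b ⟨a, ha⟩ => by
      obtain ⟨w, _, hw⟩ := hr a b ha
      exact ⟨θ w, by rw [← Scheme.Hom.comp_apply, ← hco, hw]⟩) hcl'
  have hU : j₁ ≫ i₁ = j₂ ≫ i₂ := by
    rw [← e1, ← e2, Category.assoc, Category.assoc, hw]
  have : LocallyOfFiniteType (i₁ ≫ q) := by rw [h₁]; infer_instance
  have : LocallyOfFiniteType (i₂ ≫ q) := by rw [h₂]; infer_instance
  have hlft : LocallyOfFiniteType q := locallyOfFiniteType_of_two q i₁ i₂ hcov
  have : IsLocallyNoetherian Y := LocallyOfFiniteType.isLocallyNoetherian q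
  have : CompactSpace Y := by
    refine ⟨?_⟩
    convert (isCompact_range i₁.continuous).union (isCompact_range i₂.continuous)
    exact (Set.eq_univ_of_forall hcov).symm
  have : IsNoetherian Y := ⟨⟩
  have : QuasiCompact i₁ := quasiCompact_of_noetherianSpace_source i₁
  have : QuasiCompact i₂ := quasiCompact_of_noetherianSpace_source i₂
  exact ⟨Y, q, i₁, i₂, hsep, quasiCompact_of_noetherianSpace_source q, hlft, inferInstance,
    inferInstance, h₁, h₂, hU, quasiCompact_of_noetherianSpace_source _, dominant_of_two i₁ i₂ hcov j₁ j₂ hU⟩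

end Main

end Groth.Agent.FlatMor68.QuasiDomGlue
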