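import Groth.Agent.CAlg1.AssTensor
import Groth.Agent.FlatMor68.FibreFree
import Groth.Agent.QCPull72.Sections
import Groth.Agent.E4O.FibreComp
import Groth.Agent.Props58.LocFree.Criteria
import Groth.Prelude.Def_MoreMor

set_option backward.isDefEq.respectTransparency.types false
set_option linter.style.haveILetI false
set_option autoImplicit false
universe u

open CategoryTheory CategoryTheory.Limits AlgebraicGeometry TopologicalSpace TensorProduct IsLocalRing

namespace Groth.Agent.FlatMor68.RelAssBC

section Alg

variable {B C : Type u} [CommRing B] [CommRing C] [IsLocalRing B] [IsLocalRing C] [Algebra B C]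

/-- Being associated at the closed point does not see a surjective change of rings. -/
theorem ass_maximal_iff_of_surjective (hs : Function.Surjective (algebraMap B C))
    {N : Type u} [AddCommGroup N] [Module B N] {L : Type u} [AddCommGroup L] [Module C L] [Module B L]
    [IsScalarTower B C L] (e : N ≃ₗ[B] L) :
    IsAssociatedPrime (maximalIdeal B) N ↔ IsAssociatedPrime (maximalIdeal C) L := by
  haveI : IsLocalHom (algebraMap B C) := IsLocalHom.of_surjective (algebraMap B C) hs
  have hc : (maximalIdeal C).comap (algebraMap B C) = maximalIdeal B :=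
    ((local_hom_TFAE (algebraMap B C)).out 0 4).1 ‹IsLocalHom (algebraMap B C)›
  have key : ∀ z : N, ((⊥ : Submodule B N).colon {z}).radical =
      (((⊥ : Submodule C L).colon {e z}).radical).comap (algebraMap B C) := by
    intro z
    rw [Ideal.comap_radical]
    congr 1
    ext b
    rw [Submodule.mem_colon_singleton, Ideal.mem_comap, Submodule.mem_colon_singleton, Submodule.mem_bot,
      Submodule.mem_bot, algebraMap_smul, ← map_smul, e.map_eq_zero_iff]
  constructor
  · rintro ⟨hp, z, hz⟩
    refine ⟨inferInstance, e z, ?_⟩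
    apply Ideal.comap_injective_of_surjective (algebraMap B C) hs
    rw [hc, ← key, ← hz]
  · rintro ⟨hp, y, hy⟩
    refine ⟨inferInstance, e.symm y, ?_⟩
    rw [key, e.apply_symm_apply, ← hy, hc]

variable {M : Type u} [AddCommGroup M] [Module B M]

/-- Along a flat local homomorphism the closed point is associated only if it was. -/
theorem ass_of_ass_tensor [IsNoetherianRing B] [IsLocalHom (algebraMap B C)] [Module.Flat B C]
    (h : IsAssociatedPrime (maximalIdeal C) (C ⊗[B] M)) : IsAssociatedPrime (maximalIdeal B) M := by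
  have h' : maximalIdeal C ∈ associatedPrimes C (C ⊗[B] M) := h
  rw [CAlg1.associatedPrimes_tensor_of_flat] at h'
  simp only [Set.mem_iUnion, exists_prop] at h'
  obtain ⟨p, hp, -, y, hy⟩ := h'
  haveI := hp.1
  suffices p = maximalIdeal B by rw [← this]; exact hp
  refine le_antisymm (le_maximalIdeal hp.1.ne_top) fun b hb => ?_
  by_contra hbp
  have hinj : ∀ w : C ⊗[B] (B ⧸ p), b • w = 0 → w = 0 := by
    have h1 : Function.Injective (LinearMap.lsmul B (B ⧸ p) b) := by
      refine (injective_iff_map_eq_zero _).2 fun z hz => ?_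
      obtain ⟨z, rfl⟩ := Ideal.Quotient.mk_surjective z
      rw [LinearMap.lsmul_apply, Algebra.smul_def, Ideal.Quotient.algebraMap_eq, ← map_mul,
        Ideal.Quotient.eq_zero_iff_mem] at hz
      exact Ideal.Quotient.eq_zero_iff_mem.2 ((hp.1.mem_or_mem hz).resolve_left hbp)
    have h2 := Module.Flat.lTensor_preserves_injective_linearMap (M := C) _ h1
    have h3 : (LinearMap.lsmul B (B ⧸ p) b).lTensor C = LinearMap.lsmul B (C ⊗[B] (B ⧸ p)) b := by
      apply TensorProduct.ext'
      intro c z
      simp [tmul_smul]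
    intro w hw
    refine h2 ?_
    rw [h3, LinearMap.lsmul_apply, hw, map_zero]
  let E := CAlg1.tensorQuotEquiv (S := C) (N := C) (R := B) p
  have hinjy : ∀ k : ℕ, (algebraMap B C b ^ k) • y = 0 → y = 0 := by
    intro k
    induction k with
    | zero => intro h0; simpa using h0
    | succ k ih =>
      intro h0
      apply ih
      rw [pow_succ', mul_smul, algebraMap_smul] at h0
      generalize algebraMap B C b ^ k • y = w at h0
      apply E.injective
      rw [map_zero]
      refine hinj _ ?_
      exact (LinearMap.map_smul_of_tower E.toLinearMap b w).symm.trans ((congrArg E h0).trans (map_zero E))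
  have hmem : algebraMap B C b ∈ maximalIdeal C := by
    have hc : (maximalIdeal C).comap (algebraMap B C) = maximalIdeal B :=
      ((local_hom_TFAE (algebraMap B C)).out 0 4).1 ‹IsLocalHom (algebraMap B C)›
    rw [← hc] at hb
    exact hb
  rw [hy] at hmem
  obtain ⟨k, hk⟩ := hmem
  rw [Submodule.mem_colon_singleton, Submodule.mem_bot] at hk
  have htop : maximalIdeal C = ⊤ := by
    rw [hy, hinjy k hk]
    ext c
    simp only [Submodule.mem_top, iff_true]
    exact Ideal.le_radical (by rw [Submodule.mem_colon_singleton, smul_zero]; exact Submodule.zero_mem _)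
  exact (maximalIdeal.isMaximal C).ne_top htop

/-- The closed point stays associated along a flat local homomorphism with zero-dimensional fibre. -/
theorem ass_tensor_of_ass [IsNoetherianRing B] [IsNoetherianRing C] [IsLocalHom (algebraMap B C)] [Module.Flat B C]
    (hmin : ∀ P : Ideal C, P.IsPrime → (maximalIdeal B).map (algebraMap B C) ≤ P → P = maximalIdeal C)
    (h : IsAssociatedPrime (maximalIdeal B) M) : IsAssociatedPrime (maximalIdeal C) (C ⊗[B] M) := by
  let Q := C ⧸ (maximalIdeal B).map (algebraMap B C) • (⊤ : Submodule C C)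
  have hne : (maximalIdeal B).map (algebraMap B C) • (⊤ : Submodule C C) ≠ ⊤ := by
    rw [smul_eq_mul, Ideal.mul_top]
    exact ne_top_of_le_ne_top (maximalIdeal.isMaximal C).ne_top (((local_hom_TFAE (algebraMap B C)).out 0 2).1 ‹IsLocalHom (algebraMap B C)›)
  haveI : Nontrivial Q := Submodule.Quotient.nontrivial_iff.2 hne
  obtain ⟨P, hP⟩ := associatedPrimes.nonempty C Q
  have hle : (maximalIdeal B).map (algebraMap B C) ≤ P := by
    refine le_trans ?_ hP.annihilator_le
    intro c hc
    rw [Submodule.mem_annihilator]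
    intro q _
    obtain ⟨q, rfl⟩ := Submodule.mkQ_surjective _ q
    rw [← map_smul, Submodule.mkQ_apply, Submodule.Quotient.mk_eq_zero]
    exact Submodule.smul_mem_smul hc trivial
  show maximalIdeal C ∈ associatedPrimes C (C ⊗[B] M)
  rw [CAlg1.associatedPrimes_tensor_of_flat]
  simp only [Set.mem_iUnion, exists_prop]
  exact ⟨_, h, hmin P hP.1 hle ▸ hP⟩

end Alg

section Geom

variable {X Y S : Scheme.{u}}

/-- Points of the relative assassin are the associated points of the fibres. -/
theorem relAss_iff (f : X ⟶ S) (F : X.Modules) [F.IsQuasicoherent] (s : S) (z : f.fiber s) :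
    f.fiberι s z ∈ MoreMor.relAss f F ↔
      IsAssociatedPrime (maximalIdeal ((f.fiber s).presheaf.stalk z))
        (((Scheme.Modules.pullback (f.fiberι s)).obj F).presheaf.stalk z) := by
  obtain ⟨E⟩ := PullbackStalk.nonempty_stalkPullbackEquiv (f.fiberι s) F z
  let x := f.fiberι s z
  let B := X.presheaf.stalk x
  let C := (f.fiber s).presheaf.stalk z
  let M := F.presheaf.stalk x
  letI : Algebra B C := ((f.fiberι s).stalkMap z).hom.toAlgebra
  have hs : Function.Surjective (algebraMap B C) := FibreStalk.fiberι_stalkMap_surjective f s z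
  have hker : RingHom.ker (algebraMap B C) =
      (maximalIdeal (S.presheaf.stalk (f x))).map (f.stalkMap x).hom := FibreStalk.ker_fiberι_stalkMap f s z
  let J := (maximalIdeal (S.presheaf.stalk (f x))).map (f.stalkMap x).hom
  let eC : (B ⧸ J) ≃ₐ[B] C := (Ideal.quotientEquivAlgOfEq B hker.symm).trans
    (Ideal.quotientKerAlgEquivOfSurjective (f := Algebra.ofId B C) hs)
  let e : (M ⧸ J • (⊤ : Submodule B M)) ≃ₗ[B] C ⊗[B] M :=
    (TensorProduct.quotTensorEquivQuotSMul M J).symm ≪≫ₗ TensorProduct.congr eC.toLinearEquiv (LinearEquiv.refl B M)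
  refine (ass_maximal_iff_of_surjective hs e).trans ?_
  exact ⟨fun h => (LinearEquiv.AssociatedPrimes.eq E).symm.le h, fun h => (LinearEquiv.AssociatedPrimes.eq E).le h⟩

theorem t9780 {X S X' S' : Scheme.{u}} (f : X ⟶ S) [LocallyOfFiniteType f] (F : X.Modules) [F.IsQuasicoherent]
    (U : X.Opens) (g : S' ⟶ S) (f' : X' ⟶ S') (g' : X' ⟶ X) (hc : IsPullback g' f' f g) (s' : S') :
    {x : ↑X | x ∈ MoreMor.relAss f F ∧ f x = g s'} ⊆ (U : Set ↑X) ↔
      {x' : ↑X' | x' ∈ MoreMor.relAss f' ((Scheme.Modules.pullback g').obj F) ∧ f' x' = s'} ⊆ (g' ⁻¹ᵁ U : Set ↑X') := by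
  let k := Spec.map (g.residueFieldMap s')
  have hsq := isPullback_fiberToSpecResidueField_of_isPullback hc s'
  let e : f'.fiber s' ⟶ f.fiber (g s') := pullback.map f' (S'.fromSpecResidueField s') f (S.fromSpecResidueField (g s')) g'
    (Spec.map (g.residueFieldMap s')) g hc.w.symm (by simp)
  have he : e ≫ f.fiberι (g s') = f'.fiberι s' ≫ g' := pullback.lift_fst _ _ _
  have hept : ∀ z', f.fiberι (g s') (e z') = g' (f'.fiberι s' z') := fun z' =>
    ((Scheme.Hom.comp_apply e (f.fiberι (g s')) z').symm.trans
      (congrArg (fun k : f'.fiber s' ⟶ X => k z') he)).trans (Scheme.Hom.comp_apply (f'.fiberι s') g' z')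
  haveI : Flat k := by
    rw [HasRingHomProperty.Spec_iff (P := @Flat)]
    letI := (g.residueFieldMap s').hom.toAlgebra
    exact (inferInstance : Module.Flat (S.residueField (g s')) (S'.residueField s'))
  haveI : Surjective k := ⟨fun p => ⟨IsLocalRing.closedPoint (S'.residueField s'), Subsingleton.elim (α := PrimeSpectrum _) _ _⟩⟩
  haveI : Flat e := MorphismProperty.of_isPullback hsq.flip inferInstance
  haveI : Surjective e := MorphismProperty.of_isPullback hsq.flip inferInstance
  haveI : LocallyOfFiniteType f' := MorphismProperty.of_isPullback hc inferInstance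
  haveI : LocallyOfFiniteType (f.fiberToSpecResidueField (g s')) :=
    MorphismProperty.pullback_snd _ _ inferInstance
  haveI : IsLocallyNoetherian (f.fiber (g s')) :=
    LocallyOfFiniteType.isLocallyNoetherian (f.fiberToSpecResidueField (g s'))
  haveI : LocallyOfFiniteType (f'.fiberToSpecResidueField s') :=
    MorphismProperty.pullback_snd _ _ inferInstance
  haveI : IsLocallyNoetherian (f'.fiber s') :=
    LocallyOfFiniteType.isLocallyNoetherian (f'.fiberToSpecResidueField s')
  let F' := (Scheme.Modules.pullback g').obj F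
  haveI : F'.IsQuasicoherent := QCPull72.isQuasicoherent_pullback g' F
  let G := (Scheme.Modules.pullback (f.fiberι (g s'))).obj F
  haveI : G.IsQuasicoherent := QCPull72.isQuasicoherent_pullback _ F
  let I : (Scheme.Modules.pullback (f'.fiberι s')).obj F' ≅ (Scheme.Modules.pullback e).obj G :=
    (Scheme.Modules.pullbackComp _ _).app F ≪≫ (Scheme.Modules.pullbackCongr he.symm).app F ≪≫
      ((Scheme.Modules.pullbackComp e (f.fiberι (g s'))).app F).symm
  have key : ∀ z' : f'.fiber s',
      f'.fiberι s' z' ∈ MoreMor.relAss f' F' ↔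
      IsAssociatedPrime (maximalIdeal ((f'.fiber s').presheaf.stalk z'))
        (((Scheme.Modules.pullback e).obj G).presheaf.stalk z') := fun z' =>
    (relAss_iff f' F' s' z').trans
      ⟨fun h => (LinearEquiv.AssociatedPrimes.eq (FibreFree.stalkEquivOfIso I z')).le h,
       fun h => (LinearEquiv.AssociatedPrimes.eq (FibreFree.stalkEquivOfIso I z')).symm.le h⟩
  constructor
  · rintro h x' ⟨hx', hfx'⟩
    obtain ⟨z', rfl⟩ := E4O.exists_fiberι_eq f' hfx'
    show g' (f'.fiberι s' z') ∈ U
    rw [← hept]
    refine h ⟨(relAss_iff f F (g s') (e z')).2 ?_, E4O.apply_fiberι f _ _⟩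
    obtain ⟨E⟩ := PullbackStalk.nonempty_stalkPullbackEquiv e G z'
    letI := (e.stalkMap z').hom.toAlgebra
    haveI : Module.Flat ((f.fiber (g s')).presheaf.stalk (e z')) ((f'.fiber s').presheaf.stalk z') := Flat.stalkMap e z'
    haveI : IsLocalHom (algebraMap ((f.fiber (g s')).presheaf.stalk (e z')) ((f'.fiber s').presheaf.stalk z')) :=
      e.toLRSHom.prop z'
    exact ass_of_ass_tensor ((LinearEquiv.AssociatedPrimes.eq E).le ((key z').1 hx'))
  · rintro h x ⟨hx, hfx⟩
    obtain ⟨z, rfl⟩ := E4O.exists_fiberι_eq f hfx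
    obtain ⟨a, ha⟩ := e.surjective z
    obtain ⟨b, -⟩ := E4O.exists_fiberι_eq e ha
    have : Nonempty ↥(e.fiber z) := ⟨b⟩
    obtain ⟨Z, hZ⟩ : ∃ Z, Z ∈ irreducibleComponents ↥(e.fiber z) :=
      ⟨irreducibleComponent b, irreducibleComponent_mem_irreducibleComponents _⟩
    obtain ⟨w, -, hw⟩ := E4O.exists_eq_closure_of_mem_irreducibleComponents hZ
    have hwmax := (E4O.isFibreMax_fiberι_iff e z w).2 hw
    have hez : e (e.fiberι z w) = z := E4O.apply_fiberι e z w
    set z' := e.fiberι z w
    clear_value z'
    subst hez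
    have hass := (relAss_iff f F (g s') (e z')).1 hx
    obtain ⟨E⟩ := PullbackStalk.nonempty_stalkPullbackEquiv e G z'
    letI := (e.stalkMap z').hom.toAlgebra
    haveI : Module.Flat ((f.fiber (g s')).presheaf.stalk (e z')) ((f'.fiber s').presheaf.stalk z') := Flat.stalkMap e z'
    haveI : IsLocalHom (algebraMap ((f.fiber (g s')).presheaf.stalk (e z')) ((f'.fiber s').presheaf.stalk z')) :=
      e.toLRSHom.prop z'
    have hmin : ∀ P : Ideal ((f'.fiber s').presheaf.stalk z'), P.IsPrime →
        (maximalIdeal ((f.fiber (g s')).presheaf.stalk (e z'))).map (e.stalkMap z').hom ≤ P →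
        P = maximalIdeal _ := by
      intro P hP hle
      let pt : PrimeSpectrum ((f'.fiber s').presheaf.stalk z') := ⟨P, hP⟩
      have h1 : (f'.fiber s').fromSpecStalk z' pt ⤳ z' :=
        (Set.ext_iff.1 Scheme.range_fromSpecStalk _).1 ⟨pt, rfl⟩
      have h2 : e ((f'.fiber s').fromSpecStalk z' pt) = e z' := by
        rw [← Scheme.Hom.comp_apply, ← Scheme.SpecMap_stalkMap_fromSpecStalk, Scheme.Hom.comp_apply]
        have hcl : Spec.map (e.stalkMap z') pt = IsLocalRing.closedPoint _ := by
          refine PrimeSpectrum.ext ?_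
          haveI := hP
          exact ((maximalIdeal.isMaximal _).eq_of_le (Ideal.IsPrime.ne_top inferInstance)
            (Ideal.map_le_iff_le_comap.1 hle)).symm
        rw [hcl, Scheme.fromSpecStalk_closedPoint]
      have h3 := hwmax _ h1 h2
      have h4 : pt = IsLocalRing.closedPoint _ := by
        apply ((f'.fiber s').fromSpecStalk z').isEmbedding.injective
        rw [Scheme.fromSpecStalk_closedPoint]
        exact h3
      exact congrArg PrimeSpectrum.asIdeal h4
    have h5 := (key z').2 ((LinearEquiv.AssociatedPrimes.eq E).symm.le (ass_tensor_of_ass hmin hass))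
    have h6 : g' (f'.fiberι s' z') ∈ U := h ⟨h5, E4O.apply_fiberι f' _ _⟩
    rw [← hept] at h6
    exact h6

end Geom

end Groth.Agent.FlatMor68.RelAssBC
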