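import Groth.Agent.S2604
import Groth.Agent.CAlg1.CMPoly
import Groth.Agent.EGA4H10.CMFibre
import Groth.Agent.FlatMor68.FibreStalk
import Groth.Agent.FlatMor68.PullbackStalk
import Groth.Prelude.Def_MoreMor
import Mathlib

set_option backward.isDefEq.respectTransparency.types false
set_option linter.style.haveILetI false
set_option autoImplicit false
universe u

open CategoryTheory CategoryTheory.Limits AlgebraicGeometry TensorProduct IsLocalRing
open Groth.Agent.EGA4Alg4

namespace Groth.Agent.FlatMor68.CMComp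

/-- CM property of local rings in a flat local homomorphism. -/
theorem cm_iff (A B : Type u) [CommRing A] [CommRing B] [IsNoetherianRing A] [IsNoetherianRing B]
    [IsLocalRing A] [IsLocalRing B] [Algebra A B] [IsLocalHom (algebraMap A B)] [Module.Flat A B] :
    LocCoh.IsCohenMacaulayLocalRing B ↔
      LocCoh.IsCohenMacaulayLocalRing A ∧ LocCoh.IsCohenMacaulayLocalRing (EGA4.FibRing A B) := by
  have hle : EGA4.mB A B ≤ maximalIdeal B := Ideal.map_le_iff_le_comap.2 fun t ht => map_nonunit (algebraMap A B) t ht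
  haveI : Nontrivial (EGA4.FibRing A B) :=
    Ideal.Quotient.nontrivial_iff.2 (ne_top_of_le_ne_top (maximalIdeal.isMaximal B).ne_top hle)
  haveI : IsLocalRing (EGA4.FibRing A B) := IsLocalRing.of_surjective' _ Ideal.Quotient.mk_surjective
  have h := Groth.Agent.S2604.result A B A B
  let e₁ : B ⊗[A] A ≃ₗ[B] B := TensorProduct.AlgebraTensorModule.rid A B B
  let e₂ : EGA4.FibMod A B B ≃ₗ[B] EGA4.FibRing A B :=
    Submodule.quotEquivOfEq _ _ (by rw [Ideal.smul_eq_mul, Ideal.mul_top])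
  let e₃ : EGA4.FibMod A B B ≃ₗ[EGA4.FibRing A B] EGA4.FibRing A B :=
    e₂.extendScalarsOfSurjective Ideal.Quotient.mk_surjective
  simp only [LocCoh.IsCohenMacaulayModule, Module.supportDim_eq_of_equiv e₁, depth_eq_of_equiv e₁,
    Module.supportDim_eq_of_equiv e₃, depth_eq_of_equiv e₃] at h
  exact ⟨fun hB => ⟨{ supportDim_eq_depth := (h.1 hB.supportDim_eq_depth).1 },
    { supportDim_eq_depth := (h.1 hB.supportDim_eq_depth).2 }⟩,
    fun hAF => { supportDim_eq_depth := h.2 ⟨hAF.1.supportDim_eq_depth, hAF.2.supportDim_eq_depth⟩ }⟩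

/-- Fibre algebra of a composite of local homomorphisms. -/
theorem comp_data {C A B : Type u} [CommRing C] [CommRing A] [CommRing B] [IsLocalRing C] [IsLocalRing A] [IsLocalRing B]
    [Algebra C A] [Algebra C B] [Algebra A B] [IsScalarTower C A B] [IsLocalHom (algebraMap C A)] [IsLocalHom (algebraMap A B)]
    [Module.Flat A B] [IsNoetherianRing (EGA4.FibRing C A)] [IsNoetherianRing (EGA4.FibRing C B)] :
    LocCoh.IsCohenMacaulayLocalRing (EGA4.FibRing C B) ↔
      LocCoh.IsCohenMacaulayLocalRing (EGA4.FibRing C A) ∧ LocCoh.IsCohenMacaulayLocalRing (EGA4.FibRing A B) := by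
  have hA : EGA4.mB C A ≤ maximalIdeal A := Ideal.map_le_iff_le_comap.2 fun t ht => map_nonunit (algebraMap C A) t ht
  have hB : EGA4.mB A B ≤ maximalIdeal B := Ideal.map_le_iff_le_comap.2 fun t ht => map_nonunit (algebraMap A B) t ht
  have hmap : (EGA4.mB C A).map (algebraMap A B) = EGA4.mB C B := by
    show ((maximalIdeal C).map _).map _ = (maximalIdeal C).map _
    rw [Ideal.map_map, ← IsScalarTower.algebraMap_eq]
  have hle : EGA4.mB C B ≤ EGA4.mB A B := by rw [← hmap]; exact Ideal.map_mono hA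
  haveI : Nontrivial (EGA4.FibRing C A) :=
    Ideal.Quotient.nontrivial_iff.2 (ne_top_of_le_ne_top (maximalIdeal.isMaximal A).ne_top hA)
  haveI : Nontrivial (EGA4.FibRing C B) :=
    Ideal.Quotient.nontrivial_iff.2 (ne_top_of_le_ne_top (maximalIdeal.isMaximal B).ne_top (hle.trans hB))
  haveI : IsLocalRing (EGA4.FibRing C A) := IsLocalRing.of_surjective' _ Ideal.Quotient.mk_surjective
  haveI : IsLocalRing (EGA4.FibRing C B) := IsLocalRing.of_surjective' _ Ideal.Quotient.mk_surjective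
  let φ : EGA4.FibRing C A →+* EGA4.FibRing C B := Ideal.quotientMap _ (algebraMap A B) (Ideal.map_le_iff_le_comap.1 hmap.le)
  letI : Algebra (EGA4.FibRing C A) (EGA4.FibRing C B) := φ.toAlgebra
  haveI : IsScalarTower A (EGA4.FibRing C A) (EGA4.FibRing C B) := .of_algebraMap_eq fun a => rfl
  haveI : IsLocalHom (Ideal.Quotient.mk (EGA4.mB C B)) := IsLocalHom.of_surjective _ Ideal.Quotient.mk_surjective
  haveI : IsLocalHom (algebraMap (EGA4.FibRing C A) (EGA4.FibRing C B)) := ⟨fun a ha => by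
    obtain ⟨a, rfl⟩ := Ideal.Quotient.mk_surjective a
    exact (IsUnit.of_map (algebraMap A B) a (IsUnit.of_map (Ideal.Quotient.mk (EGA4.mB C B)) _ ha)).map _⟩
  haveI : Module.Flat (EGA4.FibRing C A) (EGA4.FibRing C B) := by
    haveI : Module.Flat (EGA4.FibRing C A) (EGA4.FibRing C A ⊗[A] B) := inferInstance
    let e : (EGA4.FibRing C A ⊗[A] B) ≃ₗ[A] EGA4.FibRing C B :=
      (TensorProduct.quotTensorEquivQuotSMul B (EGA4.mB C A)) ≪≫ₗ Submodule.quotEquivOfEq _ ((EGA4.mB C B).restrictScalars A) (by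
        rw [Ideal.smul_top_eq_map, hmap]) ≪≫ₗ (Submodule.Quotient.restrictScalarsEquiv A (EGA4.mB C B))
    exact Module.Flat.of_linearEquiv (e.extendScalarsOfSurjective Ideal.Quotient.mk_surjective).symm
  rw [cm_iff (EGA4.FibRing C A) (EGA4.FibRing C B)]
  have hm : EGA4.mB (EGA4.FibRing C A) (EGA4.FibRing C B) = (EGA4.mB A B).map (Ideal.Quotient.mk (EGA4.mB C B)) := by
    have : maximalIdeal (EGA4.FibRing C A) = (maximalIdeal A).map (Ideal.Quotient.mk (EGA4.mB C A)) := by
      refine le_antisymm (fun x hx => ?_) (Ideal.map_le_iff_le_comap.2 fun a ha => ?_)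
      · obtain ⟨a, rfl⟩ := Ideal.Quotient.mk_surjective x
        exact Ideal.mem_map_of_mem _ fun hu => hx (hu.map _)
      · haveI : IsLocalHom (Ideal.Quotient.mk (EGA4.mB C A)) := IsLocalHom.of_surjective _ Ideal.Quotient.mk_surjective
        exact map_nonunit _ a ha
    show (maximalIdeal (EGA4.FibRing C A)).map _ = ((maximalIdeal A).map _).map _
    rw [this, Ideal.map_map, Ideal.map_map]
    rfl
  let e : EGA4.FibRing (EGA4.FibRing C A) (EGA4.FibRing C B) ≃+* EGA4.FibRing A B :=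
    (Ideal.quotEquivOfEq hm).trans (DoubleQuot.quotQuotEquivQuotOfLE hle)
  exact ⟨fun h => ⟨h.1, CAlg1.cm_of_ringEquiv e h.2⟩, fun h => ⟨h.1, CAlg1.cm_of_ringEquiv e.symm h.2⟩⟩

/-- The local ring of the fibre, as quotient. -/
theorem cm_fibre_iff {X Y : Scheme.{u}} (f : X ⟶ Y) (x : X) :
    LocCoh.IsCohenMacaulayLocalRing ((f.fiber (f x)).presheaf.stalk (f.asFiber x)) ↔
      LocCoh.IsCohenMacaulayLocalRing (X.presheaf.stalk x ⧸ (maximalIdeal (Y.presheaf.stalk (f x))).map (f.stalkMap x).hom) :=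
  ⟨CAlg1.cm_of_ringEquiv (FibreStalk.fibreStalkEquivAt f x).symm, CAlg1.cm_of_ringEquiv (FibreStalk.fibreStalkEquivAt f x)⟩

theorem noetherian_fibre {X Y : Scheme.{u}} (f : X ⟶ Y) (x : X) (hN : IsLocallyNoetherian (f.fiber (f x))) :
    IsNoetherianRing (X.presheaf.stalk x ⧸ (maximalIdeal (Y.presheaf.stalk (f x))).map (f.stalkMap x).hom) :=
  isNoetherianRing_of_ringEquiv _ (FibreStalk.fibreStalkEquivAt f x).symm

theorem t9766 {X Y Z : Scheme.{u}} (f : X ⟶ Y) (g : Y ⟶ Z) (x : X)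
    (hN : IsLocallyNoetherian ((f ≫ g).fiber (g (f x))))
    (hf : MoreMor.IsCMAt f x) (hg : MoreMor.IsCMAt g (f x)) : MoreMor.IsCMAt (f ≫ g) x := by
  let C : CommRingCat := Z.presheaf.stalk (g (f x))
  let A : CommRingCat := Y.presheaf.stalk (f x)
  let B : CommRingCat := X.presheaf.stalk x
  have hcomp : ((f ≫ g).stalkMap x) = g.stalkMap (f x) ≫ f.stalkMap x := Scheme.Hom.stalkMap_comp f g x
  refine ⟨?_, (cm_fibre_iff (f ≫ g) x).2 ?_⟩
  · rw [hcomp]; exact RingHom.Flat.comp hg.1 hf.1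
  letI : Algebra C A := (g.stalkMap (f x)).hom.toAlgebra
  letI : Algebra A B := (f.stalkMap x).hom.toAlgebra
  letI : Algebra C B := ((f ≫ g).stalkMap x).hom.toAlgebra
  haveI : IsScalarTower C A B := .of_algebraMap_eq' (by show ((f ≫ g).stalkMap x).hom = _; rw [hcomp]; rfl)
  haveI : IsLocalHom (algebraMap C A) := inferInstanceAs (IsLocalHom (g.stalkMap (f x)).hom)
  haveI : IsLocalHom (algebraMap A B) := inferInstanceAs (IsLocalHom (f.stalkMap x).hom)
  haveI : Module.Flat A B := hf.1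
  haveI : IsNoetherianRing (EGA4.FibRing C A) := ((cm_fibre_iff g (f x)).1 hg.2).toIsNoetherian
  haveI : IsNoetherianRing (EGA4.FibRing C B) := noetherian_fibre (f ≫ g) x hN
  exact (comp_data (C := C) (A := A) (B := B)).2 ⟨(cm_fibre_iff g (f x)).1 hg.2, (cm_fibre_iff f x).1 hf.2⟩

theorem t9767 {X Y Z : Scheme.{u}} (f : X ⟶ Y) (g : Y ⟶ Z) (x : X)
    (_hNf : IsLocallyNoetherian (f.fiber (f x))) (hNg : IsLocallyNoetherian (g.fiber (g (f x))))
    (h : MoreMor.IsCMAt (f ≫ g) x) (hfl : (f.stalkMap x).hom.Flat) : MoreMor.IsCMAt f x ∧ MoreMor.IsCMAt g (f x) := by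
  let C : CommRingCat := Z.presheaf.stalk (g (f x))
  let A : CommRingCat := Y.presheaf.stalk (f x)
  let B : CommRingCat := X.presheaf.stalk x
  have hcomp : ((f ≫ g).stalkMap x) = g.stalkMap (f x) ≫ f.stalkMap x := Scheme.Hom.stalkMap_comp f g x
  letI : Algebra C A := (g.stalkMap (f x)).hom.toAlgebra
  letI : Algebra A B := (f.stalkMap x).hom.toAlgebra
  letI : Algebra C B := ((f ≫ g).stalkMap x).hom.toAlgebra
  haveI : IsScalarTower C A B := .of_algebraMap_eq' (by show ((f ≫ g).stalkMap x).hom = _; rw [hcomp]; rfl)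
  haveI : IsLocalHom (algebraMap C A) := inferInstanceAs (IsLocalHom (g.stalkMap (f x)).hom)
  haveI : IsLocalHom (algebraMap A B) := inferInstanceAs (IsLocalHom (f.stalkMap x).hom)
  haveI : Module.Flat A B := hfl
  haveI : IsNoetherianRing (EGA4.FibRing C A) := noetherian_fibre g (f x) hNg
  haveI : IsNoetherianRing (EGA4.FibRing C B) := ((cm_fibre_iff (f ≫ g) x).1 h.2).toIsNoetherian
  have hcm := (comp_data (C := C) (A := A) (B := B)).1 ((cm_fibre_iff (f ≫ g) x).1 h.2)
  refine ⟨⟨hfl, (cm_fibre_iff f x).2 hcm.2⟩, ⟨?_, (cm_fibre_iff g (f x)).2 hcm.1⟩⟩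
  haveI : Module.FaithfullyFlat A B := Module.FaithfullyFlat.of_flat_of_isLocalHom
  haveI : Module.Flat C B := h.1
  haveI : Module.Flat C (B ⊗[A] A) :=
    Module.Flat.of_linearEquiv ((TensorProduct.AlgebraTensorModule.rid A B B).restrictScalars C)
  exact PullbackStalk.flat_of_flat_tensor (R := C) (S := A) (L := B) (W := A)

theorem t9768 {X Y : Scheme.{u}} (f : X ⟶ Y) [IsLocallyNoetherian X] [IsLocallyNoetherian Y] [Flat f]
    (hX : ∀ x : X, LocCoh.IsCohenMacaulayLocalRing ↑(X.presheaf.stalk x)) (x : X) :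
    MoreMor.IsCMAt f x ∧ LocCoh.IsCohenMacaulayLocalRing ↑(Y.presheaf.stalk (f x)) := by
  let A : CommRingCat := Y.presheaf.stalk (f x)
  let B : CommRingCat := X.presheaf.stalk x
  letI : Algebra A B := (f.stalkMap x).hom.toAlgebra
  haveI : IsLocalHom (algebraMap A B) := inferInstanceAs (IsLocalHom (f.stalkMap x).hom)
  have hfl : (f.stalkMap x).hom.Flat := Flat.stalkMap f x
  haveI : Module.Flat A B := hfl
  obtain ⟨hA, hF⟩ := (cm_iff A B).1 (hX x)
  exact ⟨⟨hfl, (cm_fibre_iff f x).2 hF⟩, hA⟩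

end Groth.Agent.FlatMor68.CMComp
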