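import Groth.Agent.FlatMor68.FlatDimFun
set_option backward.isDefEq.respectTransparency.types false
set_option linter.style.haveILetI false
set_option autoImplicit false
universe u

open CategoryTheory CategoryTheory.Limits AlgebraicGeometry Opposite

namespace Groth.Agent.FlatMor68.FlatFunSheaf

theorem t9012 {X S : Scheme.{u}} (f : X ⟶ S) (F : X.Modules) [Coh.IsQCoh F] :
    Presheaf.IsSheaf (QuotSh.J Scheme.fpqcPrecoverage S)
      (FlatFun.genPSp S (fun T => FlatMod.IsFlatOver (PicF.XTproj f T) (FGA.ET f F T))) := by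
  refine PullbackDescent.isSheaf_genPSp _ ?_ ?_
  · intro T T₀ g h x'
    exact FlatDimFun.isFlatOverAt_of_iso _ (FlatDimFun.etIso f F g) x'
      (FlatMor66.isFlatOverAt_baseChange (PullbackDescent.bc_isPullback f g) _ (FlatDimFun.qcohET f F T₀) x' (h _))
  · intro T ι Ti g hfl hs h x
    obtain ⟨i, y, hy⟩ := hs (pullback.snd f T.hom x)
    haveI := hfl i
    have hc := PullbackDescent.bc_isPullback f (g i)
    obtain ⟨a, ha, -⟩ := Scheme.Pullback.exists_preimage_pullback (f := pullback.snd f T.hom) (g := (g i).left) x y hy.symm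
    let b := hc.isoPullback.inv a
    have hb : PullbackDescent.bc f (g i) b = x := by
      rw [← Scheme.Hom.comp_apply, hc.isoPullback_inv_fst]; exact ha
    rw [← hb]
    exact FlatMor66.isFlatOverAt_of_baseChange hc _ (FlatDimFun.qcohET f F T) b
      (Flat.stalkMap _ _) (FlatDimFun.isFlatOverAt_of_iso _ (FlatDimFun.etIso f F (g i)).symm b (h i _))

end Groth.Agent.FlatMor68.FlatFunSheaf
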