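import Groth.Agent.FlatMor67.LCIMor
import Groth.Agent.LCI19.Presentation
import Groth.Agent.LCI19.Local
import Groth.Agent.LCI19.Target
import Groth.Agent.RelGCI94.SmoothSyn
import Groth.Agent.S9287
import Mathlib

set_option backward.isDefEq.respectTransparency.types false
set_option linter.style.haveILetI false
set_option autoImplicit false
universe u

open TensorProduct

namespace Groth.Agent.FlatMor68.LCICalc

theorem isLCI_of_standardSmooth (R S : Type u) [CommRing R] [CommRing S] [Algebra R S]
    [Algebra.IsStandardSmooth R S] : LCI.IsLCI R S :=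
  ((Groth.Agent.S9287.result R S).1 (RelGCI94.isSyntomic_of_standardSmooth R S)).2

/-- Localizations at elements are lci. -/
theorem isLCI_away {A : Type u} [CommRing A] (r : A) (B : Type u) [CommRing B] [Algebra A B]
    [IsLocalization.Away r B] : LCI.IsLCI A B :=
  haveI : Algebra.IsStandardSmooth A B := Algebra.IsStandardSmooth.localization_away r
  isLCI_of_standardSmooth A B

theorem isLCI_of_smooth (R S : Type u) [CommRing R] [CommRing S] [Algebra R S] [Algebra.Smooth R S] :
    LCI.IsLCI R S := by
  classical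
  obtain ⟨s, hs, h⟩ := Algebra.Smooth.exists_span_eq_top_isStandardSmooth R S
  obtain ⟨T, hT, hTs⟩ := (Ideal.span_eq_top_iff_finite _).1 hs
  refine LCI19.isLCI_of_span T.card (fun j => (T.equivFin.symm j).1) ?_ fun j => ?_
  · convert hTs
    ext b
    exact ⟨by rintro ⟨j, rfl⟩; exact (T.equivFin.symm j).2,
      fun hb => ⟨T.equivFin ⟨b, hb⟩, by simp⟩⟩
  · haveI := h _ (hT (T.equivFin.symm j).2)
    exact isLCI_of_standardSmooth R _

set_option maxHeartbeats 1000000 in
/-- Flat base change of lci algebras. -/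
theorem isLCI_baseChange (A B C : Type u) [CommRing A] [CommRing B] [CommRing C] [Algebra A B] [Algebra A C]
    [Module.Flat A B] (h : LCI.IsLCI A C) : LCI.IsLCI B (B ⊗[A] C) := by
  obtain ⟨hft, n, α, hα, hk⟩ := h
  let e : B ⊗[A] MvPolynomial (Fin n) A ≃ₐ[B] MvPolynomial (Fin n) B := MvPolynomial.algebraTensorAlgEquiv A B
  let β : B ⊗[A] MvPolynomial (Fin n) A →ₐ[B] B ⊗[A] C := Algebra.TensorProduct.map (AlgHom.id B B) α
  have hβ : Function.Surjective β := fun z => by
    induction z using TensorProduct.induction_on with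
    | zero => exact ⟨0, map_zero _⟩
    | tmul b c => obtain ⟨p, rfl⟩ := hα c; exact ⟨b ⊗ₜ p, Algebra.TensorProduct.map_tmul _ _ _ _⟩
    | add x y hx hy =>
      obtain ⟨p, rfl⟩ := hx; obtain ⟨q, rfl⟩ := hy
      exact ⟨p + q, map_add _ _ _⟩
  haveI := hft
  refine ⟨inferInstance, n, β.comp e.symm.toAlgHom, hβ.comp e.symm.surjective, ?_⟩
  have hh : RingHom.ker (β.comp e.symm.toAlgHom).toRingHom =
      (RingHom.ker β.toRingHom).comap e.symm.toRingEquiv.toRingHom := by
    ext z; simp only [RingHom.mem_ker, Ideal.mem_comap]; exact Iff.rfl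
  rw [hh]
  refine (LCI19.isKoszulRegularIdeal_comap_equiv e.symm.toRingEquiv).2 ?_
  have hker : RingHom.ker β.toRingHom = (RingHom.ker α.toRingHom).map
      (Algebra.TensorProduct.includeRight : MvPolynomial (Fin n) A →ₐ[A] B ⊗[A] MvPolynomial (Fin n) A).toRingHom :=
    Algebra.TensorProduct.lTensor_ker α hα
  rw [hker]
  letI : Algebra (MvPolynomial (Fin n) A) (B ⊗[A] MvPolynomial (Fin n) A) := Algebra.TensorProduct.rightAlgebra
  haveI : Module.Flat (MvPolynomial (Fin n) A) (B ⊗[A] MvPolynomial (Fin n) A) :=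
    RingHom.flat_algebraMap_iff.1 (RingHom.Flat.isStableUnderBaseChange A B (MvPolynomial (Fin n) A)
      (B ⊗[A] MvPolynomial (Fin n) A) (RingHom.flat_algebraMap_iff.2 (inferInstance : Module.Flat A B)))
  exact LCI19.isKoszulRegularIdeal_map hk

/-- Over an etale extension of the base an lci algebra stays lci. -/
theorem isLCI_of_etale (A B C : Type u) [CommRing A] [CommRing B] [CommRing C] [Algebra A B] [Algebra A C]
    [Algebra B C] [IsScalarTower A B C] [Algebra.Etale A B] (h : LCI.IsLCI A C) : LCI.IsLCI B C := by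
  let E := B ⊗[A] C
  let φ : E →ₐ[B] C := Algebra.TensorProduct.lift (Algebra.ofId B C) (AlgHom.id A C) fun _ _ => Commute.all _ _
  letI a1 : Algebra E C := φ.toRingHom.toAlgebra
  haveI : IsScalarTower B E C := .of_algebraMap_eq fun b => (φ.commutes b).symm
  letI a2 : Algebra C E := Algebra.TensorProduct.rightAlgebra
  haveI : IsScalarTower C E C := .of_algebraMap_eq fun c => by
    show c = φ (1 ⊗ₜ c)
    exact ((Algebra.TensorProduct.lift_tmul (Algebra.ofId B C) (AlgHom.id A C) (fun _ _ => Commute.all _ _) 1 c).trans (by simp)).symm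
  haveI : Algebra.Etale C E := Algebra.Etale.of_equiv (Algebra.TensorProduct.commRight A C B)
  haveI : Algebra.Etale C C := inferInstance
  haveI : Algebra.Etale E C := Algebra.Etale.of_restrictScalars C E C
  exact FlatMor67.isLCI_trans (isLCI_baseChange A B C h) (isLCI_of_smooth E C)

theorem isLCI_of_comp_polynomial (A C : Type u) [CommRing A] [CommRing C] [Algebra A C] (d : ℕ)
    [Algebra (MvPolynomial (Fin d) A) C] [IsScalarTower A (MvPolynomial (Fin d) A) C]
    (h : LCI.IsLCI A C) : LCI.IsLCI (MvPolynomial (Fin d) A) C := by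
  obtain ⟨hft, n, α, hα, hk⟩ := h
  haveI := hft
  haveI : Algebra.FiniteType (MvPolynomial (Fin d) A) C := Algebra.FiniteType.of_restrictScalars_finiteType A _ C
  let β : MvPolynomial (Fin n) (MvPolynomial (Fin d) A) →ₐ[MvPolynomial (Fin d) A] C :=
    MvPolynomial.aeval fun i => α (MvPolynomial.X i)
  let e : MvPolynomial (Fin (n + d)) A ≃ₐ[A] MvPolynomial (Fin n) (MvPolynomial (Fin d) A) :=
    (MvPolynomial.renameEquiv A finSumFinEquiv.symm).trans (MvPolynomial.sumAlgEquiv A (Fin n) (Fin d))
  have hβ : Function.Surjective β := by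
    intro c
    obtain ⟨p, rfl⟩ := hα c
    refine ⟨MvPolynomial.map (algebraMap A (MvPolynomial (Fin d) A)) p, ?_⟩
    rw [MvPolynomial.aeval_unique α]
    simp only [β]
    exact MvPolynomial.aeval_map_algebraMap _ _ _
  refine ⟨inferInstance, n, β, hβ, ?_⟩
  let γ : MvPolynomial (Fin (n + d)) A →ₐ[A] C := (β.restrictScalars A).comp e.toAlgHom
  have hγ : Function.Surjective γ := hβ.comp e.surjective
  have := (LCI19.isKoszulRegularIdeal_ker_indep α hα γ hγ).1 hk
  rw [show RingHom.ker γ.toRingHom = (RingHom.ker β.toRingHom).comap e.toRingEquiv.toRingHom from rfl] at this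
  exact (LCI19.isKoszulRegularIdeal_comap_equiv e.toRingEquiv).1 this

/-- Cancellation: if the composite is lci and the first map is smooth, the second is lci. -/
theorem isLCI_of_comp_smooth (A B C : Type u) [CommRing A] [CommRing B] [CommRing C] [Algebra A B] [Algebra A C]
    [Algebra B C] [IsScalarTower A B C] [Algebra.Smooth A B] (h : LCI.IsLCI A C) : LCI.IsLCI B C := by
  classical
  obtain ⟨s, hs, hst⟩ := Algebra.Smooth.exists_span_eq_top_isStandardSmooth A B
  obtain ⟨T, hT, hTs⟩ := (Ideal.span_eq_top_iff_finite _).1 hs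
  refine LCI19.isLCI_of_span T.card (fun j => algebraMap B C (T.equivFin.symm j).1) ?_ fun j => ?_
  · rw [show Set.range (fun j => algebraMap B C (T.equivFin.symm j).1) =
      algebraMap B C '' (T : Set B) from ?_, ← Ideal.map_span, hTs, Ideal.map_top]
    ext b
    exact ⟨by rintro ⟨j, rfl⟩; exact ⟨_, (T.equivFin.symm j).2, rfl⟩,
      fun ⟨a, ha, e⟩ => ⟨T.equivFin ⟨a, ha⟩, by simpa using e⟩⟩
  · set g := (T.equivFin.symm j).1
    haveI := hst g (hT (T.equivFin.symm j).2)
    let B' := Localization.Away g
    let C' := Localization.Away (algebraMap B C g)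
    have hu : IsUnit (algebraMap B C' g) := by
      rw [IsScalarTower.algebraMap_apply B C C']
      exact IsLocalization.Away.algebraMap_isUnit _
    letI : Algebra B' C' := (IsLocalization.Away.lift g hu : B' →+* C').toAlgebra
    haveI : IsScalarTower B B' C' := .of_algebraMap_eq fun b => (IsLocalization.Away.lift_eq g hu b).symm
    haveI : IsScalarTower A B' C' := .of_algebraMap_eq fun a => by
      rw [IsScalarTower.algebraMap_apply A B B', ← IsScalarTower.algebraMap_apply B B' C',
        ← IsScalarTower.algebraMap_apply A B C']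
    have hAC : LCI.IsLCI A C' := FlatMor67.isLCI_trans h (isLCI_away (algebraMap B C g) C')
    obtain ⟨d, hd⟩ : ∃ d, Algebra.IsStandardSmoothOfRelativeDimension d A B' := by
      obtain ⟨ι, σ, _, _, ⟨P⟩⟩ := (inferInstance : Algebra.IsStandardSmooth A B').out
      exact ⟨P.dimension, ⟨ι, σ, inferInstance, inferInstance, P, rfl⟩⟩
    obtain ⟨φ, hφ⟩ := Algebra.IsStandardSmoothOfRelativeDimension.exists_etale_mvPolynomial d A B'
    letI : Algebra (MvPolynomial (Fin d) A) B' := φ.toRingHom.toAlgebra
    haveI : Algebra.Etale (MvPolynomial (Fin d) A) B' := hφ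
    haveI : IsScalarTower A (MvPolynomial (Fin d) A) B' := .of_algebraMap_eq fun a => (φ.commutes a).symm
    letI : Algebra (MvPolynomial (Fin d) A) C' := ((algebraMap B' C').comp φ.toRingHom).toAlgebra
    haveI : IsScalarTower (MvPolynomial (Fin d) A) B' C' := .of_algebraMap_eq' rfl
    haveI : IsScalarTower A (MvPolynomial (Fin d) A) C' := .of_algebraMap_eq fun a => by
      show _ = algebraMap B' C' (φ (algebraMap A _ a))
      rw [φ.commutes, ← IsScalarTower.algebraMap_apply]
    have h2 : LCI.IsLCI B' C' := isLCI_of_etale (MvPolynomial (Fin d) A) B' C' (isLCI_of_comp_polynomial A C' d hAC)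
    exact FlatMor67.isLCI_trans (isLCI_away g B') h2

/-- Change of base along a localization. -/
theorem isLCI_extend {A : Type u} [CommRing A] (r : A) (A' C : Type u) [CommRing A'] [CommRing C] [Algebra A A']
    [Algebra A C] [Algebra A' C] [IsScalarTower A A' C] [IsLocalization.Away r A'] (h : LCI.IsLCI A C) :
    LCI.IsLCI A' C :=
  haveI : Algebra.IsStandardSmooth A A' := Algebra.IsStandardSmooth.localization_away r
  isLCI_of_comp_smooth A A' C h

def LCIHom : ∀ {R S : Type u} [CommRing R] [CommRing S], (R →+* S) → Prop :=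
  fun {R S} _ _ f => @LCI.IsLCI R _ S _ f.toAlgebra

theorem lciHom_algebraMap {R S : Type u} [CommRing R] [CommRing S] [Algebra R S] :
    LCIHom (algebraMap R S) ↔ LCI.IsLCI R S := by
  unfold LCIHom
  rw [show (algebraMap R S).toAlgebra = ‹Algebra R S› from Algebra.algebra_ext _ _ fun _ => rfl]

theorem lciHom_source :
    RingHom.StableUnderCompositionWithLocalizationAwaySource (fun {R S} [CommRing R] [CommRing S] => @LCIHom R S _ _) := by
  intro R R' T _ _ _ _ r _ f hf
  letI := f.toAlgebra
  letI : Algebra R T := (f.comp (algebraMap R R')).toAlgebra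
  haveI : IsScalarTower R R' T := .of_algebraMap_eq' rfl
  exact FlatMor67.isLCI_trans (isLCI_away r R') hf

theorem lciHom_target :
    RingHom.StableUnderCompositionWithLocalizationAwayTarget (fun {R S} [CommRing R] [CommRing S] => @LCIHom R S _ _) := by
  intro R S T _ _ _ _ s _ f hf
  letI := f.toAlgebra
  letI : Algebra R T := ((algebraMap S T).comp f).toAlgebra
  haveI : IsScalarTower R S T := .of_algebraMap_eq' rfl
  exact FlatMor67.isLCI_trans hf (isLCI_away s T)

theorem lciHom_spanTarget :
    RingHom.OfLocalizationSpanTarget (fun {R S} [CommRing R] [CommRing S] => @LCIHom R S _ _) := by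
  intro R S _ _ f s hs h
  classical
  letI := f.toAlgebra
  obtain ⟨T, hT, hTs⟩ := (Ideal.span_eq_top_iff_finite _).1 hs
  refine LCI19.isLCI_of_span T.card (fun j => (T.equivFin.symm j).1) ?_ fun j => ?_
  · convert hTs
    ext b
    exact ⟨by rintro ⟨j, rfl⟩; exact (T.equivFin.symm j).2,
      fun hb => ⟨T.equivFin ⟨b, hb⟩, by simp⟩⟩
  · have := h ⟨_, hT (T.equivFin.symm j).2⟩
    exact lciHom_algebraMap.1 (IsScalarTower.algebraMap_eq R S (Localization.Away (T.equivFin.symm j).1) ▸ this)

theorem lciHom_isLocal : RingHom.PropertyIsLocal (fun {R S} [CommRing R] [CommRing S] => @LCIHom R S _ _) where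
  localizationAwayPreserves := by
    intro R S _ _ f r R' S' _ _ _ _ _ _ hf
    letI := f.toAlgebra
    letI : Algebra R' S' := (IsLocalization.Away.map R' S' f r).toAlgebra
    letI : Algebra R S' := ((algebraMap S S').comp f).toAlgebra
    haveI : IsScalarTower R S S' := .of_algebraMap_eq' rfl
    haveI : IsScalarTower R R' S' := .of_algebraMap_eq fun a => by
      simp [RingHom.algebraMap_toAlgebra, IsLocalization.Away.map, IsLocalization.map_eq]
    exact isLCI_extend r R' S' (FlatMor67.isLCI_trans hf (isLCI_away (f r) S'))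
  ofLocalizationSpanTarget := lciHom_spanTarget
  ofLocalizationSpan := lciHom_spanTarget.ofLocalizationSpan lciHom_source
  StableUnderCompositionWithLocalizationAwayTarget := lciHom_target

end Groth.Agent.FlatMor68.LCICalc
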