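import Groth.Agent.FlatMor68.RegularTarget
import Groth.Agent.FlatMor68.KoszulSyntomic
import Groth.Agent.FlatMor68.LCICalc
import Groth.Prelude.Def_Models

set_option backward.isDefEq.respectTransparency.types false
set_option linter.style.haveILetI false
set_option autoImplicit false
universe u

open CategoryTheory CategoryTheory.Limits AlgebraicGeometry

namespace Groth.Agent.FlatMor68.RegularTargetLCI

open LCI19

/-- A closed subscheme of affine space cut out near a prime by a Koszul-regular sequence is lci there. -/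
theorem exists_lci_away {A P B : Type u} [CommRing A] [CommRing P] [CommRing B] [Algebra A P] [Algebra A B]
    [Algebra P B] [IsScalarTower A P B] [Algebra.Smooth A P] (hs : Function.Surjective (algebraMap P B))
    (pB : Ideal B) [pB.IsPrime] (h : KRAt (RingHom.ker (algebraMap P B)) (pB.comap (algebraMap P B))) :
    ∃ b ∉ pB, LCI.IsLCI A (Localization.Away b) := by
  obtain ⟨g, hg, l, hlI, hlkr, hlspan⟩ := h
  refine ⟨algebraMap P B g, hg, ?_⟩
  let P' := Localization.Away g
  let B' := Localization.Away (algebraMap P B g)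
  let π : P' →+* B' := IsLocalization.Away.map P' B' (algebraMap P B) g
  letI : Algebra P' B' := π.toAlgebra
  have hsq : ∀ a : P, algebraMap P' B' (algebraMap P P' a) = algebraMap B B' (algebraMap P B a) :=
    fun a => by simp [π, P', B', RingHom.algebraMap_toAlgebra, IsLocalization.Away.map]
  haveI : IsScalarTower A P' B' := .of_algebraMap_eq fun a => by
    rw [IsScalarTower.algebraMap_apply A P P', hsq, ← IsScalarTower.algebraMap_apply A P B,
      ← IsScalarTower.algebraMap_apply A B B']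
  have hloc : IsLocalization (Submonoid.map (algebraMap P B) (Submonoid.powers g)) B' := by
    rw [Submonoid.map_powers]; infer_instance
  have hπ : Function.Surjective (algebraMap P' B') :=
    IsLocalization.map_surjective_of_surjective (Submonoid.powers g) P' B' hs
  have hker : RingHom.ker (algebraMap P' B') = Ideal.ofList (l.map (algebraMap P P')) := by
    rw [← hlspan]
    exact IsLocalization.ker_map B' (g := algebraMap P B) (T := Submonoid.powers (algebraMap P B g))
      (by rw [Submonoid.map_powers])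
  refine FlatMor67.isLCI_trans (B := P')
    (FlatMor67.isLCI_trans (B := P) (LCICalc.isLCI_of_smooth A P) (LCICalc.isLCI_away g P'))
    (KoszulSyntomic.isLCI_of_surjective hπ ?_)
  rw [hker]
  exact KoszulSyntomic.isKoszulRegularIdeal_ofList _ ((Koszul19.kR_iff _).1 hlkr)

set_option maxHeartbeats 1000000 in
theorem algebra_main (A B C : Type u) [CommRing A] [IsNoetherianRing A] [CommRing B] [CommRing C] [Algebra A B]
    [Algebra B C] [Algebra A C] [IsScalarTower A B C] [IsRegularRing B] [Algebra.FiniteType A B]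
    (h : LCI.IsLCI A C) :
    LCI.IsLCI B C ∧ ∀ c : PrimeSpectrum C, ∃ b ∉ c.asIdeal.comap (algebraMap B C), LCI.IsLCI A (Localization.Away b) := by
  haveI := h.1
  haveI : Algebra.FiniteType B C := Algebra.FiniteType.of_restrictScalars_finiteType A B C
  obtain ⟨n, α, hα⟩ := Algebra.FiniteType.iff_quotient_mvPolynomial''.1 ‹Algebra.FiniteType A B›
  obtain ⟨m, β, hβ⟩ := Algebra.FiniteType.iff_quotient_mvPolynomial''.1 ‹Algebra.FiniteType B C›
  let P := MvPolynomial (Fin n) A
  let R := MvPolynomial (Fin m) P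
  let S := MvPolynomial (Fin m) B
  letI : Algebra P B := α.toRingHom.toAlgebra
  haveI : IsScalarTower A P B := .of_algebraMap_eq fun a => (α.commutes a).symm
  letI : Algebra R S := (MvPolynomial.map (σ := Fin m) (algebraMap P B)).toAlgebra
  have hs : Function.Surjective (algebraMap R S) := MvPolynomial.map_surjective _ hα
  have hker : RingHom.ker (algebraMap R S) = (RingHom.ker (algebraMap P B)).map (algebraMap P R) := by
    show RingHom.ker (MvPolynomial.map (σ := Fin m) (algebraMap P B)) = _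
    rw [MvPolynomial.ker_map]
    rfl
  let ψ : R →+* C := β.toRingHom.comp (algebraMap R S)
  have hψA : ∀ a : A, ψ (algebraMap A R a) = algebraMap A C a := fun a => by
    show β (MvPolynomial.map (σ := Fin m) (algebraMap P B) (MvPolynomial.C (algebraMap A P a))) = _
    rw [MvPolynomial.map_C, ← IsScalarTower.algebraMap_apply A P B]
    exact (β.commutes (algebraMap A B a)).trans (IsScalarTower.algebraMap_apply A B C a).symm
  let ψA : R →ₐ[A] C := { ψ with commutes' := hψA }
  let e : MvPolynomial (Fin (m + n)) A ≃ₐ[A] R :=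
    (MvPolynomial.renameEquiv A finSumFinEquiv.symm).trans (MvPolynomial.sumAlgEquiv A (Fin m) (Fin n))
  have hψ : Function.Surjective ψA := hβ.comp hs
  have hL : LCI.IsKoszulRegularIdeal (RingHom.ker ψ) := by
    have h1 := LCI19.isKoszulRegularIdeal_ker_of_isLCI h (ψA.comp e.toAlgHom) (hψ.comp e.surjective)
    have h2 : RingHom.ker (ψA.comp e.toAlgHom).toRingHom = (RingHom.ker ψ).comap e.toRingEquiv.toRingHom := rfl
    rw [h2] at h1
    exact (LCI19.isKoszulRegularIdeal_comap_equiv e.toRingEquiv).1 h1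
  have hmap : (RingHom.ker ψ).map (algebraMap R S) = RingHom.ker β.toRingHom := by
    rw [show RingHom.ker ψ = (RingHom.ker β.toRingHom).comap (algebraMap R S) from rfl,
      Ideal.map_comap_of_surjective _ hs]
  have hJL : (RingHom.ker (algebraMap P B)).map (algebraMap P R) ≤ RingHom.ker ψ := hker ▸ fun x hx => by
    show β (algebraMap R S x) = 0
    rw [show algebraMap R S x = 0 from hx, map_zero]
  have key : ∀ q : PrimeSpectrum S, RingHom.ker β.toRingHom ≤ q.asIdeal →
      KRAt (RingHom.ker (algebraMap P B)) ((q.asIdeal.comap (algebraMap R S)).comap (algebraMap P R)) ∧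
        KRAt (RingHom.ker β.toRingHom) q.asIdeal := fun q hq => by
    rw [← hmap]
    exact RegularTarget.main hs _ hker _ hJL hL q.asIdeal (hmap.le.trans hq)
  refine ⟨⟨inferInstance, m, β, hβ, (isKoszulRegularIdeal_iff _).2 fun q hq => (key q hq).2⟩, fun c => ?_⟩
  let q : PrimeSpectrum S := PrimeSpectrum.comap β.toRingHom c
  have hq : RingHom.ker β.toRingHom ≤ q.asIdeal := fun x hx => by
    show β.toRingHom x ∈ c.asIdeal
    rw [RingHom.mem_ker.1 hx]; exact zero_mem _
  have hk := (key q hq).1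
  have heq : (q.asIdeal.comap (algebraMap R S)).comap (algebraMap P R) =
      (c.asIdeal.comap (algebraMap B C)).comap (algebraMap P B) := by
    ext x
    show β (MvPolynomial.map (σ := Fin m) (algebraMap P B) (MvPolynomial.C x)) ∈ c.asIdeal ↔ algebraMap B C (algebraMap P B x) ∈ c.asIdeal
    rw [MvPolynomial.map_C]
    exact Iff.of_eq (congrArg (· ∈ c.asIdeal) (β.commutes _))
  rw [heq] at hk
  haveI : Algebra.Smooth A P := ⟨inferInstance, inferInstance⟩
  exact exists_lci_away hα _ hk

theorem isRegularRing_section {Y : Scheme.{u}} [IsLocallyNoetherian Y] (hY : Models.IsRegularScheme Y)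
    {V : Y.Opens} (hV : IsAffineOpen V) : IsRegularRing Γ(Y, V) := by
  haveI : IsNoetherianRing Γ(Y, V) := IsLocallyNoetherian.component_noetherian ⟨V, hV⟩
  rw [isRegularRing_iff]
  intro p _
  let y : Spec Γ(Y, V) := ⟨p, inferInstance⟩
  let z : V := ⟨hV.fromSpec y, hV.range_fromSpec.le ⟨y, rfl⟩⟩
  have hz : hV.primeIdealOf z = y := hV.fromSpec.isOpenEmbedding.injective (hV.fromSpec_primeIdealOf z)
  let := Y.presheaf.algebra_section_stalk z
  haveI : IsLocalization.AtPrime (Y.presheaf.stalk z.1) p := by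
    have h1 := hV.isLocalization_stalk z
    rw [hz] at h1
    exact h1
  haveI := hY z.1
  exact IsRegularLocalRing.of_ringEquiv (IsLocalization.algEquiv p.primeCompl (Y.presheaf.stalk z.1)
    (Localization.AtPrime p)).toRingEquiv

theorem t9775 {X Y S : Scheme.{u}} (f : X ⟶ Y) (g : Y ⟶ S) [IsLocallyNoetherian S] [LocallyOfFiniteType g]
    (hY : Models.IsRegularScheme Y) (h : ∀ x : X, Synt.IsKoszulAt (f ≫ g) x) :
    (∀ x : X, Synt.IsKoszulAt f x) ∧ ∀ x : X, Synt.IsKoszulAt g (f x) := by
  haveI : IsLocallyNoetherian Y := LocallyOfFiniteType.isLocallyNoetherian g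
  have hfg := (KoszulCalc.forall_isKoszulAt_iff _).1 h
  refine forall_and.1 fun x => ?_
  obtain ⟨U, hU, V, hV, W, hW, e₁, e₂, hx⟩ := KoszulCalc.exists_charts f g x
  letI := (g.appLE W V e₂).hom.toAlgebra
  letI := (f.appLE V U e₁).hom.toAlgebra
  letI := ((f ≫ g).appLE W U (e₁.trans (f.preimage_mono e₂))).hom.toAlgebra
  haveI : IsScalarTower Γ(S, W) Γ(Y, V) Γ(X, U) := .of_algebraMap_eq'
    (congrArg CommRingCat.Hom.hom (Scheme.Hom.appLE_comp_appLE f g W V U e₂ e₁).symm)
  haveI : IsNoetherianRing Γ(S, W) := IsLocallyNoetherian.component_noetherian ⟨W, hW⟩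
  haveI : IsRegularRing Γ(Y, V) := isRegularRing_section hY hV
  haveI : Algebra.FiniteType Γ(S, W) Γ(Y, V) := HasRingHomProperty.appLE @LocallyOfFiniteType g ‹_› ⟨W, hW⟩ ⟨V, hV⟩ e₂
  obtain ⟨hf, hg⟩ := algebra_main Γ(S, W) Γ(Y, V) Γ(X, U) (KoszulCalc.lci_appLE hfg hU hW _)
  refine ⟨KoszulSyntomic.isKoszulAt_of_lci f x hU hV e₁ hx hf, ?_⟩
  obtain ⟨b, hb, hlci⟩ := hg (hU.primeIdealOf ⟨x, hx⟩)
  haveI : IsLocalization.Away b Γ(Y, Y.basicOpen b) := hV.isLocalization_basicOpen b
  have hb' : b ∉ (hV.primeIdealOf ⟨f x, e₁ hx⟩).asIdeal := by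
    intro hm
    apply hb
    have h1 := congrArg (fun k : Spec Γ(X, U) ⟶ Y => k (hU.primeIdealOf ⟨x, hx⟩)) (hV.SpecMap_appLE_fromSpec f hU e₁)
    rw [Scheme.Hom.comp_apply, Scheme.Hom.comp_apply, hU.fromSpec_primeIdealOf ⟨x, hx⟩] at h1
    have h2 := hV.fromSpec.isOpenEmbedding.injective (h1.trans (hV.fromSpec_primeIdealOf ⟨f x, e₁ hx⟩).symm)
    exact (congrArg (fun q : Spec Γ(Y, V) => b ∈ q.asIdeal) h2).mpr hm
  have hxb : f x ∈ Y.basicOpen b := by
    have h3 : hV.primeIdealOf ⟨f x, e₁ hx⟩ ∈ hV.fromSpec ⁻¹ᵁ Y.basicOpen b := by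
      rw [hV.fromSpec_preimage_basicOpen b]; exact hb'
    have h4 : hV.fromSpec (hV.primeIdealOf ⟨f x, e₁ hx⟩) ∈ Y.basicOpen b := h3
    rwa [hV.fromSpec_primeIdealOf ⟨f x, e₁ hx⟩] at h4
  have e₂' : Y.basicOpen b ≤ g ⁻¹ᵁ W := (Y.basicOpen_le b).trans e₂
  refine KoszulSyntomic.isKoszulAt_of_lci g _ (hV.basicOpen b) hW e₂' hxb ?_
  letI := (g.appLE W (Y.basicOpen b) e₂').hom.toAlgebra
  haveI : IsScalarTower Γ(S, W) Γ(Y, V) Γ(Y, Y.basicOpen b) := .of_algebraMap_eq'
    (congrArg CommRingCat.Hom.hom (g.appLE_map e₂ (homOfLE (Y.basicOpen_le b)).op).symm)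
  exact FlatMor67.isLCI_of_algEquiv ((IsLocalization.algEquiv (Submonoid.powers b) (Localization.Away b)
    Γ(Y, Y.basicOpen b)).restrictScalars Γ(S, W)) hlci

end Groth.Agent.FlatMor68.RegularTargetLCI
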