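import Groth.Agent.Epi3.Basic
import Groth.Agent.FlatMor68.Basic
import Mathlib.AlgebraicGeometry.FunctionField
import Mathlib.RingTheory.Flat.TorsionFree
import Mathlib.AlgebraicGeometry.Morphisms.UniversallyOpen
import Mathlib.AlgebraicGeometry.Morphisms.Affine
import Mathlib.AlgebraicGeometry.Morphisms.Separated

set_option autoImplicit false
set_option backward.isDefEq.respectTransparency.types false
set_option linter.style.haveILetI false

universe u

open CategoryTheory Limits AlgebraicGeometry TopologicalSpace TensorProduct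

namespace Groth.Agent.FlatMor68.BirationalFlat

theorem bijective_of_flat {A B : Type u} [CommRing A] [CommRing B] [IsDomain A] [Algebra A B]
    [Module.Flat A B] (hs : Function.Surjective (PrimeSpectrum.comap (algebraMap A B)))
    (h : ∀ b : B, ∃ a₁ a₂ : A, a₂ ≠ 0 ∧ a₂ • b = algebraMap A B a₁) :
    Function.Bijective (algebraMap A B) := by
  haveI : Algebra.IsEpi A B := (Algebra.isEpi_iff_forall_one_tmul_eq A B).mpr fun b => by
    obtain ⟨a₁, a₂, ha, hb⟩ := h b
    refine (Module.Flat.isSMulRegular_of_nonZeroDivisors (M := B ⊗[A] B) (mem_nonZeroDivisors_of_ne_zero ha)) ?_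
    show a₂ • ((1 : B) ⊗ₜ[A] b) = a₂ • (b ⊗ₜ[A] (1 : B))
    rw [← TensorProduct.tmul_smul, TensorProduct.smul_tmul', hb, Algebra.algebraMap_eq_smul_one,
      ← TensorProduct.smul_tmul]
  haveI : Module.FaithfullyFlat A B := Module.FaithfullyFlat.of_comap_surjective hs
  exact Epi3.bijective_of_faithfullyFlat

theorem exists_fac {X : Scheme.{u}} {L : Type u} [Field L] (t : Spec (CommRingCat.of L) ⟶ X) (x : X)
    (h : t.base (IsLocalRing.closedPoint L) = x) :
    ∃ φ : X.presheaf.stalk x ⟶ CommRingCat.of L, Spec.map φ ≫ X.fromSpecStalk x = t := by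
  subst h
  exact ⟨_, Scheme.Spec_stalkClosedPointTo_fromSpecStalk t⟩

theorem t10879 {X' X : Scheme.{u}} [IsIntegral X'] [IsIntegral X]
    (f : X' ⟶ X) [Surjective f] [IsSeparated f] (hK : IsIso (f.stalkMap (genericPoint X')))
    (h : IsAffineHom f ∨ LocallyOfFinitePresentation f) :
    Flat f ↔ IsIso f := by
  refine ⟨fun hf => ?_, fun _ => inferInstance⟩
  haveI : IsAffineHom f := by
    rcases h with h | h
    · exact h
    · have hop : IsOpenMap f.base := f.isOpenMap
      have hinj : Function.Injective f.base := by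
        intro x₁ x₂ hx
        obtain ⟨z, hz₁, hz₂⟩ := Scheme.Pullback.exists_preimage_pullback (f := f) (g := f) x₁ x₂ hx
        obtain ⟨ζ, hζz, hζ⟩ := Basic.exists_maximal_generization z
        have h1 : (pullback.fst f f).base ζ = genericPoint X' :=
          (Basic.maximal_map (pullback.fst f f) hζ (genericPoint_specializes _)).symm
        have h2 : (pullback.snd f f).base ζ = genericPoint X' :=
          (Basic.maximal_map (pullback.snd f f) hζ (genericPoint_specializes _)).symm
        let L := (pullback f f).residueField ζ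
        let r : Spec (CommRingCat.of L) ⟶ pullback f f := (pullback f f).fromSpecResidueField ζ
        have hr : r.base (IsLocalRing.closedPoint L) = ζ := Scheme.fromSpecResidueField_apply _ _
        obtain ⟨φ₁, hφ₁⟩ := exists_fac (r ≫ pullback.fst f f) (genericPoint X')
          (by rw [Scheme.Hom.comp_apply, hr]; exact h1)
        obtain ⟨φ₂, hφ₂⟩ := exists_fac (r ≫ pullback.snd f f) (genericPoint X')
          (by rw [Scheme.Hom.comp_apply, hr]; exact h2)
        have h12 : (r ≫ pullback.fst f f) ≫ f = (r ≫ pullback.snd f f) ≫ f := by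
          rw [Category.assoc, Category.assoc, pullback.condition]
        rw [← hφ₁, ← hφ₂, Category.assoc, Category.assoc, ← Scheme.SpecMap_stalkMap_fromSpecStalk,
          ← Category.assoc, ← Category.assoc, ← Spec.map_comp, ← Spec.map_comp, cancel_mono] at h12
        obtain rfl : φ₁ = φ₂ := (cancel_epi (f.stalkMap (genericPoint X'))).mp (Spec.map_injective h12)
        have he : r = (r ≫ pullback.fst f f) ≫ pullback.diagonal f := by
          refine pullback.hom_ext ?_ ?_
          · simp
          · simp only [Category.assoc, pullback.diagonal_snd, Category.comp_id]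
            exact hφ₂.symm.trans hφ₁
        have hmem : z ∈ Set.range (pullback.diagonal f).base := by
          refine ((pullback.diagonal f).isClosedEmbedding.isClosed_range.stableUnderSpecialization hζz) ?_
          refine ⟨(r ≫ pullback.fst f f).base (IsLocalRing.closedPoint L), ?_⟩
          rw [← Scheme.Hom.comp_apply, ← he, hr]
        obtain ⟨x, rfl⟩ := hmem
        rw [← hz₁, ← hz₂, ← Scheme.Hom.comp_apply, ← Scheme.Hom.comp_apply,
          pullback.diagonal_fst, pullback.diagonal_snd]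
      refine isAffineHom_of_isInducing f
        (Topology.IsOpenEmbedding.of_continuous_injective_isOpenMap f.continuous hinj hop).isInducing ?_
      rw [f.surjective.range_eq]
      exact isClosed_univ
  refine (IsZariskiLocalAtTarget.iff_of_iSup_eq_top (P := MorphismProperty.isomorphisms Scheme)
    (fun U : X.affineOpens => U.1) (iSup_affineOpens_eq_top X)).mpr fun U => ?_
  refine (isIso_morphismRestrict_iff_isIso_app f U.2).mpr ?_
  rcases isEmpty_or_nonempty U.1 with hU | hU
  · haveI : IsEmpty (U.1 : Scheme.{u}) := hU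
    refine (isIso_morphismRestrict_iff_isIso_app f U.2).mp ?_
    haveI : IsEmpty ((f ⁻¹ᵁ U.1 : X'.Opens) : Scheme.{u}) := Function.isEmpty (f ∣_ U.1).base
    infer_instance
  obtain ⟨y, hy⟩ := hU
  obtain ⟨x, hx⟩ := f.surjective y
  have hxV : x ∈ f ⁻¹ᵁ U.1 := show f.base x ∈ U.1 from hx ▸ hy
  haveI : Nonempty (f ⁻¹ᵁ U.1 : X'.Opens) := ⟨⟨x, hxV⟩⟩
  haveI : Nonempty U.1 := ⟨⟨y, hy⟩⟩
  have hV : IsAffineOpen (f ⁻¹ᵁ U.1) := U.2.preimage f
  letI : Algebra Γ(X, U.1) Γ(X', f ⁻¹ᵁ U.1) := (f.app U.1).hom.toAlgebra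
  haveI : Module.Flat Γ(X, U.1) Γ(X', f ⁻¹ᵁ U.1) := by
    have := Flat.flat_appLE f U.2 hV le_rfl
    rwa [← Scheme.Hom.app_eq_appLE] at this
  rw [ConcreteCategory.isIso_iff_bijective]
  refine bijective_of_flat (A := Γ(X, U.1)) (B := Γ(X', f ⁻¹ᵁ U.1)) (fun p => ?_) fun b => ?_
  · obtain ⟨x', hx'⟩ := f.surjective (U.2.fromSpec p)
    have hx'V : x' ∈ f ⁻¹ᵁ U.1 := show f.base x' ∈ U.1 by
      rw [hx']; exact U.2.range_fromSpec.subset ⟨p, rfl⟩
    refine ⟨hV.primeIdealOf ⟨x', hx'V⟩, U.2.fromSpec.isOpenEmbedding.injective ?_⟩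
    refine Eq.trans ?_ hx'
    have h3 := congrArg (fun g : Spec Γ(X', f ⁻¹ᵁ U.1) ⟶ X => g.base (hV.primeIdealOf ⟨x', hx'V⟩))
      (U.2.SpecMap_appLE_fromSpec f hV le_rfl)
    rw [← Scheme.Hom.app_eq_appLE] at h3
    exact h3.trans (congrArg f.base (hV.fromSpec_primeIdealOf ⟨x', hx'V⟩))
  · let η' := genericPoint X'
    have hηV : η' ∈ f ⁻¹ᵁ U.1 :=
      (genericPoint_specializes x).mem_open (f ⁻¹ᵁ U.1).2 hxV
    have hfη : f.base η' = genericPoint X :=
      (Basic.maximal_map f (fun z hz => (hz.antisymm (genericPoint_specializes z)).eq)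
        (genericPoint_specializes _)).symm
    haveI : IsFractionRing Γ(X, U.1) (X.presheaf.stalk (genericPoint X)) :=
      functionField_isFractionRing_of_isAffineOpen X U.1 U.2
    have hηU : f.base η' ∈ U.1 := hηV
    obtain ⟨k, hk⟩ := (ConcreteCategory.bijective_of_isIso (f.stalkMap η')).2
      (X'.presheaf.germ _ η' hηV b)
    have hfrac : ∀ (y' : X) (hy' : y' ∈ U.1) (_ : y' = genericPoint X) (k : X.presheaf.stalk y'),
        ∃ a₁ a₂ : Γ(X, U.1), a₂ ≠ 0 ∧
          k * X.presheaf.germ U.1 y' hy' a₂ = X.presheaf.germ U.1 y' hy' a₁ := by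
      rintro _ hy' rfl k
      obtain ⟨⟨a₁, a₂⟩, he⟩ := IsLocalization.surj (nonZeroDivisors Γ(X, U.1)) k
      exact ⟨a₁, a₂, nonZeroDivisors.coe_ne_zero a₂, he⟩
    obtain ⟨a₁, a₂, ha₂, he⟩ := hfrac _ hηU hfη k
    refine ⟨a₁, a₂, ha₂, germ_injective_of_isIntegral X' η' hηV ?_⟩
    have h1 := congrArg (f.stalkMap η') he
    rw [map_mul, hk, Scheme.Hom.germ_stalkMap_apply, Scheme.Hom.germ_stalkMap_apply] at h1
    rw [Algebra.smul_def, map_mul, mul_comm]
    exact h1

end Groth.Agent.FlatMor68.BirationalFlat
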