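import Groth.Agent.FlatCrit65.Blow.GluePair
import Mathlib

/-!
Separated birational morphisms of finite type become open immersions after admissible blow-ups.
-/

set_option autoImplicit false
set_option linter.style.haveILetI false
set_option backward.isDefEq.respectTransparency.types false

universe u

open CategoryTheory CategoryTheory.Limits AlgebraicGeometry TopologicalSpace

noncomputable section

namespace Groth.Agent.FlatMor68.BirationalOpenImm

open Groth.Agent.FlatCrit65.Blow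

theorem main {X Y : Scheme.{u}} [CompactSpace Y] [QuasiSeparatedSpace Y]
    (f : X ⟶ Y) [IsSeparated f] [QuasiCompact f] [LocallyOfFiniteType f]
    (U : Y.Opens) (hU : IsCompact (U : Set Y)) [IsIso (f ∣_ U)] :
    ∃ (𝓘 : X.IdealSheafData) (𝓙 : Y.IdealSheafData) (X' Y' : Scheme.{u}) (b : X' ⟶ X) (c : Y' ⟶ Y) (j : X' ⟶ Y'),
      BlowUp.IsBlowUp b 𝓘 ∧ BlowUp.IsAdmissibleFor (f ⁻¹ᵁ U) 𝓘 ∧
      BlowUp.IsBlowUp c 𝓙 ∧ BlowUp.IsAdmissibleFor U 𝓙 ∧
      IsOpenImmersion j ∧ j ≫ c = b ≫ f := by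
  obtain ⟨I, Y', c, hc, hadm, -, W, w, o, hw, ho, -, hcomm⟩ := exists_openImmersion_model f U hU
  refine ⟨I.comap f, I, W, Y', w, c, o, hw, ⟨Div89.isFiniteTypeIdeal_comap _ hadm.1, ?_⟩, hc, hadm, ho, hcomm⟩
  rw [Scheme.IdealSheafData.support_comap]
  exact hadm.2.preimage _

end Groth.Agent.FlatMor68.BirationalOpenImm
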