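import Groth.Agent.FlatCrit65.Blow.GluePair
import Groth.Agent.MP99.AmbPullback
import Mathlib

/-!
Two birational morphisms become open immersions after admissible blow-ups.
-/

set_option autoImplicit false
set_option linter.style.haveILetI false
set_option backward.isDefEq.respectTransparency.types false

universe u

open CategoryTheory CategoryTheory.Limits AlgebraicGeometry TopologicalSpace

noncomputable section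

namespace Groth.Agent.FlatMor68.BirationalTwo

open Groth.Agent.FlatCrit65.Blow

/-- The image of a smaller open under a morphism which is an isomorphism over an open. -/
theorem exists_image {X Y : Scheme.{u}} (π : X ⟶ Y) (U₁ : Y.Opens) [IsIso (π ∣_ U₁)] (U : X.Opens)
    (h : U ≤ π ⁻¹ᵁ U₁) :
    ∃ R : Y.Opens, (R : Set Y) = (fun x => π x) '' (U : Set X) ∧ π ⁻¹ᵁ R = U ∧ IsIso (π ∣_ R) := by
  let j : (U : Scheme.{u}) ⟶ Y := X.homOfLE h ≫ (π ∣_ U₁) ≫ U₁.ι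
  have hj : j = U.ι ≫ π := by
    simp only [j, morphismRestrict_ι, Scheme.homOfLE_ι_assoc]
  haveI : IsOpenImmersion j := inferInstance
  have hR : (j.opensRange : Set Y) = (fun x => π x) '' (U : Set X) := by
    rw [Scheme.Hom.coe_opensRange, hj]
    ext y
    constructor
    · rintro ⟨x, rfl⟩
      exact ⟨U.ι x, x.2, (Scheme.Hom.comp_apply _ _ _).symm⟩
    · rintro ⟨x, hx, rfl⟩
      exact ⟨⟨x, hx⟩, by rw [Scheme.Hom.comp_apply]; rfl⟩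
  have hle : j.opensRange ≤ U₁ := by
    intro y hy
    obtain ⟨x, hx, rfl⟩ := hR.le hy
    exact h hx
  refine ⟨j.opensRange, hR, ?_, MP99.isIso_restrict_of_le π hle⟩
  refine le_antisymm (fun z hz => ?_) (fun z hz => hR.ge ⟨z, hz, rfl⟩)
  obtain ⟨x, hx, hxz⟩ := hR.le hz
  have hz₁ : z ∈ π ⁻¹ᵁ U₁ := hle hz
  have e : ∀ w, U₁.ι ((π ∣_ U₁) w) = π w.1 := fun w => by
    rw [← Scheme.Hom.comp_apply, morphismRestrict_ι, Scheme.Hom.comp_apply]; rfl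
  have := (π ∣_ U₁).homeomorph.injective (a₁ := ⟨z, hz₁⟩) (a₂ := ⟨x, h hx⟩) (Subtype.ext (by
    show U₁.ι ((π ∣_ U₁) _) = U₁.ι ((π ∣_ U₁) _)
    rw [e, e]
    exact hxz.symm))
  have hzx : z = x := congrArg Subtype.val this
  exact hzx ▸ hx

theorem main {X Y₁ Y₂ : Scheme.{u}} [CompactSpace X] [QuasiSeparatedSpace X]
    [CompactSpace Y₁] [QuasiSeparatedSpace Y₁] [CompactSpace Y₂] [QuasiSeparatedSpace Y₂]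
    (π₁ : X ⟶ Y₁) (π₂ : X ⟶ Y₂)
    [IsSeparated π₁] [QuasiCompact π₁] [LocallyOfFiniteType π₁]
    [IsSeparated π₂] [QuasiCompact π₂] [LocallyOfFiniteType π₂]
    (U₁ : Y₁.Opens) (U₂ : Y₂.Opens) (hU₁ : IsCompact (U₁ : Set Y₁)) (hU₂ : IsCompact (U₂ : Set Y₂))
    [IsIso (π₁ ∣_ U₁)] [IsIso (π₂ ∣_ U₂)] :
    ∃ (𝓘 : X.IdealSheafData) (𝓙₁ : Y₁.IdealSheafData) (𝓙₂ : Y₂.IdealSheafData)
      (Xt Yt₁ Yt₂ : Scheme.{u}) (b : Xt ⟶ X) (c₁ : Yt₁ ⟶ Y₁) (c₂ : Yt₂ ⟶ Y₂) (j₁ : Xt ⟶ Yt₁) (j₂ : Xt ⟶ Yt₂),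
      BlowUp.IsBlowUp b 𝓘 ∧ BlowUp.IsAdmissibleFor (π₁ ⁻¹ᵁ U₁ ⊓ π₂ ⁻¹ᵁ U₂) 𝓘 ∧
      BlowUp.IsBlowUp c₁ 𝓙₁ ∧ BlowUp.IsFiniteTypeIdeal 𝓙₁ ∧
        Disjoint (𝓙₁.support : Set Y₁) ((fun x => π₁ x) '' ((π₁ ⁻¹ᵁ U₁ ⊓ π₂ ⁻¹ᵁ U₂ : X.Opens) : Set X)) ∧
      BlowUp.IsBlowUp c₂ 𝓙₂ ∧ BlowUp.IsFiniteTypeIdeal 𝓙₂ ∧
        Disjoint (𝓙₂.support : Set Y₂) ((fun x => π₂ x) '' ((π₁ ⁻¹ᵁ U₁ ⊓ π₂ ⁻¹ᵁ U₂ : X.Opens) : Set X)) ∧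
      IsOpenImmersion j₁ ∧ IsOpenImmersion j₂ ∧ j₁ ≫ c₁ = b ≫ π₁ ∧ j₂ ≫ c₂ = b ≫ π₂ := by
  let U : X.Opens := π₁ ⁻¹ᵁ U₁ ⊓ π₂ ⁻¹ᵁ U₂
  have hUc : IsCompact (U : Set X) :=
    (π₁.isCompact_preimage hU₁).inter_of_isOpen (π₂.isCompact_preimage hU₂) (π₁ ⁻¹ᵁ U₁).2 (π₂ ⁻¹ᵁ U₂).2
  obtain ⟨R₁, hR₁, hp₁, hi₁⟩ := exists_image π₁ U₁ U inf_le_left
  obtain ⟨R₂, hR₂, hp₂, hi₂⟩ := exists_image π₂ U₂ U inf_le_right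
  haveI := hi₁; haveI := hi₂
  have hc₁ : IsCompact (R₁ : Set Y₁) := hR₁ ▸ hUc.image π₁.continuous
  have hc₂ : IsCompact (R₂ : Set Y₂) := hR₂ ▸ hUc.image π₂.continuous
  obtain ⟨I₁, Y₁', b₁, hb₁, ha₁, -, W₁, w₁, o₁, hw₁, ho₁, hq₁, hc₁'⟩ := exists_openImmersion_model π₁ R₁ hc₁
  obtain ⟨I₂, Y₂', b₂, hb₂, ha₂, -, W₂, w₂, o₂, hw₂, ho₂, hq₂, hc₂'⟩ := exists_openImmersion_model π₂ R₂ hc₂
  haveI := ho₁; haveI := hq₁; haveI := ho₂; haveI := hq₂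
  have hA : ∀ x ∈ (I₁.comap π₁).support, π₂ x ∉ R₂ := fun x hx hx2 => by
    rw [Scheme.IdealSheafData.support_comap] at hx
    exact Set.disjoint_left.1 ha₁.2 hx (hp₁.ge (hp₂.le hx2))
  have hB : ∀ x ∈ (I₂.comap π₂).support, π₁ x ∉ R₁ := fun x hx hx1 => by
    rw [Scheme.IdealSheafData.support_comap] at hx
    exact Set.disjoint_left.1 ha₂.2 hx (hp₂.ge (hp₁.le hx1))
  obtain ⟨J₁, Z₁, c₁, V₁, v₁, u₁, hJ₁, hJ₁a, hv₁, hu₁, hcu₁⟩ :=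
    exists_side π₁ R₁ hc₁ hb₁ ha₁ o₁ hw₁ hc₁' (I₂.comap π₂) (Div89.isFiniteTypeIdeal_comap _ ha₂.1) hB
  obtain ⟨J₂, Z₂, c₂, V₂, v₂, u₂, hJ₂, hJ₂a, hv₂, hu₂, hcu₂⟩ :=
    exists_side π₂ R₂ hc₂ hb₂ ha₂ o₂ hw₂ hc₂' (I₁.comap π₁) (Div89.isFiniteTypeIdeal_comap _ ha₁.1) hA
  rw [mul_comm] at hv₂
  obtain ⟨ε, hε⟩ := RegImm10.BlowModel.exists_iso hv₁ hv₂
  haveI := hu₁; haveI := hu₂
  refine ⟨_, J₁, J₂, V₁, Z₁, Z₂, v₁, c₁, c₂, u₁, ε.hom ≫ u₂, hv₁, ⟨fun W => ?_, ?_⟩,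
    hJ₁, hJ₁a.1, ?_, hJ₂, hJ₂a.1, ?_, hu₁, inferInstance, hcu₁, ?_⟩
  · rw [Scheme.IdealSheafData.ideal_mul, Pi.mul_apply]
    exact Ideal.FG.mul (Div89.isFiniteTypeIdeal_comap _ ha₁.1 W) (Div89.isFiniteTypeIdeal_comap _ ha₂.1 W)
  · rw [Scheme.IdealSheafData.support_mul, Set.disjoint_left]
    rintro x (hx | hx) hxU
    · exact hA x hx (hp₂.ge hxU)
    · exact hB x hx (hp₁.ge hxU)
  · rw [← hR₁]; exact hJ₁a.2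
  · rw [← hR₂]; exact hJ₂a.2
  · rw [Category.assoc, hcu₂, ← Category.assoc, hε]

end Groth.Agent.FlatMor68.BirationalTwo
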