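import Groth.Prelude.Def_Mor2
import Groth.Agent.FlatMor67.SmoothPair
import Groth.Agent.FlatMor68.BlowSmoothAlg
import Groth.Agent.RegImm10.BlowModel
import Groth.Agent.CAlg9.BlowReg.ExcSmooth
import Groth.Agent.Div89.BlowUp
import Mathlib.RingTheory.Regular.Flat

/-!
Blow-ups of smooth schemes in smooth centres are smooth.
-/

set_option autoImplicit false
set_option linter.style.haveILetI false
set_option backward.isDefEq.respectTransparency.types false

universe u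

open CategoryTheory CategoryTheory.Limits AlgebraicGeometry TopologicalSpace

namespace Groth.Agent.FlatMor68.BlowSmooth

open Groth.Agent

theorem etale_aeval_comp {R A : Type u} [CommRing R] [CommRing A] [Algebra R A] {σ τ : Type} (e : σ ≃ τ)
    (v : τ → A) (h : (MvPolynomial.aeval v : MvPolynomial τ R →ₐ[R] A).toRingHom.Etale) :
    (MvPolynomial.aeval (v ∘ e) : MvPolynomial σ R →ₐ[R] A).toRingHom.Etale := by
  have : (MvPolynomial.aeval (v ∘ e) : MvPolynomial σ R →ₐ[R] A) =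
      (MvPolynomial.aeval v : MvPolynomial τ R →ₐ[R] A).comp (MvPolynomial.renameEquiv R e).toAlgHom :=
    MvPolynomial.algHom_ext fun s => by simp
  rw [this, AlgHom.toRingHom_eq_coe, AlgHom.comp_toRingHom]
  exact RingHom.Etale.stableUnderComposition _ _
    (RingHom.Etale.of_bijective (MvPolynomial.renameEquiv R e).bijective) h

theorem smooth_affineAlgebra {R A : Type u} [CommRing R] [CommRing A] [Algebra R A] {σ : Type} [Finite σ] {n : ℕ}
    (c : σ → A) (a : Fin n → A)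
    (het : (MvPolynomial.aeval (Sum.elim c a) : MvPolynomial (σ ⊕ Fin n) R →ₐ[R] A).toRingHom.Etale)
    (𝔞 : Ideal A) (h𝔞 : Ideal.span (Set.range a) = 𝔞) (i : Fin n) :
    Algebra.Smooth R (BlowUp.affineAlgebra A 𝔞 (a i)) := by
  obtain ⟨t, rfl⟩ : ∃ t, n = t + 1 := ⟨n - 1, by have := i.2; omega⟩
  let s := Equiv.swap 0 i
  have h := BlowSmoothAlg.smooth_affineAlgebra c (a ∘ s) (by
    convert etale_aeval_comp (Equiv.sumCongr (Equiv.refl σ) s) _ het
    ext (x | x) <;> rfl) 𝔞 (by rw [s.surjective.range_comp, h𝔞])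
  have e : (a ∘ s) 0 = a i := congrArg a (Equiv.swap_apply_left 0 i)
  rw [← e]
  exact h

variable {Z X S : Scheme.{u}}

/-- Coordinates on the ambient scheme adapted to a smooth closed subscheme. -/
theorem exists_chart (q : X ⟶ S) [Smooth q] (i : Z ⟶ X) [IsClosedImmersion i] [Smooth (i ≫ q)] (y : Z) :
    ∃ (W : S.Opens) (U : X.Opens) (hW : IsAffineOpen W) (hU : IsAffineOpen U) (e : U ≤ q ⁻¹ᵁ W),
      i y ∈ U ∧ ∃ (m n : ℕ) (c : Fin m → Γ(X, U)) (a : Fin n → Γ(X, U)),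
        Ideal.span (Set.range a) = i.ker.ideal ⟨U, hU⟩ ∧
        (letI := (q.appLE W U e).hom.toAlgebra
         (MvPolynomial.aeval (Sum.elim c a) : MvPolynomial (Fin m ⊕ Fin n) Γ(S, W) →ₐ[Γ(S, W)] Γ(X, U)).toRingHom.Etale) := by
  obtain ⟨_, ⟨W, hW, rfl⟩, hsW, -⟩ :=
    S.isBasis_affineOpens.exists_subset_of_mem_open (Set.mem_univ (q (i y))) isOpen_univ
  obtain ⟨_, ⟨U₀, hU₀, rfl⟩, hyU, e⟩ :=
    X.isBasis_affineOpens.exists_subset_of_mem_open (show i y ∈ q ⁻¹ᵁ W from hsW) (q ⁻¹ᵁ W).2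
  have hV₀ : IsAffineOpen (i ⁻¹ᵁ U₀) := hU₀.preimage i
  have e' : i ⁻¹ᵁ U₀ ≤ (i ≫ q) ⁻¹ᵁ W := fun z hz => e hz
  have hcomp : (i ≫ q).appLE W (i ⁻¹ᵁ U₀) e' = q.appLE W U₀ e ≫ i.app U₀ := by
    rw [i.app_eq_appLE, Scheme.Hom.appLE_comp_appLE]
  have hsP := HasRingHomProperty.appLE (P := @Smooth) q ‹_› ⟨W, hW⟩ ⟨U₀, hU₀⟩ e
  have hsC := HasRingHomProperty.appLE (P := @Smooth) (i ≫ q) ‹_› ⟨W, hW⟩ ⟨i ⁻¹ᵁ U₀, hV₀⟩ e'
  let R := Γ(S, W)
  let P := Γ(X, U₀)
  let _ := (q.appLE W U₀ e).hom.toAlgebra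
  let _ := ((i ≫ q).appLE W (i ⁻¹ᵁ U₀) e').hom.toAlgebra
  let _ := (i.app U₀).hom.toAlgebra
  have : IsScalarTower R P Γ(Z, i ⁻¹ᵁ U₀) := IsScalarTower.of_algebraMap_eq' (by
    simp only [R, P, RingHom.algebraMap_toAlgebra, hcomp, CommRingCat.hom_comp])
  have : Algebra.Smooth R P := hsP
  have : Algebra.Smooth R Γ(Z, i ⁻¹ᵁ U₀) := hsC
  obtain ⟨m, n, g, f, hf, het, hg0, hgen⟩ := FlatMor67.SmoothPair.exists_coords R
    (P := P) (C := Γ(Z, i ⁻¹ᵁ U₀)) (i.app_surjective U₀ hU₀) (hV₀.primeIdealOf ⟨y, hyU⟩).asIdeal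
  let U : X.Opens := X.basicOpen f
  have hU : IsAffineOpen U := hU₀.basicOpen f
  have hiyU : i y ∈ U := by
    show y ∈ i ⁻¹ᵁ X.basicOpen f
    rw [Scheme.preimage_basicOpen]
    exact (FlatMor67.SmoothPair.mem_basicOpen_iff hV₀ ⟨y, hyU⟩ _).2 hf
  have eU : U ≤ q ⁻¹ᵁ W := (X.basicOpen_le f).trans e
  let res : P →+* Γ(X, U) := (X.presheaf.map (homOfLE (X.basicOpen_le f)).op).hom
  let _ := res.toAlgebra
  let _ := (q.appLE W U eU).hom.toAlgebra
  have : IsScalarTower R P Γ(X, U) := IsScalarTower.of_algebraMap_eq' (by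
    simp only [R, P, res, RingHom.algebraMap_toAlgebra]
    rw [← CommRingCat.hom_comp, Scheme.Hom.appLE_map])
  have : IsLocalization.Away f Γ(X, U) := hU₀.isLocalization_basicOpen f
  let η : Localization.Away f ≃ₐ[P] Γ(X, U) := IsLocalization.algEquiv (Submonoid.powers f) _ _
  refine ⟨W, U, hW, hU, eU, hiyU, m, n, fun j => res (g (Sum.inl j)), fun j => res (g (Sum.inr j)), ?_, ?_⟩
  · have hmap := i.ker.map_ideal_basicOpen ⟨U₀, hU₀⟩ f
    rw [← show (i.ker.ideal ⟨U₀, hU₀⟩).map res = i.ker.ideal ⟨U, hU⟩ from hmap, Scheme.Hom.ker_apply]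
    apply le_antisymm
    · rw [Ideal.span_le]
      rintro _ ⟨j, rfl⟩
      exact Ideal.mem_map_of_mem res (RingHom.mem_ker.2 (hg0 j))
    · rw [Ideal.map_le_iff_le_comap]
      intro x hx
      have := Ideal.mem_map_of_mem η.toAlgHom.toRingHom (hgen x hx)
      rw [Ideal.map_span, ← Set.range_comp] at this
      rw [Ideal.mem_comap]
      convert this using 3
      · exact funext fun j => (η.commutes (g (Sum.inr j))).symm
      · exact (η.commutes x).symm
  · have : (MvPolynomial.aeval (Sum.elim (fun j => res (g (Sum.inl j))) fun j => res (g (Sum.inr j))) :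
        MvPolynomial (Fin m ⊕ Fin n) R →ₐ[R] Γ(X, U)) =
        (η.restrictScalars R).toAlgHom.comp (MvPolynomial.aeval fun j => algebraMap P (Localization.Away f) (g j)) :=
      MvPolynomial.algHom_ext fun s => by
        rcases s with s | s <;> simp <;> rfl
    rw [this, AlgHom.toRingHom_eq_coe, AlgHom.comp_toRingHom]
    exact RingHom.Etale.stableUnderComposition _ _ het
      (RingHom.Etale.of_bijective η.bijective)

theorem isRegularClosedImmersion (q : X ⟶ S) [Smooth q] (i : Z ⟶ X) [IsClosedImmersion i] [Smooth (i ≫ q)] :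
    Mor2.IsRegularClosedImmersion i := by
  refine ⟨inferInstance, fun y => ?_⟩
  obtain ⟨W, U, hW, hU, e, hyU, m, n, c, a, hspan, het⟩ := exists_chart q i y
  refine ⟨U, hU, hyU, List.ofFn a, ⟨?_, ?_⟩, ?_⟩
  · letI := (q.appLE W U e).hom.toAlgebra
    let Φ : MvPolynomial (Fin m ⊕ Fin n) Γ(S, W) →ₐ[Γ(S, W)] Γ(X, U) := MvPolynomial.aeval (Sum.elim c a)
    letI := Φ.toRingHom.toAlgebra
    haveI : Algebra.Etale (MvPolynomial (Fin m ⊕ Fin n) Γ(S, W)) Γ(X, U) := het
    have h := (BlowSmoothAlg.isWeaklyRegular_X Γ(S, W) (Fin m) n).of_flat (S := Γ(X, U))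
    rw [List.map_ofFn] at h
    convert h using 2
    funext j
    exact (MvPolynomial.aeval_X (Sum.elim c a) (Sum.inr j)).symm
  · rw [smul_eq_mul, Ideal.mul_top]
    intro htop
    have hI : i.ker.ideal ⟨U, hU⟩ = ⊤ := by
      rw [← hspan, htop, Ideal.ofList]
      congr 1
      ext; simp [List.mem_ofFn]
    rw [Scheme.Hom.ker_apply, Ideal.eq_top_iff_one, RingHom.mem_ker] at hI
    rw [map_one] at hI
    have h2 := congrArg (Z.presheaf.germ (i ⁻¹ᵁ U) y hyU) hI
    rw [map_one, map_zero] at h2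
    exact one_ne_zero h2
  · rw [← hspan, Ideal.ofList]
    congr 1
    ext; simp [List.mem_ofFn]

variable {X' : Scheme.{u}}

theorem exists_smooth_chart (q : X ⟶ S) [Smooth q] (i : Z ⟶ X) [IsClosedImmersion i] [Smooth (i ≫ q)]
    (b : X' ⟶ X) (hb : BlowUp.IsBlowUp b i.ker) (x' : X') :
    ∃ (T : Scheme.{u}) (j : T ⟶ X'), IsOpenImmersion j ∧ x' ∈ Set.range j ∧ Smooth (j ≫ b ≫ q) := by
  by_cases hx : b x' ∈ i.ker.support.compl
  · have := Div89.isIso_off_center hb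
    refine ⟨_, (b ⁻¹ᵁ i.ker.support.compl).ι, inferInstance, ?_, ?_⟩
    · rw [Scheme.Opens.range_ι]; exact hx
    · rw [← morphismRestrict_ι_assoc]; infer_instance
  · obtain ⟨y, hy⟩ : b x' ∈ Set.range i := by
      have : b x' ∈ (i.ker.support : Set X) := not_not.1 hx
      rw [Scheme.Hom.support_ker, i.isClosedEmbedding.isClosed_range.closure_eq] at this
      exact this
    obtain ⟨W, U, hW, hU, e, hyU, m, n, c, a, hspan, het⟩ := exists_chart q i y
    have h := RegImm10.BlowModel.isBlowUp_affine hb hU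
    let π := (b ∣_ U) ≫ hU.isoSpec.hom
    obtain ⟨_, ⟨j₀, rfl⟩, hp⟩ := FBlow13.exists_mem_chartOpen_of_span π h.1 hspan ⟨x', show b x' ∈ U from hy ▸ hyU⟩
    have hmem : a j₀ ∈ i.ker.ideal ⟨U, hU⟩ := hspan.le (Ideal.subset_span (Set.mem_range_self j₀))
    obtain ⟨ε, hε⟩ := FBlow13.exists_iso_chartOpen π h hmem
    letI := (q.appLE W U e).hom.toAlgebra
    let B := BlowUp.affineAlgebra Γ(X, U) (i.ker.ideal ⟨U, hU⟩) (a j₀)
    haveI : Algebra.Smooth Γ(S, W) B := smooth_affineAlgebra c a het _ hspan j₀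
    let j := ε.hom ≫ (FBlow13.chartOpen π (i.ker.ideal ⟨U, hU⟩) (a j₀)).ι ≫ (b ⁻¹ᵁ U).ι
    let p₀ : (FBlow13.chartOpen π (i.ker.ideal ⟨U, hU⟩) (a j₀)).toScheme :=
      ⟨(⟨x', show b x' ∈ U from hy ▸ hyU⟩ : (b ⁻¹ᵁ U).toScheme), hp⟩
    refine ⟨_, j, inferInstance, ⟨ε.inv p₀, ?_⟩, ?_⟩
    · simp only [j, Scheme.Hom.comp_apply]
      rw [← Scheme.Hom.comp_apply ε.inv ε.hom, ε.inv_hom_id]
      rfl
    · have hj : j ≫ b = Spec.map (CommRingCat.ofHom (algebraMap Γ(X, U) B)) ≫ hU.fromSpec := by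
        change _ = FBlow13.chartMor _ _ (a j₀) ≫ hU.fromSpec
        rw [← hε]
        simp only [j, π, Category.assoc, hU.isoSpec_hom_fromSpec, morphismRestrict_ι]
      rw [reassoc_of% hj, ← IsAffineOpen.SpecMap_appLE_fromSpec q hW hU e, ← Spec.map_comp_assoc]
      have : Smooth (Spec.map (q.appLE W U e ≫ CommRingCat.ofHom (algebraMap Γ(X, U) B))) := by
        rw [HasRingHomProperty.Spec_iff (P := @Smooth), CommRingCat.hom_comp, CommRingCat.hom_ofHom]
        have : (algebraMap Γ(X, U) B).comp (q.appLE W U e).hom = algebraMap Γ(S, W) B := by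
          ext r; rfl
        rw [this]
        exact RingHom.smooth_algebraMap.mpr inferInstance
      infer_instance

theorem main (q : X ⟶ S) [Smooth q] (i : Z ⟶ X) [IsClosedImmersion i] [Smooth (i ≫ q)]
    (b : X' ⟶ X) (hb : BlowUp.IsBlowUp b i.ker) :
    Smooth (b ≫ q) ∧ Smooth ((BlowUp.exceptional b i.ker).subschemeι ≫ b ≫ q) := by
  refine ⟨?_, ?_⟩
  · choose T j hj hx hs using exists_smooth_chart q i b hb
    rw [IsZariskiLocalAtSource.iff_of_iSup_eq_top (P := @Smooth) (fun x => (j x).opensRange)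
      (eq_top_iff.2 fun x _ => Opens.mem_iSup.2 ⟨x, hx x⟩)]
    intro x
    rw [← (j x).isoOpensRange_inv_comp, Category.assoc]
    infer_instance
  · let E := BlowUp.exceptional b i.ker
    have H : i.ker ≤ (E.subschemeι ≫ b).ker := by
      rw [Scheme.Hom.ker_comp, Scheme.IdealSheafData.ker_subschemeι]
      exact Scheme.IdealSheafData.le_map_comap _ _
    let g := IsClosedImmersion.lift i (E.subschemeι ≫ b) H
    have hg : g ≫ i = E.subschemeι ≫ b := IsClosedImmersion.lift_fac _ _ H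
    have := CAlg9.BlowReg.smooth_exceptional i (isRegularClosedImmersion q i) b hb g hg
    rw [← Category.assoc, ← hg, Category.assoc]
    infer_instance

end Groth.Agent.FlatMor68.BlowSmooth
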