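import Mathlib

set_option backward.isDefEq.respectTransparency.types false
set_option linter.style.haveILetI false
set_option autoImplicit false
universe u

open TensorProduct

namespace Groth.Agent.FlatMor68.StageIso

variable {R A P Q : Type u} [CommRing R] [CommRing A] [CommRing P] [CommRing Q]
  [Algebra R A] [Algebra R P] [Algebra R Q]

/-- Change of stage. -/
noncomputable abbrev push {S S' : Type u} [CommRing S] [CommRing S'] [Algebra R S] [Algebra R S']
    (j : S →ₐ[R] S') : S ⊗[R] Q →ₐ[R] S' ⊗[R] Q :=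
  Algebra.TensorProduct.map j (AlgHom.id R Q)

theorem push_push {S S' S'' : Type u} [CommRing S] [CommRing S'] [CommRing S''] [Algebra R S] [Algebra R S']
    [Algebra R S''] (j : S →ₐ[R] S') (k : S' →ₐ[R] S'') (x : S ⊗[R] Q) :
    push (Q := Q) k (push j x) = push (k.comp j) x := by
  induction x using TensorProduct.induction_on with
  | zero => simp
  | tmul a b => simp
  | add x y hx hy => simp [hx, hy]

theorem push_eq_rTensor {S S' : Type u} [CommRing S] [CommRing S'] [Algebra R S] [Algebra R S']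
    (j : S →ₐ[R] S') (x : S ⊗[R] Q) : push j x = LinearMap.rTensor Q j.toLinearMap x := rfl

theorem exists_preimage (u : A ⊗[R] Q) :
    ∃ C : Subalgebra R A, C.FG ∧ ∃ v : C ⊗[R] Q, push C.val v = u := by
  obtain ⟨C, hC, v, hv⟩ := TensorProduct.Algebra.exists_of_fg u
  exact ⟨C, hC, v, hv⟩

theorem exists_eq_stage {C : Subalgebra R A} (hC : C.FG) {t t' : C ⊗[R] Q} (h : push C.val t = push C.val t') :
    ∃ (D : Subalgebra R A) (hCD : C ≤ D), D.FG ∧ push (Subalgebra.inclusion hCD) t = push (Subalgebra.inclusion hCD) t' := by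
  obtain ⟨D, hCD, hD, h'⟩ := TensorProduct.Algebra.eq_of_fg_of_subtype_eq hC h
  exact ⟨D, hCD, hD, h'⟩

/-- finitely many equations hold at a common stage. -/
theorem exists_eq_stage_finset {ι : Type*} (s : Finset ι) {C : Subalgebra R A} (hC : C.FG) (t t' : ι → C ⊗[R] Q)
    (h : ∀ i ∈ s, push C.val (t i) = push C.val (t' i)) :
    ∃ (D : Subalgebra R A) (hCD : C ≤ D), D.FG ∧
      ∀ i ∈ s, push (Subalgebra.inclusion hCD) (t i) = push (Subalgebra.inclusion hCD) (t' i) := by
  classical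
  induction s using Finset.induction_on with
  | empty => exact ⟨C, le_rfl, hC, by simp⟩
  | insert a s _ ih =>
    obtain ⟨D, hCD, hD, hs⟩ := ih fun i hi => h i (Finset.mem_insert_of_mem hi)
    obtain ⟨D', hCD', hD', ha⟩ := exists_eq_stage hC (h a (Finset.mem_insert_self a s))
    refine ⟨D ⊔ D', hCD.trans le_sup_left, hD.sup hD', fun i hi => ?_⟩
    rcases Finset.mem_insert.1 hi with rfl | hi
    · have := congrArg (push (Subalgebra.inclusion (le_sup_right : D' ≤ D ⊔ D'))) ha
      rwa [push_push, push_push] at this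
    · have := congrArg (push (Subalgebra.inclusion (le_sup_left : D ≤ D ⊔ D'))) (hs i hi)
      rwa [push_push, push_push] at this

theorem exists_hom_stage [Algebra.FinitePresentation R P] (f : P →ₐ[R] A ⊗[R] Q) :
    ∃ (C : Subalgebra R A), C.FG ∧ ∃ ψ : P →ₐ[R] C ⊗[R] Q, (push C.val).comp ψ = f := by
  classical
  obtain ⟨m, π, hπ, w, hw⟩ := (inferInstance : Algebra.FinitePresentation R P).out
  choose C₀ hC₀ v hv using fun k => exists_preimage (f (π (MvPolynomial.X k)))
  let C := Finset.univ.sup C₀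
  have hC : C.FG := Finset.sup_induction Subalgebra.fg_bot (fun a ha b hb => ha.sup hb) (fun k _ => hC₀ k)
  have hle : ∀ k, C₀ k ≤ C := fun k => Finset.le_sup (Finset.mem_univ k)
  let Θ : MvPolynomial (Fin m) R →ₐ[R] C ⊗[R] Q :=
    MvPolynomial.aeval fun k => push (Subalgebra.inclusion (hle k)) (v k)
  have hΘ : (push C.val).comp Θ = f.comp π := by
    refine MvPolynomial.algHom_ext fun k => ?_
    simp only [Θ, AlgHom.comp_apply, MvPolynomial.aeval_X]
    rw [push_push]
    exact hv k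
  obtain ⟨D, hCD, hD, heq⟩ := exists_eq_stage_finset w hC (fun r => Θ r) (fun _ => 0) fun r hr => by
    have hr0 : π r = 0 := RingHom.mem_ker.mp (hw.le (Ideal.subset_span hr) : _)
    have := AlgHom.congr_fun hΘ r
    simp only [AlgHom.comp_apply, hr0, map_zero] at this
    rw [map_zero]; exact this
  refine ⟨D, hD, AlgHom.liftOfSurjective π hπ ((push (Subalgebra.inclusion hCD)).comp Θ) ?_, ?_⟩
  · rw [← hw, Ideal.span_le]
    intro r hr
    exact (heq r hr).trans (map_zero _)
  · refine AlgHom.ext fun p => ?_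
    obtain ⟨p, rfl⟩ := hπ p
    simp only [AlgHom.comp_apply, AlgHom.liftOfSurjective_apply, push_push]
    exact AlgHom.congr_fun hΘ p

/-- Extension of scalars of a stage map. -/
noncomputable def extend {S : Type u} [CommRing S] [Algebra R S] (ψ : P →ₐ[R] S ⊗[R] Q) : S ⊗[R] P →ₐ[S] S ⊗[R] Q :=
  Algebra.TensorProduct.lift (Algebra.ofId S _) ψ (fun _ _ => Commute.all _ _)

theorem extend_tmul {S : Type u} [CommRing S] [Algebra R S] (ψ : P →ₐ[R] S ⊗[R] Q) (s : S) (p : P) :
    extend ψ (s ⊗ₜ p) = (s ⊗ₜ (1 : Q)) * ψ p := by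
  simp [extend, Algebra.ofId_apply, Algebra.TensorProduct.algebraMap_apply]

theorem extend_push {S S' : Type u} [CommRing S] [CommRing S'] [Algebra R S] [Algebra R S'] (j : S →ₐ[R] S')
    (ψ : P →ₐ[R] S ⊗[R] Q) (z : S ⊗[R] P) :
    extend ((push j).comp ψ) (push j z) = push j (extend ψ z) := by
  induction z using TensorProduct.induction_on with
  | zero => simp
  | tmul s p => simp [extend_tmul]
  | add x y hx hy => simp [hx, hy]

theorem apply_push (θ : A ⊗[R] P ≃ₐ[A] A ⊗[R] Q) (D : Subalgebra R A) (ψD : P →ₐ[R] D ⊗[R] Q)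
    (hD : ∀ p, push D.val (ψD p) = θ (1 ⊗ₜ p)) (z : D ⊗[R] P) :
    θ (push D.val z) = push D.val (extend ψD z) := by
  induction z using TensorProduct.induction_on with
  | zero => simp
  | tmul s p =>
    rw [extend_tmul, map_mul, hD]
    simp only [Algebra.TensorProduct.map_tmul, AlgHom.id_apply, Subalgebra.coe_val]
    rw [show ((s : A) ⊗ₜ[R] (1 : Q)) = algebraMap A (A ⊗[R] Q) s from by simp [Algebra.TensorProduct.algebraMap_apply],
      ← Algebra.smul_def, ← map_smul, TensorProduct.smul_tmul', smul_eq_mul, mul_one]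
  | add x y hx hy => simp [hx, hy]

theorem exists_inverse_stage [Algebra.FinitePresentation R P] (θ : A ⊗[R] P ≃ₐ[A] A ⊗[R] Q)
    (C : Subalgebra R A) (hC : C.FG) (ψ : P →ₐ[R] C ⊗[R] Q) (χ : Q →ₐ[R] C ⊗[R] P)
    (hψ : ∀ p, push C.val (ψ p) = θ (1 ⊗ₜ p)) (hχ : ∀ q, push C.val (χ q) = θ.symm (1 ⊗ₜ q)) :
    ∃ (D : Subalgebra R A) (_ : C ≤ D), D.FG ∧ ∀ (E : Subalgebra R A) (_ : D ≤ E) (h' : C ≤ E) (p : P),
      extend ((push (Subalgebra.inclusion h')).comp χ) (push (Subalgebra.inclusion h') (ψ p)) = 1 ⊗ₜ p := by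
  classical
  obtain ⟨m, π, hπ, -⟩ := (inferInstance : Algebra.FinitePresentation R P).out
  obtain ⟨D, hCD, hD, h1⟩ := exists_eq_stage_finset (Finset.univ : Finset (Fin m)) hC
    (fun k => extend χ (ψ (π (MvPolynomial.X k)))) (fun k => 1 ⊗ₜ π (MvPolynomial.X k)) fun k _ => by
      rw [← apply_push θ.symm C χ hχ, hψ, AlgEquiv.symm_apply_apply, Algebra.TensorProduct.map_tmul, map_one]
      rfl
  refine ⟨D, hCD, hD, fun E hDE h' => ?_⟩
  suffices h : (((extend ((push (Subalgebra.inclusion h')).comp χ)).restrictScalars R).comp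
      ((push (Subalgebra.inclusion h')).comp ψ)) = (Algebra.TensorProduct.includeRight : P →ₐ[R] E ⊗[R] P) from
    fun p => AlgHom.congr_fun h p
  rw [← AlgHom.cancel_right hπ]
  refine MvPolynomial.algHom_ext fun k => ?_
  have := congrArg (push (Subalgebra.inclusion hDE)) (h1 k (Finset.mem_univ k))
  rw [push_push, push_push] at this
  simp only [AlgHom.comp_apply, AlgHom.restrictScalars_apply, Algebra.TensorProduct.includeRight_apply]
  rw [extend_push]
  exact this.trans (by rw [Algebra.TensorProduct.map_tmul, map_one]; rfl)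

theorem exists_iso_stage [Algebra.FinitePresentation R P] [Algebra.FinitePresentation R Q]
    (θ : A ⊗[R] P ≃ₐ[A] A ⊗[R] Q) :
    ∃ (C : Subalgebra R A) (Φ : C ⊗[R] P ≃ₐ[C] C ⊗[R] Q), C.FG ∧
      ∀ z, θ (push C.val z) = push C.val (Φ z) := by
  classical
  obtain ⟨C₁, hC₁, ψ, hψ⟩ := exists_hom_stage ((θ.toAlgHom.restrictScalars R).comp Algebra.TensorProduct.includeRight)
  obtain ⟨C₂, hC₂, χ, hχ⟩ := exists_hom_stage ((θ.symm.toAlgHom.restrictScalars R).comp Algebra.TensorProduct.includeRight)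
  let C := C₁ ⊔ C₂
  let ψC := (push (Subalgebra.inclusion (le_sup_left : C₁ ≤ C))).comp ψ
  let χC := (push (Subalgebra.inclusion (le_sup_right : C₂ ≤ C))).comp χ
  have hψC : ∀ p, push C.val (ψC p) = θ (1 ⊗ₜ p) := fun p => by
    simp only [ψC, AlgHom.comp_apply, push_push]
    exact AlgHom.congr_fun hψ p
  have hχC : ∀ q, push C.val (χC q) = θ.symm (1 ⊗ₜ q) := fun q => by
    simp only [χC, AlgHom.comp_apply, push_push]
    exact AlgHom.congr_fun hχ q
  obtain ⟨D₁, hCD₁, hD₁, h1⟩ := exists_inverse_stage θ C (hC₁.sup hC₂) ψC χC hψC hχC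
  obtain ⟨D₂, hCD₂, hD₂, h2⟩ := exists_inverse_stage θ.symm C (hC₁.sup hC₂) χC ψC hχC hψC
  let E := D₁ ⊔ D₂
  have hCE : C ≤ E := hCD₁.trans le_sup_left
  let ψE := (push (Q := Q) (Subalgebra.inclusion hCE)).comp ψC
  let χE := (push (Q := P) (Subalgebra.inclusion hCE)).comp χC
  have hψE : ∀ p, push E.val (ψE p) = θ (1 ⊗ₜ p) := fun p => by
    simp only [ψE, AlgHom.comp_apply, push_push]
    exact hψC p
  refine ⟨E, AlgEquiv.ofAlgHom (extend ψE) (extend χE) ?_ ?_, hD₁.sup hD₂, apply_push θ E ψE hψE⟩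
  · refine Algebra.TensorProduct.ext (by ext) (AlgHom.ext fun q => ?_)
    have h' : extend χE ((1 : E) ⊗ₜ[R] q) = χE q := by rw [extend_tmul]; exact one_mul _
    show extend ψE (extend χE ((1 : E) ⊗ₜ[R] q)) = _
    rw [h']
    exact h2 E le_sup_right hCE q
  · refine Algebra.TensorProduct.ext (by ext) (AlgHom.ext fun q => ?_)
    have h' : extend ψE ((1 : E) ⊗ₜ[R] q) = ψE q := by rw [extend_tmul]; exact one_mul _
    show extend χE (extend ψE ((1 : E) ⊗ₜ[R] q)) = _
    rw [h']
    exact h1 E le_sup_left hCE q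

end Groth.Agent.FlatMor68.StageIso
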