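import Mathlib
import Groth.Agent.FlatMor68.StageIso
import Groth.Agent.FlatMor68.NoethFlat

set_option backward.isDefEq.respectTransparency.types false
set_option linter.style.haveILetI false
set_option autoImplicit false
universe u

open CategoryTheory CategoryTheory.Limits AlgebraicGeometry TensorProduct

namespace Groth.Agent.FlatMor68.Combine

/-- affine pullback gives tensor description. -/
theorem exists_algEquiv {X S X₁ S₁ : Scheme.{u}} [IsAffine X] [IsAffine S] [IsAffine X₁] [IsAffine S₁]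
    {f : X ⟶ S} {f₁ : X₁ ⟶ S₁} {g₁ : S ⟶ S₁} {g₁' : X ⟶ X₁} (h : IsPullback g₁' f f₁ g₁) :
    letI := f.appTop.hom.toAlgebra
    letI := g₁.appTop.hom.toAlgebra
    letI := f₁.appTop.hom.toAlgebra
    Nonempty ((Γ(S, ⊤) : CommRingCat) ⊗[(Γ(S₁, ⊤) : CommRingCat)] (Γ(X₁, ⊤) : CommRingCat) ≃ₐ[(Γ(S, ⊤) : CommRingCat)] (Γ(X, ⊤) : CommRingCat)) := by
  letI := f.appTop.hom.toAlgebra
  letI := g₁.appTop.hom.toAlgebra
  letI := f₁.appTop.hom.toAlgebra
  letI := g₁'.appTop.hom.toAlgebra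
  letI : Algebra (Γ(S₁, ⊤) : CommRingCat) (Γ(X, ⊤) : CommRingCat) := (g₁.appTop ≫ f.appTop).hom.toAlgebra
  haveI : IsScalarTower (Γ(S₁, ⊤) : CommRingCat) (Γ(S, ⊤) : CommRingCat) (Γ(X, ⊤) : CommRingCat) := .of_algebraMap_eq' rfl
  haveI : IsScalarTower (Γ(S₁, ⊤) : CommRingCat) (Γ(X₁, ⊤) : CommRingCat) (Γ(X, ⊤) : CommRingCat) := .of_algebraMap_eq' (by
    show (g₁.appTop ≫ f.appTop).hom = (f₁.appTop ≫ g₁'.appTop).hom
    rw [← Scheme.Hom.comp_appTop, ← Scheme.Hom.comp_appTop, h.w])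
  have hpo := (isPushout_appTop_of_isPullback h).flip
  haveI : Algebra.IsPushout (Γ(S₁, ⊤) : CommRingCat) (Γ(S, ⊤) : CommRingCat) (Γ(X₁, ⊤) : CommRingCat) (Γ(X, ⊤) : CommRingCat) :=
    (CommRingCat.isPushout_iff_isPushout).1 hpo
  exact ⟨Algebra.IsPushout.equiv _ _ _ _⟩

/-- A stable property of an affine morphism passes to tensor presentations. -/
theorem prop_tensor (P : MorphismProperty Scheme.{u}) [P.IsStableUnderBaseChange] {X₁ S₁ : Scheme.{u}} [IsAffine X₁] [IsAffine S₁]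
    (f₁ : X₁ ⟶ S₁) (hP : P f₁) [Algebra (Γ(S₁, ⊤) : CommRingCat) (Γ(X₁, ⊤) : CommRingCat)]
    (hf : algebraMap (Γ(S₁, ⊤) : CommRingCat) (Γ(X₁, ⊤) : CommRingCat) = f₁.appTop.hom)
    (C : Type u) [CommRing C] [Algebra (Γ(S₁, ⊤) : CommRingCat) C] (T : Type u) [CommRing T] [Algebra C T]
    (e : C ⊗[(Γ(S₁, ⊤) : CommRingCat)] (Γ(X₁, ⊤) : CommRingCat) ≃ₐ[C] T) :
    P (Spec.map (CommRingCat.ofHom (algebraMap C T))) := by
  haveI : P.RespectsIso := MorphismProperty.IsStableUnderBaseChange.respectsIso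
  have h1 : P (Spec.map (CommRingCat.ofHom (algebraMap (Γ(S₁, ⊤) : CommRingCat) (Γ(X₁, ⊤) : CommRingCat)))) := by
    refine (P.arrow_mk_iso_iff (Arrow.isoMk X₁.isoSpec S₁.isoSpec ?_)).1 hP
    simp only [Arrow.mk_hom, hf, CommRingCat.ofHom_hom]
    exact Scheme.isoSpec_hom_naturality f₁
  have hpb := isPullback_SpecMap_of_isPushout _ _ _ _
    (CommRingCat.isPushout_tensorProduct (Γ(S₁, ⊤) : CommRingCat) C (Γ(X₁, ⊤) : CommRingCat)).flip
  have h2 := MorphismProperty.of_isPullback (P := P) hpb h1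
  let eI : CommRingCat.of (C ⊗[(Γ(S₁, ⊤) : CommRingCat)] (Γ(X₁, ⊤) : CommRingCat)) ≅ CommRingCat.of T := e.toRingEquiv.toCommRingCatIso
  refine (P.arrow_mk_iso_iff (Arrow.isoMk (Scheme.Spec.mapIso eI.symm.op) (Iso.refl _) ?_)).1 h2
  simp only [Arrow.mk_hom, Iso.refl_hom, Category.comp_id]
  show Spec.map eI.inv ≫ _ = _
  rw [← Spec.map_comp]
  congr 1
  refine CommRingCat.hom_ext (RingHom.ext fun c => ?_)
  show e.symm (algebraMap C T c) = algebraMap C _ c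
  exact e.symm.commutes c

theorem finitePresentation_stage {A₁ B₁ R : Type u} [CommRing A₁] [CommRing B₁] [CommRing R] [Algebra A₁ B₁]
    [Algebra A₁ R] [IsNoetherianRing A₁] [Algebra.FiniteType A₁ B₁] : Algebra.FinitePresentation R (R ⊗[A₁] B₁) := by
  haveI : Algebra.FinitePresentation A₁ B₁ := Algebra.FinitePresentation.of_finiteType.1 inferInstance
  infer_instance

theorem algebraic_aux {A₁ B₁ A₂ B₂ R A B : Type u} [CommRing A₁] [CommRing B₁] [CommRing A₂] [CommRing B₂] [CommRing R]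
    [CommRing A] [CommRing B] [Algebra A₁ B₁] [Algebra A₂ B₂] [Algebra A₁ A] [Algebra A₂ A] [Algebra A B]
    [Algebra A₁ R] [Algebra A₂ R] [Algebra R A] [IsScalarTower A₁ R A] [IsScalarTower A₂ R A]
    [IsNoetherianRing A₁] [IsNoetherianRing A₂] [Algebra.FiniteType A₁ B₁] [Algebra.FiniteType A₂ B₂]
    (hRft : (algebraMap ℤ R).FiniteType)
    (e₁ : A ⊗[A₁] B₁ ≃ₐ[A] B) (e₂ : A ⊗[A₂] B₂ ≃ₐ[A] B) :
    ∃ (C T : Type u) (_ : CommRing C) (_ : CommRing T) (_ : Algebra A₁ C) (_ : Algebra A₂ C) (_ : Algebra C T)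
      (_ : Algebra C A) (_ : C ⊗[A₁] B₁ ≃ₐ[C] T) (_ : C ⊗[A₂] B₂ ≃ₐ[C] T) (_ : A ⊗[C] T ≃ₐ[A] B),
      Algebra.FiniteType ℤ C ∧ Algebra.FiniteType C T := by
  haveI : Algebra.FinitePresentation R (R ⊗[A₁] B₁) := finitePresentation_stage
  haveI : Algebra.FinitePresentation R (R ⊗[A₂] B₂) := finitePresentation_stage
  let θ : A ⊗[R] (R ⊗[A₁] B₁) ≃ₐ[A] A ⊗[R] (R ⊗[A₂] B₂) :=
    (Algebra.TensorProduct.cancelBaseChange A₁ R A A B₁).trans (e₁.trans
      (e₂.symm.trans (Algebra.TensorProduct.cancelBaseChange A₂ R A A B₂).symm))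
  obtain ⟨C, Φ, hC, -⟩ := StageIso.exists_iso_stage θ
  haveI : Algebra.FiniteType R C := (Subalgebra.fg_iff_finiteType C).mp hC
  haveI : IsScalarTower A₁ R C := .of_algebraMap_eq fun a => Subtype.ext (IsScalarTower.algebraMap_apply A₁ R A a)
  haveI : IsScalarTower A₂ R C := .of_algebraMap_eq fun a => Subtype.ext (IsScalarTower.algebraMap_apply A₂ R A a)
  refine ⟨C, C ⊗[R] (R ⊗[A₁] B₁), inferInstance, inferInstance, inferInstance, inferInstance, inferInstance, inferInstance,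
    (Algebra.TensorProduct.cancelBaseChange A₁ R C C B₁).symm,
    ((Algebra.TensorProduct.cancelBaseChange A₂ R C C B₂).symm).trans Φ.symm,
    ((Algebra.TensorProduct.cancelBaseChange R C A A (R ⊗[A₁] B₁)).trans
      (Algebra.TensorProduct.cancelBaseChange A₁ R A A B₁)).trans e₁, ?_, inferInstance⟩
  have h : (algebraMap ℤ C).FiniteType := by
    rw [Subsingleton.elim (algebraMap ℤ C) ((algebraMap R C).comp (algebraMap ℤ R))]
    exact (RingHom.finiteType_algebraMap.2 ‹Algebra.FiniteType R C›).comp hRft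
  exact RingHom.finiteType_algebraMap.1 h

theorem algebraic {A₁ B₁ A₂ B₂ A B : Type u} [CommRing A₁] [CommRing B₁] [CommRing A₂] [CommRing B₂] [CommRing A]
    [CommRing B] [Algebra A₁ B₁] [Algebra A₂ B₂] [Algebra A₁ A] [Algebra A₂ A] [Algebra A B]
    [Algebra.FiniteType ℤ A₁] [Algebra.FiniteType ℤ A₂] [Algebra.FiniteType A₁ B₁] [Algebra.FiniteType A₂ B₂]
    (e₁ : A ⊗[A₁] B₁ ≃ₐ[A] B) (e₂ : A ⊗[A₂] B₂ ≃ₐ[A] B) :
    ∃ (C T : Type u) (_ : CommRing C) (_ : CommRing T) (_ : Algebra A₁ C) (_ : Algebra A₂ C) (_ : Algebra C T)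
      (_ : Algebra C A) (_ : C ⊗[A₁] B₁ ≃ₐ[C] T) (_ : C ⊗[A₂] B₂ ≃ₐ[C] T) (_ : A ⊗[C] T ≃ₐ[A] B),
      Algebra.FiniteType ℤ C ∧ Algebra.FiniteType C T := by
  let R := A₁ ⊗[ℤ] A₂
  let pm : R →+* A := (Algebra.TensorProduct.productMap ((algebraMap A₁ A).toIntAlgHom) ((algebraMap A₂ A).toIntAlgHom)).toRingHom
  letI : Algebra R A := pm.toAlgebra
  letI a₂ : Algebra A₂ R := (Algebra.TensorProduct.includeRight (R := ℤ) (A := A₁) (B := A₂)).toRingHom.toAlgebra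
  haveI : IsScalarTower A₁ R A := IsScalarTower.of_algebraMap_eq' (R := A₁) (S := R) (A := A) (RingHom.ext fun a => by
    show algebraMap A₁ A a = pm (a ⊗ₜ 1)
    exact (Algebra.TensorProduct.productMap_left_apply (algebraMap A₁ A).toIntAlgHom (algebraMap A₂ A).toIntAlgHom a).symm)
  haveI : IsScalarTower A₂ R A := IsScalarTower.of_algebraMap_eq' (R := A₂) (S := R) (A := A) (RingHom.ext fun a => by
    show algebraMap A₂ A a = pm (1 ⊗ₜ a)
    exact (Algebra.TensorProduct.productMap_right_apply (algebraMap A₁ A).toIntAlgHom (algebraMap A₂ A).toIntAlgHom a).symm)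
  haveI : IsNoetherianRing A₁ := Algebra.FiniteType.isNoetherianRing ℤ A₁
  haveI : IsNoetherianRing A₂ := Algebra.FiniteType.isNoetherianRing ℤ A₂
  have hRft : (algebraMap ℤ R).FiniteType := by
    rw [Subsingleton.elim (algebraMap ℤ R) ((algebraMap A₁ R).comp (algebraMap ℤ A₁))]
    exact (RingHom.finiteType_algebraMap.2 (inferInstanceAs (Algebra.FiniteType A₁ (A₁ ⊗[ℤ] A₂)))).comp
      (RingHom.finiteType_algebraMap.2 inferInstance)
  exact algebraic_aux (R := R) hRft e₁ e₂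

theorem t9737 (P Q : MorphismProperty Scheme.{u}) [P.IsStableUnderBaseChange] [Q.IsStableUnderBaseChange]
    {X S : Scheme.{u}} (f : X ⟶ S) [IsAffine X] [IsAffine S] [LocallyOfFinitePresentation f]
    {X₁ S₁ X₂ S₂ : Scheme.{u}} [IsAffine X₁] [IsAffine S₁] [IsAffine X₂] [IsAffine S₂]
    (f₁ : X₁ ⟶ S₁) (g₁ : S ⟶ S₁) (g₁' : X ⟶ X₁) (h₁ : IsPullback g₁' f f₁ g₁)
    (f₂ : X₂ ⟶ S₂) (g₂ : S ⟶ S₂) (g₂' : X ⟶ X₂) (h₂ : IsPullback g₂' f f₂ g₂)
    (hS₁ : Algebra.FiniteType ℤ Γ(S₁, ⊤)) (hS₂ : Algebra.FiniteType ℤ Γ(S₂, ⊤))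
    [LocallyOfFiniteType f₁] [LocallyOfFiniteType f₂] (hP : P f₁) (hQ : Q f₂) :
    ∃ (X₀ S₀ : Scheme.{u}) (f₀ : X₀ ⟶ S₀) (g : S ⟶ S₀) (g' : X ⟶ X₀), IsAffine X₀ ∧ IsAffine S₀ ∧ IsPullback g' f f₀ g ∧
      Algebra.FiniteType ℤ Γ(S₀, ⊤) ∧ LocallyOfFiniteType f₀ ∧ P f₀ ∧ Q f₀ := by
  letI := f.appTop.hom.toAlgebra
  letI := f₁.appTop.hom.toAlgebra
  letI := g₁.appTop.hom.toAlgebra
  letI := f₂.appTop.hom.toAlgebra
  letI := g₂.appTop.hom.toAlgebra
  haveI : Algebra.FiniteType (Γ(S₁, ⊤) : CommRingCat) (Γ(X₁, ⊤) : CommRingCat) :=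
    RingHom.finiteType_algebraMap.1 ((HasRingHomProperty.iff_of_isAffine (P := @LocallyOfFiniteType)).1 ‹LocallyOfFiniteType f₁›)
  haveI : Algebra.FiniteType (Γ(S₂, ⊤) : CommRingCat) (Γ(X₂, ⊤) : CommRingCat) :=
    RingHom.finiteType_algebraMap.1 ((HasRingHomProperty.iff_of_isAffine (P := @LocallyOfFiniteType)).1 ‹LocallyOfFiniteType f₂›)
  obtain ⟨e₁⟩ := exists_algEquiv h₁
  obtain ⟨e₂⟩ := exists_algEquiv h₂
  obtain ⟨C, T, _, _, _, _, _, _, t₁, t₂, e, hC, hT⟩ := algebraic e₁ e₂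
  let qi : CommRingCat.of ((Γ(S, ⊤) : CommRingCat) ⊗[C] T) ≅ Γ(X, ⊤) := e.toRingEquiv.toCommRingCatIso
  have hq : CommRingCat.ofHom Algebra.TensorProduct.includeLeftRingHom ≫ qi.hom = f.appTop := by
    ext a
    exact e.commutes a
  let ex : Spec (CommRingCat.of ((Γ(S, ⊤) : CommRingCat) ⊗[C] T)) ≅ X := asIso (Spec.map qi.inv) ≪≫ X.isoSpec.symm
  have hpb := isPullback_SpecMap_of_isPushout _ _ _ _
    (CommRingCat.isPushout_tensorProduct C (Γ(S, ⊤) : CommRingCat) T).flip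
  refine ⟨Spec (CommRingCat.of T), Spec (CommRingCat.of C), Spec.map (CommRingCat.ofHom (algebraMap C T)),
    S.isoSpec.hom ≫ Spec.map (CommRingCat.ofHom (algebraMap C (Γ(S, ⊤) : CommRingCat))),
    ex.inv ≫ Spec.map (CommRingCat.ofHom Algebra.TensorProduct.includeRight.toRingHom),
    inferInstance, inferInstance, ?_, NoethFlat.finiteType_Spec_top, ?_,
    prop_tensor P f₁ hP rfl C T t₁, prop_tensor Q f₂ hQ rfl C T t₂⟩
  · refine hpb.of_iso ex (Iso.refl _) S.isoSpec.symm (Iso.refl _) (by simp) ?_ (by simp) (by simp)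
    show Spec.map _ ≫ S.isoSpec.inv = (Spec.map qi.inv ≫ X.isoSpec.inv) ≫ f
    rw [Category.assoc, ← Scheme.isoSpec_inv_naturality, ← hq, Spec.map_comp_assoc]
    simp only [← Category.assoc, ← Spec.map_comp]
    simp
  · rw [HasRingHomProperty.Spec_iff (P := @LocallyOfFiniteType)]
    exact RingHom.finiteType_algebraMap.2 hT

end Groth.Agent.FlatMor68.Combine
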