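import Groth.Agent.RG29.SameComp
import Mathlib

/-!
In a fibre of a smooth algebra, the component of a field valued point of any field reaches every
point in the preconnected pieces through its image.
-/

set_option autoImplicit false
set_option linter.style.haveILetI false
set_option backward.isDefEq.respectTransparency.types false

universe u

open TensorProduct PrimeSpectrum

namespace Groth.Agent.FlatMor68.CompExtend

open RG29

/-- Algebraic field extensions map clopen sets of the base change to clopen sets. -/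
theorem isClopen_image_of_algebraic {k L G : Type u} [Field k] [Field L] [Algebra k L]
    [Algebra.IsAlgebraic k L] [CommRing G] [Algebra k G] {s : Set (PrimeSpectrum (G ⊗[k] L))}
    (hs : IsClopen s) : IsClopen (comap (algebraMap G (G ⊗[k] L)) '' s) := by
  haveI : Algebra.IsIntegral k L := Algebra.IsAlgebraic.isIntegral
  exact ⟨isClosedMap_comap_of_isIntegral _ (fun g => Algebra.IsIntegral.isIntegral g) s hs.1,
    isOpenMap_comap_algebraMap_tensorProduct_of_field s hs.2⟩

variable {R B : Type u} [CommRing R] [CommRing B] [Algebra R B] [Algebra.Smooth R B]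

/-- The case of a base field over which the residue field of the point is primary. -/
theorem exists_sameComp_of_primary (p : PrimeSpectrum R) {k' : Type u} [Field k'] [Algebra R k']
    [Algebra p.asIdeal.ResidueField k'] [IsScalarTower R p.asIdeal.ResidueField k']
    [Algebra.IsAlgebraic p.asIdeal.ResidueField k']
    {L : Type u} [Field L] [Algebra R L] [Algebra k' L] [IsScalarTower R k' L]
    (hM : separableClosure k' L = ⊥) (τ₀ : B →ₐ[R] L)
    {K : Set (PrimeSpectrum B)} (hK : IsPreconnected K)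
    (hKp : ∀ y ∈ K, comap (algebraMap R B) y = p)
    {z : PrimeSpectrum B} (hz : ∀ b, τ₀ b = 0 ↔ b ∈ z.asIdeal) (hzK : z ∈ K)
    {x : PrimeSpectrum B} (hxK : x ∈ K) :
    ∃ (L' : Type u) (_ : Field L') (_ : Algebra R L') (j : L →ₐ[R] L') (τ : B →ₐ[R] L'),
      (∀ b, τ b = 0 ↔ b ∈ x.asIdeal) ∧ SameComp (j.comp τ₀) τ := by
  classical
  let k := p.asIdeal.ResidueField
  let G := k ⊗[R] B
  let G' := k' ⊗[R] B
  let E : G ⊗[k] k' ≃+* G' :=
    (Algebra.TensorProduct.comm k G k').toRingEquiv.trans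
      (Algebra.TensorProduct.cancelBaseChange R k k' k' B).toRingEquiv
  have hE : ∀ b : B, E (algebraMap G (G ⊗[k] k') ((1 : k) ⊗ₜ b)) = (1 : k') ⊗ₜ b := fun b => by
    show Algebra.TensorProduct.cancelBaseChange R k k' k' B
      ((1 : k') ⊗ₜ[k] ((1 : k) ⊗ₜ[R] b)) = (1 : k') ⊗ₜ[R] b
    rw [Algebra.TensorProduct.cancelBaseChange_tmul, one_smul]
  haveI : IsNoetherianRing G' := Algebra.FiniteType.isNoetherianRing k' _
  let s₀ : G' →ₐ[k'] L :=
    Algebra.TensorProduct.lift (Algebra.ofId k' L) τ₀ fun _ _ => .all _ _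
  obtain ⟨e', he'⟩ := exists_isCompIdem s₀.toRingHom
  have hdom : ∀ (K' : Type u) [Field K'] [Algebra k' K'],
      IsDomain (K' ⊗[k'] (G' ⧸ Ideal.span {1 - e'})) :=
    fun K' _ _ => RG29.IsCompIdem.isDomain_tensor hM s₀ he' K'
  have hf : IsIdempotentElem (E.symm e') := he'.1.map E.symm
  let T : Set (PrimeSpectrum G) := comap (algebraMap G (G ⊗[k] k')) '' (basicOpen (E.symm e') : Set _)
  have hT : IsClopen T := isClopen_image_of_algebraic
    (isClopen_basicOpen_of_mul_add (E.symm e') (1 - E.symm e') hf.mul_one_sub_self (add_sub_cancel _ _))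
  let ε := PrimeSpectrum.preimageHomeomorphFiber R B p
  have hval : ∀ P : PrimeSpectrum G,
      (ε.symm P).1 = comap (Algebra.TensorProduct.includeRight (R := R) (A := k) (B := B)).toRingHom P :=
    fun P => rfl
  let K' : Set (PrimeSpectrum G) := ε '' (Subtype.val ⁻¹' K)
  have hK' : IsPreconnected K' := by
    refine IsPreconnected.image ?_ _ ε.continuous.continuousOn
    rw [← Topology.IsInducing.subtypeVal.isPreconnected_image]
    rw [Subtype.image_preimage_coe]
    convert hK using 1
    exact Set.inter_eq_right.2 fun y hy => hKp y hy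
  let Pz : PrimeSpectrum G' := ⟨RingHom.ker s₀.toRingHom, RingHom.ker_isPrime _⟩
  have hzT : ε ⟨z, hKp z hzK⟩ ∈ T := by
    refine ⟨comap E.toRingHom Pz, ?_, ε.symm.injective (Subtype.ext ?_)⟩
    · show E (E.symm e') ∉ Pz.asIdeal
      rw [E.apply_symm_apply]
      intro h
      have h' : s₀ e' = 0 := h
      exact one_ne_zero (he'.2.1.symm.trans h')
    · rw [Homeomorph.symm_apply_apply, hval]
      refine PrimeSpectrum.ext (Ideal.ext fun b => ?_)
      show s₀ (E (algebraMap G (G ⊗[k] k') ((1 : k) ⊗ₜ b))) = 0 ↔ _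
      rw [hE, Algebra.TensorProduct.lift_tmul, map_one, one_mul]
      exact hz b
  have hxT : ε ⟨x, hKp x hxK⟩ ∈ T :=
    hK'.subset_isClopen hT ⟨_, ⟨_, hzK, rfl⟩, hzT⟩ ⟨_, hxK, rfl⟩
  obtain ⟨P₀, hP₀, hP₀x⟩ := hxT
  let P : PrimeSpectrum G' := comap E.symm.toRingHom P₀
  let κ := P.asIdeal.ResidueField
  haveI : Nontrivial (L ⊗[k'] κ) :=
    (Algebra.TensorProduct.includeRight_injective (R := k') (A := L) (B := κ)
      (algebraMap k' L).injective).nontrivial
  obtain ⟨m, hm⟩ := Ideal.exists_maximal (L ⊗[k'] κ)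
  let L' := (L ⊗[k'] κ) ⧸ m
  letI : Field L' := Ideal.Quotient.field m
  let q : L ⊗[k'] κ →ₐ[R] L' := Ideal.Quotient.mkₐ R m
  let jL : L →ₐ[R] L' := q.comp (Algebra.TensorProduct.includeLeft (R := k') (S := R) (A := L) (B := κ))
  let jκ : κ →ₐ[R] L' := q.comp ((Algebra.TensorProduct.includeRight (R := k') (A := L) (B := κ)).restrictScalars R)
  let π : G' →ₐ[R] L' := jκ.comp (IsScalarTower.toAlgHom R G' κ)
  let τ : B →ₐ[R] L' := π.comp (Algebra.TensorProduct.includeRight (R := R) (A := k') (B := B))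
  let j : k' →ₐ[R] L' := jL.comp (IsScalarTower.toAlgHom R k' L)
  have hj : ∀ c : k', π (c ⊗ₜ 1) = j c := fun c => by
    show q ((1 : L) ⊗ₜ[k'] algebraMap G' κ (c ⊗ₜ 1)) = q (algebraMap k' L c ⊗ₜ[k'] (1 : κ))
    congr 1
    rw [Algebra.algebraMap_eq_smul_one (A := L), TensorProduct.smul_tmul, ← Algebra.algebraMap_eq_smul_one,
      IsScalarTower.algebraMap_apply k' G' κ]
    rfl
  have hτ : ∀ b, τ b = 0 ↔ b ∈ x.asIdeal := fun b => by
    have h2 : comap (Algebra.TensorProduct.includeRight (R := R) (A := k) (B := B)).toRingHom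
        (comap (algebraMap G (G ⊗[k] k')) P₀) = x := by
      rw [hP₀x, ← hval, Homeomorph.symm_apply_apply]
    show jκ (algebraMap G' κ ((1 : k') ⊗ₜ b)) = 0 ↔ _
    rw [map_eq_zero_iff jκ jκ.toRingHom.injective, Ideal.algebraMap_residueField_eq_zero, ← h2]
    show E.symm ((1 : k') ⊗ₜ b) ∈ P₀.asIdeal ↔ algebraMap G (G ⊗[k] k') ((1 : k) ⊗ₜ b) ∈ P₀.asIdeal
    rw [← hE b, E.symm_apply_apply]
  have hπ : ∀ y, ptMap τ (RG29.baseMap B j y) = π y := fun y => by
    induction y using TensorProduct.induction_on with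
    | zero => simp
    | tmul l b =>
      rw [baseMap_tmul, ptMap_tmul, ← hj]
      show π (l ⊗ₜ 1) * π ((1 : k') ⊗ₜ b) = _
      rw [← map_mul, Algebra.TensorProduct.tmul_mul_tmul, mul_one, one_mul]
    | add u v hu hv => simp only [map_add, hu, hv]
  have hπ₀ : ∀ y, ptMap (jL.comp τ₀) (RG29.baseMap B j y) = jL (s₀ y) := fun y => by
    induction y using TensorProduct.induction_on with
    | zero => simp
    | tmul l b =>
      rw [baseMap_tmul, ptMap_tmul]
      show jL (algebraMap k' L l) * jL (τ₀ b) = _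
      rw [← map_mul]
      rfl
    | add u v hu hv => simp only [map_add, hu, hv]
  have h1 : ptMap (jL.comp τ₀) (RG29.baseMap B j e') = 1 := by
    rw [hπ₀, show s₀ e' = 1 from he'.2.1, map_one]
  refine ⟨L', inferInstance, inferInstance, jL, τ, hτ,
    RG29.baseMap B j e', isCompIdem_baseMap_of_corner he'.1 hdom j (jL.comp τ₀) h1, ?_⟩
  rw [hπ]
  refine (IsIdempotentElem.iff_eq_zero_or_one.1 (he'.1.map π)).resolve_left fun h => ?_
  have h3 : algebraMap G' κ e' = 0 := (map_eq_zero_iff jκ jκ.toRingHom.injective).1 h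
  exact hP₀ ((Ideal.algebraMap_residueField_eq_zero (I := P.asIdeal)).1 h3)

/-- Any field valued point has, in its component, points over all the points of a preconnected
piece of the fibre through its image. -/
theorem exists_sameComp {L : Type u} [Field L] [Algebra R L] (τ₀ : B →ₐ[R] L) (p : PrimeSpectrum R)
    {K : Set (PrimeSpectrum B)} (hK : IsPreconnected K)
    (hKp : ∀ y ∈ K, comap (algebraMap R B) y = p)
    {z : PrimeSpectrum B} (hz : ∀ b, τ₀ b = 0 ↔ b ∈ z.asIdeal) (hzK : z ∈ K)
    {x : PrimeSpectrum B} (hxK : x ∈ K) :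
    ∃ (L' : Type u) (_ : Field L') (_ : Algebra R L') (j : L →ₐ[R] L') (τ : B →ₐ[R] L'),
      (∀ b, τ b = 0 ↔ b ∈ x.asIdeal) ∧ SameComp (j.comp τ₀) τ := by
  have hp : ∀ r, algebraMap R L r = 0 ↔ r ∈ p.asIdeal := fun r => by
    rw [← τ₀.commutes r, hz, ← hKp z hzK]
    rfl
  let j₀ : p.asIdeal.ResidueField →ₐ[R] L := Ideal.ResidueField.liftₐ p.asIdeal (Algebra.ofId R L)
    (fun r hr => (hp r).2 hr) (fun r hr => isUnit_iff_ne_zero.2 fun h => hr ((hp r).1 h))
  letI : Algebra p.asIdeal.ResidueField L := j₀.toRingHom.toAlgebra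
  haveI : IsScalarTower R p.asIdeal.ResidueField L := IsScalarTower.of_algHom j₀
  haveI : IsScalarTower R (separableClosure p.asIdeal.ResidueField L) L :=
    IsScalarTower.of_algebraMap_eq fun r => by
      rw [IsScalarTower.algebraMap_apply R p.asIdeal.ResidueField (separableClosure p.asIdeal.ResidueField L),
        ← IsScalarTower.algebraMap_apply p.asIdeal.ResidueField (separableClosure p.asIdeal.ResidueField L) L,
        ← IsScalarTower.algebraMap_apply R p.asIdeal.ResidueField L]
  exact exists_sameComp_of_primary p (k' := separableClosure p.asIdeal.ResidueField L)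
    (separableClosure.separableClosure_eq_bot _ _) τ₀ hK hKp hz hzK hxK

end Groth.Agent.FlatMor68.CompExtend
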