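import Groth.Agent.FlatMor68.CompExtend
import Groth.Agent.FlatMor68.SectionOpenSmooth
import Mathlib.AlgebraicGeometry.Morphisms.UniversallyOpen

/-!
The union of the fibre components meeting the image of a universally open base is open.
-/

set_option autoImplicit false
set_option linter.style.haveILetI false
set_option backward.isDefEq.respectTransparency.types false

universe u

open CategoryTheory CategoryTheory.Limits AlgebraicGeometry TopologicalSpace TensorProduct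

namespace Groth.Agent.FlatMor68.CompImageOpen

open RG29 SectionOpenSmooth CompExtend

section Aux

variable {R B L L' : Type u} [CommRing R] [CommRing B] [CommRing L] [CommRing L'] [Algebra R B]
  [Algebra R L] [Algebra R L'] (j : L →ₐ[R] L') (τ₀ : B →ₐ[R] L)

theorem ptMap_comp_incR :
    (ptMap (j.comp τ₀)).toRingHom.comp
        (Algebra.TensorProduct.includeRight (R := R) (A := L') (B := B)).toRingHom =
      j.toRingHom.comp τ₀.toRingHom :=
  RingHom.ext fun b => by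
    show ptMap (j.comp τ₀) ((1 : L') ⊗ₜ b) = j (τ₀ b)
    rw [ptMap_tmul, one_mul]
    rfl

theorem ptMap_comp_incL :
    (ptMap (j.comp τ₀)).toRingHom.comp ((algebraMap L' (L' ⊗[R] B)).comp j.toRingHom) = j.toRingHom :=
  RingHom.ext fun a => (ptMap (j.comp τ₀)).commutes (j a)

end Aux

/-- The images of two points in the corner of a component idempotent are in one component. -/
theorem mem_connectedComponentIn_of_idem {P : Scheme.{u}} {K G : Type u} [CommRing K] [IsDomain K]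
    [CommRing G] [Algebra K G] (v₀ v₁ : G →ₐ[K] K) {e : G} (he : IsCompIdem v₀.toRingHom e)
    (hv₁ : v₁ e = 1) (Φ : Spec (CommRingCat.of G) ⟶ P) {F : Set P} (hF : ∀ q, Φ q ∈ F) :
    Φ (⟨RingHom.ker v₁.toRingHom, RingHom.ker_isPrime _⟩ : PrimeSpectrum G) ∈
      connectedComponentIn F (Φ (⟨RingHom.ker v₀.toRingHom, RingHom.ker_isPrime _⟩ : PrimeSpectrum G)) := by
  haveI := he.connectedSpace
  let qe := Ideal.Quotient.mk (Ideal.span {1 - e})
  have hKc : _root_.IsPreconnected (Set.range (PrimeSpectrum.comap qe)) :=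
    isPreconnected_range (PrimeSpectrum.continuous_comap qe)
  have hmem : ∀ v : G →ₐ[K] K, v e = 1 →
      (⟨RingHom.ker v.toRingHom, RingHom.ker_isPrime _⟩ : PrimeSpectrum G) ∈
        Set.range (PrimeSpectrum.comap qe) := fun v hv => by
    have hI : ∀ a ∈ Ideal.span {1 - e}, v a = 0 := fun a ha => by
      obtain ⟨c, rfl⟩ := Ideal.mem_span_singleton'.1 ha
      rw [map_mul, map_sub, map_one, hv, sub_self, mul_zero]
    exact ⟨⟨RingHom.ker (Ideal.Quotient.lift _ v.toRingHom hI), RingHom.ker_isPrime _⟩,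
      PrimeSpectrum.ext (Ideal.ext fun a => Iff.rfl)⟩
  exact (hKc.image _ Φ.continuous.continuousOn).subset_connectedComponentIn
    ⟨_, hmem v₀ he.2.1, rfl⟩ (by rintro _ ⟨q, -, rfl⟩; exact hF q) ⟨_, hmem v₁ hv₁, rfl⟩

theorem comp_fromSpecResidueField_apply {P T : Scheme.{u}} (w : P) (k : T ⟶ Spec (P.residueField w)) (q : T) :
    (k ≫ P.fromSpecResidueField w) q = w := by
  rw [Scheme.Hom.comp_apply, Scheme.fromSpecResidueField_apply]

variable {S S' X : Scheme.{u}} (f : X ⟶ S) [Smooth f] (g : S' ⟶ S)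

/-- Within an affine chart, the component of a point of the base change covers the component of its
image. -/
theorem exists_lift_of_affine (w₀ : ↥(pullback f g)) {U : X.Opens} (hU : IsAffineOpen U) {V : S.Opens}
    (hV : IsAffineOpen V) (hUV : U ≤ f ⁻¹ᵁ V) (hzU : pullback.fst f g w₀ ∈ U) {x : X} (hxU : x ∈ U)
    (hx : x ∈ connectedComponentIn (f ⁻¹' {f (pullback.fst f g w₀)}) (pullback.fst f g w₀)) :
    ∃ w : ↥(pullback f g), pullback.fst f g w = x ∧
      w ∈ connectedComponentIn (pullback.snd f g ⁻¹' {pullback.snd f g w₀}) w₀ := by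
  let pr₁ := pullback.fst f g
  let pr₂ := pullback.snd f g
  have hsm := f.smooth_appLE hV hU hUV
  algebraize [(f.appLE V U hUV).hom]
  let ι := hU.fromSpec
  have hcomm : ι ≫ f = Spec.map (CommRingCat.ofHom (algebraMap Γ(S, V) Γ(X, U))) ≫ hV.fromSpec :=
    (IsAffineOpen.SpecMap_appLE_fromSpec f hV hU hUV).symm
  have hf : ∀ y : PrimeSpectrum Γ(X, U),
      f (ι y) = hV.fromSpec (PrimeSpectrum.comap (algebraMap Γ(S, V) Γ(X, U)) y) := fun y => by
    rw [← Scheme.Hom.comp_apply, hcomm]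
    rfl
  let m := (pullback f g).fromSpecResidueField w₀
  have hm : Set.range (m ≫ pr₁) ⊆ Set.range ι := by
    rintro _ ⟨q, rfl⟩
    rw [IsAffineOpen.range_fromSpec]
    show pr₁ (m q) ∈ U
    rw [Scheme.fromSpecResidueField_apply]
    exact hzU
  let L := (pullback f g).residueField w₀
  let ψ : Γ(X, U) ⟶ L := Spec.preimage (IsOpenImmersion.lift ι (m ≫ pr₁) hm)
  have hψ : Spec.map ψ ≫ ι = m ≫ pr₁ := by
    simp only [ψ, Spec.map_preimage, IsOpenImmersion.lift_fac]
  letI : Algebra Γ(S, V) L := (ψ.hom.comp (algebraMap Γ(S, V) Γ(X, U))).toAlgebra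
  let τ₀ : Γ(X, U) →ₐ[Γ(S, V)] L := { ψ.hom with commutes' := fun _ => rfl }
  let z : PrimeSpectrum Γ(X, U) := ⟨RingHom.ker τ₀.toRingHom, RingHom.ker_isPrime _⟩
  have hz : ι z = pr₁ w₀ := by
    have h1 : z = Spec.map ψ (⟨⊥, Ideal.isPrime_bot⟩ : PrimeSpectrum L) :=
      PrimeSpectrum.ext (Ideal.ext fun b => Iff.rfl)
    rw [h1, ← Scheme.Hom.comp_apply, hψ, Scheme.Hom.comp_apply, Scheme.fromSpecResidueField_apply]
  let C := connectedComponentIn (f ⁻¹' {f (pr₁ w₀)}) (pr₁ w₀)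
  let K : Set (PrimeSpectrum Γ(X, U)) := ι ⁻¹' C
  have hK : _root_.IsPreconnected K :=
    ((isPreirreducible_connectedComponentIn f (show pr₁ w₀ ∈ f ⁻¹' {f (pr₁ w₀)} from rfl)).preimage
      ι.isOpenEmbedding).isPreconnected
  have hzK : z ∈ K := by
    show ι z ∈ C
    rw [hz]
    exact mem_connectedComponentIn rfl
  let p := PrimeSpectrum.comap (algebraMap Γ(S, V) Γ(X, U)) z
  have hKp : ∀ y ∈ K, PrimeSpectrum.comap (algebraMap Γ(S, V) Γ(X, U)) y = p := fun y hy => by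
    refine hV.fromSpec.isOpenEmbedding.injective ?_
    rw [← hf y, ← hf z, hz]
    exact connectedComponentIn_subset (f ⁻¹' {f (pr₁ w₀)}) (pr₁ w₀) hy
  obtain ⟨x₁, hx₁⟩ : x ∈ Set.range ι := by
    rw [IsAffineOpen.range_fromSpec]
    exact hxU
  obtain ⟨L', _, _, j, τ, hτ, e, he, hτe⟩ := exists_sameComp τ₀ p hK hKp (z := z) (fun _ => Iff.rfl) hzK
    (x := x₁) (show ι x₁ ∈ C from hx₁.symm ▸ hx)
  let G := L' ⊗[Γ(S, V)] Γ(X, U)
  let incR := (Algebra.TensorProduct.includeRight (R := Γ(S, V)) (A := L') (B := Γ(X, U))).toRingHom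
  let incL : L' →+* G := algebraMap L' G
  let n : Spec (CommRingCat.of G) ⟶ X := Spec.map (CommRingCat.ofHom incR) ≫ ι
  let m' : Spec (CommRingCat.of G) ⟶ S' :=
    Spec.map (CommRingCat.ofHom incL) ≫ Spec.map (CommRingCat.ofHom j.toRingHom) ≫ m ≫ pr₂
  have hnm : n ≫ f = m' ≫ g := by
    simp only [n, m', Category.assoc, hcomm]
    rw [← pullback.condition, ← Category.assoc m pr₁ f, ← hψ, Category.assoc (Spec.map ψ), hcomm]
    rw [show ψ = CommRingCat.ofHom τ₀.toRingHom from rfl]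
    simp only [← Spec.map_comp_assoc, ← CommRingCat.ofHom_comp]
    congr 3
    refine RingHom.ext fun r => ?_
    show incR (algebraMap Γ(S, V) Γ(X, U) r) = incL (j (algebraMap Γ(S, V) L r))
    rw [j.commutes]
    exact (AlgHom.commutes _ r).trans (IsScalarTower.algebraMap_apply Γ(S, V) L' G r)
  let Φ : Spec (CommRingCat.of G) ⟶ pullback f g := pullback.lift n m' hnm
  let u₀ : Spec (CommRingCat.of L') ⟶ Spec (CommRingCat.of G) :=
    Spec.map (CommRingCat.ofHom (ptMap (j.comp τ₀)).toRingHom)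
  have hu₀ : u₀ ≫ Φ = Spec.map (CommRingCat.ofHom j.toRingHom) ≫ m := by
    refine pullback.hom_ext ?_ ?_
    · simp only [Φ, Category.assoc, pullback.lift_fst, n]
      show _ = _ ≫ m ≫ pr₁
      rw [← hψ, show ψ = CommRingCat.ofHom τ₀.toRingHom from rfl]
      simp only [u₀, ← Spec.map_comp_assoc, ← CommRingCat.ofHom_comp]
      congr 3
      exact ptMap_comp_incR j τ₀
    · simp only [Φ, Category.assoc, pullback.lift_snd, m']
      simp only [u₀, ← Spec.map_comp_assoc, ← CommRingCat.ofHom_comp]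
      congr 3
      exact ptMap_comp_incL j τ₀
  let P₀ : PrimeSpectrum G := ⟨RingHom.ker (ptMap (j.comp τ₀)).toRingHom, RingHom.ker_isPrime _⟩
  have hP₀ : Φ P₀ = w₀ := by
    have h1 : P₀ = u₀ (⟨⊥, Ideal.isPrime_bot⟩ : PrimeSpectrum L') :=
      PrimeSpectrum.ext (Ideal.ext fun b => Iff.rfl)
    rw [h1, ← Scheme.Hom.comp_apply, hu₀]
    exact comp_fromSpecResidueField_apply w₀ _ _
  let P₁ : PrimeSpectrum G := ⟨RingHom.ker (ptMap τ).toRingHom, RingHom.ker_isPrime _⟩
  have hF : ∀ q, Φ q ∈ pr₂ ⁻¹' {pr₂ w₀} := fun q => by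
    show pr₂ (Φ q) = pr₂ w₀
    rw [← Scheme.Hom.comp_apply, show Φ ≫ pr₂ = m' from pullback.lift_snd _ _ _]
    show (Spec.map (CommRingCat.ofHom incL) ≫ Spec.map (CommRingCat.ofHom j.toRingHom) ≫ m ≫ pr₂) q = _
    rw [← Category.assoc, ← Category.assoc, Scheme.Hom.comp_apply]
    exact congrArg pr₂ (comp_fromSpecResidueField_apply w₀ _ q)
  have hcc := mem_connectedComponentIn_of_idem (ptMap (j.comp τ₀)) (ptMap τ) he hτe Φ hF
  rw [hP₀] at hcc
  refine ⟨Φ P₁, ?_, hcc⟩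
  rw [← Scheme.Hom.comp_apply, show Φ ≫ pullback.fst f g = n from pullback.lift_fst _ _ _, ← hx₁]
  show ι (PrimeSpectrum.comap incR P₁) = ι x₁
  congr 1
  refine PrimeSpectrum.ext (Ideal.ext fun b => ?_)
  show ptMap τ ((1 : L') ⊗ₜ b) = 0 ↔ _
  rw [ptMap_tmul, one_mul]
  exact hτ b

/-- The component of a point of the base change covers the component of its image in the fibre. -/
theorem exists_lift (w₀ : ↥(pullback f g)) {x : X}
    (hx : x ∈ connectedComponentIn (f ⁻¹' {f (pullback.fst f g w₀)}) (pullback.fst f g w₀)) :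
    ∃ w : ↥(pullback f g), pullback.fst f g w = x ∧
      w ∈ connectedComponentIn (pullback.snd f g ⁻¹' {pullback.snd f g w₀}) w₀ := by
  let a := pullback.fst f g w₀
  have hfx : f x = f a := connectedComponentIn_subset (f ⁻¹' {f a}) a hx
  obtain ⟨_, ⟨V, hV, rfl⟩, haV, -⟩ :=
    S.isBasis_affineOpens.exists_subset_of_mem_open (Set.mem_univ (f a)) isOpen_univ
  obtain ⟨_, ⟨U, hU, rfl⟩, haU, hUV⟩ :=
    X.isBasis_affineOpens.exists_subset_of_mem_open (show a ∈ f ⁻¹ᵁ V from haV) (f ⁻¹ᵁ V).2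
  obtain ⟨_, ⟨U', hU', rfl⟩, hxU', hU'V⟩ :=
    X.isBasis_affineOpens.exists_subset_of_mem_open
      (show x ∈ f ⁻¹ᵁ V by show f x ∈ V; rw [hfx]; exact haV) (f ⁻¹ᵁ V).2
  obtain ⟨z, hz, hzU, hzU'⟩ :=
    isPreirreducible_connectedComponentIn f (show a ∈ f ⁻¹' {f a} from rfl) U U' U.2 U'.2
      ⟨a, mem_connectedComponentIn rfl, haU⟩ ⟨x, hx, hxU'⟩
  obtain ⟨w₁, hw₁, hw₁c⟩ := exists_lift_of_affine f g w₀ hU hV hUV haU hzU hz
  have h2 : pullback.snd f g w₁ = pullback.snd f g w₀ :=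
    connectedComponentIn_subset (pullback.snd f g ⁻¹' {pullback.snd f g w₀}) w₀ hw₁c
  have hfz : f z = f a := connectedComponentIn_subset (f ⁻¹' {f a}) a hz
  obtain ⟨w, hw, hwc⟩ := exists_lift_of_affine f g w₁ hU' hV hU'V (by rw [hw₁]; exact hzU') hxU' (by
    rw [hw₁, hfz, ← connectedComponentIn_eq hz]
    exact hx)
  refine ⟨w, hw, ?_⟩
  rw [h2, ← connectedComponentIn_eq hw₁c] at hwc
  exact hwc

/-- The union of the fibre components meeting a universally open base is open. -/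
theorem exists_open [UniversallyOpen g] (e : S' ⟶ X) (he : e ≫ f = g) :
    ∃ U : X.Opens, ∀ s : S, (U : Set ↥X) ∩ f.base ⁻¹' {s} =
      ⋃ x ∈ Set.range e.base ∩ f.base ⁻¹' {s}, connectedComponentIn (f.base ⁻¹' {s}) x := by
  let pr₁ := pullback.fst f g
  let pr₂ := pullback.snd f g
  haveI : Smooth pr₂ := MorphismProperty.pullback_snd _ _ inferInstance
  haveI : UniversallyOpen pr₁ := MorphismProperty.pullback_fst _ _ inferInstance
  let σ : S' ⟶ pullback f g := pullback.lift e (𝟙 S') (by rw [he, Category.id_comp])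
  have hσ : σ ≫ pr₂ = 𝟙 S' := pullback.lift_snd _ _ _
  have hσ₁ : ∀ t, pr₁ (σ t) = e t := fun t => by
    rw [← Scheme.Hom.comp_apply, show σ ≫ pr₁ = e from pullback.lift_fst _ _ _]
  have hge : ∀ t, f (e t) = g t := fun t => by rw [← Scheme.Hom.comp_apply, he]
  have hcond : ∀ w, f (pr₁ w) = g (pr₂ w) := fun w => by
    rw [← Scheme.Hom.comp_apply, ← Scheme.Hom.comp_apply, pullback.condition]
  refine ⟨⟨pr₁ '' MoreMor.sectionComponents pr₂ σ,
    pr₁.isOpenMap _ (isOpen_sectionComponents pr₂ σ hσ)⟩, fun s => ?_⟩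
  ext x
  simp only [Set.mem_iUnion, Set.mem_inter_iff, exists_prop]
  constructor
  · rintro ⟨⟨w, hw, rfl⟩, hs⟩
    have hs' : f (pr₁ w) = s := hs
    have hes : f (e (pr₂ w)) = s := by rw [hge, ← hcond, hs']
    refine ⟨e (pr₂ w), ⟨⟨pr₂ w, rfl⟩, hes⟩, ?_⟩
    have hsub : pr₁ '' connectedComponentIn (pr₂ ⁻¹' {pr₂ w}) (σ (pr₂ w)) ⊆ f ⁻¹' {s} := by
      rintro _ ⟨v, hv, rfl⟩
      have hv' : pr₂ v = pr₂ w := connectedComponentIn_subset (pr₂ ⁻¹' {pr₂ w}) (σ (pr₂ w)) hv
      show f (pr₁ v) = s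
      rw [hcond, hv', ← hcond, hs']
    exact (isPreconnected_connectedComponentIn.image _ pr₁.continuous.continuousOn).subset_connectedComponentIn
      ⟨_, mem_connectedComponentIn (apply_section pr₂ σ hσ (pr₂ w)), hσ₁ _⟩ hsub ⟨w, hw, rfl⟩
  · rintro ⟨_, ⟨⟨t, rfl⟩, hts⟩, hx⟩
    have hts' : f (e t) = s := hts
    have hxs : f x = s := connectedComponentIn_subset (f ⁻¹' {s}) (e t) hx
    obtain ⟨w, hw, hwc⟩ := exists_lift f g (σ t) (x := x) (by
      rw [show pullback.fst f g (σ t) = e t from hσ₁ t, hts']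
      exact hx)
    have h3 : pullback.snd f g (σ t) = t := apply_section pr₂ σ hσ t
    rw [h3] at hwc
    have hw2 : pr₂ w = t := connectedComponentIn_subset (pr₂ ⁻¹' {t}) (σ t) hwc
    refine ⟨⟨w, ?_, hw⟩, hxs⟩
    show w ∈ connectedComponentIn (pr₂ ⁻¹' {pr₂ w}) (σ (pr₂ w))
    rw [hw2]
    exact hwc

end Groth.Agent.FlatMor68.CompImageOpen
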