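import Groth.Agent.S0386
import Groth.Agent.Cons62.FlatFibre
import Groth.Agent.Unr55.StalkCrit
import Groth.Agent.Open62.SmoothBaseChange
import Groth.Agent.FlatMor68.PullbackStalk
import Mathlib.RingTheory.AdicCompletion.AsTensorProduct
import Mathlib.RingTheory.AdicCompletion.LocalRing
import Mathlib.RingTheory.AdicCompletion.Completeness
import Mathlib.AlgebraicGeometry.Morphisms.Proper
import Mathlib.AlgebraicGeometry.Morphisms.Flat
import Mathlib.RingTheory.DiscreteValuationRing.Basic

/-! Flatness and smoothness of a proper scheme over a smooth algebra over a DVR read on the completion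
along the special fibre (S19381, S19382). -/

set_option autoImplicit false
set_option backward.isDefEq.respectTransparency.types false
set_option linter.style.haveILetI false

universe u

open CategoryTheory Limits AlgebraicGeometry TopologicalSpace
open scoped TensorProduct

attribute [local instance] Algebra.TensorProduct.rightAlgebra

namespace Groth.Agent.FlatMor68.ComplBase

variable {A : Type u} [CommRing A] (I : Ideal A)

/-- The spectrum of the completion over the spectrum of the ring. -/
noncomputable abbrev jHat : Spec (CommRingCat.of (AdicCompletion I A)) ⟶ Spec (CommRingCat.of A) :=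
  Spec.map (CommRingCat.ofHom (algebraMap A (AdicCompletion I A)))

/-- The closed subscheme of the ideal. -/
noncomputable abbrev jQ : Spec (CommRingCat.of (A ⧸ I)) ⟶ Spec (CommRingCat.of A) :=
  Spec.map (CommRingCat.ofHom (Ideal.Quotient.mk I))

theorem jQ_eq : jQ I = Spec.map (CommRingCat.ofHom (AdicCompletion.evalOneₐ I).toRingHom) ≫ jHat I := by
  rw [← Spec.map_comp, ← CommRingCat.ofHom_comp, AdicCompletion.evalOneₐ_comp_algebraMap_eq_mk]

theorem range_jQ : Set.range (jQ I).base = PrimeSpectrum.zeroLocus (I : Set A) := by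
  have h := range_comap_of_surjective (A ⧸ I) (Ideal.Quotient.mk I) Ideal.Quotient.mk_surjective
  rw [Ideal.mk_ker] at h
  exact h

variable {X : Scheme.{u}} (h : X ⟶ Spec (CommRingCat.of A))

theorem pullback_jQ (P : MorphismProperty Scheme.{u}) [P.IsStableUnderBaseChange]
    (hP : P (pullback.snd h (jHat I))) : P (pullback.snd h (jQ I)) := by
  rw [jQ_eq]
  let c := Spec.map (CommRingCat.ofHom (AdicCompletion.evalOneₐ I).toRingHom)
  have h1 : P (pullback.snd (pullback.snd h (jHat I)) c) := P.pullback_snd _ c hP
  rw [← pullbackLeftPullbackSndIso_hom_snd h (jHat I) c] at h1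
  exact (P.cancel_left_of_respectsIso _ _).1 h1

theorem exists_over {x : X} (hx : h.base x ∈ Set.range (jQ I).base) :
    ∃ z : ↥(pullback h (jHat I)), (pullback.fst h (jHat I)).base z = x := by
  obtain ⟨q, hq⟩ := hx
  rw [jQ_eq, Scheme.Hom.comp_apply] at hq
  obtain ⟨z, hz, -⟩ := Scheme.Pullback.exists_preimage_pullback (f := h) (g := jHat I) x _ hq.symm
  exact ⟨z, hz⟩

variable [IsNoetherianRing A]

theorem flat_jHat : Flat (jHat I) := by
  rw [HasRingHomProperty.Spec_iff (P := @Flat)]
  exact RingHom.flat_algebraMap_iff.2 inferInstance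

theorem flat_stalk_of_hat [Flat (pullback.snd h (jHat I))] {x : X}
    (hx : h.base x ∈ Set.range (jQ I).base) : (h.stalkMap x).hom.Flat := by
  obtain ⟨z, rfl⟩ := exists_over I h hx
  haveI := flat_jHat I
  let fst := pullback.fst h (jHat I)
  haveI : Flat fst := MorphismProperty.pullback_fst _ _ inferInstance
  haveI : Flat (fst ≫ h) := by rw [pullback.condition]; infer_instance
  have hc := Flat.stalkMap (fst ≫ h) z
  rw [Scheme.Hom.stalkMap_comp] at hc
  let R := (Spec (CommRingCat.of A)).presheaf.stalk (h.base (fst.base z))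
  let S := X.presheaf.stalk (fst.base z)
  let L := (pullback h (jHat I)).presheaf.stalk z
  algebraize [(h.stalkMap (fst.base z)).hom, (fst.stalkMap z).hom,
    ((fst.stalkMap z).hom.comp (h.stalkMap (fst.base z)).hom)]
  haveI : Module.Flat S L := Flat.stalkMap fst z
  haveI : IsLocalHom (algebraMap S L) := inferInstanceAs (IsLocalHom (fst.stalkMap z).hom)
  haveI : Module.FaithfullyFlat S L := Module.FaithfullyFlat.of_flat_of_isLocalHom
  haveI : Module.Flat R L := hc
  haveI : Module.Flat R (L ⊗[S] S) := Module.Flat.of_linearEquiv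
    ((TensorProduct.AlgebraTensorModule.rid S S L).restrictScalars R)
  exact PullbackStalk.flat_of_flat_tensor (R := R) (S := S) (L := L) (W := S)

/-- A property holds after completion if it holds near the special fibre of a proper morphism. -/
theorem prop_hat (P : MorphismProperty Scheme.{u}) [P.IsStableUnderBaseChange] [IsProper h] (U : X.Opens)
    (hU : P (U.ι ≫ h)) (hUc : h.base ⁻¹' Set.range (jQ I).base ⊆ (U : Set X)) :
    P (pullback.snd h (jHat I)) := by
  let fst := pullback.fst h (jHat I)
  let snd := pullback.snd h (jHat I)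
  haveI : IsProper snd := MorphismProperty.pullback_snd h (jHat I) inferInstance
  have hI : I.FG := IsNoetherian.noetherian I
  haveI := AdicCompletion.isAdicComplete_self I hI
  have htop : ∀ z, fst.base z ∈ U := by
    by_contra hne
    simp only [not_forall] at hne
    obtain ⟨z, hz⟩ := hne
    have hcl : IsClosed (snd.base '' (fst.base ⁻¹' (U : Set X))ᶜ) :=
      snd.isClosedMap _ (U.2.preimage fst.continuous).isClosed_compl
    let p : PrimeSpectrum (AdicCompletion I A) := snd.base z
    obtain ⟨m, hm, hpm⟩ := Ideal.exists_le_maximal p.asIdeal p.2.ne_top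
    have hmem : (⟨m, hm.isPrime⟩ : PrimeSpectrum (AdicCompletion I A)) ∈ snd.base '' (fst.base ⁻¹' (U : Set X))ᶜ :=
      ((PrimeSpectrum.le_iff_specializes p ⟨m, hm.isPrime⟩).1 hpm).mem_closed hcl ⟨z, hz, rfl⟩
    obtain ⟨z', hz', hz'm⟩ := hmem
    refine hz' (hUc ?_)
    show h.base (fst.base z') ∈ Set.range (jQ I).base
    rw [← Scheme.Hom.comp_apply, pullback.condition, Scheme.Hom.comp_apply, hz'm, range_jQ]
    intro a ha
    show algebraMap A (AdicCompletion I A) a ∈ m
    exact ((IsAdicComplete.le_jacobson_bot _).trans (sInf_le ⟨bot_le, hm⟩)) (Ideal.mem_map_of_mem _ ha)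
  let j := pullback.snd U.ι fst
  haveI : IsIso j := by
    refine (isIso_iff_isOpenImmersion_and_surjective j).2 ⟨inferInstance, ⟨fun z => ?_⟩⟩
    obtain ⟨w, -, hw⟩ := Scheme.Pullback.exists_preimage_pullback (f := U.ι) (g := fst) ⟨fst.base z, htop z⟩ z rfl
    exact ⟨w, hw⟩
  have h1 : P (pullback.snd (U.ι ≫ h) (jHat I)) := P.pullback_snd _ (jHat I) hU
  rw [← P.cancel_left_of_respectsIso (pullbackRightPullbackFstIso h (jHat I) U.ι).hom,
    pullbackRightPullbackFstIso_hom_snd] at h1
  exact (P.cancel_left_of_respectsIso j snd).1 h1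

/-- The fibre criterion: flat over the base ring and flat modulo the ideal gives flat. -/
theorem flat_stalk_of_fibre {V : Type u} [CommRing V] [IsNoetherianRing V] [Algebra V A] (m : Ideal V) [m.IsMaximal]
    [LocallyOfFiniteType h] [Flat (h ≫ Spec.map (CommRingCat.ofHom (algebraMap V A)))]
    [Flat (pullback.snd h (jQ (m.map (algebraMap V A))))] {x : X}
    (hx : h.base x ∈ Set.range (jQ (m.map (algebraMap V A))).base) : (h.stalkMap x).hom.Flat := by
  obtain ⟨U, hU, hxU, -⟩ := exists_isAffineOpen_mem_and_subset (x := x) (U := ⊤) trivial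
  let φ : A →+* Γ(X, U) := (Spec.preimage (hU.fromSpec ≫ h)).hom
  have hφ : Spec.map (CommRingCat.ofHom φ) = hU.fromSpec ≫ h := by
    show Spec.map (Spec.preimage _) = _; rw [Spec.map_preimage]
  let C := Γ(X, U)
  letI : Algebra A C := φ.toAlgebra
  letI : Algebra V C := (φ.comp (algebraMap V A)).toAlgebra
  haveI : IsScalarTower V A C := .of_algebraMap_eq' rfl
  haveI : Algebra.FiniteType A C := by
    have : LocallyOfFiniteType (Spec.map (CommRingCat.ofHom φ)) := by rw [hφ]; infer_instance
    exact (HasRingHomProperty.Spec_iff (P := @LocallyOfFiniteType)).1 this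
  haveI : IsNoetherianRing C := Algebra.FiniteType.isNoetherianRing A C
  haveI : Module.Flat V C := by
    have : Flat (Spec.map (CommRingCat.ofHom (φ.comp (algebraMap V A)))) := by
      rw [CommRingCat.ofHom_comp, Spec.map_comp, hφ, Category.assoc]; infer_instance
    exact (HasRingHomProperty.Spec_iff (P := @Flat)).1 this
  let I₀ := m.map (algebraMap V A)
  let Q := A ⧸ I₀
  haveI hQ : Module.Flat Q (Q ⊗[A] C) := by
    have h1 : Flat (pullback.snd (hU.fromSpec ≫ h) (jQ I₀)) := by
      rw [← pullbackRightPullbackFstIso_inv_snd_snd]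
      infer_instance
    have h2 : Flat (pullback.fst (jQ I₀) (Spec.map (CommRingCat.ofHom φ))) := by
      rw [← pullbackSymmetry_hom_comp_snd, hφ]
      infer_instance
    have h3 : Flat (Spec.map (CommRingCat.ofHom (algebraMap Q (Q ⊗[A] C)))) := by
      rw [← pullbackSpecIso_inv_fst A Q C]
      infer_instance
    exact RingHom.flat_algebraMap_iff.1 ((HasRingHomProperty.Spec_iff (P := @Flat)).1 h3)
  let p : PrimeSpectrum C := hU.primeIdealOf ⟨x, hxU⟩
  have hp : hU.fromSpec.base p = x := hU.fromSpec_primeIdealOf ⟨x, hxU⟩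
  let P := p.asIdeal
  have hIP : I₀ ≤ P.under A := by
    rw [range_jQ] at hx
    intro a ha
    have h4 : (Spec.map (CommRingCat.ofHom φ)).base p = h.base x := by
      rw [hφ, Scheme.Hom.comp_apply, hp]
    have h5 : a ∈ ((Spec.map (CommRingCat.ofHom φ)).base p).asIdeal := by rw [h4]; exact hx ha
    exact h5
  have hm : (P.under A).under V = m :=
    (‹m.IsMaximal›.eq_of_le (Ideal.IsPrime.ne_top inferInstance) (Ideal.map_le_iff_le_comap.1 hIP)).symm
  let k := ((P.under A).under V).ResidueField
  let E := k ⊗[V] A
  letI : Algebra Q E := (Ideal.Quotient.lift I₀ (algebraMap A E) (by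
    suffices I₀ ≤ RingHom.ker (algebraMap A E) from fun a ha => this ha
    rw [Ideal.map_le_iff_le_comap]
    intro v hv
    rw [Ideal.mem_comap, RingHom.mem_ker, ← IsScalarTower.algebraMap_apply,
      IsScalarTower.algebraMap_apply V k E]
    rw [(Ideal.algebraMap_residueField_eq_zero).2 (by rwa [hm]), map_zero])).toAlgebra
  haveI : IsScalarTower A Q E := .of_algebraMap_eq fun a => rfl
  have hfib : Module.Flat E (E ⊗[A] C) :=
    Module.Flat.of_linearEquiv (TensorProduct.AlgebraTensorModule.cancelBaseChange A Q E E C).symm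
  haveI : Module.Flat V (Localization.AtPrime P ⊗[C] C) :=
    Module.Flat.of_linearEquiv ((TensorProduct.AlgebraTensorModule.rid C C (Localization.AtPrime P)).restrictScalars V)
  have h6 : Module.Flat A (Localization.AtPrime P ⊗[C] C) :=
    Cons62.flat_of_fibre_flat (A := V) (B := A) (C := C) P C hfib
  haveI : Module.Flat A (Localization.AtPrime P) :=
    Module.Flat.of_linearEquiv ((TensorProduct.AlgebraTensorModule.rid C C (Localization.AtPrime P)).restrictScalars A).symm
  rw [← hp]
  refine (Unr55.stalkMap_iff_of_square RingHom.Flat.respectsIso h (Spec.map (CommRingCat.ofHom φ)) hU.fromSpec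
    (𝟙 _) (by rw [hφ, Category.comp_id]) p).2 ?_
  exact (RingHom.Flat.respectsIso.arrow_mk_iso_iff (Scheme.arrowStalkMapSpecIso _ p)).2
    ((Unr55.localRingHom_flat_iff (R := A) P).2 ‹_›)

variable (V : Type u) [CommRing V] [IsDomain V] [IsDiscreteValuationRing V] [Algebra V A] [Algebra.Smooth V A]

omit [IsNoetherianRing A] [Algebra.Smooth V A] in
theorem mem_range_of_closed {x : X}
    (hx : ((Spec.map (CommRingCat.ofHom (algebraMap V A))).base (h.base x)).asIdeal = IsLocalRing.maximalIdeal V) :
    h.base x ∈ Set.range (jQ ((IsLocalRing.maximalIdeal V).map (algebraMap V A))).base := by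
  rw [range_jQ]
  exact Ideal.map_le_iff_le_comap.2 hx.ge

theorem flat_over_dvr [Flat (pullback.snd h (jHat ((IsLocalRing.maximalIdeal V).map (algebraMap V A))))] :
    Flat (h ≫ Spec.map (CommRingCat.ofHom (algebraMap V A))) := by
  let g := Spec.map (CommRingCat.ofHom (algebraMap V A))
  haveI : Flat g := by
    rw [HasRingHomProperty.Spec_iff (P := @Flat)]
    exact RingHom.flat_algebraMap_iff.2 inferInstance
  rw [Flat.iff_flat_stalkMap]
  intro x
  let s : PrimeSpectrum V := (h ≫ g).base x
  by_cases hs : s.asIdeal = ⊥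
  · have hf : IsField ((Spec (CommRingCat.of V)).presheaf.stalk s) := by
      have e : (Spec (CommRingCat.of V)).presheaf.stalk s ≅ CommRingCat.of (Localization.AtPrime s.asIdeal) :=
        (StructureSheaf.stalkIso V s).toRingEquiv.toCommRingCatIso.symm
      haveI : IsLocalization.AtPrime (Localization.AtPrime s.asIdeal) s.asIdeal := inferInstance
      haveI : IsFractionRing V (Localization.AtPrime s.asIdeal) := by
        show IsLocalization (nonZeroDivisors V) _
        rw [show nonZeroDivisors V = s.asIdeal.primeCompl by ext a; simp [Ideal.mem_primeCompl_iff, hs]]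
        infer_instance
      exact MulEquiv.isField ((IsFractionRing.toField V (K := Localization.AtPrime s.asIdeal)).toIsField)
        e.commRingCatIsoToRingEquiv.toMulEquiv
    letI := hf.toField
    algebraize [((h ≫ g).stalkMap x).hom]
    exact RingHom.flat_algebraMap_iff.2 (inferInstance : Module.Flat _ _)
  · have hmax : s.asIdeal = IsLocalRing.maximalIdeal V :=
      IsLocalRing.eq_maximalIdeal (Ideal.IsPrime.isMaximal s.2 hs)
    rw [Scheme.Hom.stalkMap_comp]
    exact RingHom.Flat.comp (Flat.stalkMap g (h.base x))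
      (flat_stalk_of_hat _ h (mem_range_of_closed h V hmax))

omit [Algebra.Smooth V A] in
theorem exists_flat_open [IsProper h]
    [Flat (h ≫ Spec.map (CommRingCat.ofHom (algebraMap V A)))]
    [Flat (pullback.snd h (jQ ((IsLocalRing.maximalIdeal V).map (algebraMap V A))))] :
    ∃ U : X.Opens, Flat (U.ι ≫ h) ∧
      h.base ⁻¹' Set.range (jQ ((IsLocalRing.maximalIdeal V).map (algebraMap V A))).base ⊆ (U : Set X) := by
  haveI : IsLocallyNoetherian (Spec (CommRingCat.of A)) := inferInstance
  haveI : LocallyOfFinitePresentation h := by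
    refine HasRingHomProperty.iff_appLE.2 fun W U e => ?_
    haveI := IsLocallyNoetherian.component_noetherian (X := Spec (CommRingCat.of A)) W
    exact RingHom.FinitePresentation.of_finiteType.1
      (HasRingHomProperty.appLE (P := @LocallyOfFiniteType) h inferInstance W U e)
  let U : X.Opens := ⟨{x | (h.stalkMap x).hom.Flat}, S0386.result h⟩
  refine ⟨U, ?_, fun x hx => flat_stalk_of_fibre h (IsLocalRing.maximalIdeal V) hx⟩
  rw [Flat.iff_flat_stalkMap]
  exact fun x => (Unr55.stalkMap_iff_restrict h RingHom.Flat.respectsIso U x).1 x.2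

theorem t19381 [IsProper h] :
    (Flat (h ≫ Spec.map (CommRingCat.ofHom (algebraMap V A))) ∧
        Flat (pullback.snd h (jQ ((IsLocalRing.maximalIdeal V).map (algebraMap V A))))) ↔
      Flat (pullback.snd h (jHat ((IsLocalRing.maximalIdeal V).map (algebraMap V A)))) := by
  constructor
  · rintro ⟨h1, h2⟩
    obtain ⟨U, hU, hUc⟩ := exists_flat_open h V
    exact prop_hat _ h @Flat U hU hUc
  · intro h1
    exact ⟨flat_over_dvr h V, pullback_jQ _ h @Flat h1⟩

theorem t19382 [IsProper h] :
    (Flat (h ≫ Spec.map (CommRingCat.ofHom (algebraMap V A))) ∧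
        Smooth (pullback.snd h (jQ ((IsLocalRing.maximalIdeal V).map (algebraMap V A))))) ↔
      Smooth (pullback.snd h (jHat ((IsLocalRing.maximalIdeal V).map (algebraMap V A)))) := by
  let I₀ := (IsLocalRing.maximalIdeal V).map (algebraMap V A)
  constructor
  · rintro ⟨h1, h2⟩
    obtain ⟨U, hU, hUc⟩ := exists_flat_open h V
    let g := U.ι ≫ h
    haveI : LocallyOfFinitePresentation g := by
      refine HasRingHomProperty.iff_appLE.2 fun W U' e => ?_
      haveI := IsLocallyNoetherian.component_noetherian (X := Spec (CommRingCat.of A)) W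
      exact RingHom.FinitePresentation.of_finiteType.1
        (HasRingHomProperty.appLE (P := @LocallyOfFiniteType) g inferInstance W U' e)
    let W : X.Opens := U.ι ''ᵁ g.smoothLocus
    refine prop_hat _ h @Smooth W ?_ ?_
    · have hs : Smooth (g.smoothLocus.ι ≫ g) := by
        refine Scheme.Hom.smoothLocus_eq_top_iff.mp ?_
        exact (Scheme.Hom.preimage_smoothLocus_eq _ _).symm.trans (Scheme.Opens.ι_preimage_self _)
      have e : W.ι ≫ h = (Scheme.Hom.isoImage U.ι g.smoothLocus).inv ≫ g.smoothLocus.ι ≫ g := by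
        rw [← Scheme.Hom.isoImage_inv_ι_assoc]
      rw [e]; infer_instance
    · intro x hx
      refine ⟨⟨x, hUc hx⟩, Open62.mem_smoothLocus_of_flat_of_fibre _ ?_, rfl⟩
      intro K _ t p _ hp
      have htc : ∀ c, t.base c ∈ Set.range (jQ I₀).base := by
        intro c
        obtain rfl : c = (pullback.snd g t).base p := Subsingleton.elim _ _
        rw [← Scheme.Hom.comp_apply, ← pullback.condition, Scheme.Hom.comp_apply, hp]
        exact hx
      obtain ⟨t', ht'⟩ : ∃ t', t' ≫ jQ I₀ = t := by
        obtain ⟨ψ, rfl⟩ := Spec.map_surjective t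
        have hker : I₀ ≤ RingHom.ker ψ.hom := by
          intro a ha
          have := htc (IsLocalRing.closedPoint K)
          rw [range_jQ] at this
          have h5 : ψ.hom a ∈ IsLocalRing.maximalIdeal K := this ha
          rwa [IsLocalRing.maximalIdeal_eq_bot, Ideal.mem_bot] at h5
        refine ⟨Spec.map (CommRingCat.ofHom (Ideal.Quotient.lift I₀ ψ.hom fun a ha => hker ha)), ?_⟩
        rw [← Spec.map_comp, ← CommRingCat.ofHom_comp]
        congr 1
      haveI : Smooth (pullback.snd g t) := by
        subst ht'
        haveI : Smooth (pullback.snd g (jQ I₀)) := by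
          rw [← pullbackRightPullbackFstIso_inv_snd_snd]; infer_instance
        rw [← MorphismProperty.cancel_left_of_respectsIso @Smooth (pullbackLeftPullbackSndIso g (jQ I₀) t').hom,
          pullbackLeftPullbackSndIso_hom_snd]
        infer_instance
      rw [(pullback.snd g t).smoothLocus_eq_top]
      trivial
  · intro h1
    exact ⟨flat_over_dvr h V, pullback_jQ _ h @Smooth h1⟩

end Groth.Agent.FlatMor68.ComplBase
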