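import Groth.Agent.FlatMor68.DevissageStep

/-! Base change of complete dévissages (S12243). -/

set_option autoImplicit false
set_option backward.isDefEq.respectTransparency.types false
set_option linter.style.haveILetI false

universe u

open TensorProduct CategoryTheory CategoryTheory.Limits AlgebraicGeometry

namespace Groth.Agent.FlatMor68.CompleteDevBC

section gen

theorem surjective_pushout {S S' C C' : Type u} [CommRing S] [CommRing S'] [CommRing C] [CommRing C']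
    [Algebra S S'] [Algebra S C] [Algebra S C'] [Algebra S' C'] [Algebra C C'] [IsScalarTower S S' C']
    [IsScalarTower S C C'] [Algebra.IsPushout S S' C C'] (hs : Function.Surjective (algebraMap S C)) :
    Function.Surjective (algebraMap S' C') := by
  intro c
  obtain ⟨t, rfl⟩ := (Algebra.IsPushout.equiv S S' C C').surjective c
  induction t with
  | zero => exact ⟨0, by simp⟩
  | add x y hx hy => obtain ⟨a, ha⟩ := hx; obtain ⟨b, hb⟩ := hy; exact ⟨a + b, by rw [map_add, map_add, ha, hb]⟩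
  | tmul a b =>
    obtain ⟨b, rfl⟩ := hs b
    exact ⟨a * algebraMap S S' b, by
      rw [Algebra.IsPushout.equiv_tmul, map_mul,
        ← IsScalarTower.algebraMap_apply S S' C', ← IsScalarTower.algebraMap_apply S C C']⟩

theorem isBaseChange_restrict {S S' C C' : Type u} [CommRing S] [CommRing S'] [CommRing C] [CommRing C']
    [Algebra S S'] [Algebra S C] [Algebra S C'] [Algebra S' C'] [Algebra C C'] [IsScalarTower S S' C']
    [IsScalarTower S C C'] [Algebra.IsPushout S S' C C']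
    {M M' : Type u} [AddCommGroup M] [Module C M] [Module S M] [IsScalarTower S C M]
    [AddCommGroup M'] [Module C' M'] [Module C M'] [IsScalarTower C C' M'] [Module S' M'] [IsScalarTower S' C' M']
    [Module S M'] [IsScalarTower S S' M']
    (g : M →ₗ[C] M') (hg : IsBaseChange C' g) (g₀ : M →ₗ[S] M') (h₀ : ∀ m, g₀ m = g m) : IsBaseChange S' g₀ := by
  refine IsBaseChange.of_equiv ((Algebra.IsPushout.cancelBaseChange S S' C C' M).symm.trans (hg.equiv.restrictScalars S'))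
    fun m => ?_
  simp [h₀, IsBaseChange.equiv_tmul]

/-- Compatible map out of a base change. -/
theorem exists_algHom {R R' B B' T : Type u} [CommRing R] [CommRing R'] [CommRing B] [CommRing B'] [CommRing T]
    [Algebra R R'] [Algebra R B] [Algebra R B'] [Algebra R' B'] [Algebra B B'] [IsScalarTower R R' B']
    [IsScalarTower R B B'] [Algebra.IsPushout R R' B B'] [Algebra R' T] [Algebra R T] [IsScalarTower R R' T]
    (g : B →ₐ[R] T) : ∃ φ : B' →ₐ[R'] T, ∀ b, φ (algebraMap B B' b) = g b :=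
  ⟨(Algebra.TensorProduct.lift (Algebra.ofId R' T) g fun _ _ => .all _ _).comp
      (Algebra.IsPushout.equiv R R' B B').symm.toAlgHom,
    fun b => by simp [Algebra.IsPushout.equiv_symm_algebraMap_right]⟩

end gen

variable {R S : Type u} [CommRing R] [CommRing S] [Algebra R S] {N : Type u} [AddCommGroup N] [Module S N]
  {p : Ideal R} [p.IsPrime] (D : FlatCA.CompleteDevissage R S N p)
  (R' : Type u) [CommRing R'] [Algebra R R'] (p' : Ideal R')

/-- Step `i` of the base-changed dévissage (before the cross maps). -/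
structure Good (i : ℕ) (B A M : Type u) [CommRing B] [CommRing A] [Algebra R' B] [Algebra R' A] [Algebra B A]
    [AddCommGroup M] [Module A M] where
  [rB : Algebra R B]
  [tRB : IsScalarTower R R' B]
  [aB : Algebra (D.B i) B]
  [tB : IsScalarTower R (D.B i) B]
  [rA : Algebra R A]
  [tRA : IsScalarTower R R' A]
  [aA : Algebra (D.A i) A]
  [tA : IsScalarTower R (D.A i) A]
  [mA : Module (D.A i) M]
  [tM : IsScalarTower (D.A i) A M]
  poB : Algebra.IsPushout R R' (D.B i) B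
  poA : Algebra.IsPushout R R' (D.A i) A
  compat : ∀ b : D.B i, algebraMap B A (algebraMap (D.B i) B b) = algebraMap (D.A i) A (algebraMap (D.B i) (D.A i) b)
  g : D.M i →ₗ[D.A i] M
  hg : IsBaseChange A g


structure Pk [p'.IsPrime] (i : ℕ) : Type (u + 1) where
  B : Type u
  A : Type u
  M : Type u
  [cB : CommRing B] [cA : CommRing A] [aRB : Algebra R' B] [aRA : Algebra R' A] [aBA : Algebra B A]
  [tBA : IsScalarTower R' B A] [gM : AddCommGroup M] [mAM : Module A M]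
  [hp : (p'.map (algebraMap R' B)).IsPrime]
  good : i < D.n → Good D R' i B A M
  bad : D.n ≤ i → Subsingleton A

attribute [instance] Pk.cB Pk.cA Pk.aRB Pk.aRA Pk.aBA Pk.tBA Pk.gM Pk.mAM Pk.hp

theorem nonempty_pk [p'.IsPrime] [p'.LiesOver p] (i : ℕ) : Nonempty (Pk D R' p' i) := by
  by_cases h : i < D.n
  · haveI := D.smooth i h
    letI : Algebra (R' ⊗[R] D.B i) (R' ⊗[R] D.A i) :=
      (Algebra.TensorProduct.map (AlgHom.id R' R') (IsScalarTower.toAlgHom R (D.B i) (D.A i))).toRingHom.toAlgebra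
    haveI : IsScalarTower R' (R' ⊗[R] D.B i) (R' ⊗[R] D.A i) := .of_algebraMap_eq fun r =>
      ((Algebra.TensorProduct.map (AlgHom.id R' R') (IsScalarTower.toAlgHom R (D.B i) (D.A i))).commutes r).symm
    letI : Algebra (D.B i) (R' ⊗[R] D.B i) := Algebra.TensorProduct.rightAlgebra
    letI : Algebra (D.A i) (R' ⊗[R] D.A i) := Algebra.TensorProduct.rightAlgebra
    haveI hpB := (DevissageStep.isPrime_map_and_comap (B := D.B i) (B' := R' ⊗[R] D.B i) (D.geomIrred i h) p p').1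
    exact ⟨{
      B := R' ⊗[R] D.B i
      A := R' ⊗[R] D.A i
      M := (R' ⊗[R] D.A i) ⊗[D.A i] D.M i
      good := fun _ => { poB := inferInstance, poA := inferInstance,
                         compat := fun b => (by simp [RingHom.algebraMap_toAlgebra]),
                         g := TensorProduct.mk (D.A i) (R' ⊗[R] D.A i) (D.M i) 1,
                         hg := TensorProduct.isBaseChange _ _ _ }
      bad := fun h' => absurd h (not_lt.2 h') }⟩
  · haveI : (p'.map (algebraMap R' R')).IsPrime := by rwa [Algebra.algebraMap_self, Ideal.map_id]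
    letI : Algebra R' PUnit.{u+1} := (⟨⟨⟨fun _ => PUnit.unit, rfl⟩, fun _ _ => rfl⟩, rfl, fun _ _ => rfl⟩ : R' →+* PUnit.{u+1}).toAlgebra
    haveI : IsScalarTower R' R' PUnit.{u+1} := .of_algebraMap_eq fun _ => rfl
    exact ⟨{ B := R', A := PUnit.{u+1}, M := PUnit.{u+1}, good := fun h' => absurd h' h, bad := fun _ => inferInstance }⟩

theorem nonempty_cross [p'.IsPrime] (P : ∀ i, Pk D R' p' i) (G : ∀ i (h : i < D.n), Good D R' i (P i).B (P i).A (P i).M) (i : ℕ) :
    ∃ φ : (P i).B →ₐ[R'] (P (i + 1)).A, ∀ (h₀ : i < D.n) (h : i + 1 < D.n) (b : D.B i),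
      (letI := (G i h₀).aB; letI := (G (i + 1) h).aA
       φ (algebraMap (D.B i) (P i).B b) = algebraMap (D.A (i + 1)) (P (i + 1)).A (algebraMap (D.B i) (D.A (i + 1)) b)) := by
  by_cases h : i + 1 < D.n
  · letI := (G i (Nat.lt_of_succ_lt h)).rB; letI := (G i (Nat.lt_of_succ_lt h)).aB
    letI := (G (i + 1) h).rA; letI := (G (i + 1) h).aA
    haveI := (G i (Nat.lt_of_succ_lt h)).tRB; haveI := (G i (Nat.lt_of_succ_lt h)).tB
    haveI := (G (i + 1) h).tRA; haveI := (G (i + 1) h).tA; haveI := (G i (Nat.lt_of_succ_lt h)).poB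
    obtain ⟨φ, hφ⟩ := exists_algHom (R := R) (R' := R') (B := D.B i) (B' := (P i).B) (T := (P (i + 1)).A)
      ((IsScalarTower.toAlgHom R (D.A (i + 1)) (P (i + 1)).A).comp (IsScalarTower.toAlgHom R (D.B i) (D.A (i + 1))))
    exact ⟨φ, fun _ _ b => hφ b⟩
  · haveI := (P (i + 1)).bad (not_lt.1 h)
    exact ⟨⟨⟨⟨⟨fun _ => 0, Subsingleton.elim _ _⟩, fun _ _ => Subsingleton.elim _ _⟩, Subsingleton.elim _ _,
      fun _ _ => Subsingleton.elim _ _⟩, fun _ => Subsingleton.elim _ _⟩, fun _ h' => absurd h' h⟩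

open TensorProduct in
set_option maxHeartbeats 2000000 in
set_option linter.unusedVariables false in
theorem main
    (R S : Type u) [CommRing R] [CommRing S] [Algebra R S] [Algebra.FiniteType R S]
    (N : Type u) [AddCommGroup N] [Module S N] [Module.Finite S N]
    (p : Ideal R) [p.IsPrime] (𝒟 : FlatCA.CompleteDevissage R S N p)
    (R' : Type u) [CommRing R'] [Algebra R R'] (p' : Ideal R') [p'.IsPrime] [p'.LiesOver p]
    (S' : Type u) [CommRing S'] [Algebra R' S'] [Algebra R S'] [Algebra S S'] [IsScalarTower R R' S']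
    [IsScalarTower R S S'] [Algebra.IsPushout R R' S S']
    (N' : Type u) [AddCommGroup N'] [Module S' N'] [Module S N'] [IsScalarTower S S' N']
    (f : N →ₗ[S] N') (hf : IsBaseChange S' f) :
    ∃ (𝒟' : FlatCA.CompleteDevissage R' S' N' p')
      (aA : ∀ i : Fin 𝒟.n, Algebra (𝒟.A i) (𝒟'.A i)) (rA : ∀ i : Fin 𝒟.n, Algebra R (𝒟'.A i))
      (_t1 : ∀ i : Fin 𝒟.n, IsScalarTower R (R') (𝒟'.A i)) (_t2 : ∀ i : Fin 𝒟.n, IsScalarTower R (𝒟.A i) (𝒟'.A i))
      (aB : ∀ i : Fin 𝒟.n, Algebra (𝒟.B i) (𝒟'.B i)) (rB : ∀ i : Fin 𝒟.n, Algebra R (𝒟'.B i))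
      (_t3 : ∀ i : Fin 𝒟.n, IsScalarTower R (R') (𝒟'.B i)) (_t4 : ∀ i : Fin 𝒟.n, IsScalarTower R (𝒟.B i) (𝒟'.B i))
      (bA : ∀ i : Fin 𝒟.n, Algebra (𝒟.B i) (𝒟'.A i)) (_t5 : ∀ i : Fin 𝒟.n, IsScalarTower (𝒟.B i) (𝒟.A i) (𝒟'.A i))
      (_t6 : ∀ i : Fin 𝒟.n, IsScalarTower (𝒟.B i) (𝒟'.B i) (𝒟'.A i))
      (bA' : ∀ i : Fin 𝒟.n, Algebra (𝒟.B i) (𝒟'.A (i + 1)))
      (_t7 : ∀ i : Fin 𝒟.n, IsScalarTower (𝒟.B i) (𝒟'.B i) (𝒟'.A (i + 1)))
      (sA : Algebra S (𝒟'.A 0)) (_t8 : IsScalarTower S (S') (𝒟'.A 0))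
      (mA : ∀ i : Fin 𝒟.n, Module (𝒟.A i) (𝒟'.M i)) (_t9 : ∀ i : Fin 𝒟.n, IsScalarTower (𝒟.A i) (𝒟'.A i) (𝒟'.M i))
      (gM : ∀ i : Fin 𝒟.n, 𝒟.M i →ₗ[𝒟.A i] 𝒟'.M i),
      𝒟'.n = 𝒟.n ∧ 𝒟'.r = 𝒟.r ∧
      (letI := aA ⟨0, 𝒟.pos⟩; IsScalarTower S (𝒟.A 0) (𝒟'.A 0)) ∧
      (∀ x : N, 𝒟'.isoN (f x) = gM ⟨0, 𝒟.pos⟩ (𝒟.isoN x)) ∧
      (∀ (i : Fin 𝒟.n) (h : (i : ℕ) + 1 < 𝒟.n),
        letI := aA ⟨i + 1, h⟩; IsScalarTower (𝒟.B i) (𝒟.A (i + 1)) (𝒟'.A (i + 1))) ∧
      ∀ i : Fin 𝒟.n,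
        Algebra.IsPushout R R' (𝒟.A i) (𝒟'.A i) ∧ Algebra.IsPushout R R' (𝒟.B i) (𝒟'.B i) ∧
        IsBaseChange (𝒟'.A i) (gM i) ∧
        LinearMap.range (𝒟'.α i) =
          Submodule.span (𝒟'.B i) ((gM i) '' (LinearMap.range (𝒟.α i) : Set (𝒟.M i))) := by
  let P : ∀ i, Pk 𝒟 R' p' i := fun i => (nonempty_pk 𝒟 R' p' i).some
  let G := fun (i : ℕ) (h : i < 𝒟.n) => (P i).good h
  choose φ hφ using nonempty_cross 𝒟 R' p' P G
  letI irB : ∀ i : Fin 𝒟.n, Algebra R (P i).B := fun i => (G i i.2).rB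
  letI irA : ∀ i : Fin 𝒟.n, Algebra R (P i).A := fun i => (G i i.2).rA
  letI iaB : ∀ i : Fin 𝒟.n, Algebra (𝒟.B i) (P i).B := fun i => (G i i.2).aB
  letI iaA : ∀ i : Fin 𝒟.n, Algebra (𝒟.A i) (P i).A := fun i => (G i i.2).aA
  haveI itRB : ∀ i : Fin 𝒟.n, IsScalarTower R R' (P i).B := fun i => (G i i.2).tRB
  haveI itRA : ∀ i : Fin 𝒟.n, IsScalarTower R R' (P i).A := fun i => (G i i.2).tRA
  haveI itB : ∀ i : Fin 𝒟.n, IsScalarTower R (𝒟.B i) (P i).B := fun i => (G i i.2).tB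
  haveI itA : ∀ i : Fin 𝒟.n, IsScalarTower R (𝒟.A i) (P i).A := fun i => (G i i.2).tA
  letI imA : ∀ i : Fin 𝒟.n, Module (𝒟.A i) (P i).M := fun i => (G i i.2).mA
  haveI itM : ∀ i : Fin 𝒟.n, IsScalarTower (𝒟.A i) (P i).A (P i).M := fun i => (G i i.2).tM
  letI ibA : ∀ i : Fin 𝒟.n, Algebra (𝒟.B i) (P i).A := fun i =>
    ((algebraMap (𝒟.A i) (P i).A).comp (algebraMap (𝒟.B i) (𝒟.A i))).toAlgebra
  haveI it5 : ∀ i : Fin 𝒟.n, IsScalarTower (𝒟.B i) (𝒟.A i) (P i).A := fun i => .of_algebraMap_eq fun _ => rfl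
  haveI it6 : ∀ i : Fin 𝒟.n, IsScalarTower (𝒟.B i) (P i).B (P i).A := fun i =>
    .of_algebraMap_eq fun b => ((G i i.2).compat b).symm
  letI cBA' : ∀ i, Algebra (P i).B (P (i + 1)).A := fun i => (φ i).toRingHom.toAlgebra
  haveI ctBA' : ∀ i, IsScalarTower R' (P i).B (P (i + 1)).A := fun i => .of_algebraMap_eq fun r => ((φ i).commutes r).symm
  letI ibA' : ∀ i : Fin 𝒟.n, Algebra (𝒟.B i) (P (i + 1)).A := fun i =>
    ((φ i).toRingHom.comp (algebraMap (𝒟.B i) (P i).B)).toAlgebra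
  haveI it7 : ∀ i : Fin 𝒟.n, IsScalarTower (𝒟.B i) (P i).B (P (i + 1)).A := fun i => .of_algebraMap_eq fun _ => rfl
  let G0 := G 0 𝒟.pos
  letI := G0.rA; letI := G0.aA; haveI := G0.tRA; haveI := G0.tA; letI := G0.mA; haveI := G0.tM
  haveI := G0.poA
  letI sA : Algebra S (P 0).A := ((algebraMap (𝒟.A 0) (P 0).A).comp (algebraMap S (𝒟.A 0))).toAlgebra
  haveI : IsScalarTower S (𝒟.A 0) (P 0).A := .of_algebraMap_eq fun _ => rfl
  obtain ⟨ψ, hψ⟩ := exists_algHom (R := R) (R' := R') (B := S) (B' := S') (T := (P 0).A)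
    ((IsScalarTower.toAlgHom R (𝒟.A 0) (P 0).A).comp (IsScalarTower.toAlgHom R S (𝒟.A 0)))
  letI s'A : Algebra S' (P 0).A := ψ.toRingHom.toAlgebra
  haveI : IsScalarTower R' S' (P 0).A := .of_algebraMap_eq fun r => (ψ.commutes r).symm
  haveI it8 : IsScalarTower S S' (P 0).A := .of_algebraMap_eq fun s => (hψ s).symm
  haveI : IsScalarTower R S (P 0).A := .of_algebraMap_eq fun r => by
    rw [IsScalarTower.algebraMap_apply S (𝒟.A 0) (P 0).A, ← IsScalarTower.algebraMap_apply R S (𝒟.A 0),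
      ← IsScalarTower.algebraMap_apply R (𝒟.A 0) (P 0).A]
  haveI : IsScalarTower R S' (P 0).A := .of_algebraMap_eq fun r => by
    rw [IsScalarTower.algebraMap_apply R R' S', ← IsScalarTower.algebraMap_apply R' S' (P 0).A, ← IsScalarTower.algebraMap_apply R R' (P 0).A]
  haveI hS : Algebra.IsPushout S S' (𝒟.A 0) (P 0).A := by
    haveI : Algebra.IsPushout R S R' S' := Algebra.IsPushout.symm ‹Algebra.IsPushout R R' S S'›
    exact ((Algebra.IsPushout.comp_iff R S R' S' (T := 𝒟.A 0) (T' := (P 0).A)).1 (Algebra.IsPushout.symm G0.poA)).symm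
  letI mS'0 : Module S' (P 0).M := Module.compHom _ (algebraMap S' (P 0).A)
  haveI : IsScalarTower S' (P 0).A (P 0).M := IsScalarTower.of_algebraMap_smul fun _ _ => rfl
  letI : Module S (P 0).M := Module.compHom _ (algebraMap S S')
  haveI : IsScalarTower S S' (P 0).M := IsScalarTower.of_algebraMap_smul fun _ _ => rfl
  haveI : IsScalarTower S (P 0).A (P 0).M := IsScalarTower.of_algebraMap_smul fun s m => by
    show _ = algebraMap S S' s • m
    rw [← algebraMap_smul (P 0).A (algebraMap S S' s) m, ← IsScalarTower.algebraMap_apply]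
  haveI : IsScalarTower S (𝒟.A 0) (P 0).M := IsScalarTower.of_algebraMap_smul fun s m => by
    rw [← algebraMap_smul (P 0).A (algebraMap S (𝒟.A 0) s) m, ← IsScalarTower.algebraMap_apply, algebraMap_smul]
  let g0 : 𝒟.M 0 →ₗ[S] (P 0).M := G0.g.restrictScalars S
  have hg0 : IsBaseChange S' g0 := isBaseChange_restrict G0.g G0.hg g0 fun _ => rfl
  let iso : N' ≃ₗ[S'] (P 0).M := hf.equiv.symm.trans ((LinearEquiv.baseChange S S' N (𝒟.M 0) 𝒟.isoN).trans hg0.equiv)
  have hiso : ∀ x, iso (f x) = G0.g (𝒟.isoN x) := fun x => by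
    show hg0.equiv (LinearEquiv.baseChange S S' N (𝒟.M 0) 𝒟.isoN (hf.equiv.symm (f x))) = _
    rw [hf.equiv_symm_apply]
    simp [LinearEquiv.baseChange, IsBaseChange.equiv_tmul, g0]
  letI mBM : ∀ i, Module (P i).B (P i).M := fun i => Module.compHom _ (algebraMap (P i).B (P i).A)
  haveI tBAM : ∀ i, IsScalarTower (P i).B (P i).A (P i).M := fun i => IsScalarTower.of_algebraMap_smul fun _ _ => rfl
  letI mRM : ∀ i, Module R' (P i).M := fun i => Module.compHom _ (algebraMap R' (P i).B)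
  haveI tRBM : ∀ i, IsScalarTower R' (P i).B (P i).M := fun i => IsScalarTower.of_algebraMap_smul fun _ _ => rfl
  letI mB'M : ∀ i, Module (P i).B (P (i + 1)).M := fun i => Module.compHom _ (algebraMap (P i).B (P (i + 1)).A)
  haveI tB'AM : ∀ i, IsScalarTower (P i).B (P (i + 1)).A (P (i + 1)).M := fun i => IsScalarTower.of_algebraMap_smul fun _ _ => rfl
  let α : ∀ i, (Fin (𝒟.r i) → (P i).B) →ₗ[(P i).B] (P i).M := fun i =>
    Fintype.linearCombination (P i).B fun j => if h : i < 𝒟.n then (G i h).g (𝒟.α i (Pi.single j 1)) else 0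
  letI iBM : ∀ i : Fin 𝒟.n, Module (𝒟.B i) (P i).M := fun i => Module.compHom _ (algebraMap (𝒟.B i) (P i).B)
  haveI itBM : ∀ i : Fin 𝒟.n, IsScalarTower (𝒟.B i) (P i).B (P i).M := fun i => IsScalarTower.of_algebraMap_smul fun _ _ => rfl
  haveI itBAM : ∀ i : Fin 𝒟.n, IsScalarTower (𝒟.B i) (𝒟.A i) (P i).M := fun i => IsScalarTower.of_algebraMap_smul fun b m => by
    rw [← algebraMap_smul (P i).A (algebraMap (𝒟.B i) (𝒟.A i) b) m, ← (G i i.2).compat b, algebraMap_smul]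
    rfl
  have poBA : ∀ i : Fin 𝒟.n, Algebra.IsPushout (𝒟.B i) (P i).B (𝒟.A i) (P i).A := fun i => by
    haveI := (G i i.2).poA
    haveI : Algebra.IsPushout R (𝒟.B i) R' (P i).B := Algebra.IsPushout.symm (G i i.2).poB
    haveI : IsScalarTower R (P i).B (P i).A := .of_algebraMap_eq fun r => by
      rw [IsScalarTower.algebraMap_apply R R' (P i).B, ← IsScalarTower.algebraMap_apply R' (P i).B (P i).A,
        ← IsScalarTower.algebraMap_apply R R' (P i).A]
    exact ((Algebra.IsPushout.comp_iff R (𝒟.B i) R' (P i).B (T := 𝒟.A i) (T' := (P i).A)).1 (Algebra.IsPushout.symm (G i i.2).poA)).symm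
  have hgB : ∀ i : Fin 𝒟.n, IsBaseChange (P i).B ((G i i.2).g.restrictScalars (𝒟.B i)) := fun i => by
    haveI := poBA i
    exact isBaseChange_restrict (G i i.2).g (G i i.2).hg _ fun _ => rfl
  have hrange : ∀ i : Fin 𝒟.n, LinearMap.range (α i) =
      Submodule.span (P i).B ((G i i.2).g '' (LinearMap.range (𝒟.α i) : Set (𝒟.M i))) := fun i => by
    simp only [α, dif_pos i.2]
    exact DevissageStep.range_linearCombination (𝒟.α i) ((G i i.2).g.restrictScalars (𝒟.B i))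
  have hnext : ∀ (i : Fin 𝒟.n) (h : (i : ℕ) + 1 < 𝒟.n),
      letI := (G (i + 1) h).aA
      IsScalarTower (𝒟.B i) (𝒟.A (i + 1)) (P (i + 1)).A := fun i h => by
    letI := (G (i + 1) h).aA
    exact .of_algebraMap_eq fun b => hφ i i.2 h b
  have poBA' : ∀ (i : Fin 𝒟.n) (h : (i : ℕ) + 1 < 𝒟.n),
      letI := (G (i + 1) h).aA
      haveI := hnext i h
      Algebra.IsPushout (𝒟.B i) (P i).B (𝒟.A (i + 1)) (P (i + 1)).A := fun i h => by
    letI := (G (i + 1) h).rA; letI := (G (i + 1) h).aA; haveI := (G (i + 1) h).tRA; haveI := (G (i + 1) h).tA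
    haveI := hnext i h
    haveI := (G (i + 1) h).poA
    haveI : Algebra.IsPushout R (𝒟.B i) R' (P i).B := Algebra.IsPushout.symm (G i i.2).poB
    haveI : IsScalarTower R (P i).B (P (i + 1)).A := .of_algebraMap_eq fun r => by
      rw [IsScalarTower.algebraMap_apply R R' (P i).B, ← IsScalarTower.algebraMap_apply R' (P i).B (P (i + 1)).A,
        ← IsScalarTower.algebraMap_apply R R' (P (i + 1)).A]
    exact ((Algebra.IsPushout.comp_iff R (𝒟.B i) R' (P i).B (T := 𝒟.A (i + 1)) (T' := (P (i + 1)).A)).1 (Algebra.IsPushout.symm (G (i + 1) h).poA)).symm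
  let 𝒟' : FlatCA.CompleteDevissage R' S' N' p' :=
  { n := 𝒟.n
    pos := 𝒟.pos
    A := fun i => (P i).A
    B := fun i => (P i).B
    M := fun i => (P i).M
    r := 𝒟.r
    α := α
    surjSA := surjective_pushout (S := S) (C := 𝒟.A 0) 𝒟.surjSA
    fpSA := by
      haveI := 𝒟.fpSA
      exact Algebra.FinitePresentation.equiv (Algebra.IsPushout.equiv S S' (𝒟.A 0) (P 0).A)
    surjBA' := fun i h => by
      have hi : i < 𝒟.n := Nat.lt_of_succ_lt h
      letI := (G (i + 1) h).aA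
      haveI := hnext ⟨i, hi⟩ h
      haveI := poBA' ⟨i, hi⟩ h
      exact surjective_pushout (S := 𝒟.B (⟨i, hi⟩ : Fin 𝒟.n)) (C := 𝒟.A (i + 1)) (𝒟.surjBA' i h)
    fpBA' := fun i h => by
      have hi : i < 𝒟.n := Nat.lt_of_succ_lt h
      letI := (G (i + 1) h).aA
      haveI := hnext ⟨i, hi⟩ h
      haveI := poBA' ⟨i, hi⟩ h
      haveI := 𝒟.fpBA' i h
      exact Algebra.FinitePresentation.equiv (Algebra.IsPushout.equiv (𝒟.B (⟨i, hi⟩ : Fin 𝒟.n)) (P i).B (𝒟.A (i + 1)) (P (i + 1)).A)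
    finiteBA := fun i hi => by
      haveI := poBA ⟨i, hi⟩
      haveI := 𝒟.finiteBA i hi
      exact Module.Finite.equiv (Algebra.IsPushout.equiv (𝒟.B (⟨i, hi⟩ : Fin 𝒟.n)) (P i).B (𝒟.A (⟨i, hi⟩ : Fin 𝒟.n)) (P i).A).toLinearEquiv
    smooth := fun i hi => by
      let I : Fin 𝒟.n := ⟨i, hi⟩
      haveI : Algebra.Smooth R (𝒟.B I) := 𝒟.smooth i hi
      haveI : Algebra.IsPushout R R' (𝒟.B I) (P I).B := (G i hi).poB
      exact (Algebra.Smooth.of_equiv (Algebra.IsPushout.equiv R R' (𝒟.B I) (P I).B) : Algebra.Smooth R' (P I).B)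
    geomIrred := fun i hi => by
      haveI : Algebra.IsPushout R R' (𝒟.B (⟨i, hi⟩ : Fin 𝒟.n)) (P (⟨i, hi⟩ : Fin 𝒟.n)).B := (G i hi).poB
      have hsq := isPullback_SpecMap_of_isPushout _ _ _ _ (CommRingCat.isPushout_of_isPushout R R' (𝒟.B (⟨i, hi⟩ : Fin 𝒟.n)) (P (⟨i, hi⟩ : Fin 𝒟.n)).B)
      exact MorphismProperty.of_isPullback (P := @GeometricallyIrreducible) hsq.flip (𝒟.geomIrred i hi)
    finiteM := fun i hi => by
      let I : Fin 𝒟.n := ⟨i, hi⟩
      haveI : Module.Finite (𝒟.A I) (𝒟.M I) := 𝒟.finiteM i hi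
      exact (Module.Finite.equiv (G I I.2).hg.equiv : Module.Finite (P I).A (P I).M)
    isoN := iso
    isoCoker := fun i h => by
      have hi : i < 𝒟.n := Nat.lt_of_succ_lt h
      let I : Fin 𝒟.n := ⟨i, hi⟩
      letI := (G (i + 1) h).aA; letI := (G (i + 1) h).mA; haveI := (G (i + 1) h).tM
      haveI := hnext I h
      haveI := poBA' I h
      letI : Module (𝒟.B I) (P (i + 1)).M := Module.compHom _ (algebraMap (𝒟.B I) (P i).B)
      haveI : IsScalarTower (𝒟.B I) (P i).B (P (i + 1)).M := IsScalarTower.of_algebraMap_smul fun _ _ => rfl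
      haveI : IsScalarTower (𝒟.B I) (𝒟.A (i + 1)) (P (i + 1)).M := IsScalarTower.of_algebraMap_smul fun b m => by
        rw [← algebraMap_smul (P (i + 1)).A (algebraMap (𝒟.B I) (𝒟.A (i + 1)) b) m, ← IsScalarTower.algebraMap_apply]
        rfl
      have h1 := isBaseChange_restrict (S := 𝒟.B I) (S' := (P i).B) (G (i + 1) h).g (G (i + 1) h).hg
        ((G (i + 1) h).g.restrictScalars (𝒟.B I)) fun _ => rfl
      exact (Submodule.quotEquivOfEq _ _ (hrange I)).trans
        (DevissageStep.nonempty_quotient_equiv (LinearMap.range (𝒟.α I)) (𝒟.isoCoker i h) _ (hgB I) _ h1).some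
    fibreIso := fun i hi => by
      let I : Fin 𝒟.n := ⟨i, hi⟩
      haveI := 𝒟.smooth i hi
      haveI : Algebra.IsPushout R R' (𝒟.B I) (P I).B := (G i hi).poB
      have hc := (DevissageStep.isPrime_map_and_comap (B := 𝒟.B I) (B' := (P I).B) (𝒟.geomIrred i hi) p p').2
      haveI : (p.map (algebraMap R (𝒟.B I))).IsPrime := 𝒟.hp i
      have := DevissageStep.bijective_baseChange (B := 𝒟.B I) (B' := (P I).B) (𝒟.α I) ((G I I.2).g.restrictScalars (𝒟.B I)) (hgB I)
        (p.map (algebraMap R (𝒟.B I))) (p'.map (algebraMap R' (P I).B)) hc (𝒟.fibreIso i hi)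
      have e : α I = Fintype.linearCombination (P I).B fun j => ((G I I.2).g.restrictScalars (𝒟.B I)) (𝒟.α I (Pi.single j 1)) := by
        simp only [α, dif_pos I.2]; rfl
      rw [← e] at this
      exact this
    cokerLast := by
      have hi : 𝒟.n - 1 < 𝒟.n := Nat.sub_lt 𝒟.pos Nat.one_pos
      rw [← LinearMap.range_eq_top]
      refine (hrange ⟨_, hi⟩).trans (eq_top_iff.2 fun m _ => ?_)
      obtain ⟨t, rfl⟩ := (hgB ⟨_, hi⟩).equiv.surjective m
      induction t with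
      | zero => simp
      | add a b ha hb => rw [map_add]; exact Submodule.add_mem _ (ha trivial) (hb trivial)
      | tmul c x =>
        rw [IsBaseChange.equiv_tmul]
        exact Submodule.smul_mem _ _ (Submodule.subset_span ⟨x, 𝒟.cokerLast x, rfl⟩) }
  exact ⟨𝒟', iaA, irA, itRA, itA, iaB, irB, itRB, itB, ibA, it5, it6, ibA', it7, sA, it8, imA, itM,
    fun i => (G i i.2).g, rfl, rfl, ‹IsScalarTower S (𝒟.A 0) (P 0).A›, hiso, hnext,
    fun i => ⟨(G i i.2).poA, (G i i.2).poB, (G i i.2).hg, hrange i⟩⟩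

end Groth.Agent.FlatMor68.CompleteDevBC
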