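import Groth.Agent.FlatMor68.DevissageAtBC
import Groth.Agent.FlatMor68.CompleteDevBC

/-! Base change of a complete dévissage at a point with trivial residue extension (S12244). -/

set_option autoImplicit false
set_option backward.isDefEq.respectTransparency.types false
set_option linter.style.haveILetI false

universe u

open TensorProduct

namespace Groth.Agent.FlatMor68.CompleteDevAtBC

open DevissageAtBC

section

variable {R S R' S' : Type u} [CommRing R] [CommRing S] [CommRing R'] [CommRing S'] [Algebra R S] [Algebra R R']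
  [Algebra R' S'] [Algebra R S'] [Algebra S S'] [IsScalarTower R R' S'] [IsScalarTower R S S']
  [Algebra.IsPushout R R' S S'] (p : Ideal R) [p.IsPrime] (p' : Ideal R') [p'.IsPrime] [hp : p'.LiesOver p]

theorem exists_over (hκ : Function.Bijective (Ideal.ResidueField.mapₐ p p' (Algebra.ofId R R') hp.over))
    (q : Ideal S) [q.IsPrime] [hq : q.LiesOver p] :
    ∃ q' : Ideal S', q'.IsPrime ∧ q'.LiesOver p' ∧ q'.LiesOver q := by
  obtain ⟨E, hE⟩ := exists_fiberEquiv (S := S) (S' := S') p p' hκ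
  let ξ := PrimeSpectrum.primesOverOrderIsoFiber R S p ⟨q, ‹q.IsPrime›, hq⟩
  let x := (PrimeSpectrum.primesOverOrderIsoFiber R' S' p').symm (PrimeSpectrum.comap E.symm.toRingHom ξ)
  have hx : (x : Ideal S') = (PrimeSpectrum.comap E.symm.toRingHom ξ).asIdeal.comap
      (Algebra.TensorProduct.includeRight (R := R') (A := p'.ResidueField) (B := S')) :=
    PrimeSpectrum.coe_primesOverOrderIsoFiber_symm_apply _ _
  refine ⟨x, x.2.1, x.2.2, ⟨?_⟩⟩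
  have hq' : ξ.asIdeal.comap (Algebra.TensorProduct.includeRight (R := R) (A := p.ResidueField) (B := S)) = q := by
    rw [← PrimeSpectrum.coe_primesOverOrderIsoFiber_symm_apply]
    simp [ξ]
  rw [Ideal.under, hx, ← hq']
  ext s
  show _ ∈ ξ.asIdeal ↔ E.symm _ ∈ ξ.asIdeal
  rw [← hE s, E.symm_apply_apply]

theorem purelyTranscendental_bc (hκ : Function.Bijective (Ideal.ResidueField.mapₐ p p' (Algebra.ofId R R') hp.over))
    (y : Ideal S) [y.IsPrime] [y.LiesOver p] (y' : Ideal S') [y'.IsPrime] [y'.LiesOver y] [y'.LiesOver p']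
    (h4 : FlatCA.PurelyTranscendental p y) : FlatCA.PurelyTranscendental p' y' := by
  obtain ⟨ι, x, hx, ht⟩ := h4
  have hs := residue_surjective (S := S) (S' := S') p p' hκ y y'
  letI : Algebra p.ResidueField y.ResidueField := (Ideal.ResidueField.mapₐ p y (Algebra.ofId R S) (y.over_def p)).toRingHom.toAlgebra
  letI : Algebra p'.ResidueField y'.ResidueField := (Ideal.ResidueField.mapₐ p' y' (Algebra.ofId R' S') (y'.over_def p')).toRingHom.toAlgebra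
  let e : p.ResidueField ≃+* p'.ResidueField := RingEquiv.ofBijective _ hκ
  let E : y.ResidueField ≃+* y'.ResidueField := RingEquiv.ofBijective _ ⟨(Ideal.ResidueField.mapₐ y y' (Algebra.ofId S S') (y'.over_def y)).toRingHom.injective, hs⟩
  refine ⟨ι, E ∘ x, purelyTranscendental_transport e E (fun c => ?_) hx ht⟩
  have hh : E.toRingHom.comp (algebraMap p.ResidueField y.ResidueField) = (algebraMap p'.ResidueField y'.ResidueField).comp e.toRingHom := by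
    apply Ideal.ResidueField.ringHom_ext
    ext r
    show Ideal.ResidueField.mapₐ y y' (Algebra.ofId S S') _ (Ideal.ResidueField.mapₐ p y (Algebra.ofId R S) _ (algebraMap R _ r)) =
      Ideal.ResidueField.mapₐ p' y' (Algebra.ofId R' S') _ (Ideal.ResidueField.mapₐ p p' (Algebra.ofId R R') _ (algebraMap R _ r))
    rw [AlgHom.commutes, AlgHom.commutes, IsScalarTower.algebraMap_apply R S y.ResidueField, AlgHom.commutes,
      IsScalarTower.algebraMap_apply R R' p'.ResidueField, AlgHom.commutes,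
      ← IsScalarTower.algebraMap_apply R S y'.ResidueField, ← IsScalarTower.algebraMap_apply R R' y'.ResidueField]
  exact RingHom.congr_fun hh c

theorem localDim_bc (hκ : Function.Bijective (Ideal.ResidueField.mapₐ p p' (Algebra.ofId R R') hp.over))
    (N : Type u) [AddCommGroup N] [Module S N] [Module R N] [IsScalarTower R S N] [Module.Finite S N]
    (N' : Type u) [AddCommGroup N'] [Module S' N'] [Module R' N'] [IsScalarTower R' S' N']
    [Module S N'] [IsScalarTower S S' N'] (f : N →ₗ[S] N') (hf : IsBaseChange S' f)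
    (q : Ideal S) [q.IsPrime] [q.LiesOver p] (q' : Ideal S') [q'.IsPrime] [q'.LiesOver q] [q'.LiesOver p'] {n : ℕ}
    (h1 : ∃ (ξ : PrimeSpectrum (p.Fiber S)) (hξ : ξ ∈ Module.support (p.Fiber S) (FlatCA.fiberMod p S N)),
      ξ.asIdeal = FlatCA.fiberIdeal p q ∧
      FlatMor.localDim (Module.support (p.Fiber S) (FlatCA.fiberMod p S N)) ⟨ξ, hξ⟩ = n) :
    ∃ (ξ' : PrimeSpectrum (p'.Fiber S')) (hξ' : ξ' ∈ Module.support (p'.Fiber S') (FlatCA.fiberMod p' S' N')),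
      ξ'.asIdeal = FlatCA.fiberIdeal p' q' ∧
      FlatMor.localDim (Module.support (p'.Fiber S') (FlatCA.fiberMod p' S' N')) ⟨ξ', hξ'⟩ = n := by
  obtain ⟨ξ, hξ, hξq, hdim⟩ := h1
  have hqq : q'.comap (algebraMap S S') = q := (q'.over_def q).symm
  obtain ⟨E, hE⟩ := exists_fiberEquiv (S := S) (S' := S') p p' hκ
  haveI : Module.Finite S' N' := Module.Finite.equiv hf.equiv
  have hsupp : Module.support (p'.Fiber S') (FlatCA.fiberMod p' S' N') =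
      PrimeSpectrum.comap E.toRingHom ⁻¹' Module.support (p.Fiber S) (FlatCA.fiberMod p S N) := by
    letI : Algebra S (p.Fiber S) := Algebra.TensorProduct.rightAlgebra
    letI : Algebra S' (p'.Fiber S') := Algebra.TensorProduct.rightAlgebra
    rw [show Module.support (p'.Fiber S') (FlatCA.fiberMod p' S' N') = _ from S6284.result (R' := p'.Fiber S') N',
      show Module.support (p.Fiber S) (FlatCA.fiberMod p S N) = _ from S6284.result (R' := p.Fiber S) N,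
      ← hf.equiv.support_eq, S6284.result N, ← Set.preimage_comp, ← Set.preimage_comp]
    congr 1
    funext P
    simp only [Function.comp_apply, ← PrimeSpectrum.comap_comp_apply]
    congr 1
    exact RingHom.ext fun s => (hE s).symm
  let ξ' : PrimeSpectrum (p'.Fiber S') := PrimeSpectrum.comap E.symm.toRingHom ξ
  have he : PrimeSpectrum.comap E.toRingHom ξ' = ξ := by
    rw [← PrimeSpectrum.comap_comp_apply, show E.symm.toRingHom.comp E.toRingHom = RingHom.id _ from RingHom.ext E.symm_apply_apply]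
    rfl
  have hξ' : ξ' ∈ Module.support (p'.Fiber S') (FlatCA.fiberMod p' S' N') := by
    rw [hsupp, Set.mem_preimage, he]; exact hξ
  refine ⟨ξ', hξ', ?_, (supportDim_homeo E _ _ hsupp ξ hξ ξ' hξ' he).trans hdim⟩
  let q₁ := ξ'.asIdeal.comap (Algebra.TensorProduct.includeRight (R := R') (A := p'.ResidueField) (B := S')).toRingHom
  haveI : q₁.LiesOver p' := ((PrimeSpectrum.primesOverOrderIsoFiber R' S' p').symm ξ').2.2
  have h₁ : q₁.comap (algebraMap S S') = q := by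
    rw [← FlatMor67.PurePush.comap_fiberIdeal p q, ← hξq]
    ext s
    simp only [q₁, Ideal.mem_comap]
    show E.symm _ ∈ ξ.asIdeal ↔ _
    rw [show (Algebra.TensorProduct.includeRight (R := R') (A := p'.ResidueField) (B := S')).toRingHom (algebraMap S S' s) = E ((Algebra.TensorProduct.includeRight (R := R) (A := p.ResidueField) (B := S)) s) from (hE s).symm,
      E.symm_apply_apply]
    rfl
  rw [← eq_of_comap_eq (S := S) p p' hκ q₁ q' (h₁.trans hqq.symm)]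
  exact (FlatMor67.PurePush.fiberIdeal_comap p' ξ'.asIdeal).symm

theorem comap_eq_of_over (hκ : Function.Bijective (Ideal.ResidueField.mapₐ p p' (Algebra.ofId R R') hp.over))
    {T T' : Type u} [CommRing T] [CommRing T'] [Algebra S T] [Algebra S' T'] [Algebra T T'] [Algebra R' T']
    [IsScalarTower R' S' T'] (hc : ∀ s : S, algebraMap S' T' (algebraMap S S' s) = algebraMap T T' (algebraMap S T s))
    (y : Ideal S) (y' : Ideal S') [y'.IsPrime] [y'.LiesOver y] [y'.LiesOver p']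
    (z : Ideal T) (z' : Ideal T') [z'.IsPrime] [z'.LiesOver z] [z'.LiesOver p']
    (hz : z.comap (algebraMap S T) = y) : z'.comap (algebraMap S' T') = y' := by
  haveI : (z'.comap (algebraMap S' T')).LiesOver p' := ⟨by
    rw [Ideal.under, Ideal.comap_comap, ← IsScalarTower.algebraMap_eq]; exact z'.over_def p'⟩
  refine eq_of_comap_eq (S := S) p p' hκ _ _ ?_
  rw [show y'.comap (algebraMap S S') = y from (y'.over_def y).symm, ← hz, Ideal.comap_comap,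
    show (algebraMap S' T').comp (algebraMap S S') = (algebraMap T T').comp (algebraMap S T) from RingHom.ext hc,
    ← Ideal.comap_comap, show z'.comap (algebraMap T T') = z from (z'.over_def z).symm]

end

open FlatMor in
set_option maxHeartbeats 2000000 in
theorem main
    (R S : Type u) [CommRing R] [CommRing S] [Algebra R S] [Algebra.FiniteType R S]
    (N : Type u) [AddCommGroup N] [Module S N] [Module.Finite S N]
    (p : Ideal R) [p.IsPrime] (q : Ideal S) [q.IsPrime] (𝒟 : FlatCA.CompleteDevissage R S N p)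
    (𝒜 : FlatCA.CompleteDevissageAt R S N p q 𝒟)
    (R' : Type u) [CommRing R'] [Algebra R R'] (p' : Ideal R') [p'.IsPrime] [hp' : p'.LiesOver p]
    (hκ : Function.Bijective (Ideal.ResidueField.mapₐ p p' (Algebra.ofId R R') hp'.over))
    (S' : Type u) [CommRing S'] [Algebra R' S'] [Algebra R S'] [Algebra S S'] [IsScalarTower R R' S']
    [IsScalarTower R S S'] [Algebra.IsPushout R R' S S']
    (N' : Type u) [AddCommGroup N'] [Module S' N'] [Module S N'] [IsScalarTower S S' N']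
    (f : N →ₗ[S] N') (hf : IsBaseChange S' f)
    (q' : Ideal S') [q'.IsPrime] [q'.LiesOver q] [q'.LiesOver p']
    (𝒟' : FlatCA.CompleteDevissage R' S' N' p') (hn : 𝒟'.n = 𝒟.n)
    (htail : ∀ i, 𝒟.n ≤ i → ∃ (Q : Ideal (𝒟'.B i)) (P : Ideal (𝒟'.A i)),
      Q.IsPrime ∧ P.IsPrime ∧ Q.LiesOver p' ∧ P.LiesOver Q)
    [aA : ∀ i : Fin 𝒟.n, Algebra (𝒟.A i) (𝒟'.A i)] [rA : ∀ i : Fin 𝒟.n, Algebra R (𝒟'.A i)]
      [∀ i : Fin 𝒟.n, IsScalarTower R (R') (𝒟'.A i)] [∀ i : Fin 𝒟.n, IsScalarTower R (𝒟.A i) (𝒟'.A i)]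
      [aB : ∀ i : Fin 𝒟.n, Algebra (𝒟.B i) (𝒟'.B i)] [rB : ∀ i : Fin 𝒟.n, Algebra R (𝒟'.B i)]
      [∀ i : Fin 𝒟.n, IsScalarTower R (R') (𝒟'.B i)] [∀ i : Fin 𝒟.n, IsScalarTower R (𝒟.B i) (𝒟'.B i)]
      [bA : ∀ i : Fin 𝒟.n, Algebra (𝒟.B i) (𝒟'.A i)] [∀ i : Fin 𝒟.n, IsScalarTower (𝒟.B i) (𝒟.A i) (𝒟'.A i)]
      [∀ i : Fin 𝒟.n, IsScalarTower (𝒟.B i) (𝒟'.B i) (𝒟'.A i)]
      [bA' : ∀ i : Fin 𝒟.n, Algebra (𝒟.B i) (𝒟'.A (i + 1))]
      [∀ i : Fin 𝒟.n, IsScalarTower (𝒟.B i) (𝒟'.B i) (𝒟'.A (i + 1))]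
      [sA : Algebra S (𝒟'.A 0)] [IsScalarTower S (S') (𝒟'.A 0)]
      [mA : ∀ i : Fin 𝒟.n, Module (𝒟.A i) (𝒟'.M i)] [∀ i : Fin 𝒟.n, IsScalarTower (𝒟.A i) (𝒟'.A i) (𝒟'.M i)]
      (gM : ∀ i : Fin 𝒟.n, 𝒟.M i →ₗ[𝒟.A i] 𝒟'.M i)
    (hbc : (letI := aA ⟨0, 𝒟.pos⟩; IsScalarTower S (𝒟.A 0) (𝒟'.A 0)) ∧
      (∀ x : N, 𝒟'.isoN (f x) = gM ⟨0, 𝒟.pos⟩ (𝒟.isoN x)) ∧
      (∀ (i : Fin 𝒟.n) (h : (i : ℕ) + 1 < 𝒟.n),
        letI := aA ⟨i + 1, h⟩; IsScalarTower (𝒟.B i) (𝒟.A (i + 1)) (𝒟'.A (i + 1))) ∧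
      ∀ i : Fin 𝒟.n,
        Algebra.IsPushout R R' (𝒟.A i) (𝒟'.A i) ∧ Algebra.IsPushout R R' (𝒟.B i) (𝒟'.B i) ∧
        IsBaseChange (𝒟'.A i) (gM i)) :
    ∃ 𝒜' : FlatCA.CompleteDevissageAt R' S' N' p' q' 𝒟', 𝒜'.d = 𝒜.d ∧
      ∀ i : Fin 𝒟.n, (𝒜'.qB i).LiesOver (𝒜.qB i) ∧ (𝒜'.qA i).LiesOver (𝒜.qA i) := by
  obtain ⟨hc0, hiso, hnext, hall⟩ := hbc
  haveI := fun i => 𝒜.hqB i
  haveI := fun i => 𝒜.hqA i
  haveI := fun i => 𝒜.overB i
  haveI := fun i => 𝒜.overA i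
  haveI iA : ∀ i : Fin 𝒟.n, Algebra.IsPushout R R' (𝒟.A i) (𝒟'.A i) := fun i => (hall i).1
  haveI iB : ∀ i : Fin 𝒟.n, Algebra.IsPushout R R' (𝒟.B i) (𝒟'.B i) := fun i => (hall i).2.1
  haveI oA : ∀ i, (𝒜.qA i).LiesOver p := fun i => Ideal.LiesOver.trans (𝒜.qA i) (𝒜.qB i) p
  have hB : ∀ i, ∃ (Q : Ideal (𝒟'.B i)) (P : Ideal (𝒟'.A i)), Q.IsPrime ∧ P.IsPrime ∧ Q.LiesOver p' ∧ P.LiesOver Q ∧
      ∀ h : i < 𝒟.n, (letI := aB ⟨i, h⟩; Q.LiesOver (𝒜.qB i)) ∧ (letI := aA ⟨i, h⟩; P.LiesOver (𝒜.qA i)) := by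
    intro i
    by_cases h : i < 𝒟.n
    · obtain ⟨Q, hQ1, hQ2, hQ3⟩ := exists_over (S := 𝒟.B (⟨i, h⟩ : Fin 𝒟.n)) (S' := 𝒟'.B (⟨i, h⟩ : Fin 𝒟.n)) p p' hκ (𝒜.qB i)
      obtain ⟨P, hP1, hP2, hP3⟩ := exists_over (S := 𝒟.A (⟨i, h⟩ : Fin 𝒟.n)) (S' := 𝒟'.A (⟨i, h⟩ : Fin 𝒟.n)) p p' hκ (𝒜.qA i)
      haveI := hQ1; haveI := hQ2; haveI := hQ3; haveI := hP1; haveI := hP2; haveI := hP3
      refine ⟨Q, P, hQ1, hP1, hQ2, ⟨?_⟩, fun _ => ⟨hQ3, hP3⟩⟩
      exact (comap_eq_of_over (S := 𝒟.B (⟨i, h⟩ : Fin 𝒟.n)) (S' := 𝒟'.B (⟨i, h⟩ : Fin 𝒟.n)) p p' hκ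
        (T := 𝒟.A (⟨i, h⟩ : Fin 𝒟.n)) (T' := 𝒟'.A (⟨i, h⟩ : Fin 𝒟.n)) (fun b => by
          rw [← IsScalarTower.algebraMap_apply, ← IsScalarTower.algebraMap_apply]) (𝒜.qB i) Q (𝒜.qA i) P
        ((𝒜.qA i).over_def (𝒜.qB i)).symm).symm
    · obtain ⟨Q, P, h1, h2, h3, h4⟩ := htail i (not_lt.1 h)
      exact ⟨Q, P, h1, h2, h3, h4, fun h' => absurd h' h⟩
  choose qB qA hqB hqA hoB hoA hov using hB
  haveI := hqB; haveI := hqA; haveI := hoB; haveI := hoA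
  haveI ovB : ∀ i : Fin 𝒟.n, (qB i).LiesOver (𝒜.qB i) := fun i => (hov i i.2).1
  haveI ovA : ∀ i : Fin 𝒟.n, (qA i).LiesOver (𝒜.qA i) := fun i => (hov i i.2).2
  haveI opA : ∀ i, (qA i).LiesOver p' := fun i => Ideal.LiesOver.trans (qA i) (qB i) p'
  refine ⟨⟨qB, qA, fun i hi => ?_, fun i hi Q _ hQ => ?_, ?_, fun i hi => ?_, 𝒜.d, fun i hi => ?_, fun i hi => ?_⟩, rfl,
    fun i => ⟨ovB i, ovA i⟩⟩
  · rw [hn] at hi
    let I : Fin 𝒟.n := ⟨i, hi⟩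
    exact purelyTranscendental_bc (S := 𝒟.B (⟨i, hi⟩ : Fin 𝒟.n)) (S' := 𝒟'.B (⟨i, hi⟩ : Fin 𝒟.n)) p p' hκ
      (𝒜.qB I) (qB I) (𝒜.pureTrans I hi)
  · rw [hn] at hi
    let I : Fin 𝒟.n := ⟨i, hi⟩
    haveI : Q.LiesOver p' := Ideal.LiesOver.trans Q (qB i) p'
    refine eq_of_comap_eq (S := 𝒟.A I) (S' := 𝒟'.A I) p p' hκ Q (qA I) ?_
    haveI : (qB I).LiesOver (𝒜.qB I) := ovB I
    refine (𝒜.uniq I hi (Q.comap (algebraMap (𝒟.A I) (𝒟'.A I))) ⟨?_⟩).trans ((qA I).over_def (𝒜.qA I))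
    rw [Ideal.under, Ideal.comap_comap, ← IsScalarTower.algebraMap_eq, IsScalarTower.algebraMap_eq (𝒟.B I) (𝒟'.B I) (𝒟'.A I),
      ← Ideal.comap_comap, (show Q.comap (algebraMap (𝒟'.B I) (𝒟'.A I)) = qB I from (Q.over_def (qB i)).symm)]
    exact (qB I).over_def (𝒜.qB I)
  · let O : Fin 𝒟.n := ⟨0, 𝒟.pos⟩
    exact comap_eq_of_over (S := S) (S' := S') p p' hκ (T := 𝒟.A (⟨0, 𝒟.pos⟩ : Fin 𝒟.n))
      (T' := 𝒟'.A (⟨0, 𝒟.pos⟩ : Fin 𝒟.n)) (fun s => by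
        haveI := hc0
        rw [← IsScalarTower.algebraMap_apply S (𝒟.A (⟨0, 𝒟.pos⟩ : Fin 𝒟.n)) (𝒟'.A (⟨0, 𝒟.pos⟩ : Fin 𝒟.n))]
        exact (IsScalarTower.algebraMap_apply S S' (𝒟'.A 0) s).symm) q q' (𝒜.qA O) (qA O) 𝒜.q0
  · rw [hn] at hi
    let I : Fin 𝒟.n := ⟨i, Nat.lt_of_succ_lt hi⟩
    let J : Fin 𝒟.n := ⟨i + 1, hi⟩
    letI := aA J
    haveI := hnext I hi
    haveI : (qA (i + 1)).LiesOver (𝒜.qA (i + 1)) := (hov (i + 1) hi).2
    exact comap_eq_of_over (S := 𝒟.B I) (S' := 𝒟'.B I) p p' hκ (T := 𝒟.A (i + 1))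
      (T' := 𝒟'.A (i + 1)) (fun b => by
        rw [← IsScalarTower.algebraMap_apply (𝒟.B I) (𝒟.A (i + 1)) (𝒟'.A (i + 1))]
        exact (IsScalarTower.algebraMap_apply (𝒟.B I) (𝒟'.B I) (𝒟'.A (i + 1)) b).symm) (𝒜.qB i) (qB I) (𝒜.qA (i + 1)) (qA (i + 1))
      (𝒜.qStep i hi)
  · rw [hn] at hi
    exact (DevissageBC.smoothRelDim_baseChange (R := R) (R' := R') (D := 𝒟.B (⟨i, hi⟩ : Fin 𝒟.n))
      (D' := 𝒟'.B (⟨i, hi⟩ : Fin 𝒟.n)) (𝒜.d i) (𝒜.relDim i hi) (𝒟.geomIrred i hi)).1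
  · rw [hn] at hi
    let I : Fin 𝒟.n := ⟨i, hi⟩
    haveI : Module.Finite (𝒟.A I) (𝒟.M I) := 𝒟.finiteM i hi
    haveI : Module.Finite (𝒟.B I) (𝒟.A I) := 𝒟.finiteBA i hi
    haveI : Module.Finite (𝒟.B I) (𝒟.M I) := Module.Finite.trans (𝒟.A I) (𝒟.M I)
    letI : Module (𝒟.B I) (𝒟'.M I) := Module.compHom _ (algebraMap (𝒟.B I) (𝒟'.B I))
    haveI : IsScalarTower (𝒟.B I) (𝒟'.B I) (𝒟'.M I) := IsScalarTower.of_algebraMap_smul fun _ _ => rfl
    haveI : IsScalarTower (𝒟.B I) (𝒟.A I) (𝒟'.M I) := IsScalarTower.of_algebraMap_smul fun b m => by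
      rw [← algebraMap_smul (𝒟'.A I) (algebraMap (𝒟.B I) (𝒟.A I) b) m, ← IsScalarTower.algebraMap_apply,
        IsScalarTower.algebraMap_apply (𝒟.B I) (𝒟'.B I) (𝒟'.A I), algebraMap_smul]
      rfl
    haveI : Algebra.IsPushout R (𝒟.B I) R' (𝒟'.B I) := Algebra.IsPushout.symm (iB I)
    haveI : IsScalarTower R (𝒟'.B I) (𝒟'.A I) := .of_algebraMap_eq fun r => by
      rw [IsScalarTower.algebraMap_apply R R' (𝒟'.B I), ← IsScalarTower.algebraMap_apply R' (𝒟'.B I) (𝒟'.A I),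
        ← IsScalarTower.algebraMap_apply R R' (𝒟'.A I)]
    haveI : Algebra.IsPushout (𝒟.B I) (𝒟'.B I) (𝒟.A I) (𝒟'.A I) :=
      ((Algebra.IsPushout.comp_iff R (𝒟.B I) R' (𝒟'.B I) (T := 𝒟.A I) (T' := 𝒟'.A I)).1 (Algebra.IsPushout.symm (iA I))).symm
    have hgB : IsBaseChange (𝒟'.B I) ((gM I).restrictScalars (𝒟.B I)) :=
      CompleteDevBC.isBaseChange_restrict (gM I) (hall I).2.2 _ fun _ => rfl
    exact localDim_bc (S := 𝒟.B I) (S' := 𝒟'.B I) p p' hκ (𝒟.M I) (𝒟'.M I) _ hgB (𝒜.qB i) (qB I) (𝒜.locDim i hi)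

end Groth.Agent.FlatMor68.CompleteDevAtBC
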