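import Groth.Agent.FlatMor68.Shrink

/-! Standard shrinkings of complete dévissages (S12246, S12247). -/

set_option autoImplicit false
set_option linter.unusedVariables false
set_option backward.isDefEq.respectTransparency.types false
set_option linter.style.haveILetI false

universe u

open TensorProduct CategoryTheory CategoryTheory.Limits AlgebraicGeometry

namespace Groth.Agent.FlatMor68.CompleteShrink

/-- `a` and `c` cut out the same standard open. -/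
def Eqv {A : Type u} [CommRing A] (a c : A) : Prop := ∃ m : ℕ, a ∣ c ^ m ∧ c ∣ a ^ m

theorem Eqv.refl {A : Type u} [CommRing A] (a : A) : Eqv a a := ⟨1, by simp, by simp⟩

theorem Eqv.mul {A : Type u} [CommRing A] {a c : A} (h : Eqv a c) (d : A) : Eqv (a * d) (c * d) := by
  obtain ⟨m, h1, h2⟩ := h
  refine ⟨m + 1, ?_, ?_⟩
  · exact (mul_dvd_mul h1 (dvd_pow_self d (Nat.succ_ne_zero m))).trans
      (by rw [mul_pow, pow_succ c]; exact mul_dvd_mul_right (dvd_mul_right _ _) _)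
  · exact (mul_dvd_mul h2 (dvd_pow_self d (Nat.succ_ne_zero m))).trans
      (by rw [mul_pow, pow_succ a]; exact mul_dvd_mul_right (dvd_mul_right _ _) _)

theorem away_of_eqv {A B : Type u} [CommRing A] [CommRing B] [Algebra A B] {a c : A} (h : Eqv a c)
    [IsLocalization.Away a B] : IsLocalization.Away c B := by
  obtain ⟨m, h1, h2⟩ := h
  haveI : IsLocalization (Submonoid.powers a ⊔ Submonoid.powers c) B := by
    refine IsLocalization.of_le_of_exists_dvd (Submonoid.powers a) _ le_sup_left fun x hx => ?_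
    obtain ⟨_, ⟨i, rfl⟩, _, ⟨j, rfl⟩, rfl⟩ := Submonoid.mem_sup.1 hx
    exact ⟨a ^ i * (a ^ m) ^ j, ⟨i + m * j, by simp only [pow_add, pow_mul]⟩, mul_dvd_mul dvd_rfl (pow_dvd_pow_of_dvd h2 j)⟩
  refine (IsLocalization.iff_of_le_of_exists_dvd (Submonoid.powers c) (Submonoid.powers a ⊔ Submonoid.powers c) le_sup_right fun x hx => ?_).2 ‹_›
  obtain ⟨_, ⟨i, rfl⟩, _, ⟨j, rfl⟩, rfl⟩ := Submonoid.mem_sup.1 hx
  exact ⟨(c ^ m) ^ i * c ^ j, ⟨m * i + j, by simp only [pow_add, pow_mul]⟩, mul_dvd_mul (pow_dvd_pow_of_dvd h1 i) dvd_rfl⟩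

/-- Compatible map out of a localization. -/
theorem exists_algHom_away {R R' B B' T : Type u} [CommRing R] [CommRing R'] [CommRing B] [CommRing B'] [CommRing T]
    [Algebra R R'] [Algebra R B] [Algebra R B'] [Algebra R' B'] [Algebra B B'] [IsScalarTower R R' B']
    [IsScalarTower R B B'] [Algebra R' T] [Algebra R T] [IsScalarTower R R' T]
    (g : R) [IsLocalization.Away g R'] (b : B) [IsLocalization.Away b B'] (f : B →ₐ[R] T) (hb : IsUnit (f b)) :
    ∃ φ : B' →ₐ[R'] T, ∀ x, φ (algebraMap B B' x) = f x := by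
  let φ : B' →+* T := IsLocalization.Away.lift b (g := f.toRingHom) hb
  have hφ : ∀ x, φ (algebraMap B B' x) = f x := fun x => IsLocalization.Away.lift_eq b hb x
  refine ⟨{ φ with commutes' := fun x => ?_ }, hφ⟩
  refine RingHom.congr_fun (IsLocalization.ringHom_ext (Submonoid.powers g) (j := φ.comp (algebraMap R' B'))
    (k := algebraMap R' T) (RingHom.ext fun r => ?_)) x
  rw [RingHom.comp_apply, RingHom.comp_apply, RingHom.comp_apply, ← IsScalarTower.algebraMap_apply R R' B',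
    IsScalarTower.algebraMap_apply R B B', hφ, AlgHom.commutes, ← IsScalarTower.algebraMap_apply]

theorem isPushout_away {S S' C C' : Type u} [CommRing S] [CommRing S'] [CommRing C] [CommRing C']
    [Algebra S S'] [Algebra S C] [Algebra S C'] [Algebra S' C'] [Algebra C C'] [IsScalarTower S S' C']
    [IsScalarTower S C C'] (x : S) [IsLocalization.Away x S'] (hC : IsLocalization.Away (algebraMap S C x) C') :
    Algebra.IsPushout S S' C C' := by
  haveI : IsLocalization (Algebra.algebraMapSubmonoid C (Submonoid.powers x)) C' := by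
    rw [Algebra.algebraMapSubmonoid_powers]; exact hC
  exact ((Algebra.isLocalization_iff_isPushout (T := C) (B := C') (Submonoid.powers x) S').1 inferInstance).symm

theorem eq_of_comap {C C' : Type u} [CommRing C] [CommRing C'] [Algebra C C'] (x : C) [IsLocalization.Away x C']
    (P Q : Ideal C') (h : P.comap (algebraMap C C') = Q.comap (algebraMap C C')) : P = Q := by
  rw [← IsLocalization.map_under (Submonoid.powers x) C' P, ← IsLocalization.map_under (Submonoid.powers x) C' Q]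
  exact congrArg (Ideal.map (algebraMap C C')) h

/-- The elements cutting out the shrinking. -/
structure Cut {R S : Type u} [CommRing R] [CommRing S] [Algebra R S] {N : Type u} [AddCommGroup N] [Module S N]
    {p : Ideal R} [p.IsPrime] {q : Ideal S} [q.IsPrime] (D : FlatCA.CompleteDevissage R S N p)
    (𝒜 : FlatCA.CompleteDevissageAt R S N p q D) where
  c : ∀ i, D.B i
  s : S
  hc : ∀ i, i < D.n → c i ∉ 𝒜.qB i
  e0 : Eqv (algebraMap S (D.A 0) s) (algebraMap (D.B 0) (D.A 0) (c 0))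
  e : ∀ i, i + 1 < D.n → Eqv (algebraMap (D.B i) (D.A (i + 1)) (c i)) (algebraMap (D.B (i + 1)) (D.A (i + 1)) (c (i + 1)))

section pk

variable {R S : Type u} [CommRing R] [CommRing S] [Algebra R S] {N : Type u} [AddCommGroup N] [Module S N]
  {p : Ideal R} [p.IsPrime] (D : FlatCA.CompleteDevissage R S N p)
  (R' : Type u) [CommRing R'] [Algebra R R'] (p' : Ideal R') [p'.IsPrime] (b : ∀ i, D.B i)
  (Bl : Type u) [CommRing Bl] [Algebra R' Bl]

/-- Step `i` of the shrunk dévissage. -/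
structure Good (i : ℕ) (B A M : Type u) [CommRing B] [CommRing A] [Algebra R' B] [Algebra R' A] [Algebra B A]
    [AddCommGroup M] [Module A M] where
  [rB : Algebra R B]
  [tRB : IsScalarTower R R' B]
  [aB : Algebra (D.B i) B]
  [tB : IsScalarTower R (D.B i) B]
  [rA : Algebra R A]
  [tRA : IsScalarTower R R' A]
  [aA : Algebra (D.A i) A]
  [tA : IsScalarTower R (D.A i) A]
  [mA : Module (D.A i) M]
  [tM : IsScalarTower (D.A i) A M]
  lB : IsLocalization.Away (b i) B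
  lA : IsLocalization.Away (algebraMap (D.B i) (D.A i) (b i)) A
  compat : ∀ x : D.B i, algebraMap B A (algebraMap (D.B i) B x) = algebraMap (D.A i) A (algebraMap (D.B i) (D.A i) x)
  g : D.M i →ₗ[D.A i] M
  hl : IsLocalizedModule (Submonoid.powers (algebraMap (D.B i) (D.A i) (b i))) g

structure Pk (i : ℕ) : Type (u + 1) where
  B : Type u
  A : Type u
  M : Type u
  [cB : CommRing B] [cA : CommRing A] [aRB : Algebra R' B] [aRA : Algebra R' A] [aBA : Algebra B A]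
  [tBA : IsScalarTower R' B A] [gM : AddCommGroup M] [mAM : Module A M]
  [hp : (p'.map (algebraMap R' B)).IsPrime]
  good : i < D.n → Good D R' b i B A M
  bad : D.n ≤ i → Nonempty (Bl →ₐ[R'] A) ∧
    ∃ (Q : Ideal B) (P : Ideal A), Q.IsPrime ∧ P.IsPrime ∧ Q.LiesOver p' ∧ P.LiesOver Q
  toBl : D.n ≤ i + 1 → Nonempty (B →ₐ[R'] Bl)

attribute [instance] Pk.cB Pk.cA Pk.aRB Pk.aRA Pk.aBA Pk.tBA Pk.gM Pk.mAM Pk.hp

end pk

open FlatMor in
set_option maxHeartbeats 4000000 in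
theorem core (R S : Type u) [CommRing R] [CommRing S] [Algebra R S]
    (N : Type u) [AddCommGroup N] [Module S N] [Module.Finite S N]
    (p : Ideal R) [p.IsPrime] (q : Ideal S) [q.IsPrime] (𝒟 : FlatCA.CompleteDevissage R S N p)
    (𝒜 : FlatCA.CompleteDevissageAt R S N p q 𝒟) (κ : Cut 𝒟 𝒜) :
    ∃ (g : R) (hX : S), g ∉ p ∧ hX ∉ q ∧ κ.s ∣ hX ∧
      ∃ (_ : Algebra (Localization.Away g) (Localization.Away hX)) (_ : IsScalarTower R (Localization.Away g) (Localization.Away hX))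
        (_ : Module (Localization.Away g) (LocalizedModule (Submonoid.powers hX) N)) (_ : IsScalarTower (Localization.Away g) (Localization.Away hX) (LocalizedModule (Submonoid.powers hX) N))
        (_ : (Ideal.map (algebraMap R (Localization.Away g)) p).IsPrime) (_ : (Ideal.map (algebraMap S (Localization.Away hX)) q).IsPrime)
        (𝒟' : FlatCA.CompleteDevissage (Localization.Away g) (Localization.Away hX) (LocalizedModule (Submonoid.powers hX) N) (Ideal.map (algebraMap R (Localization.Away g)) p))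
        (𝒜' : FlatCA.CompleteDevissageAt (Localization.Away g) (Localization.Away hX) (LocalizedModule (Submonoid.powers hX) N) (Ideal.map (algebraMap R (Localization.Away g)) p) (Ideal.map (algebraMap S (Localization.Away hX)) q) 𝒟')
        (a : ∀ i : Fin 𝒟.n, 𝒟.A i) (b : ∀ i : Fin 𝒟.n, 𝒟.B i)
      (aA : ∀ i : Fin 𝒟.n, Algebra (𝒟.A i) (𝒟'.A i)) (rA : ∀ i : Fin 𝒟.n, Algebra R (𝒟'.A i))
      (_t1 : ∀ i : Fin 𝒟.n, IsScalarTower R (Localization.Away g) (𝒟'.A i)) (_t2 : ∀ i : Fin 𝒟.n, IsScalarTower R (𝒟.A i) (𝒟'.A i))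
      (aB : ∀ i : Fin 𝒟.n, Algebra (𝒟.B i) (𝒟'.B i)) (rB : ∀ i : Fin 𝒟.n, Algebra R (𝒟'.B i))
      (_t3 : ∀ i : Fin 𝒟.n, IsScalarTower R (Localization.Away g) (𝒟'.B i)) (_t4 : ∀ i : Fin 𝒟.n, IsScalarTower R (𝒟.B i) (𝒟'.B i))
      (bA : ∀ i : Fin 𝒟.n, Algebra (𝒟.B i) (𝒟'.A i)) (_t5 : ∀ i : Fin 𝒟.n, IsScalarTower (𝒟.B i) (𝒟.A i) (𝒟'.A i))
      (_t6 : ∀ i : Fin 𝒟.n, IsScalarTower (𝒟.B i) (𝒟'.B i) (𝒟'.A i))
      (bA' : ∀ i : Fin 𝒟.n, Algebra (𝒟.B i) (𝒟'.A (i + 1)))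
      (_t7 : ∀ i : Fin 𝒟.n, IsScalarTower (𝒟.B i) (𝒟'.B i) (𝒟'.A (i + 1)))
      (sA : Algebra S (𝒟'.A 0)) (_t8 : IsScalarTower S (Localization.Away hX) (𝒟'.A 0))
      (mA : ∀ i : Fin 𝒟.n, Module (𝒟.A i) (𝒟'.M i)) (_t9 : ∀ i : Fin 𝒟.n, IsScalarTower (𝒟.A i) (𝒟'.A i) (𝒟'.M i))
      (gM : ∀ i : Fin 𝒟.n, 𝒟.M i →ₗ[𝒟.A i] 𝒟'.M i),
        𝒟'.n = 𝒟.n ∧ 𝒟'.r = 𝒟.r ∧ 𝒜'.d = 𝒜.d ∧
        (letI := aA ⟨0, 𝒟.pos⟩; IsScalarTower S (𝒟.A 0) (𝒟'.A 0)) ∧
      (∀ x : N, 𝒟'.isoN (LocalizedModule.mkLinearMap (Submonoid.powers hX) N x) = gM ⟨0, 𝒟.pos⟩ (𝒟.isoN x)) ∧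
      (∀ (i : Fin 𝒟.n) (h : (i : ℕ) + 1 < 𝒟.n),
        letI := aA ⟨i + 1, h⟩; IsScalarTower (𝒟.B i) (𝒟.A (i + 1)) (𝒟'.A (i + 1))) ∧
        (∀ i : Fin 𝒟.n, b i = κ.c i * algebraMap R (𝒟.B i) g) ∧
        ∀ i : Fin 𝒟.n,
          a i ∉ 𝒜.qA i ∧ b i ∉ 𝒜.qB i ∧
          IsLocalization.Away (a i) (𝒟'.A i) ∧ IsLocalization.Away (b i) (𝒟'.B i) ∧
          IsLocalizedModule (Submonoid.powers (a i)) (gM i) ∧
          (𝒜'.qA i).LiesOver (𝒜.qA i) ∧ (𝒜'.qB i).LiesOver (𝒜.qB i) ∧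
          LinearMap.range (𝒟'.α i) =
            Submodule.span (𝒟'.B i) ((gM i) '' (LinearMap.range (𝒟.α i) : Set (𝒟.M i))) := by
  haveI := fun i => 𝒜.hqB i
  haveI := fun i => 𝒜.hqA i
  haveI := fun i => 𝒜.overB i
  haveI := fun i => 𝒜.overA i
  have hzy : ∀ i (x : 𝒟.B i), algebraMap (𝒟.B i) (𝒟.A i) x ∈ 𝒜.qA i ↔ x ∈ 𝒜.qB i := fun i x => by
    rw [(𝒜.qA i).over_def (𝒜.qB i)]; rfl
  obtain ⟨g, hgp, hcov⟩ : ∃ g ∉ p, ∀ i, i < 𝒟.n → (PrimeSpectrum.basicOpen g : Set (PrimeSpectrum R)) ⊆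
      PrimeSpectrum.comap (algebraMap R (𝒟.B i)) '' (PrimeSpectrum.basicOpen (κ.c i) : Set (PrimeSpectrum (𝒟.B i))) := by
    have ho : IsOpen (⋂ i : Fin 𝒟.n, PrimeSpectrum.comap (algebraMap R (𝒟.B i)) '' (PrimeSpectrum.basicOpen (κ.c i) : Set (PrimeSpectrum (𝒟.B i)))) :=
      isOpen_iInter_of_finite fun i => by
        haveI := 𝒟.smooth i i.2
        exact PrimeSpectrum.isOpenMap_comap_of_hasGoingDown_of_finitePresentation _ (PrimeSpectrum.basicOpen (κ.c i)).2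
    obtain ⟨_, ⟨g, rfl⟩, hgp, hsub⟩ := PrimeSpectrum.isTopologicalBasis_basic_opens.exists_subset_of_mem_open
      (show (⟨p, ‹_›⟩ : PrimeSpectrum R) ∈ ⋂ i : Fin 𝒟.n, PrimeSpectrum.comap (algebraMap R (𝒟.B i)) '' (PrimeSpectrum.basicOpen (κ.c i) : Set (PrimeSpectrum (𝒟.B i)))
        from Set.mem_iInter.2 fun i => ⟨⟨𝒜.qB i, 𝒜.hqB i⟩, κ.hc i i.2, PrimeSpectrum.ext ((𝒜.qB i).over_def p).symm⟩) ho
    exact ⟨g, hgp, fun i hi => hsub.trans (Set.iInter_subset_of_subset (⟨i, hi⟩ : Fin 𝒟.n) Set.Subset.rfl)⟩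
  have hgB : ∀ i, algebraMap R (𝒟.B i) g ∉ 𝒜.qB i := fun i hm => hgp ((SetLike.ext_iff.1 ((𝒜.qB i).over_def p) g).2 hm)
  let b : ∀ i, 𝒟.B i := fun i => κ.c i * algebraMap R (𝒟.B i) g
  have hbq : ∀ i, i < 𝒟.n → b i ∉ 𝒜.qB i := fun i hi hm => ((𝒜.hqB i).mem_or_mem hm).elim (κ.hc i hi) (hgB i)
  let a : ∀ i, 𝒟.A i := fun i => algebraMap (𝒟.B i) (𝒟.A i) (b i)
  have haq : ∀ i, i < 𝒟.n → a i ∉ 𝒜.qA i := fun i hi hm => hbq i hi ((hzy i _).1 hm)
  have hgb : ∀ i, algebraMap R (𝒟.B i) g ∣ b i := fun i => Dvd.intro_left _ rfl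
  let hX := κ.s * algebraMap R S g
  have he0 : Eqv (algebraMap S (𝒟.A 0) hX) (a 0) := by
    have := κ.e0.mul (algebraMap R (𝒟.A 0) g)
    rwa [IsScalarTower.algebraMap_apply R S (𝒟.A 0) g, ← map_mul, ← IsScalarTower.algebraMap_apply R S (𝒟.A 0) g,
      IsScalarTower.algebraMap_apply R (𝒟.B 0) (𝒟.A 0) g, ← map_mul] at this
  have he : ∀ i, i + 1 < 𝒟.n → Eqv (algebraMap (𝒟.B i) (𝒟.A (i + 1)) (b i)) (a (i + 1)) := fun i h => by
    have := (κ.e i h).mul (algebraMap R (𝒟.A (i + 1)) g)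
    rwa [IsScalarTower.algebraMap_apply R (𝒟.B i) (𝒟.A (i + 1)) g, ← map_mul,
      ← IsScalarTower.algebraMap_apply R (𝒟.B i) (𝒟.A (i + 1)) g,
      IsScalarTower.algebraMap_apply R (𝒟.B (i + 1)) (𝒟.A (i + 1)) g, ← map_mul] at this
  have hq0 : ∀ x : S, algebraMap S (𝒟.A 0) x ∈ 𝒜.qA 0 ↔ x ∈ q := fun x => (SetLike.ext_iff.1 𝒜.q0 x)
  have hXq : hX ∉ q := fun hm => haq 0 𝒟.pos (by
    obtain ⟨m, h1, -⟩ := he0
    obtain ⟨t, ht⟩ := h1
    refine (𝒜.hqA 0).mem_of_pow_mem m ?_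
    rw [ht]; exact Ideal.mul_mem_right _ _ ((hq0 _).2 hm))
  obtain ⟨hpp, hpc⟩ := Shrink.isPrime_map_away (Localization.Away g) g p hgp
  obtain ⟨hqp, hqc⟩ := Shrink.isPrime_map_away (Localization.Away hX) hX q hXq
  haveI := hpp; haveI := hqp
  let R' := Localization.Away g
  let p' := p.map (algebraMap R R')
  haveI op : p'.LiesOver p := ⟨hpc.symm⟩
  letI iRS : Algebra R' (Localization.Away hX) :=
    (IsLocalization.Away.lift g (g := algebraMap R (Localization.Away hX))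
      (isUnit_of_dvd_unit (IsScalarTower.algebraMap_apply R S (Localization.Away hX) g ▸ map_dvd _ (Dvd.intro_left _ rfl : algebraMap R S g ∣ hX))
        (IsLocalization.Away.algebraMap_isUnit hX))).toAlgebra
  haveI tRS : IsScalarTower R R' (Localization.Away hX) :=
    .of_algebraMap_eq fun r => (IsLocalization.Away.lift_eq g _ r).symm
  letI iRB : ∀ i, Algebra R' (Localization.Away (b i)) := fun i =>
    (IsLocalization.Away.lift g (g := algebraMap R (Localization.Away (b i)))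
      (isUnit_of_dvd_unit (IsScalarTower.algebraMap_apply R (𝒟.B i) (Localization.Away (b i)) g ▸ map_dvd _ (hgb i))
        (IsLocalization.Away.algebraMap_isUnit _))).toAlgebra
  haveI tRB : ∀ i, IsScalarTower R R' (Localization.Away (b i)) := fun i =>
    .of_algebraMap_eq fun r => (IsLocalization.Away.lift_eq g _ r).symm
  have hpB : ∀ i, i < 𝒟.n → (p'.map (algebraMap R' (Localization.Away (b i)))).IsPrime ∧
      (p'.map (algebraMap R' (Localization.Away (b i)))).comap (algebraMap (𝒟.B i) (Localization.Away (b i))) = p.map (algebraMap R (𝒟.B i)) := fun i hi => by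
    rw [show p'.map (algebraMap R' (Localization.Away (b i))) = (p.map (algebraMap R (𝒟.B i))).map (algebraMap (𝒟.B i) (Localization.Away (b i))) by
      rw [Ideal.map_map, Ideal.map_map, ← IsScalarTower.algebraMap_eq, ← IsScalarTower.algebraMap_eq]]
    refine Shrink.isPrime_map_away _ (b i) _ fun hm => hbq i hi (?_)
    exact (Ideal.map_le_iff_le_comap.2 (le_of_eq ((𝒜.qB i).over_def p))) hm
  have hlast : 𝒟.n - 1 < 𝒟.n := Nat.sub_lt 𝒟.pos Nat.one_pos
  let Bl := Localization.Away (b (𝒟.n - 1))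
  have hP : ∀ i, Nonempty (Pk 𝒟 R' p' b Bl i) := by
    intro i
    by_cases h : i < 𝒟.n
    · letI iBA : Algebra (Localization.Away (b i)) (Localization.Away (a i)) :=
        (IsLocalization.Away.lift (b i) (g := algebraMap (𝒟.B i) (Localization.Away (a i)))
          (IsScalarTower.algebraMap_apply (𝒟.B i) (𝒟.A i) (Localization.Away (a i)) (b i) ▸ IsLocalization.Away.algebraMap_isUnit (a i))).toAlgebra
      haveI tBA : IsScalarTower (𝒟.B i) (Localization.Away (b i)) (Localization.Away (a i)) :=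
        .of_algebraMap_eq fun r => (IsLocalization.Away.lift_eq (b i) _ r).symm
      letI iRA : Algebra R' (Localization.Away (a i)) :=
        ((algebraMap (Localization.Away (b i)) (Localization.Away (a i))).comp (algebraMap R' (Localization.Away (b i)))).toAlgebra
      haveI : IsScalarTower R' (Localization.Away (b i)) (Localization.Away (a i)) := .of_algebraMap_eq fun _ => rfl
      haveI : IsScalarTower R R' (Localization.Away (a i)) := .of_algebraMap_eq fun r => by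
        show _ = algebraMap (Localization.Away (b i)) (Localization.Away (a i)) (algebraMap R' _ (algebraMap R R' r))
        rw [← IsScalarTower.algebraMap_apply R R', IsScalarTower.algebraMap_apply R (𝒟.B i) (Localization.Away (b i)),
          ← IsScalarTower.algebraMap_apply (𝒟.B i) (Localization.Away (b i)), ← IsScalarTower.algebraMap_apply R (𝒟.B i)]
      haveI := (hpB i h).1
      exact ⟨{
        B := Localization.Away (b i)
        A := Localization.Away (a i)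
        M := LocalizedModule (Submonoid.powers (a i)) (𝒟.M i)
        good := fun _ => {
          lB := inferInstance
          lA := inferInstanceAs (IsLocalization.Away (a i) (Localization.Away (a i)))
          compat := fun x => (by rw [← IsScalarTower.algebraMap_apply, ← IsScalarTower.algebraMap_apply])
          g := LocalizedModule.mkLinearMap (Submonoid.powers (a i)) (𝒟.M i)
          hl := inferInstanceAs (IsLocalizedModule (Submonoid.powers (a i)) _) }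
        bad := fun h' => absurd h (not_lt.2 h')
        toBl := fun h' => (by
          obtain rfl : i = 𝒟.n - 1 := by omega
          exact ⟨AlgHom.id _ _⟩) }⟩
    · haveI := (hpB _ hlast).1
      obtain ⟨hQ, hQc⟩ := Shrink.isPrime_map_away Bl (b (𝒟.n - 1)) (𝒜.qB (𝒟.n - 1)) (hbq _ hlast)
      refine ⟨{
        B := Bl
        A := Bl
        M := PUnit
        good := fun h' => absurd h' h
        bad := fun _ => ⟨⟨AlgHom.id _ _⟩, (𝒜.qB (𝒟.n - 1)).map (algebraMap _ Bl), (𝒜.qB (𝒟.n - 1)).map (algebraMap _ Bl), hQ, hQ, ⟨?_⟩, ⟨?_⟩⟩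
        toBl := fun _ => ⟨AlgHom.id _ _⟩ }⟩
      · apply eq_of_comap g
        rw [Ideal.under, Ideal.comap_comap, ← IsScalarTower.algebraMap_eq, IsScalarTower.algebraMap_eq R (𝒟.B (𝒟.n - 1)) Bl,
          ← Ideal.comap_comap, hQc, show p'.comap (algebraMap R R') = p from hpc]
        exact (𝒜.qB (𝒟.n - 1)).over_def p
      · simp [Ideal.under, Algebra.algebraMap_self]
  let P : ∀ i, Pk 𝒟 R' p' b Bl i := fun i => (hP i).some
  let G := fun (i : ℕ) (h : i < 𝒟.n) => (P i).good h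
  have hcross : ∀ i, ∃ φ : (P i).B →ₐ[R'] (P (i + 1)).A, ∀ (h₀ : i < 𝒟.n) (h : i + 1 < 𝒟.n) (x : 𝒟.B i),
      (letI := (G i h₀).aB; letI := (G (i + 1) h).aA
       φ (algebraMap (𝒟.B i) (P i).B x) = algebraMap (𝒟.A (i + 1)) (P (i + 1)).A (algebraMap (𝒟.B i) (𝒟.A (i + 1)) x)) := by
    intro i
    by_cases h : i + 1 < 𝒟.n
    · have h₀ := Nat.lt_of_succ_lt h
      letI := (G i h₀).rB; letI := (G i h₀).aB; haveI := (G i h₀).tRB; haveI := (G i h₀).tB; haveI := (G i h₀).lB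
      letI := (G (i + 1) h).rA; letI := (G (i + 1) h).aA; haveI := (G (i + 1) h).tRA; haveI := (G (i + 1) h).tA
      haveI : IsLocalization.Away (a (i + 1)) (P (i + 1)).A := (G (i + 1) h).lA
      haveI := away_of_eqv (B := (P (i + 1)).A) (he i h |> fun ⟨m, h1, h2⟩ => (⟨m, h2, h1⟩ : Eqv (a (i + 1)) _))
      obtain ⟨φ, hφ⟩ := exists_algHom_away (R' := R') (B' := (P i).B) g (b i)
        ((IsScalarTower.toAlgHom R (𝒟.A (i + 1)) (P (i + 1)).A).comp (IsScalarTower.toAlgHom R (𝒟.B i) (𝒟.A (i + 1))))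
        (IsLocalization.Away.algebraMap_isUnit (algebraMap (𝒟.B i) (𝒟.A (i + 1)) (b i)))
      exact ⟨φ, fun _ _ x => hφ x⟩
    · obtain ⟨⟨ψ⟩, -⟩ := (P (i + 1)).bad (not_lt.1 h)
      obtain ⟨χ⟩ := (P i).toBl (not_lt.1 h)
      exact ⟨ψ.comp χ, fun _ h' => absurd h' h⟩
  choose φ hφ using hcross
  letI irB : ∀ i : Fin 𝒟.n, Algebra R (P i).B := fun i => (G i i.2).rB
  letI irA : ∀ i : Fin 𝒟.n, Algebra R (P i).A := fun i => (G i i.2).rA
  letI iaB : ∀ i : Fin 𝒟.n, Algebra (𝒟.B i) (P i).B := fun i => (G i i.2).aB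
  letI iaA : ∀ i : Fin 𝒟.n, Algebra (𝒟.A i) (P i).A := fun i => (G i i.2).aA
  haveI itRB : ∀ i : Fin 𝒟.n, IsScalarTower R R' (P i).B := fun i => (G i i.2).tRB
  haveI itRA : ∀ i : Fin 𝒟.n, IsScalarTower R R' (P i).A := fun i => (G i i.2).tRA
  haveI itB : ∀ i : Fin 𝒟.n, IsScalarTower R (𝒟.B i) (P i).B := fun i => (G i i.2).tB
  haveI itA : ∀ i : Fin 𝒟.n, IsScalarTower R (𝒟.A i) (P i).A := fun i => (G i i.2).tA
  haveI ilB : ∀ i : Fin 𝒟.n, IsLocalization.Away (b i) (P i).B := fun i => (G i i.2).lB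
  haveI ilA : ∀ i : Fin 𝒟.n, IsLocalization.Away (a i) (P i).A := fun i => (G i i.2).lA
  letI imA : ∀ i : Fin 𝒟.n, Module (𝒟.A i) (P i).M := fun i => (G i i.2).mA
  haveI itM : ∀ i : Fin 𝒟.n, IsScalarTower (𝒟.A i) (P i).A (P i).M := fun i => (G i i.2).tM
  letI ibA : ∀ i : Fin 𝒟.n, Algebra (𝒟.B i) (P i).A := fun i =>
    ((algebraMap (𝒟.A i) (P i).A).comp (algebraMap (𝒟.B i) (𝒟.A i))).toAlgebra
  haveI it5 : ∀ i : Fin 𝒟.n, IsScalarTower (𝒟.B i) (𝒟.A i) (P i).A := fun i => .of_algebraMap_eq fun _ => rfl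
  haveI it6 : ∀ i : Fin 𝒟.n, IsScalarTower (𝒟.B i) (P i).B (P i).A := fun i =>
    .of_algebraMap_eq fun x => ((G i i.2).compat x).symm
  letI cBA' : ∀ i, Algebra (P i).B (P (i + 1)).A := fun i => (φ i).toRingHom.toAlgebra
  haveI ctBA' : ∀ i, IsScalarTower R' (P i).B (P (i + 1)).A := fun i => .of_algebraMap_eq fun r => ((φ i).commutes r).symm
  letI ibA' : ∀ i : Fin 𝒟.n, Algebra (𝒟.B i) (P (i + 1)).A := fun i =>
    ((φ i).toRingHom.comp (algebraMap (𝒟.B i) (P i).B)).toAlgebra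
  haveI it7 : ∀ i : Fin 𝒟.n, IsScalarTower (𝒟.B i) (P i).B (P (i + 1)).A := fun i => .of_algebraMap_eq fun _ => rfl
  let G0 := G 0 𝒟.pos
  letI := G0.rA; letI := G0.aA; haveI := G0.tRA; haveI := G0.tA; letI := G0.mA; haveI := G0.tM
  haveI : IsLocalization.Away (a 0) (P 0).A := G0.lA
  haveI hl0 : IsLocalization.Away (algebraMap S (𝒟.A 0) hX) (P 0).A :=
    away_of_eqv (he0 |> fun ⟨m, h1, h2⟩ => (⟨m, h2, h1⟩ : Eqv (a 0) _))
  letI sA : Algebra S (P 0).A := ((algebraMap (𝒟.A 0) (P 0).A).comp (algebraMap S (𝒟.A 0))).toAlgebra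
  haveI : IsScalarTower S (𝒟.A 0) (P 0).A := .of_algebraMap_eq fun _ => rfl
  obtain ⟨ψ, hψ⟩ := exists_algHom_away (R' := R') (B' := Localization.Away hX) g hX
    ((IsScalarTower.toAlgHom R (𝒟.A 0) (P 0).A).comp (IsScalarTower.toAlgHom R S (𝒟.A 0)))
    (IsLocalization.Away.algebraMap_isUnit (algebraMap S (𝒟.A 0) hX))
  letI s'A : Algebra (Localization.Away hX) (P 0).A := ψ.toRingHom.toAlgebra
  haveI : IsScalarTower R' (Localization.Away hX) (P 0).A := .of_algebraMap_eq fun r => (ψ.commutes r).symm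
  haveI it8 : IsScalarTower S (Localization.Away hX) (P 0).A := .of_algebraMap_eq fun s => (hψ s).symm
  haveI hS : Algebra.IsPushout S (Localization.Away hX) (𝒟.A 0) (P 0).A := isPushout_away hX hl0
  letI mS'0 : Module (Localization.Away hX) (P 0).M := Module.compHom _ (algebraMap (Localization.Away hX) (P 0).A)
  haveI : IsScalarTower (Localization.Away hX) (P 0).A (P 0).M := IsScalarTower.of_algebraMap_smul fun _ _ => rfl
  letI : Module S (P 0).M := Module.compHom _ (algebraMap S (Localization.Away hX))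
  haveI : IsScalarTower S (Localization.Away hX) (P 0).M := IsScalarTower.of_algebraMap_smul fun _ _ => rfl
  haveI : IsScalarTower S (P 0).A (P 0).M := IsScalarTower.of_algebraMap_smul fun s m => by
    show _ = algebraMap S (Localization.Away hX) s • m
    rw [← algebraMap_smul (P 0).A (algebraMap S (Localization.Away hX) s) m, ← IsScalarTower.algebraMap_apply]
  haveI : IsScalarTower S (𝒟.A 0) (P 0).M := IsScalarTower.of_algebraMap_smul fun s m => by
    rw [← algebraMap_smul (P 0).A (algebraMap S (𝒟.A 0) s) m, ← IsScalarTower.algebraMap_apply, algebraMap_smul]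
  haveI : IsLocalizedModule (Submonoid.powers (a 0)) G0.g := G0.hl
  let g0 : 𝒟.M 0 →ₗ[S] (P 0).M := G0.g.restrictScalars S
  have hg0 : IsBaseChange (Localization.Away hX) g0 :=
    CompleteDevBC.isBaseChange_restrict G0.g (IsLocalizedModule.isBaseChange (Submonoid.powers (a 0)) (P 0).A G0.g) g0 fun _ => rfl
  have hf : IsBaseChange (Localization.Away hX) (LocalizedModule.mkLinearMap (Submonoid.powers hX) N) :=
    IsLocalizedModule.isBaseChange (Submonoid.powers hX) _ _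
  let iso : LocalizedModule (Submonoid.powers hX) N ≃ₗ[Localization.Away hX] (P 0).M :=
    hf.equiv.symm.trans ((LinearEquiv.baseChange S (Localization.Away hX) N (𝒟.M 0) 𝒟.isoN).trans hg0.equiv)
  have hiso : ∀ x, iso (LocalizedModule.mkLinearMap (Submonoid.powers hX) N x) = G0.g (𝒟.isoN x) := fun x => by
    show hg0.equiv (LinearEquiv.baseChange S (Localization.Away hX) N (𝒟.M 0) 𝒟.isoN (hf.equiv.symm _)) = _
    rw [hf.equiv_symm_apply]
    simp [LinearEquiv.baseChange, IsBaseChange.equiv_tmul, g0]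
  letI mBM : ∀ i, Module (P i).B (P i).M := fun i => Module.compHom _ (algebraMap (P i).B (P i).A)
  haveI tBAM : ∀ i, IsScalarTower (P i).B (P i).A (P i).M := fun i => IsScalarTower.of_algebraMap_smul fun _ _ => rfl
  letI mRM : ∀ i, Module R' (P i).M := fun i => Module.compHom _ (algebraMap R' (P i).B)
  haveI tRBM : ∀ i, IsScalarTower R' (P i).B (P i).M := fun i => IsScalarTower.of_algebraMap_smul fun _ _ => rfl
  letI mB'M : ∀ i, Module (P i).B (P (i + 1)).M := fun i => Module.compHom _ (algebraMap (P i).B (P (i + 1)).A)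
  haveI tB'AM : ∀ i, IsScalarTower (P i).B (P (i + 1)).A (P (i + 1)).M := fun i => IsScalarTower.of_algebraMap_smul fun _ _ => rfl
  let α : ∀ i, (Fin (𝒟.r i) → (P i).B) →ₗ[(P i).B] (P i).M := fun i =>
    Fintype.linearCombination (P i).B fun j => if h : i < 𝒟.n then (G i h).g (𝒟.α i (Pi.single j 1)) else 0
  letI iBM : ∀ i : Fin 𝒟.n, Module (𝒟.B i) (P i).M := fun i => Module.compHom _ (algebraMap (𝒟.B i) (P i).B)
  haveI itBM : ∀ i : Fin 𝒟.n, IsScalarTower (𝒟.B i) (P i).B (P i).M := fun i => IsScalarTower.of_algebraMap_smul fun _ _ => rfl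
  haveI itBAM : ∀ i : Fin 𝒟.n, IsScalarTower (𝒟.B i) (𝒟.A i) (P i).M := fun i => IsScalarTower.of_algebraMap_smul fun x m => by
    rw [← algebraMap_smul (P i).A (algebraMap (𝒟.B i) (𝒟.A i) x) m, ← (G i i.2).compat x, algebraMap_smul]
    rfl
  have poBA : ∀ i : Fin 𝒟.n, Algebra.IsPushout (𝒟.B i) (P i).B (𝒟.A i) (P i).A := fun i => isPushout_away (b i) (ilA i)
  have hgM : ∀ i : Fin 𝒟.n, IsBaseChange (P i).A (G i i.2).g := fun i => by
    haveI : IsLocalizedModule (Submonoid.powers (a i)) (G i i.2).g := (G i i.2).hl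
    exact IsLocalizedModule.isBaseChange (Submonoid.powers (a i)) _ _
  have hgB' : ∀ i : Fin 𝒟.n, IsBaseChange (P i).B ((G i i.2).g.restrictScalars (𝒟.B i)) := fun i => by
    haveI := poBA i
    exact CompleteDevBC.isBaseChange_restrict (G i i.2).g (hgM i) _ fun _ => rfl
  have hrange : ∀ i : Fin 𝒟.n, LinearMap.range (α i) =
      Submodule.span (P i).B ((G i i.2).g '' (LinearMap.range (𝒟.α i) : Set (𝒟.M i))) := fun i => by
    simp only [α, dif_pos i.2]
    exact DevissageStep.range_linearCombination (𝒟.α i) ((G i i.2).g.restrictScalars (𝒟.B i))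
  have hnext : ∀ (i : Fin 𝒟.n) (h : (i : ℕ) + 1 < 𝒟.n),
      letI := (G (i + 1) h).aA
      IsScalarTower (𝒟.B i) (𝒟.A (i + 1)) (P (i + 1)).A := fun i h => by
    letI := (G (i + 1) h).aA
    exact .of_algebraMap_eq fun x => hφ i i.2 h x
  have poBA' : ∀ (i : Fin 𝒟.n) (h : (i : ℕ) + 1 < 𝒟.n),
      letI := (G (i + 1) h).aA
      haveI := hnext i h
      Algebra.IsPushout (𝒟.B i) (P i).B (𝒟.A (i + 1)) (P (i + 1)).A := fun i h => by
    letI := (G (i + 1) h).aA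
    haveI := hnext i h
    haveI : IsLocalization.Away (a (i + 1)) (P (i + 1)).A := (G (i + 1) h).lA
    exact isPushout_away (b i) (away_of_eqv (he i h |> fun ⟨m, h1, h2⟩ => (⟨m, h2, h1⟩ : Eqv (a (i + 1)) _)))
  let 𝒟' : FlatCA.CompleteDevissage R' (Localization.Away hX) (LocalizedModule (Submonoid.powers hX) N) p' :=
  { n := 𝒟.n
    pos := 𝒟.pos
    A := fun i => (P i).A
    B := fun i => (P i).B
    M := fun i => (P i).M
    r := 𝒟.r
    α := α
    surjSA := CompleteDevBC.surjective_pushout (S := S) (C := 𝒟.A 0) 𝒟.surjSA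
    fpSA := by
      haveI := 𝒟.fpSA
      exact Algebra.FinitePresentation.equiv (Algebra.IsPushout.equiv S (Localization.Away hX) (𝒟.A 0) (P 0).A)
    surjBA' := fun i h => by
      have hi : i < 𝒟.n := Nat.lt_of_succ_lt h
      letI := (G (i + 1) h).aA
      haveI := hnext ⟨i, hi⟩ h
      haveI := poBA' ⟨i, hi⟩ h
      exact CompleteDevBC.surjective_pushout (S := 𝒟.B (⟨i, hi⟩ : Fin 𝒟.n)) (C := 𝒟.A (i + 1)) (𝒟.surjBA' i h)
    fpBA' := fun i h => by
      have hi : i < 𝒟.n := Nat.lt_of_succ_lt h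
      letI := (G (i + 1) h).aA
      haveI := hnext ⟨i, hi⟩ h
      haveI := poBA' ⟨i, hi⟩ h
      haveI := 𝒟.fpBA' i h
      exact Algebra.FinitePresentation.equiv (Algebra.IsPushout.equiv (𝒟.B (⟨i, hi⟩ : Fin 𝒟.n)) (P i).B (𝒟.A (i + 1)) (P (i + 1)).A)
    finiteBA := fun i hi => by
      haveI := poBA ⟨i, hi⟩
      haveI := 𝒟.finiteBA i hi
      exact Module.Finite.equiv (Algebra.IsPushout.equiv (𝒟.B (⟨i, hi⟩ : Fin 𝒟.n)) (P i).B (𝒟.A (⟨i, hi⟩ : Fin 𝒟.n)) (P i).A).toLinearEquiv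
    smooth := fun i hi => by
      let I : Fin 𝒟.n := ⟨i, hi⟩
      haveI : Algebra.Smooth R (𝒟.B I) := 𝒟.smooth i hi
      haveI : Algebra.Smooth (𝒟.B I) (P I).B := Algebra.Smooth.of_isLocalization_Away (b I)
      haveI : Algebra.Smooth R (P I).B := Algebra.Smooth.comp R (𝒟.B I) (P I).B
      exact (⟨Algebra.FormallySmooth.localization_base (M := Submonoid.powers g) (R := R), Algebra.FinitePresentation.of_restrict_scalars_finitePresentation R R' (P I).B⟩ : Algebra.Smooth R' (P I).B)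
    geomIrred := fun i hi => by
      let I : Fin 𝒟.n := ⟨i, hi⟩
      haveI : IsLocalization.Away (κ.c I * algebraMap R (𝒟.B I) g) (P I).B := ilB I
      exact (Shrink.smooth_geomIrred (R' := R') (D' := (P I).B) g (κ.c I) (𝒟.geomIrred i hi) (hcov i hi)).1
    finiteM := fun i hi => by
      let I : Fin 𝒟.n := ⟨i, hi⟩
      haveI : Module.Finite (𝒟.A I) (𝒟.M I) := 𝒟.finiteM i hi
      exact (Module.Finite.equiv (hgM I).equiv : Module.Finite (P I).A (P I).M)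
    isoN := iso
    isoCoker := fun i h => by
      have hi : i < 𝒟.n := Nat.lt_of_succ_lt h
      let I : Fin 𝒟.n := ⟨i, hi⟩
      letI := (G (i + 1) h).aA; letI := (G (i + 1) h).mA; haveI := (G (i + 1) h).tM
      haveI := hnext I h
      haveI := poBA' I h
      haveI : IsLocalizedModule (Submonoid.powers (a (i + 1))) (G (i + 1) h).g := (G (i + 1) h).hl
      haveI : IsLocalization.Away (a (i + 1)) (P (i + 1)).A := (G (i + 1) h).lA
      letI : Module (𝒟.B I) (P (i + 1)).M := Module.compHom _ (algebraMap (𝒟.B I) (P i).B)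
      haveI : IsScalarTower (𝒟.B I) (P i).B (P (i + 1)).M := IsScalarTower.of_algebraMap_smul fun _ _ => rfl
      haveI : IsScalarTower (𝒟.B I) (𝒟.A (i + 1)) (P (i + 1)).M := IsScalarTower.of_algebraMap_smul fun x m => by
        rw [← algebraMap_smul (P (i + 1)).A (algebraMap (𝒟.B I) (𝒟.A (i + 1)) x) m, ← IsScalarTower.algebraMap_apply]
        rfl
      have h1 := CompleteDevBC.isBaseChange_restrict (S := 𝒟.B I) (S' := (P i).B) (G (i + 1) h).g
        (IsLocalizedModule.isBaseChange (Submonoid.powers (a (i + 1))) (P (i + 1)).A _)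
        ((G (i + 1) h).g.restrictScalars (𝒟.B I)) fun _ => rfl
      exact (Submodule.quotEquivOfEq _ _ (hrange I)).trans
        (DevissageStep.nonempty_quotient_equiv (LinearMap.range (𝒟.α I)) (𝒟.isoCoker i h) _ (hgB' I) _ h1).some
    fibreIso := fun i hi => by
      let I : Fin 𝒟.n := ⟨i, hi⟩
      haveI : (p.map (algebraMap R (𝒟.B I))).IsPrime := 𝒟.hp i
      have hc : (p'.map (algebraMap R' (P I).B)).comap (algebraMap (𝒟.B I) (P I).B) = p.map (algebraMap R (𝒟.B I)) := by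
        rw [show p'.map (algebraMap R' (P I).B) = (p.map (algebraMap R (𝒟.B I))).map (algebraMap (𝒟.B I) (P I).B) by
          rw [Ideal.map_map, Ideal.map_map, ← IsScalarTower.algebraMap_eq, ← IsScalarTower.algebraMap_eq]]
        refine (Shrink.isPrime_map_away _ (b I) _ fun hm => hbq i hi ?_).2
        exact (Ideal.map_le_iff_le_comap.2 (le_of_eq ((𝒜.qB i).over_def p))) hm
      have := DevissageStep.bijective_baseChange (B := 𝒟.B I) (B' := (P I).B) (𝒟.α I) ((G I I.2).g.restrictScalars (𝒟.B I)) (hgB' I)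
        (p.map (algebraMap R (𝒟.B I))) (p'.map (algebraMap R' (P I).B)) hc (𝒟.fibreIso i hi)
      have e : α I = Fintype.linearCombination (P I).B fun j => ((G I I.2).g.restrictScalars (𝒟.B I)) (𝒟.α I (Pi.single j 1)) := by
        simp only [α, dif_pos I.2]; rfl
      rw [← e] at this
      exact this
    cokerLast := by
      rw [← LinearMap.range_eq_top]
      refine (hrange ⟨_, hlast⟩).trans (eq_top_iff.2 fun m _ => ?_)
      obtain ⟨t, rfl⟩ := (hgB' ⟨_, hlast⟩).equiv.surjective m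
      induction t with
      | zero => simp
      | add a b ha hb => rw [map_add]; exact Submodule.add_mem _ (ha trivial) (hb trivial)
      | tmul c x =>
        rw [IsBaseChange.equiv_tmul]
        exact Submodule.smul_mem _ _ (Submodule.subset_span ⟨x, 𝒟.cokerLast x, rfl⟩) }
  have hQ : ∀ i, ∃ (Q : Ideal (P i).B) (P' : Ideal (P i).A), Q.IsPrime ∧ P'.IsPrime ∧ Q.LiesOver p' ∧ P'.LiesOver Q ∧
      ∀ h : i < 𝒟.n, (letI := iaB ⟨i, h⟩; Q.LiesOver (𝒜.qB i)) ∧ (letI := iaA ⟨i, h⟩; P'.LiesOver (𝒜.qA i)) := by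
    intro i
    by_cases h : i < 𝒟.n
    · let I : Fin 𝒟.n := ⟨i, h⟩
      obtain ⟨h1, h2⟩ := Shrink.isPrime_map_away (P I).B (b I) (𝒜.qB I) (hbq i h)
      obtain ⟨h3, h4⟩ := Shrink.isPrime_map_away (P I).A (a I) (𝒜.qA I) (haq i h)
      refine ⟨(𝒜.qB I).map (algebraMap (𝒟.B I) (P I).B), (𝒜.qA I).map (algebraMap (𝒟.A I) (P I).A), h1, h3, ⟨?_⟩, ⟨?_⟩,
        fun _ => ⟨(⟨h2.symm⟩ : ((𝒜.qB I).map (algebraMap (𝒟.B I) (P I).B)).LiesOver (𝒜.qB I)),
          (⟨h4.symm⟩ : ((𝒜.qA I).map (algebraMap (𝒟.A I) (P I).A)).LiesOver (𝒜.qA I))⟩⟩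
      · apply eq_of_comap g
        show p'.comap (algebraMap R R') = (((𝒜.qB I).map _).comap (algebraMap R' (P I).B)).comap _
        rw [Ideal.comap_comap, ← IsScalarTower.algebraMap_eq, IsScalarTower.algebraMap_eq R (𝒟.B I) (P I).B,
          ← Ideal.comap_comap, h2, show p'.comap (algebraMap R R') = p from hpc]
        exact (𝒜.qB I).over_def p
      · apply eq_of_comap (b I)
        show ((𝒜.qB I).map _).comap _ = (((𝒜.qA I).map _).comap (algebraMap (P I).B (P I).A)).comap _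
        rw [h2, Ideal.comap_comap, ← IsScalarTower.algebraMap_eq, IsScalarTower.algebraMap_eq (𝒟.B I) (𝒟.A I) (P I).A,
          ← Ideal.comap_comap, h4]
        exact (𝒜.qA I).over_def (𝒜.qB I)
    · obtain ⟨-, Q, P', h1, h2, h3, h4⟩ := (P i).bad (not_lt.1 h)
      exact ⟨Q, P', h1, h2, h3, h4, fun h' => absurd h' h⟩
  choose qB qA hqB hqA hoB hoA hov using hQ
  haveI := hqB; haveI := hqA; haveI := hoB; haveI := hoA
  haveI ovB : ∀ i : Fin 𝒟.n, (qB i).LiesOver (𝒜.qB i) := fun i => (hov i i.2).1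
  haveI ovA : ∀ i : Fin 𝒟.n, (qA i).LiesOver (𝒜.qA i) := fun i => (hov i i.2).2
  let 𝒜' : FlatCA.CompleteDevissageAt R' (Localization.Away hX) (LocalizedModule (Submonoid.powers hX) N) p'
      (q.map (algebraMap S (Localization.Away hX))) 𝒟' :=
  { qB := qB
    qA := qA
    hqB := hqB
    hqA := hqA
    overB := hoB
    overA := hoA
    d := 𝒜.d
    pureTrans := fun i hi => by
      let I : Fin 𝒟.n := ⟨i, hi⟩
      exact Shrink.purelyTranscendental_of_surjective (D := 𝒟.B I) (D' := (P I).B) p p' (Shrink.surjective_residue_of_loc g p p')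
        (𝒜.qB I) (qB I) (Shrink.surjective_residue_of_loc (b I) (𝒜.qB I) (qB I)).2 (𝒜.pureTrans I hi)
    uniq := fun i hi Q _ hQ => by
      let I : Fin 𝒟.n := ⟨i, hi⟩
      refine eq_of_comap (a I) (C := 𝒟.A I) (C' := (P I).A) Q (qA I) ?_
      refine (𝒜.uniq I hi (Q.comap (algebraMap (𝒟.A I) (P I).A)) ⟨?_⟩).trans ((qA I).over_def (𝒜.qA I))
      rw [Ideal.under, Ideal.comap_comap, ← IsScalarTower.algebraMap_eq, IsScalarTower.algebraMap_eq (𝒟.B I) (P I).B (P I).A,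
        ← Ideal.comap_comap, (show Q.comap (algebraMap (P I).B (P I).A) = qB I from hQ.over.symm)]
      exact (qB I).over_def (𝒜.qB I)
    q0 := by
      let O : Fin 𝒟.n := ⟨0, 𝒟.pos⟩
      refine eq_of_comap hX (C := S) _ _ ?_
      show ((qA O).comap (algebraMap (Localization.Away hX) (P 0).A)).comap _ = _
      rw [Ideal.comap_comap, ← IsScalarTower.algebraMap_eq, hqc, IsScalarTower.algebraMap_eq S (𝒟.A 0) (P 0).A, ← Ideal.comap_comap]
      exact (congrArg (Ideal.comap (algebraMap S (𝒟.A 0))) ((qA O).over_def (𝒜.qA O)).symm).trans 𝒜.q0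
    qStep := fun i hi => by
      let I : Fin 𝒟.n := ⟨i, Nat.lt_of_succ_lt hi⟩
      letI := (G (i + 1) hi).aA
      haveI := hnext I hi
      haveI : (qA (i + 1)).LiesOver (𝒜.qA (i + 1)) := (hov (i + 1) hi).2
      refine eq_of_comap (b I) (C := 𝒟.B I) (C' := (P I).B) _ _ ?_
      rw [show (qB I).comap (algebraMap (𝒟.B I) (P I).B) = 𝒜.qB I from ((qB I).over_def (𝒜.qB I)).symm, Ideal.comap_comap,
        ← IsScalarTower.algebraMap_eq, IsScalarTower.algebraMap_eq (𝒟.B I) (𝒟.A (i + 1)) (P (i + 1)).A, ← Ideal.comap_comap,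
        show (qA (i + 1)).comap (algebraMap (𝒟.A (i + 1)) (P (i + 1)).A) = 𝒜.qA (i + 1) from ((qA (i + 1)).over_def (𝒜.qA (i + 1))).symm]
      exact 𝒜.qStep i hi
    relDim := fun i hi => by
      let I : Fin 𝒟.n := ⟨i, hi⟩
      haveI : IsLocalization.Away (κ.c I * algebraMap R (𝒟.B I) g) (P I).B := ilB I
      exact (Shrink.smooth_geomIrred (R' := R') (D' := (P I).B) g (κ.c I) (𝒟.geomIrred i hi) (hcov i hi)).2 _ (𝒜.relDim i hi)
    locDim := fun i hi => by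
      let I : Fin 𝒟.n := ⟨i, hi⟩
      haveI : Module.Finite (𝒟.A I) (𝒟.M I) := 𝒟.finiteM i hi
      haveI : Module.Finite (𝒟.B I) (𝒟.A I) := 𝒟.finiteBA i hi
      haveI : Module.Finite (𝒟.B I) (𝒟.M I) := Module.Finite.trans (𝒟.A I) (𝒟.M I)
      exact (Shrink.localDim_and_supportDim g (b I) p p' (𝒟.M I) (P I).M _ (hgB' I) (𝒜.qB I) (qB I) (𝒜.locDim i hi)).1 }
  exact ⟨g, hX, hgp, hXq, dvd_mul_right _ _, iRS, tRS, Module.compHom _ (algebraMap R' (Localization.Away hX)),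
    (letI : Module R' (LocalizedModule (Submonoid.powers hX) N) := Module.compHom _ (algebraMap R' (Localization.Away hX))
     IsScalarTower.of_algebraMap_smul fun _ _ => rfl),
    hpp, hqp, 𝒟', 𝒜', fun i => a i, fun i => b i, iaA, irA, itRA, itA, iaB, irB, itRB, itB, ibA, it5, it6, ibA', it7, sA, it8,
    imA, itM, fun i => (G i i.2).g, rfl, rfl, rfl, ‹IsScalarTower S (𝒟.A 0) (P 0).A›, hiso, hnext, fun _ => rfl,
    fun i => ⟨haq i i.2, hbq i i.2, ilA i, ilB i, (G i i.2).hl, ovA i, ovB i, hrange i⟩⟩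

theorem exists_cut {R S : Type u} [CommRing R] [CommRing S] [Algebra R S] {N : Type u} [AddCommGroup N] [Module S N]
    {p : Ideal R} [p.IsPrime] {q : Ideal S} [q.IsPrime] (D : FlatCA.CompleteDevissage R S N p)
    (𝒜 : FlatCA.CompleteDevissageAt R S N p q D) (e : ∀ i, D.B i) (he : ∀ i, i < D.n → e i ∉ 𝒜.qB i)
    (hdiv : ∀ i, i + 1 < D.n → ∃ m : ℕ, algebraMap (D.B i) (D.A (i + 1)) (e i) ∣ algebraMap (D.B (i + 1)) (D.A (i + 1)) (e (i + 1)) ^ m)
    (u : S) (hu : ∃ m : ℕ, algebraMap S (D.A 0) u ∣ algebraMap (D.B 0) (D.A 0) (e 0) ^ m) :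
    ∃ κ : Cut D 𝒜, κ.c (D.n - 1) = e (D.n - 1) ∧ u ∣ κ.s := by
  classical
  haveI := fun i => 𝒜.hqB i
  haveI := fun i => 𝒜.hqA i
  haveI := fun i => 𝒜.overA i
  have key : ∀ {A : Type u} [CommRing A] (E C e' : A) (m : ℕ), E ∣ e' ^ m → e' ∣ C → Eqv (E * C) C := by
    intro A _ E C e' m h1 h2
    refine ⟨m + 1, ?_, (dvd_mul_left C E).trans (dvd_pow_self _ (Nat.succ_ne_zero m))⟩
    rw [pow_succ]; exact mul_dvd_mul (h1.trans (pow_dvd_pow_of_dvd h2 m)) dvd_rfl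
  have H : ∀ j, j < D.n → ∃ c : ∀ i, D.B i, c (D.n - 1) = e (D.n - 1) ∧ ∀ i, D.n - 1 - j ≤ i → i < D.n →
      c i ∉ 𝒜.qB i ∧ e i ∣ c i ∧
        (i + 1 < D.n → Eqv (algebraMap (D.B i) (D.A (i + 1)) (c i)) (algebraMap (D.B (i + 1)) (D.A (i + 1)) (c (i + 1)))) := by
    intro j
    induction j with
    | zero =>
      intro _
      refine ⟨e, rfl, fun i h1 h2 => ⟨he i h2, dvd_rfl, fun h => ?_⟩⟩
      omega
    | succ j ih =>
      intro hj
      obtain ⟨c, hc1, hc2⟩ := ih (Nat.lt_of_succ_lt hj)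
      let i := D.n - 1 - (j + 1)
      have hi : i + 1 < D.n := by omega
      obtain ⟨hc', hdvd, -⟩ := hc2 (i + 1) (by omega) hi
      obtain ⟨d, hd⟩ := D.surjBA' i hi (algebraMap (D.B (i + 1)) (D.A (i + 1)) (c (i + 1)))
      have hdq : d ∉ 𝒜.qB i := fun h => by
        rw [← 𝒜.qStep i hi, Ideal.mem_comap, hd] at h
        exact hc' ((SetLike.ext_iff.1 ((𝒜.qA (i + 1)).over_def (𝒜.qB (i + 1))) _).2 h)
      obtain ⟨m, hm⟩ := hdiv i hi
      refine ⟨Function.update c i (e i * d), ?_, fun k h1 h2 => ?_⟩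
      · rw [Function.update_of_ne (by omega : D.n - 1 ≠ i), hc1]
      · by_cases hk : k = i
        · subst hk
          rw [Function.update_self, Function.update_of_ne (Nat.succ_ne_self i)]
          refine ⟨fun h => ((𝒜.hqB i).mem_or_mem h).elim (he i h2) hdq, dvd_mul_right _ _, fun _ => ?_⟩
          rw [map_mul, hd]
          exact key _ _ _ m hm (map_dvd _ hdvd)
        · rw [Function.update_of_ne hk]
          obtain ⟨a1, a2, a3⟩ := hc2 k (by omega) h2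
          refine ⟨a1, a2, fun h => ?_⟩
          rw [Function.update_of_ne (by omega : k + 1 ≠ i)]
          exact a3 h
  obtain ⟨c, hc1, hc2⟩ := H (D.n - 1) (Nat.sub_lt D.pos Nat.one_pos)
  obtain ⟨s, hs⟩ := D.surjSA (algebraMap (D.B 0) (D.A 0) (c 0))
  obtain ⟨m, hm⟩ := hu
  refine ⟨⟨c, u * s, fun i hi => (hc2 i (by omega) hi).1, ?_, fun i hi => (hc2 i (by omega) (Nat.lt_of_succ_lt hi)).2.2 hi⟩,
    hc1, dvd_mul_right _ _⟩
  rw [map_mul, hs]
  exact key _ _ _ m hm (map_dvd _ (hc2 0 (by omega) D.pos).2.1)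

theorem exists_dvd_pow {D C : Type u} [CommRing D] [CommRing C] [Algebra D C] [Module.Finite D C]
    (y : Ideal D) [y.IsPrime] (z : Ideal C) (h3 : ∀ (z₁ : Ideal C) [z₁.IsPrime], z₁.LiesOver y → z₁ = z)
    (u : C) (hu : u ∉ z) : ∃ w ∉ y, ∃ m : ℕ, u ∣ algebraMap D C w ^ m := by
  have hcl : IsClosed (PrimeSpectrum.comap (algebraMap D C) '' PrimeSpectrum.zeroLocus {u}) :=
    PrimeSpectrum.isClosedMap_comap_of_isIntegral _ (algebraMap_isIntegral_iff.2 inferInstance) _ (PrimeSpectrum.isClosed_zeroLocus _)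
  have hy : (⟨y, ‹_›⟩ : PrimeSpectrum D) ∉ PrimeSpectrum.comap (algebraMap D C) '' PrimeSpectrum.zeroLocus {u} := by
    rintro ⟨z₁, hz₁, e⟩
    have := h3 z₁.asIdeal ⟨(congrArg PrimeSpectrum.asIdeal e).symm⟩
    exact hu (this ▸ hz₁ rfl)
  obtain ⟨_, ⟨w, rfl⟩, hw, hsub⟩ := PrimeSpectrum.isTopologicalBasis_basic_opens.exists_subset_of_mem_open hy hcl.isOpen_compl
  have : algebraMap D C w ∈ (Ideal.span {u}).radical := by
    rw [← PrimeSpectrum.vanishingIdeal_zeroLocus_eq_radical, PrimeSpectrum.zeroLocus_span, PrimeSpectrum.mem_vanishingIdeal]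
    intro P hP
    by_contra hP'
    exact hsub (show PrimeSpectrum.comap (algebraMap D C) P ∈ PrimeSpectrum.basicOpen w from hP') ⟨P, hP, rfl⟩
  obtain ⟨m, hm⟩ := this
  exact ⟨w, hw, m, Ideal.mem_span_singleton.1 hm⟩

open FlatMor in
theorem main12246
    (R S : Type u) [CommRing R] [CommRing S] [Algebra R S] [Algebra.FiniteType R S]
    (N : Type u) [AddCommGroup N] [Module S N] [Module.Finite S N]
    (p : Ideal R) [p.IsPrime] (q : Ideal S) [q.IsPrime] (𝒟 : FlatCA.CompleteDevissage R S N p)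
    (𝒜 : FlatCA.CompleteDevissageAt R S N p q 𝒟)
    (u : S) (hu : u ∉ q) :
    ∃ (g : R) (hX : S), g ∉ p ∧ hX ∉ q ∧
      IsUnit (algebraMap S (Localization.Away hX) u) ∧
      ∃ (_ : Algebra (Localization.Away g) (Localization.Away hX)) (_ : IsScalarTower R (Localization.Away g) (Localization.Away hX))
        (_ : Module (Localization.Away g) (LocalizedModule (Submonoid.powers hX) N)) (_ : IsScalarTower (Localization.Away g) (Localization.Away hX) (LocalizedModule (Submonoid.powers hX) N))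
        (_ : (Ideal.map (algebraMap R (Localization.Away g)) p).IsPrime) (_ : (Ideal.map (algebraMap S (Localization.Away hX)) q).IsPrime)
        (𝒟' : FlatCA.CompleteDevissage (Localization.Away g) (Localization.Away hX) (LocalizedModule (Submonoid.powers hX) N) (Ideal.map (algebraMap R (Localization.Away g)) p))
        (𝒜' : FlatCA.CompleteDevissageAt (Localization.Away g) (Localization.Away hX) (LocalizedModule (Submonoid.powers hX) N) (Ideal.map (algebraMap R (Localization.Away g)) p) (Ideal.map (algebraMap S (Localization.Away hX)) q) 𝒟')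
        (a : ∀ i : Fin 𝒟.n, 𝒟.A i) (b : ∀ i : Fin 𝒟.n, 𝒟.B i)
      (aA : ∀ i : Fin 𝒟.n, Algebra (𝒟.A i) (𝒟'.A i)) (rA : ∀ i : Fin 𝒟.n, Algebra R (𝒟'.A i))
      (_t1 : ∀ i : Fin 𝒟.n, IsScalarTower R (Localization.Away g) (𝒟'.A i)) (_t2 : ∀ i : Fin 𝒟.n, IsScalarTower R (𝒟.A i) (𝒟'.A i))
      (aB : ∀ i : Fin 𝒟.n, Algebra (𝒟.B i) (𝒟'.B i)) (rB : ∀ i : Fin 𝒟.n, Algebra R (𝒟'.B i))
      (_t3 : ∀ i : Fin 𝒟.n, IsScalarTower R (Localization.Away g) (𝒟'.B i)) (_t4 : ∀ i : Fin 𝒟.n, IsScalarTower R (𝒟.B i) (𝒟'.B i))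
      (bA : ∀ i : Fin 𝒟.n, Algebra (𝒟.B i) (𝒟'.A i)) (_t5 : ∀ i : Fin 𝒟.n, IsScalarTower (𝒟.B i) (𝒟.A i) (𝒟'.A i))
      (_t6 : ∀ i : Fin 𝒟.n, IsScalarTower (𝒟.B i) (𝒟'.B i) (𝒟'.A i))
      (bA' : ∀ i : Fin 𝒟.n, Algebra (𝒟.B i) (𝒟'.A (i + 1)))
      (_t7 : ∀ i : Fin 𝒟.n, IsScalarTower (𝒟.B i) (𝒟'.B i) (𝒟'.A (i + 1)))
      (sA : Algebra S (𝒟'.A 0)) (_t8 : IsScalarTower S (Localization.Away hX) (𝒟'.A 0))
      (mA : ∀ i : Fin 𝒟.n, Module (𝒟.A i) (𝒟'.M i)) (_t9 : ∀ i : Fin 𝒟.n, IsScalarTower (𝒟.A i) (𝒟'.A i) (𝒟'.M i))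
      (gM : ∀ i : Fin 𝒟.n, 𝒟.M i →ₗ[𝒟.A i] 𝒟'.M i),
        𝒟'.n = 𝒟.n ∧ 𝒟'.r = 𝒟.r ∧ 𝒜'.d = 𝒜.d ∧
        (letI := aA ⟨0, 𝒟.pos⟩; IsScalarTower S (𝒟.A 0) (𝒟'.A 0)) ∧
      (∀ x : N, 𝒟'.isoN (LocalizedModule.mkLinearMap (Submonoid.powers hX) N x) = gM ⟨0, 𝒟.pos⟩ (𝒟.isoN x)) ∧
      (∀ (i : Fin 𝒟.n) (h : (i : ℕ) + 1 < 𝒟.n),
        letI := aA ⟨i + 1, h⟩; IsScalarTower (𝒟.B i) (𝒟.A (i + 1)) (𝒟'.A (i + 1))) ∧
        ∀ i : Fin 𝒟.n,
          a i ∉ 𝒜.qA i ∧ b i ∉ 𝒜.qB i ∧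
          IsLocalization.Away (a i) (𝒟'.A i) ∧ IsLocalization.Away (b i) (𝒟'.B i) ∧
          IsLocalizedModule (Submonoid.powers (a i)) (gM i) ∧
          (𝒜'.qA i).LiesOver (𝒜.qA i) ∧ (𝒜'.qB i).LiesOver (𝒜.qB i) ∧
          LinearMap.range (𝒟'.α i) =
            Submodule.span (𝒟'.B i) ((gM i) '' (LinearMap.range (𝒟.α i) : Set (𝒟.M i))) := by
  classical
  haveI := fun i => 𝒜.hqB i
  haveI := fun i => 𝒜.hqA i
  haveI := fun i => 𝒜.overA i
  have step : ∀ i, i < 𝒟.n → ∀ x : 𝒟.A i, x ∉ 𝒜.qA i → ∃ w ∉ 𝒜.qB i, ∃ m : ℕ, x ∣ algebraMap (𝒟.B i) (𝒟.A i) w ^ m := fun i hi x hx => by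
    haveI := 𝒟.finiteBA i hi
    exact exists_dvd_pow (𝒜.qB i) (𝒜.qA i) (𝒜.uniq i hi) x hx
  obtain ⟨e0, he0, hm0⟩ := step 0 𝒟.pos (algebraMap S (𝒟.A 0) u) (fun h => hu ((SetLike.ext_iff.1 𝒜.q0 u).1 h))
  have H : ∀ j, j < 𝒟.n → ∃ e : ∀ i, 𝒟.B i, (∀ i, i ≤ j → e i ∉ 𝒜.qB i) ∧
      (∃ m : ℕ, algebraMap S (𝒟.A 0) u ∣ algebraMap (𝒟.B 0) (𝒟.A 0) (e 0) ^ m) ∧
      ∀ i, i < j → ∃ m : ℕ, algebraMap (𝒟.B i) (𝒟.A (i + 1)) (e i) ∣ algebraMap (𝒟.B (i + 1)) (𝒟.A (i + 1)) (e (i + 1)) ^ m := by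
    intro j
    induction j with
    | zero =>
      intro _
      refine ⟨Function.update (fun i => (1 : 𝒟.B i)) 0 e0, fun i hi => ?_, by rwa [Function.update_self], fun i hi => absurd hi (Nat.not_lt_zero i)⟩
      obtain rfl := Nat.le_zero.1 hi
      rwa [Function.update_self]
    | succ j ih =>
      intro hj
      obtain ⟨e, h1, h2, h3⟩ := ih (Nat.lt_of_succ_lt hj)
      obtain ⟨w, hw, hm⟩ := step (j + 1) hj (algebraMap (𝒟.B j) (𝒟.A (j + 1)) (e j))
        (fun h => h1 j le_rfl ((SetLike.ext_iff.1 (𝒜.qStep j hj) _).1 h))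
      refine ⟨Function.update e (j + 1) w, fun i hi => ?_, by rwa [Function.update_of_ne (Nat.succ_ne_zero j).symm], fun i hi => ?_⟩
      · by_cases hk : i = j + 1
        · subst hk; rwa [Function.update_self]
        · rw [Function.update_of_ne hk]; exact h1 i (by omega)
      · by_cases hk : i = j
        · subst hk; rwa [Function.update_self, Function.update_of_ne (Nat.succ_ne_self i).symm]
        · rw [Function.update_of_ne (by omega : i ≠ j + 1), Function.update_of_ne (by omega : i + 1 ≠ j + 1)]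
          exact h3 i (by omega)
  obtain ⟨e, h1, h2, h3⟩ := H (𝒟.n - 1) (Nat.sub_lt 𝒟.pos Nat.one_pos)
  obtain ⟨κ, -, hκu⟩ := exists_cut 𝒟 𝒜 e (fun i hi => h1 i (by omega)) (fun i hi => h3 i (by omega)) u h2
  obtain ⟨g, hX, hg, hXq, hs, i1, i2, i3, i4, i5, i6, D', A', a, b, aA, rA, t1, t2, aB, rB, t3, t4, bA, t5, t6, bA', t7, sA, t8, mA, t9,
    gM, e1, e2, e3, e4, e5, e6, -, rest⟩ := core R S N p q 𝒟 𝒜 κ
  exact ⟨g, hX, hg, hXq, isUnit_of_dvd_unit (map_dvd _ (hκu.trans hs)) (IsLocalization.Away.algebraMap_isUnit hX),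
    i1, i2, i3, i4, i5, i6, D', A', a, b, aA, rA, t1, t2, aB, rB, t3, t4, bA, t5, t6, bA', t7, sA, t8, mA, t9,
    gM, e1, e2, e3, e4, e5, e6, rest⟩

open FlatMor in
theorem main12247
    (R S : Type u) [CommRing R] [CommRing S] [Algebra R S] [Algebra.FiniteType R S]
    (N : Type u) [AddCommGroup N] [Module S N] [Module.Finite S N]
    (p : Ideal R) [p.IsPrime] (q : Ideal S) [q.IsPrime] (𝒟 : FlatCA.CompleteDevissage R S N p)
    (𝒜 : FlatCA.CompleteDevissageAt R S N p q 𝒟)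
    (w : 𝒟.B (𝒟.n - 1)) (hw : w ∉ 𝒜.qB (𝒟.n - 1)) :
    ∃ (g : R) (hX : S), g ∉ p ∧ hX ∉ q ∧
      ∃ (_ : Algebra (Localization.Away g) (Localization.Away hX)) (_ : IsScalarTower R (Localization.Away g) (Localization.Away hX))
        (_ : Module (Localization.Away g) (LocalizedModule (Submonoid.powers hX) N)) (_ : IsScalarTower (Localization.Away g) (Localization.Away hX) (LocalizedModule (Submonoid.powers hX) N))
        (_ : (Ideal.map (algebraMap R (Localization.Away g)) p).IsPrime) (_ : (Ideal.map (algebraMap S (Localization.Away hX)) q).IsPrime)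
        (𝒟' : FlatCA.CompleteDevissage (Localization.Away g) (Localization.Away hX) (LocalizedModule (Submonoid.powers hX) N) (Ideal.map (algebraMap R (Localization.Away g)) p))
        (𝒜' : FlatCA.CompleteDevissageAt (Localization.Away g) (Localization.Away hX) (LocalizedModule (Submonoid.powers hX) N) (Ideal.map (algebraMap R (Localization.Away g)) p) (Ideal.map (algebraMap S (Localization.Away hX)) q) 𝒟')
        (a : ∀ i : Fin 𝒟.n, 𝒟.A i) (b : ∀ i : Fin 𝒟.n, 𝒟.B i)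
      (aA : ∀ i : Fin 𝒟.n, Algebra (𝒟.A i) (𝒟'.A i)) (rA : ∀ i : Fin 𝒟.n, Algebra R (𝒟'.A i))
      (_t1 : ∀ i : Fin 𝒟.n, IsScalarTower R (Localization.Away g) (𝒟'.A i)) (_t2 : ∀ i : Fin 𝒟.n, IsScalarTower R (𝒟.A i) (𝒟'.A i))
      (aB : ∀ i : Fin 𝒟.n, Algebra (𝒟.B i) (𝒟'.B i)) (rB : ∀ i : Fin 𝒟.n, Algebra R (𝒟'.B i))
      (_t3 : ∀ i : Fin 𝒟.n, IsScalarTower R (Localization.Away g) (𝒟'.B i)) (_t4 : ∀ i : Fin 𝒟.n, IsScalarTower R (𝒟.B i) (𝒟'.B i))
      (bA : ∀ i : Fin 𝒟.n, Algebra (𝒟.B i) (𝒟'.A i)) (_t5 : ∀ i : Fin 𝒟.n, IsScalarTower (𝒟.B i) (𝒟.A i) (𝒟'.A i))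
      (_t6 : ∀ i : Fin 𝒟.n, IsScalarTower (𝒟.B i) (𝒟'.B i) (𝒟'.A i))
      (bA' : ∀ i : Fin 𝒟.n, Algebra (𝒟.B i) (𝒟'.A (i + 1)))
      (_t7 : ∀ i : Fin 𝒟.n, IsScalarTower (𝒟.B i) (𝒟'.B i) (𝒟'.A (i + 1)))
      (sA : Algebra S (𝒟'.A 0)) (_t8 : IsScalarTower S (Localization.Away hX) (𝒟'.A 0))
      (mA : ∀ i : Fin 𝒟.n, Module (𝒟.A i) (𝒟'.M i)) (_t9 : ∀ i : Fin 𝒟.n, IsScalarTower (𝒟.A i) (𝒟'.A i) (𝒟'.M i))
      (gM : ∀ i : Fin 𝒟.n, 𝒟.M i →ₗ[𝒟.A i] 𝒟'.M i),
        𝒟'.n = 𝒟.n ∧ 𝒟'.r = 𝒟.r ∧ 𝒜'.d = 𝒜.d ∧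
        (letI := aA ⟨0, 𝒟.pos⟩; IsScalarTower S (𝒟.A 0) (𝒟'.A 0)) ∧
      (∀ x : N, 𝒟'.isoN (LocalizedModule.mkLinearMap (Submonoid.powers hX) N x) = gM ⟨0, 𝒟.pos⟩ (𝒟.isoN x)) ∧
      (∀ (i : Fin 𝒟.n) (h : (i : ℕ) + 1 < 𝒟.n),
        letI := aA ⟨i + 1, h⟩; IsScalarTower (𝒟.B i) (𝒟.A (i + 1)) (𝒟'.A (i + 1))) ∧
        b ⟨𝒟.n - 1, Nat.sub_one_lt_of_lt 𝒟.pos⟩ = w * algebraMap R (𝒟.B (𝒟.n - 1)) g ∧
        ∀ i : Fin 𝒟.n,
          a i ∉ 𝒜.qA i ∧ b i ∉ 𝒜.qB i ∧
          IsLocalization.Away (a i) (𝒟'.A i) ∧ IsLocalization.Away (b i) (𝒟'.B i) ∧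
          IsLocalizedModule (Submonoid.powers (a i)) (gM i) ∧
          (𝒜'.qA i).LiesOver (𝒜.qA i) ∧ (𝒜'.qB i).LiesOver (𝒜.qB i) ∧
          LinearMap.range (𝒟'.α i) =
            Submodule.span (𝒟'.B i) ((gM i) '' (LinearMap.range (𝒟.α i) : Set (𝒟.M i))) := by
  classical
  haveI := fun i => 𝒜.hqB i
  let e : ∀ i, 𝒟.B i := Function.update (fun i => (1 : 𝒟.B i)) (𝒟.n - 1) w
  have hne : ∀ i, i ≠ 𝒟.n - 1 → e i = 1 := fun i hi => Function.update_of_ne hi _ _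
  obtain ⟨κ, hκ, -⟩ := exists_cut 𝒟 𝒜 e (fun i hi => by
      by_cases hk : i = 𝒟.n - 1
      · subst hk; simpa only [e, Function.update_self] using hw
      · rw [hne i hk]; exact fun h => (𝒜.hqB i).ne_top ((Ideal.eq_top_iff_one _).2 h))
    (fun i hi => ⟨0, by rw [hne i (by omega), map_one]; exact one_dvd _⟩) 1 ⟨0, by rw [map_one]; exact one_dvd _⟩
  obtain ⟨g, hX, hg, hXq, -, i1, i2, i3, i4, i5, i6, D', A', a, b, aA, rA, t1, t2, aB, rB, t3, t4, bA, t5, t6, bA', t7, sA, t8, mA, t9,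
    gM, e1, e2, e3, e4, e5, e6, hb, rest⟩ := core R S N p q 𝒟 𝒜 κ
  refine ⟨g, hX, hg, hXq,
    i1, i2, i3, i4, i5, i6, D', A', a, b, aA, rA, t1, t2, aB, rB, t3, t4, bA, t5, t6, bA', t7, sA, t8, mA, t9,
    gM, e1, e2, e3, e4, e5, e6, ?_, rest⟩
  rw [hb]
  show κ.c (𝒟.n - 1) * _ = _
  rw [hκ]
  simp only [e, Function.update_self]

end Groth.Agent.FlatMor68.CompleteShrink
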