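import Groth.Agent.FlatMor68.FnFunctor
import Groth.Agent.FlatCrit65.Purity.Ass
import Mathlib

/-!
# An étale covering of the associated points of the fibres computes flatness in dimensions `≥ n`
-/

set_option autoImplicit false
set_option backward.isDefEq.respectTransparency.types false
set_option linter.style.haveILetI false
set_option linter.unusedVariables false

universe u

open TensorProduct

namespace Groth.Agent.FlatMor68.CoverIff

open Groth.Agent.FlatMor68.FnFunctor

/-- The base change of an étale localisation to another base, as an étale localisation. -/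
theorem exists_compat {A B C N M : Type u} [CommRing A] [CommRing B] [CommRing C] [Algebra A B] [Algebra B C]
    [Algebra A C] [IsScalarTower A B C] [Algebra.Etale B C] [AddCommGroup N] [Module B N] [AddCommGroup M]
    [Module C M] [Module B M] [IsScalarTower B C M] {g : N →ₗ[B] M} (hg : IsBaseChange C g)
    {A' B' N' C' M' : Type u} [CommRing A'] [Algebra A A'] [CommRing B'] [Algebra B B'] [Algebra A' B']
    [Algebra A B'] [IsScalarTower A B B'] [IsScalarTower A A' B'] [Algebra.IsPushout A B A' B']
    [AddCommGroup N'] [Module B' N'] [Module B N'] [IsScalarTower B B' N'] {f : N →ₗ[B] N'} (hf : IsBaseChange B' f)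
    [CommRing C'] [Algebra C C'] [Algebra A' C']
    [Algebra A C'] [IsScalarTower A C C'] [IsScalarTower A A' C'] [Algebra.IsPushout A C A' C']
    [AddCommGroup M'] [Module C' M'] [Module C M'] [IsScalarTower C C' M'] {h : M →ₗ[C] M'} (hh : IsBaseChange C' h) :
    ∃ (a : Algebra B' C') (_ : IsScalarTower A' B' C') (m : Module B' M') (_ : IsScalarTower B' C' M')
      (g' : N' →ₗ[B'] M'), Algebra.Etale B' C' ∧ IsBaseChange C' g' ∧
      ∀ (r : Ideal B') [r.IsPrime] (q : Ideal C) [q.IsPrime],
        q.comap (algebraMap B C) = r.comap (algebraMap B B') →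
        ∃ Q : Ideal C', Q.IsPrime ∧ Q.comap (algebraMap B' C') = r := by
  letI aBC' : Algebra B C' := ((algebraMap C C').comp (algebraMap B C)).toAlgebra
  haveI : IsScalarTower B C C' := .of_algebraMap_eq fun _ => rfl
  haveI : IsScalarTower A B C' := .of_algebraMap_eq fun a => by
    rw [IsScalarTower.algebraMap_apply B C C', ← IsScalarTower.algebraMap_apply A B C,
      ← IsScalarTower.algebraMap_apply A C C']
  let ψ : B' →ₐ[A] C' := Algebra.pushoutDesc (R := A) (S := B) (R' := A') B' (IsScalarTower.toAlgHom A B C')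
    (IsScalarTower.toAlgHom A A' C') fun x y => mul_comm _ _
  letI a : Algebra B' C' := ψ.toRingHom.toAlgebra
  haveI : IsScalarTower A B' C' := .of_algebraMap_eq fun a => (ψ.commutes a).symm
  haveI t₁ : IsScalarTower A' B' C' := .of_algebraMap_eq fun a =>
    (Algebra.pushoutDesc_right (R := A) (S := B) (R' := A') B' (IsScalarTower.toAlgHom A B C')
      (IsScalarTower.toAlgHom A A' C') (fun x y => mul_comm _ _) a).symm
  haveI : IsScalarTower B B' C' := .of_algebraMap_eq fun b =>
    (Algebra.pushoutDesc_left (R := A) (S := B) (R' := A') B' (IsScalarTower.toAlgHom A B C')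
      (IsScalarTower.toAlgHom A A' C') (fun x y => mul_comm _ _) b).symm
  haveI hpo : Algebra.IsPushout B C B' C' :=
    (Algebra.IsPushout.comp_iff A B A' B' (T := C) (T' := C')).1 inferInstance
  haveI : Algebra.IsPushout B B' C C' := .symm inferInstance
  haveI : Algebra.Etale B' C' := Algebra.Etale.of_equiv (Algebra.IsPushout.equiv B B' C C')
  letI m : Module B' M' := Module.compHom M' (algebraMap B' C')
  haveI : IsScalarTower B' C' M' := IsScalarTower.of_algebraMap_smul fun _ _ => rfl
  letI : Module B M' := Module.compHom M' (algebraMap B B')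
  haveI : IsScalarTower B B' M' := IsScalarTower.of_algebraMap_smul fun _ _ => rfl
  haveI : IsScalarTower B C M' := IsScalarTower.of_algebraMap_smul fun b x => by
    show algebraMap B C b • x = algebraMap B' C' (algebraMap B B' b) • x
    rw [← IsScalarTower.algebraMap_apply B B' C', IsScalarTower.algebraMap_apply B C C', algebraMap_smul C' (algebraMap B C b) x]
  haveI : IsScalarTower B C' M' := IsScalarTower.of_algebraMap_smul fun b x => by
    show algebraMap B C' b • x = algebraMap B' C' (algebraMap B B' b) • x
    rw [← IsScalarTower.algebraMap_apply B B' C']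
  let gM : N →ₗ[B] M' := (h.restrictScalars B).comp g
  have hgM : IsBaseChange C' gM := hg.comp hh
  let g' : N' →ₗ[B'] M' := hf.lift gM
  refine ⟨a, t₁, m, inferInstance, g', inferInstance, ?_, ?_⟩
  · exact IsBaseChange.of_comp hf (by rw [IsBaseChange.lift_comp]; exact hgM)
  · intro r _ q _ hqr
    obtain ⟨Q, hQ, -, hQr⟩ := FlatMor67.FlatAtDesc.exists_prime_pushout (R := B) (S := C) (R' := B') (S' := C') q r hqr
    exact ⟨Q, hQ, hQr⟩

/-- Flatness in dimensions `≥ n` is checked on an étale covering of the associated points of the fibres. -/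
theorem main {A B N : Type u} [CommRing A] [CommRing B] [Algebra A B] [Algebra.FiniteType A B]
    [AddCommGroup N] [Module B N] [Module A N] [IsScalarTower A B N] [Module.Finite B N] (n : ℕ)
    {k : ℕ} (C : Fin k → Type u) [∀ i, CommRing (C i)] [∀ i, Algebra B (C i)] [∀ i, Algebra A (C i)]
    [∀ i, IsScalarTower A B (C i)] [∀ i, Algebra.Etale B (C i)] (M : Fin k → Type u) [∀ i, AddCommGroup (M i)]
    [∀ i, Module (C i) (M i)] [∀ i, Module B (M i)] [∀ i, IsScalarTower B (C i) (M i)]
    (g : ∀ i, N →ₗ[B] M i) (hg : ∀ i, IsBaseChange (C i) (g i)) (g₀ : A)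
    (hass : ∀ (t : Ideal A) [t.IsPrime], g₀ ∉ t → ∀ (Q : Ideal B) [Q.IsPrime], Q.LiesOver t →
      FlatCA.fiberIdeal t Q ∈ associatedPrimes (t.Fiber B) (FlatCA.fiberMod t B N) →
      ∃ (i : Fin k) (Q' : Ideal (C i)), Q'.IsPrime ∧ Q'.comap (algebraMap B (C i)) = Q)
    (A' : Type u) [CommRing A'] [Algebra A A'] (hu : IsUnit (algebraMap A A' g₀)) :
    PR n A B N A' ↔ ∀ i, PR n A (C i) (M i) A' := by
  haveI : ∀ i, Algebra.FiniteType A (C i) := fun i =>
    Algebra.FiniteType.trans (R := A) (S := B) (A := C i) inferInstance inferInstance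
  obtain ⟨B', N', _, _, _, _, _, _, _, _, _, _, _, _, _, f, hf⟩ := exists_model A B N A'
  haveI : Algebra.FiniteType A' B' := Algebra.FiniteType.equiv inferInstance
    (Algebra.IsPushout.equiv A A' B B' (h := Algebra.IsPushout.symm inferInstance))
  haveI : Module.Finite B' N' := Module.Finite.equiv hf.equiv
  choose C' M' i1 i2 i3 i4 i5 i6 i7 i8 i9 i10 i11 i12 i13 h hh using fun i => exists_model A (C i) (M i) A'
  choose a t m tm g' het hg' hpr using fun i => exists_compat (A := A) (A' := A') (hg i) hf (hh i)
  haveI := het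
  constructor
  · intro H i
    refine of_model (hh i) ?_
    exact FlatInDimBC.etale_source n (hg' i) (H B' N' f hf)
  · intro H
    refine of_model hf ?_
    refine FlatInDimBC.of_cover n C' M' g' hg' ?_ fun i => H i (C' i) (M' i) (h i) (hh i)
    intro t' _ r _ hr hass'
    haveI := hr
    haveI : t'.LiesOver (t'.comap (algebraMap A A')) := ⟨rfl⟩
    obtain ⟨hlo, hass₀⟩ := FlatCrit65.Purity.ass_down (R := A) (R' := A') f hf t' (t'.comap (algebraMap A A')) r hass'
    obtain ⟨i, q, hq, hqr⟩ := hass (t'.comap (algebraMap A A'))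
      (fun hg0 => ‹t'.IsPrime›.ne_top (Ideal.eq_top_of_isUnit_mem _ hg0 hu)) _ hlo hass₀
    haveI := hq
    exact ⟨i, hpr i r q hqr⟩

end Groth.Agent.FlatMor68.CoverIff
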