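import Groth.Statements.S10877
import Groth.Statements.S10878
import Mathlib.AlgebraicGeometry.Morphisms.Immersion
import Mathlib.AlgebraicGeometry.Morphisms.Separated
import Mathlib.AlgebraicGeometry.PullbackCarrier

set_option autoImplicit false
set_option linter.style.haveILetI false
universe u
open CategoryTheory CategoryTheory.Limits AlgebraicGeometry TopologicalSpace

namespace Groth.Agent.FlatMor68.DenseImmersion

theorem exists_generalization_mem_all {X : Scheme.{u}} (hfin : (irreducibleComponents (X : Type u)).Finite)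
    (x : X) : ∃ ξ : X, ξ ⤳ x ∧ ∀ V : X.Opens, Dense (V : Set X) → ξ ∈ V := by
  obtain ⟨Z, hZ, hsub⟩ := exists_mem_irreducibleComponents_subset_of_isIrreducible {x} isIrreducible_singleton
  have hZc := isClosed_of_mem_irreducibleComponents _ hZ
  have hg := hZ.1.isGenericPoint_genericPoint hZc
  refine ⟨hZ.1.genericPoint, hg.specializes (hsub rfl), fun V hV => ?_⟩
  have hC : IsClosed (⋃ W ∈ irreducibleComponents (X : Type u) \ {Z}, W) :=
    (hfin.subset Set.sdiff_subset).isClosed_biUnion fun W hW => isClosed_of_mem_irreducibleComponents _ hW.1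
  have hξ : hZ.1.genericPoint ∉ ⋃ W ∈ irreducibleComponents (X : Type u) \ {Z}, W := by
    simp only [Set.mem_iUnion]
    rintro ⟨W, ⟨hW, hne⟩, hmem⟩
    have hZW : Z ⊆ W := fun a ha => (hg.specializes ha).mem_closed (isClosed_of_mem_irreducibleComponents _ hW) hmem
    exact hne (Set.Subset.antisymm (hZ.2 hW.1 hZW) hZW)
  obtain ⟨z, hz, hzV⟩ := hV.inter_open_nonempty _ hC.isOpen_compl ⟨_, hξ⟩
  obtain ⟨W, hW, hzW⟩ := exists_mem_irreducibleComponents_subset_of_isIrreducible {z} isIrreducible_singleton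
  by_cases hWZ : W = Z
  · exact (hg.specializes (hWZ ▸ hzW rfl)).mem_open V.2 hzV
  · exact absurd (Set.mem_iUnion₂.2 ⟨W, ⟨hW, hWZ⟩, hzW rfl⟩) hz

theorem injective_of_immersion_on_denseOpens {X Y : Scheme.{u}} (f : X ⟶ Y) [IsSeparated f]
    (hfin : (irreducibleComponents (X : Type u)).Finite) {ι : Type u} (U : ι → X.Opens)
    (hU : ⨆ i, U i = ⊤) (hd : ∀ i, Dense (U i : Set X)) (h : ∀ i, IsImmersion ((U i).ι ≫ f)) :
    Function.Injective f := by
  intro a b hab
  obtain ⟨i, ha⟩ := Opens.mem_iSup.1 (show a ∈ ⨆ i, U i by rw [hU]; trivial)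
  obtain ⟨j, hb⟩ := Opens.mem_iSup.1 (show b ∈ ⨆ i, U i by rw [hU]; trivial)
  obtain ⟨ξ, hξa, hξ⟩ := exists_generalization_mem_all hfin a
  haveI := h i
  haveI := h j
  let l := pullback.fst ((U i).ι ≫ f) ((U j).ι ≫ f)
  let r := pullback.snd ((U i).ι ≫ f) ((U j).ι ≫ f)
  let δ : pullback ((U i).ι ≫ f) ((U j).ι ≫ f) ⟶ pullback f f :=
    pullback.map _ _ _ _ (U i).ι (U j).ι (𝟙 Y) (Category.comp_id _) (Category.comp_id _)
  obtain ⟨p, hpl, hpr⟩ := Scheme.Pullback.exists_preimage_pullback (f := (U i).ι ≫ f) (g := (U j).ι ≫ f)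
    ⟨a, ha⟩ ⟨b, hb⟩ (by simpa using hab)
  let W : X.Opens := U i ⊓ U j
  let c : (W : Scheme.{u}) ⟶ pullback ((U i).ι ≫ f) ((U j).ι ≫ f) :=
    pullback.lift (X.homOfLE inf_le_left) (X.homOfLE inf_le_right) (by simp)
  let w := c ⟨ξ, hξ _ (hd i), hξ _ (hd j)⟩
  have hwl : l w = ⟨ξ, hξ _ (hd i)⟩ := by
    rw [← Scheme.Hom.comp_apply, pullback.lift_fst]
    exact (U i).ι.isOpenEmbedding.injective (by simp)
  haveI : IsImmersion l := MorphismProperty.pullback_fst _ _ (h j)
  have hwp : w ⤳ p := by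
    rw [← l.isEmbedding.isInducing.specializes_iff, hwl, hpl,
      ← (U i).ι.isOpenEmbedding.isInducing.specializes_iff]
    exact hξa
  have hcδ : c ≫ δ = W.ι ≫ pullback.diagonal f := by
    simp only [c, δ, pullback.map]
    apply pullback.hom_ext
    · rw [Category.assoc, pullback.lift_fst, ← Category.assoc, pullback.lift_fst, Category.assoc,
        pullback.diagonal_fst]
      simp only [X.homOfLE_ι, Category.comp_id, W]
    · rw [Category.assoc, pullback.lift_snd, ← Category.assoc, pullback.lift_snd, Category.assoc,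
        pullback.diagonal_snd]
      simp only [X.homOfLE_ι, Category.comp_id, W]
  have hw : δ w ∈ Set.range (pullback.diagonal f) :=
    ⟨ξ, by rw [← Scheme.Hom.comp_apply, hcδ, Scheme.Hom.comp_apply]; rfl⟩
  obtain ⟨z, hz⟩ := (hwp.map δ.continuous).mem_closed (pullback.diagonal f).isClosedEmbedding.isClosed_range hw
  have h1 := congrArg (pullback.fst f f) hz
  have h2 := congrArg (pullback.snd f f) hz
  simp only [← Scheme.Hom.comp_apply, pullback.diagonal_fst, pullback.diagonal_snd, δ, pullback.lift_fst,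
    pullback.lift_snd] at h1 h2
  simp only [Scheme.Hom.comp_apply] at h1 h2
  rw [hpl] at h1
  rw [hpr] at h2
  exact h1.symm.trans h2

theorem isImmersion_of_denseOpens {X Y : Scheme.{u}} (f : X ⟶ Y) [IsSeparated f]
    (hfin : (irreducibleComponents (X : Type u)).Finite) {ι : Type u} (U : ι → X.Opens)
    (hU : ⨆ i, U i = ⊤) (hd : ∀ i, Dense (U i : Set X)) (h : ∀ i, IsImmersion ((U i).ι ≫ f)) :
    IsImmersion f := by
  have hinj := injective_of_immersion_on_denseOpens f hfin U hU hd h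
  have hcov : ∀ x : X, ∃ i, x ∈ U i := fun x => Opens.mem_iSup.1 (by rw [hU]; trivial)
  have hr : ∀ i, Set.range ((U i).ι ≫ f) = f '' (U i : Set X) := fun i => by
    rw [Scheme.Hom.comp_base, TopCat.coe_comp, Set.range_comp, Scheme.Opens.range_ι]
  choose O Z hO hZ hOZ using fun i => (h i).isLocallyClosed_range
  have key : ∀ i (b : X), f b ∈ O i → b ∈ U i := by
    intro i b hb
    obtain ⟨ξ, hξb, hξ⟩ := exists_generalization_mem_all hfin b
    have hξr : f ξ ∈ Set.range ((U i).ι ≫ f) := by rw [hr]; exact ⟨ξ, hξ _ (hd i), rfl⟩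
    rw [hOZ i] at hξr
    have hbr : f b ∈ Set.range ((U i).ι ≫ f) := by
      rw [hOZ i]; exact ⟨hb, (hξb.map f.continuous).mem_closed (hZ i) hξr.2⟩
    rw [hr] at hbr
    obtain ⟨b', hb', he⟩ := hbr
    exact hinj he ▸ hb'
  have hOU : ∀ i, ∀ b ∈ U i, f b ∈ O i := fun i b hb => by
    have : f b ∈ Set.range ((U i).ι ≫ f) := by rw [hr]; exact ⟨b, hb, rfl⟩
    rw [hOZ i] at this
    exact this.1
  have hemb : Topology.IsEmbedding f := by
    refine ⟨⟨le_antisymm f.continuous.le_induced ?_⟩, hinj⟩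
    intro V hV
    refine (@isOpen_iff_forall_mem_open X (TopologicalSpace.induced f inferInstance) V).2 ?_
    intro b hb
    obtain ⟨i, hi⟩ := hcov b
    haveI := h i
    obtain ⟨T, hT, hTV⟩ := ((U i).ι ≫ f).isEmbedding.isInducing.isOpen_iff.1 (hV.preimage (U i).ι.continuous)
    refine ⟨f ⁻¹' (T ∩ O i), fun c hc => ?_, ⟨T ∩ O i, hT.inter (hO i), rfl⟩, ?_⟩
    · exact (Set.ext_iff.1 hTV ⟨c, key i c hc.2⟩).1 hc.1
    · exact ⟨(Set.ext_iff.1 hTV ⟨b, hi⟩).2 hb, hOU i b hi⟩
  haveI : IsPreimmersion f :=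
    { isEmbedding := hemb
      stalkMap_surjective := fun x => by
        obtain ⟨i, hi⟩ := hcov x
        haveI := h i
        have := ((U i).ι ≫ f).stalkMap_surjective ⟨x, hi⟩
        rw [Scheme.Hom.stalkMap_comp] at this
        intro y
        obtain ⟨z, hz⟩ := this ((U i).ι.stalkMap ⟨x, hi⟩ y)
        exact ⟨z, (ConcreteCategory.bijective_of_isIso ((U i).ι.stalkMap ⟨x, hi⟩)).1 hz⟩ }
  refine ⟨⟨⋃ i, O i, closure (Set.range f), isOpen_iUnion hO, isClosed_closure, ?_⟩⟩
  refine Set.Subset.antisymm ?_ ?_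
  · rintro _ ⟨b, rfl⟩
    obtain ⟨i, hi⟩ := hcov b
    exact ⟨Set.mem_iUnion.2 ⟨i, hOU i b hi⟩, subset_closure ⟨b, rfl⟩⟩
  · rintro z ⟨hz, hzc⟩
    obtain ⟨i, hzi⟩ := Set.mem_iUnion.1 hz
    have h1 : z ∈ closure (Set.range ((U i).ι ≫ f)) := by
      rw [hr, mem_closure_iff]
      intro T hT hzT
      obtain ⟨_, ⟨hwT, hwO⟩, b, rfl⟩ := mem_closure_iff.1 hzc (T ∩ O i) (hT.inter (hO i)) ⟨hzT, hzi⟩
      exact ⟨f b, hwT, b, key i b hwO, rfl⟩
    have h2 : z ∈ Set.range ((U i).ι ≫ f) := by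
      rw [hOZ i] at h1 ⊢
      exact ⟨hzi, closure_minimal Set.inter_subset_right (hZ i) h1⟩
    rw [hr] at h2
    obtain ⟨b, -, rfl⟩ := h2
    exact ⟨b, rfl⟩

end Groth.Agent.FlatMor68.DenseImmersion
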