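import Groth.Agent.FlatMor67.DenseAffine
import Groth.Agent.Amp73.QA
import Groth.Prelude.Def_RelProj
import Mathlib

set_option backward.isDefEq.respectTransparency.types false
set_option linter.style.haveILetI false
set_option autoImplicit false
universe u

open CategoryTheory CategoryTheory.Limits AlgebraicGeometry TopologicalSpace

namespace Groth.Agent.FlatMor68.DenseQProj

theorem isQuasiProjective_affine {S X : Scheme.{u}} (f : X ⟶ S) [QuasiSeparatedSpace S] [LocallyOfFiniteType f]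
    {U : X.Opens} (hU : IsAffineOpen U) : RelProj.IsQuasiProjective (U.ι ≫ f) := by
  haveI : IsAffine U.toScheme := hU
  haveI hq : QuasiCompact (U.ι ≫ f) := inferInstance
  refine ⟨inferInstance, hq, Coh.structureModule U.toScheme, (Amp73.isQuasiAffine_iff_isRelAmple _).1 ⟨hq, fun V hV => ?_⟩⟩
  haveI : IsAffine V.toScheme := hV
  haveI : CompactSpace ((U.ι ≫ f) ⁻¹ᵁ V).toScheme :=
    isCompact_iff_compactSpace.mp (QuasiCompact.isCompact_preimage (f := U.ι ≫ f) _ V.isOpen hV.isCompact)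
  exact Scheme.IsQuasiAffine.of_isImmersion ((U.ι ≫ f) ⁻¹ᵁ V).ι

theorem exists_dense_affine_nhd {X : Scheme.{u}} [IsNoetherian X] (x : X) :
    ∃ U : X.Opens, x ∈ U ∧ IsAffineOpen U ∧ Dense (U : Set X) := by
  obtain ⟨_, ⟨A, hA, rfl⟩, hxA, -⟩ :=
    X.isBasis_affineOpens.exists_subset_of_mem_open (Set.mem_univ x) isOpen_univ
  let W : X.Opens := ⟨(closure (A : Set X))ᶜ, isClosed_closure.isOpen_compl⟩
  haveI : NoetherianSpace W.toScheme := W.ι.isOpenEmbedding.isInducing.noetherianSpace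
  obtain ⟨V, hV, hVd⟩ := FlatMor67.exists_dense_affineOpen W.toScheme
  have hVW : W.ι ''ᵁ V ≤ W := W.ι_image_le V
  refine ⟨A ⊔ W.ι ''ᵁ V, Or.inl hxA, hA.sup_of_disjoint (hV.image_of_isOpenImmersion W.ι) ?_, ?_⟩
  · rw [disjoint_iff, eq_bot_iff]
    exact fun y hy => hVW hy.2 (subset_closure hy.1)
  · intro y
    by_cases hy : y ∈ closure (A : Set X)
    · exact closure_mono (fun a ha => Or.inl ha) hy
    · have h2 : y ∈ closure (W.ι '' (V : Set W.toScheme)) :=
        image_closure_subset_closure_image W.ι.continuous ⟨⟨y, hy⟩, hVd _, rfl⟩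
      exact closure_mono (fun a ha => Or.inr ha) h2

theorem t17886 {S X : Scheme.{u}} (f : X ⟶ S)
    [IsNoetherian S] [QuasiCompact f] [LocallyOfFiniteType f] :
    ∃ (n : ℕ) (U : Fin n → X.Opens), (⨆ i, U i) = ⊤ ∧
      ∀ i, IsAffineOpen (U i) ∧ Dense ((U i : Set X)) ∧ RelProj.IsQuasiProjective ((U i).ι ≫ f) := by
  classical
  haveI : CompactSpace X := QuasiCompact.compactSpace_of_compactSpace f
  haveI : IsLocallyNoetherian X := LocallyOfFiniteType.isLocallyNoetherian f
  haveI : IsNoetherian X := ⟨⟩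
  choose U hx hA hD using exists_dense_affine_nhd (X := X)
  obtain ⟨t, ht⟩ := isCompact_univ.elim_finite_subcover (fun x => (U x : Set X)) (fun x => (U x).isOpen)
    fun x _ => Set.mem_iUnion.2 ⟨x, hx x⟩
  refine ⟨t.card, fun i => U (t.equivFin.symm i).1, top_le_iff.1 fun x _ => ?_,
    fun i => ⟨hA _, hD _, isQuasiProjective_affine f (hA _)⟩⟩
  obtain ⟨a, hat, hxa⟩ := Set.mem_iUnion₂.1 (ht (Set.mem_univ x))
  exact Opens.mem_iSup.2 ⟨t.equivFin ⟨a, hat⟩, by simpa using hxa⟩

end Groth.Agent.FlatMor68.DenseQProj
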