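import Groth.Agent.FlatMor68.DevissageBC
import Groth.Agent.FlatMor67.PurePush
import Groth.Agent.E4O.FibreDim

/-! Base change of a one-step dévissage at a point with trivial residue extension (S12239). -/

set_option autoImplicit false
set_option backward.isDefEq.respectTransparency.types false
set_option linter.style.haveILetI false

universe u

open TensorProduct

namespace Groth.Agent.FlatMor68.DevissageAtBC

section

variable {R S R' S' : Type u} [CommRing R] [CommRing S] [CommRing R'] [CommRing S'] [Algebra R S] [Algebra R R']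
  [Algebra R' S'] [Algebra R S'] [Algebra S S'] [IsScalarTower R R' S'] [IsScalarTower R S S']
  [Algebra.IsPushout R R' S S'] (p : Ideal R) [p.IsPrime] (p' : Ideal R') [p'.IsPrime] [hp : p'.LiesOver p]

/-- The fibre rings agree when the residue extension is trivial. -/
theorem exists_fiberEquiv (hκ : Function.Bijective (Ideal.ResidueField.mapₐ p p' (Algebra.ofId R R') hp.over)) :
    ∃ E : p.Fiber S ≃+* p'.Fiber S', ∀ s : S,
      E ((Algebra.TensorProduct.includeRight (R := R) (A := p.ResidueField) (B := S)) s) =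
        (Algebra.TensorProduct.includeRight (R := R') (A := p'.ResidueField) (B := S')) (algebraMap S S' s) := by
  let eκ : p.ResidueField ≃ₐ[R] p'.ResidueField := AlgEquiv.ofBijective _ hκ
  let a : p'.Fiber S' ≃ₐ[R'] p'.ResidueField ⊗[R] S :=
    (Algebra.TensorProduct.congr AlgEquiv.refl (Algebra.IsPushout.equiv R R' S S').symm).trans
      (Algebra.TensorProduct.cancelBaseChange R R' R' p'.ResidueField S)
  refine ⟨(Algebra.TensorProduct.congr eκ (AlgEquiv.refl (A₁ := S))).toRingEquiv.trans a.toRingEquiv.symm, fun s => ?_⟩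
  apply a.toRingEquiv.injective
  simp [a, Algebra.IsPushout.equiv_symm_algebraMap_right, Algebra.TensorProduct.includeRight_apply]

/-- A prime of the base change over `p'` is determined by its contraction to `S`. -/
theorem eq_of_comap_eq (hκ : Function.Bijective (Ideal.ResidueField.mapₐ p p' (Algebra.ofId R R') hp.over))
    (q₁ q₂ : Ideal S') [q₁.IsPrime] [q₂.IsPrime] [q₁.LiesOver p'] [q₂.LiesOver p']
    (h : q₁.comap (algebraMap S S') = q₂.comap (algebraMap S S')) : q₁ = q₂ := by
  obtain ⟨E, hE⟩ := exists_fiberEquiv (S := S) (S' := S') p p' hκ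
  have key : ∀ (q : Ideal S') [q.IsPrime] [q.LiesOver p'],
      (FlatCA.fiberIdeal p' q).comap E.toRingHom = FlatCA.fiberIdeal p (q.comap (algebraMap S S')) := by
    intro q _ _
    rw [← FlatMor67.PurePush.fiberIdeal_comap p ((FlatCA.fiberIdeal p' q).comap E.toRingHom)]
    congr 1
    conv_rhs => rw [← FlatMor67.PurePush.comap_fiberIdeal p' q]
    ext s
    simp only [Ideal.mem_comap]
    exact Iff.of_eq (congrArg (· ∈ FlatCA.fiberIdeal p' q) (hE s))
  have := key q₁
  rw [h, ← key q₂] at this
  have := Ideal.comap_injective_of_surjective E.toRingHom E.surjective this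
  rw [← FlatMor67.PurePush.comap_fiberIdeal p' q₁, this, FlatMor67.PurePush.comap_fiberIdeal p' q₂]

/-- The residue extension of a point of the base change is trivial. -/
theorem residue_surjective (hκ : Function.Bijective (Ideal.ResidueField.mapₐ p p' (Algebra.ofId R R') hp.over))
    (y : Ideal S) [y.IsPrime] (y' : Ideal S') [y'.IsPrime] [hy : y'.LiesOver y] [hyp : y'.LiesOver p']
    [hy0 : y.LiesOver p] :
    Function.Surjective (Ideal.ResidueField.mapₐ y y' (Algebra.ofId S S') hy.over) := by
  let φ := Ideal.ResidueField.mapₐ y y' (Algebra.ofId S S') hy.over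
  let ψ := Ideal.ResidueField.mapₐ p' y' (Algebra.ofId R' S') hyp.over
  let ρ := Ideal.ResidueField.mapₐ p y (Algebra.ofId R S) hy0.over
  let F := φ.toRingHom.fieldRange
  have hS : ∀ t : S', algebraMap S' y'.ResidueField t ∈ F := by
    intro t
    obtain ⟨t, rfl⟩ := (Algebra.IsPushout.equiv R R' S S').surjective t
    induction t with
    | zero => rw [map_zero, map_zero]; exact F.zero_mem
    | add a b ha hb => rw [map_add, map_add]; exact F.add_mem ha hb
    | tmul r s =>
      rw [Algebra.IsPushout.equiv_tmul, map_mul, ← IsScalarTower.algebraMap_apply S S', ← IsScalarTower.algebraMap_apply R' S']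
      refine F.mul_mem ?_ ⟨algebraMap S y.ResidueField s, φ.commutes s⟩
      obtain ⟨c, hc⟩ := hκ.2 (algebraMap R' p'.ResidueField r)
      refine ⟨ρ c, ?_⟩
      have : φ.toRingHom.comp ρ.toRingHom = ψ.toRingHom.comp (Ideal.ResidueField.mapₐ p p' (Algebra.ofId R R') hp.over).toRingHom := by
        apply Ideal.ResidueField.ringHom_ext
        ext x
        show φ (ρ (algebraMap R _ x)) = ψ (Ideal.ResidueField.mapₐ p p' (Algebra.ofId R R') hp.over (algebraMap R _ x))
        rw [AlgHom.commutes, AlgHom.commutes, IsScalarTower.algebraMap_apply R S y.ResidueField, AlgHom.commutes,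
          IsScalarTower.algebraMap_apply R R' p'.ResidueField, AlgHom.commutes,
          IsScalarTower.algebraMap_apply R S y'.ResidueField x |>.symm, IsScalarTower.algebraMap_apply R R' y'.ResidueField x |>.symm]
      show φ.toRingHom.comp ρ.toRingHom c = _
      rw [this, RingHom.comp_apply]
      show ψ (Ideal.ResidueField.mapₐ p p' (Algebra.ofId R R') hp.over c) = _
      rw [hc, AlgHom.commutes]
  intro b
  obtain ⟨a, b, hb, rfl⟩ := IsFractionRing.div_surjective (A := S' ⧸ y') b
  obtain ⟨a, rfl⟩ := Ideal.Quotient.mk_surjective a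
  obtain ⟨b, rfl⟩ := Ideal.Quotient.mk_surjective b
  exact F.div_mem (hS a) (hS b)

end

/-- Transport of `PurelyTranscendental`. -/
theorem purelyTranscendental_transport {k k' K K' : Type u} [Field k] [Field k'] [Field K] [Field K']
    [Algebra k K] [Algebra k' K'] (e : k ≃+* k') (E : K ≃+* K')
    (h : ∀ c, E (algebraMap k K c) = algebraMap k' K' (e c)) {ι : Type u} {x : ι → K}
    (hx : IsTranscendenceBasis k x) (ht : IntermediateField.adjoin k (Set.range x) = ⊤) :
    IsTranscendenceBasis k' (E ∘ x) ∧ IntermediateField.adjoin k' (Set.range (E ∘ x)) = ⊤ := by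
  have h' : RingHom.comp (algebraMap k' K') e.toRingHom = RingHom.comp E.toRingHom (algebraMap k K) :=
    RingHom.ext fun c => (h c).symm
  have h'' : RingHom.comp (algebraMap k K) e.symm.toRingHom = RingHom.comp E.symm.toRingHom (algebraMap k' K') :=
    RingHom.ext fun c => E.injective (by simp [h])
  constructor
  · refine ⟨hx.1.ringHom_of_comp_eq (f := e.toRingHom) (g := E.toRingHom) e.surjective E.injective h', fun t ht hsub => ?_⟩
    have hu : AlgebraicIndepOn k id (E.symm '' t) :=
      (AlgebraicIndependent.ringHom_of_comp_eq (f := e.symm.toRingHom) (g := E.symm.toRingHom) ht e.symm.surjective E.symm.injective h'').image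
    rw [Set.range_comp] at hsub ⊢
    rw [hx.2 _ hu (fun a ha => ⟨E a, hsub ⟨a, ha, rfl⟩, E.symm_apply_apply a⟩), ← Set.image_comp]
    simp
  · apply IntermediateField.toSubfield_injective
    rw [IntermediateField.adjoin_toSubfield, IntermediateField.top_toSubfield, eq_top_iff]
    intro b _
    obtain ⟨a, rfl⟩ := E.surjective b
    have ha : a ∈ IntermediateField.adjoin k (Set.range x) := by rw [ht]; trivial
    rw [← IntermediateField.mem_toSubfield, IntermediateField.adjoin_toSubfield] at ha
    have := Subfield.closure_le (s := Set.range (algebraMap k K) ∪ Set.range x)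
      (t := (Subfield.closure (Set.range (algebraMap k' K') ∪ Set.range (E ∘ x))).comap E.toRingHom)
    refine this.2 ?_ ha
    rintro _ (⟨c, rfl⟩ | ⟨i, rfl⟩)
    · exact Subfield.subset_closure (Or.inl ⟨e c, (h c).symm⟩)
    · exact Subfield.subset_closure (Or.inr ⟨i, rfl⟩)

theorem supportDim_homeo {A B : Type u} [CommRing A] [CommRing B] (E : A ≃+* B) (s : Set (PrimeSpectrum A))
    (t : Set (PrimeSpectrum B)) (h : t = PrimeSpectrum.comap E.toRingHom ⁻¹' s)
    (ξ : PrimeSpectrum A) (hξ : ξ ∈ s) (ξ' : PrimeSpectrum B) (hξ' : ξ' ∈ t)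
    (he : PrimeSpectrum.comap E.toRingHom ξ' = ξ) :
    FlatMor.localDim t ⟨ξ', hξ'⟩ = FlatMor.localDim s ⟨ξ, hξ⟩ := by
  subst h
  let H : ↥(PrimeSpectrum.comap E.toRingHom ⁻¹' s) ≃ₜ s :=
    (PrimeSpectrum.homeomorphOfRingEquiv E).symm.subtype fun _ => Iff.rfl
  rw [E4O.localDim_eq_of_homeomorph H]
  congr 1
  exact Subtype.ext he

open FlatMor in
set_option maxHeartbeats 1000000 in
theorem main
    (R S : Type u) [CommRing R] [CommRing S] [Algebra R S] [Algebra.FiniteType R S]
    (N : Type u) [AddCommGroup N] [Module S N] [Module R N] [IsScalarTower R S N] [Module.Finite S N]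
    (p : Ideal R) [p.IsPrime] (q : Ideal S) [q.IsPrime] [q.LiesOver p]
    (C D G : Type u) [CommRing C] [CommRing D] [Algebra S C] [Algebra R C] [IsScalarTower R S C]
    [Algebra R D] [Algebra D C] [IsScalarTower R D C] [AddCommGroup G] [Module C G] [Module S G]
    [IsScalarTower S C G] (n : ℕ)
    (h : FlatCA.IsOneStepDevissage R S N p C D G n)
    (z : Ideal C) [z.IsPrime] (y : Ideal D) [y.IsPrime] [z.LiesOver q] [z.LiesOver y] [y.LiesOver p]
    (h1 : ∃ (ξ : PrimeSpectrum (p.Fiber S)) (hξ : ξ ∈ Module.support (p.Fiber S) (FlatCA.fiberMod p S N)),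
      ξ.asIdeal = FlatCA.fiberIdeal p q ∧
      FlatMor.localDim (Module.support (p.Fiber S) (FlatCA.fiberMod p S N)) ⟨ξ, hξ⟩ = n)
    (h3 : ∀ (z₁ : Ideal C) [z₁.IsPrime], z₁.LiesOver y → z₁ = z)
    (h4 : FlatCA.PurelyTranscendental p y)
    (R' : Type u) [CommRing R'] [Algebra R R'] (p' : Ideal R') [p'.IsPrime] [hp' : p'.LiesOver p]
    (hκ : Function.Bijective (Ideal.ResidueField.mapₐ p p' (Algebra.ofId R R') hp'.over))
    (S' C' D' : Type u) [CommRing S'] [CommRing C'] [CommRing D']
    [Algebra R' S'] [Algebra R S'] [Algebra S S'] [IsScalarTower R R' S'] [IsScalarTower R S S']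
    [Algebra.IsPushout R R' S S']
    [Algebra R' C'] [Algebra R C'] [Algebra C C'] [IsScalarTower R R' C'] [IsScalarTower R C C']
    [Algebra.IsPushout R R' C C']
    [Algebra R' D'] [Algebra R D'] [Algebra D D'] [IsScalarTower R R' D'] [IsScalarTower R D D']
    [Algebra.IsPushout R R' D D']
    [Algebra S' C'] [IsScalarTower R' S' C'] [Algebra S C'] [IsScalarTower S S' C'] [IsScalarTower S C C']
    [Algebra D' C'] [IsScalarTower R' D' C'] [Algebra D C'] [IsScalarTower D D' C'] [IsScalarTower D C C']
    (N' : Type u) [AddCommGroup N'] [Module S' N'] [Module R' N'] [IsScalarTower R' S' N']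
    [Module S N'] [IsScalarTower S S' N'] (f : N →ₗ[S] N') (hf : IsBaseChange S' f)
    (G' : Type u) [AddCommGroup G'] [Module C' G'] [Module S' G'] [IsScalarTower S' C' G']
    [Module C G'] [IsScalarTower C C' G'] (g : G →ₗ[C] G') (hg : IsBaseChange C' g)
    (q' : Ideal S') [q'.IsPrime] [q'.LiesOver q] [q'.LiesOver p']
    (z' : Ideal C') [z'.IsPrime] [z'.LiesOver z] [z'.LiesOver p']
    (y' : Ideal D') [y'.IsPrime] [y'.LiesOver y] [y'.LiesOver p'] :
    (∀ (q₁ : Ideal S') [q₁.IsPrime], q₁.LiesOver q → q₁.LiesOver p' → q₁ = q') ∧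
    FlatCA.IsOneStepDevissage R' S' N' p' C' D' G' n ∧
    (∃ (ξ' : PrimeSpectrum (p'.Fiber S')) (hξ' : ξ' ∈ Module.support (p'.Fiber S') (FlatCA.fiberMod p' S' N')),
      ξ'.asIdeal = FlatCA.fiberIdeal p' q' ∧
      FlatMor.localDim (Module.support (p'.Fiber S') (FlatCA.fiberMod p' S' N')) ⟨ξ', hξ'⟩ = n) ∧
    z'.LiesOver q' ∧ z'.LiesOver y' ∧
    (∀ (z₁ : Ideal C') [z₁.IsPrime], z₁.LiesOver y' → z₁ = z') ∧
    FlatCA.PurelyTranscendental p' y' := by
  obtain ⟨ξ, hξ, hξq, hdim⟩ := h1
  have hqq : q'.comap (algebraMap S S') = q := (q'.over_def q).symm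
  have huniq : ∀ (q₁ : Ideal S') [q₁.IsPrime], q₁.LiesOver q → q₁.LiesOver p' → q₁ = q' := fun q₁ _ a b =>
    eq_of_comap_eq (S := S) p p' hκ q₁ q' ((q₁.over_def q).symm.trans hqq.symm)
  have hz'q : z'.comap (algebraMap S' C') = q' := by
    have e : (z'.comap (algebraMap S' C')).LiesOver p' := ⟨by
      rw [Ideal.under, Ideal.comap_comap, ← IsScalarTower.algebraMap_eq]; exact z'.over_def p'⟩
    refine eq_of_comap_eq (S := S) p p' hκ _ _ ?_
    rw [hqq, Ideal.comap_comap, ← IsScalarTower.algebraMap_eq, IsScalarTower.algebraMap_eq S C C', ← Ideal.comap_comap,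
      (show z'.comap (algebraMap C C') = z from (z'.over_def z).symm)]
    exact (z.over_def q).symm
  have hz'y : z'.comap (algebraMap D' C') = y' := by
    have e : (z'.comap (algebraMap D' C')).LiesOver p' := ⟨by
      rw [Ideal.under, Ideal.comap_comap, ← IsScalarTower.algebraMap_eq]; exact z'.over_def p'⟩
    refine eq_of_comap_eq (S := D) p p' hκ _ _ ?_
    rw [Ideal.comap_comap, ← IsScalarTower.algebraMap_eq, IsScalarTower.algebraMap_eq D C C', ← Ideal.comap_comap,
      (show z'.comap (algebraMap C C') = z from (z'.over_def z).symm)]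
    exact (z.over_def y).symm.trans (y'.over_def y)
  refine ⟨huniq, DevissageBC.main R S N p C D G n h R' p' S' C' D' N' f hf G' g hg, ?_, ⟨hz'q.symm⟩, ⟨hz'y.symm⟩, ?_, ?_⟩
  · obtain ⟨E, hE⟩ := exists_fiberEquiv (S := S) (S' := S') p p' hκ
    haveI : Module.Finite S' N' := Module.Finite.equiv hf.equiv
    have hsupp : Module.support (p'.Fiber S') (FlatCA.fiberMod p' S' N') =
        PrimeSpectrum.comap E.toRingHom ⁻¹' Module.support (p.Fiber S) (FlatCA.fiberMod p S N) := by
      letI : Algebra S (p.Fiber S) := Algebra.TensorProduct.rightAlgebra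
      letI : Algebra S' (p'.Fiber S') := Algebra.TensorProduct.rightAlgebra
      rw [show Module.support (p'.Fiber S') (FlatCA.fiberMod p' S' N') = _ from S6284.result (R' := p'.Fiber S') N',
        show Module.support (p.Fiber S) (FlatCA.fiberMod p S N) = _ from S6284.result (R' := p.Fiber S) N,
        ← hf.equiv.support_eq, S6284.result N, ← Set.preimage_comp, ← Set.preimage_comp]
      congr 1
      funext P
      simp only [Function.comp_apply, ← PrimeSpectrum.comap_comp_apply]
      congr 1
      exact RingHom.ext fun s => (hE s).symm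
    let ξ' : PrimeSpectrum (p'.Fiber S') := PrimeSpectrum.comap E.symm.toRingHom ξ
    have he : PrimeSpectrum.comap E.toRingHom ξ' = ξ := by
      rw [← PrimeSpectrum.comap_comp_apply, show E.symm.toRingHom.comp E.toRingHom = RingHom.id _ from RingHom.ext E.symm_apply_apply]
      rfl
    have hξ' : ξ' ∈ Module.support (p'.Fiber S') (FlatCA.fiberMod p' S' N') := by
      rw [hsupp, Set.mem_preimage, he]; exact hξ
    refine ⟨ξ', hξ', ?_, (supportDim_homeo E _ _ hsupp ξ hξ ξ' hξ' he).trans hdim⟩
    let q₁ := ξ'.asIdeal.comap (Algebra.TensorProduct.includeRight (R := R') (A := p'.ResidueField) (B := S')).toRingHom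
    haveI : q₁.LiesOver p' := ((PrimeSpectrum.primesOverOrderIsoFiber R' S' p').symm ξ').2.2
    have h₁ : q₁.comap (algebraMap S S') = q := by
      rw [← FlatMor67.PurePush.comap_fiberIdeal p q, ← hξq]
      ext s
      simp only [q₁, Ideal.mem_comap]
      show E.symm _ ∈ ξ.asIdeal ↔ _
      rw [show (Algebra.TensorProduct.includeRight (R := R') (A := p'.ResidueField) (B := S')).toRingHom (algebraMap S S' s) = E ((Algebra.TensorProduct.includeRight (R := R) (A := p.ResidueField) (B := S)) s) from (hE s).symm,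
        E.symm_apply_apply]
      rfl
    rw [← eq_of_comap_eq (S := S) p p' hκ q₁ q' (h₁.trans hqq.symm)]
    exact (FlatMor67.PurePush.fiberIdeal_comap p' ξ'.asIdeal).symm
  · intro z₁ _ hz₁
    haveI : z₁.LiesOver p' := ⟨by
      rw [y'.over_def p', z₁.over_def y', Ideal.under, Ideal.under, Ideal.under, Ideal.comap_comap, ← IsScalarTower.algebraMap_eq]⟩
    refine eq_of_comap_eq (S := C) p p' hκ z₁ z' ?_
    refine (h3 (z₁.comap (algebraMap C C')) ⟨?_⟩).trans (z'.over_def z)
    rw [Ideal.under, Ideal.comap_comap, ← IsScalarTower.algebraMap_eq, IsScalarTower.algebraMap_eq D D' C', ← Ideal.comap_comap,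
      (show z₁.comap (algebraMap D' C') = y' from (z₁.over_def y').symm)]
    exact y'.over_def y
  · obtain ⟨ι, x, hx, ht⟩ := h4
    have hs := residue_surjective (S := D) (S' := D') p p' hκ y y'
    letI : Algebra p.ResidueField y.ResidueField := (Ideal.ResidueField.mapₐ p y (Algebra.ofId R D) (y.over_def p)).toRingHom.toAlgebra
    letI : Algebra p'.ResidueField y'.ResidueField := (Ideal.ResidueField.mapₐ p' y' (Algebra.ofId R' D') (y'.over_def p')).toRingHom.toAlgebra
    let e : p.ResidueField ≃+* p'.ResidueField := RingEquiv.ofBijective _ hκ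
    let E : y.ResidueField ≃+* y'.ResidueField := RingEquiv.ofBijective _ ⟨(Ideal.ResidueField.mapₐ y y' (Algebra.ofId D D') (y'.over_def y)).toRingHom.injective, hs⟩
    refine ⟨ι, E ∘ x, purelyTranscendental_transport e E (fun c => ?_) hx ht⟩
    have hh : E.toRingHom.comp (algebraMap p.ResidueField y.ResidueField) = (algebraMap p'.ResidueField y'.ResidueField).comp e.toRingHom := by
      apply Ideal.ResidueField.ringHom_ext
      ext r
      show Ideal.ResidueField.mapₐ y y' (Algebra.ofId D D') _ (Ideal.ResidueField.mapₐ p y (Algebra.ofId R D) _ (algebraMap R _ r)) =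
        Ideal.ResidueField.mapₐ p' y' (Algebra.ofId R' D') _ (Ideal.ResidueField.mapₐ p p' (Algebra.ofId R R') _ (algebraMap R _ r))
      rw [AlgHom.commutes, AlgHom.commutes, IsScalarTower.algebraMap_apply R D y.ResidueField, AlgHom.commutes,
        IsScalarTower.algebraMap_apply R R' p'.ResidueField, AlgHom.commutes,
        ← IsScalarTower.algebraMap_apply R D y'.ResidueField, ← IsScalarTower.algebraMap_apply R R' y'.ResidueField]
    exact RingHom.congr_fun hh c

end Groth.Agent.FlatMor68.DevissageAtBC
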