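import Groth.Prelude.Def_FlatCA
import Groth.Agent.FlatMor68.FibDimBC
import Groth.Agent.S6284

/-! Base change of one-step dévissages (S12231). -/

set_option autoImplicit false
set_option backward.isDefEq.respectTransparency.types false
set_option linter.style.haveILetI false

universe u

open TensorProduct CategoryTheory CategoryTheory.Limits AlgebraicGeometry

namespace Groth.Agent.FlatMor68.DevissageBC

theorem dim_tensor (k K C : Type u) [Field k] [Field K] [Algebra k K] [CommRing C] [Algebra k C]
    [Algebra.FiniteType k C] : ringKrullDim (K ⊗[k] C) = ringKrullDim C := by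
  have hsq := isPullback_SpecMap_of_isPushout _ _ _ _ (CommRingCat.isPushout_tensorProduct k K C)
  haveI : LocallyOfFiniteType (Spec.map (CommRingCat.ofHom (algebraMap k C))) := by
    rw [HasRingHomProperty.Spec_iff (P := @LocallyOfFiniteType)]
    exact RingHom.finiteType_algebraMap.2 ‹_›
  have h := FibDimBC.dim_eq_of_isPullback_field (algebraMap k K) _ _ _ hsq.flip
  rwa [← PrimeSpectrum.topologicalKrullDim_eq_ringKrullDim, ← PrimeSpectrum.topologicalKrullDim_eq_ringKrullDim]

theorem supportDim_tensor {A B M : Type u} [CommRing A] [CommRing B] [Algebra A B] [AddCommGroup M]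
    [Module A M] [Module.Finite A M] (J : Ideal A) (hJ : Module.support A M = PrimeSpectrum.zeroLocus J) :
    Module.supportDim B (B ⊗[A] M) = ringKrullDim (B ⧸ J.map (algebraMap A B)) := by
  rw [ringKrullDim_quotient, Module.supportDim, S6284.result M, hJ, PrimeSpectrum.preimage_comap_zeroLocus,
    ← PrimeSpectrum.zeroLocus_span]
  rfl

theorem support_tensor {A B M : Type u} [CommRing A] [CommRing B] [Algebra A B] [AddCommGroup M]
    [Module A M] [Module.Finite A M] :
    Module.support B (B ⊗[A] M) = PrimeSpectrum.zeroLocus ((Module.annihilator A M).map (algebraMap A B)) := by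
  rw [S6284.result M, Module.support_eq_zeroLocus, PrimeSpectrum.preimage_comap_zeroLocus,
    ← PrimeSpectrum.zeroLocus_span]
  rfl

/-- `(K ⊗ C) ⧸ I ≃ K ⊗ (C ⧸ I)` on dimensions. -/
theorem dim_tensor_quot (R K C : Type u) [CommRing R] [CommRing K] [CommRing C] [Algebra R K] [Algebra R C]
    (I : Ideal C) :
    ringKrullDim ((K ⊗[R] C) ⧸ I.map (Algebra.TensorProduct.includeRight (R := R) (A := K) (B := C)).toRingHom) =
      ringKrullDim (K ⊗[R] (C ⧸ I)) := by
  have h := Algebra.TensorProduct.lTensor_ker (A := K) (Ideal.Quotient.mkₐ R I) Ideal.Quotient.mk_surjective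
  rw [show RingHom.ker (Ideal.Quotient.mkₐ R I) = I from Ideal.mk_ker] at h
  refine RingEquiv.ringKrullDim ((Ideal.quotEquivOfEq h.symm).trans
    (RingHom.quotientKerEquivOfSurjective (f := (Algebra.TensorProduct.map (AlgHom.id R K) (Ideal.Quotient.mkₐ R I)).toRingHom) ?_))
  exact LinearMap.lTensor_surjective K (g := (Ideal.Quotient.mkₐ R I).toLinearMap) Ideal.Quotient.mk_surjective

section
attribute [local instance] Algebra.TensorProduct.rightAlgebra

theorem supportDim_fiberMod {R : Type u} [CommRing R] (p : Ideal R) [p.IsPrime] (S : Type u) [CommRing S]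
    [Algebra R S] (N : Type u) [AddCommGroup N] [Module S N] [Module R N] [IsScalarTower R S N]
    [Module.Finite S N] (J : Ideal S) (hJ : Module.support S N = PrimeSpectrum.zeroLocus J) :
    Module.supportDim (p.Fiber S) (FlatCA.fiberMod p S N) = ringKrullDim (p.ResidueField ⊗[R] (S ⧸ J)) := by
  rw [← dim_tensor_quot R p.ResidueField S J]
  exact supportDim_tensor (B := p.Fiber S) J hJ

end

theorem supportDim_baseChange
    (R S : Type u) [CommRing R] [CommRing S] [Algebra R S] [Algebra.FiniteType R S]
    (N : Type u) [AddCommGroup N] [Module S N] [Module R N] [IsScalarTower R S N] [Module.Finite S N]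
    (p : Ideal R) [p.IsPrime]
    (R' : Type u) [CommRing R'] [Algebra R R'] (p' : Ideal R') [p'.IsPrime] [hp : p'.LiesOver p]
    (S' : Type u) [CommRing S']
    [Algebra R' S'] [Algebra R S'] [Algebra S S'] [IsScalarTower R R' S'] [IsScalarTower R S S']
    [Algebra.IsPushout R R' S S']
    (N' : Type u) [AddCommGroup N'] [Module S' N'] [Module R' N'] [IsScalarTower R' S' N']
    [Module S N'] [IsScalarTower S S' N'] (f : N →ₗ[S] N') (hf : IsBaseChange S' f) :
    Module.supportDim (p'.Fiber S') (FlatCA.fiberMod p' S' N') =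
      Module.supportDim (p.Fiber S) (FlatCA.fiberMod p S N) := by
  haveI : Module.Finite S' N' := Module.Finite.equiv hf.equiv
  let I := Module.annihilator S N
  let J := I.map (algebraMap S S')
  have hJ : Module.support S' N' = PrimeSpectrum.zeroLocus J := by
    rw [← hf.equiv.support_eq, support_tensor]
  rw [supportDim_fiberMod p' S' N' J hJ, supportDim_fiberMod p S N I Module.support_eq_zeroLocus]
  let e : (S' ⧸ J) ≃ₐ[R'] R' ⊗[R] (S ⧸ I) :=
    ((Algebra.TensorProduct.quotIdealMapEquivTensorQuot S' I).restrictScalars R').trans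
      (Algebra.IsPushout.cancelBaseChangeAlg R R' S S' (S ⧸ I))
  letI : Algebra p.ResidueField p'.ResidueField :=
    (Ideal.ResidueField.mapₐ p p' (Algebra.ofId R R') hp.over).toRingHom.toAlgebra
  haveI : IsScalarTower R p.ResidueField p'.ResidueField := .of_algebraMap_eq fun r =>
    ((Ideal.ResidueField.mapₐ p p' (Algebra.ofId R R') hp.over).commutes r).symm
  rw [← dim_tensor p.ResidueField p'.ResidueField (p.ResidueField ⊗[R] (S ⧸ I)),
    RingEquiv.ringKrullDim ((Algebra.TensorProduct.congr AlgEquiv.refl e).trans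
      (Algebra.TensorProduct.cancelBaseChange R R' R' p'.ResidueField (S ⧸ I))).toRingEquiv]
  exact (RingEquiv.ringKrullDim
    (Algebra.TensorProduct.cancelBaseChange R p.ResidueField p.ResidueField p'.ResidueField (S ⧸ I)).toRingEquiv).symm

theorem smoothRelDim_baseChange {R R' D D' : Type u} [CommRing R] [CommRing R'] [CommRing D] [CommRing D']
    [Algebra R R'] [Algebra R D] [Algebra R' D'] [Algebra R D'] [Algebra D D'] [IsScalarTower R R' D']
    [IsScalarTower R D D'] [hP : Algebra.IsPushout R R' D D'] (n : ℕ) (h : FlatCA.SmoothRelDim n R D)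
    (hg : FlatCA.GeomIrredFibres R D) : FlatCA.SmoothRelDim n R' D' ∧ FlatCA.GeomIrredFibres R' D' := by
  have hsq := isPullback_SpecMap_of_isPushout _ _ _ _ (CommRingCat.isPushout_of_isPushout R R' D D')
  haveI := smoothOfRelativeDimension_isStableUnderBaseChange n
  exact ⟨MorphismProperty.of_isPullback (P := @SmoothOfRelativeDimension n) hsq.flip h,
    MorphismProperty.of_isPullback (P := @GeometricallyIrreducible) hsq.flip hg⟩

theorem main
    (R S : Type u) [CommRing R] [CommRing S] [Algebra R S] [Algebra.FiniteType R S]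
    (N : Type u) [AddCommGroup N] [Module S N] [Module R N] [IsScalarTower R S N] [Module.Finite S N]
    (p : Ideal R) [p.IsPrime]
    (C D G : Type u) [CommRing C] [CommRing D] [Algebra S C] [Algebra R C] [IsScalarTower R S C]
    [Algebra R D] [Algebra D C] [IsScalarTower R D C] [AddCommGroup G] [Module C G] [Module S G]
    [IsScalarTower S C G] (n : ℕ)
    (h : FlatCA.IsOneStepDevissage R S N p C D G n)
    (R' : Type u) [CommRing R'] [Algebra R R'] (p' : Ideal R') [p'.IsPrime] [p'.LiesOver p]
    (S' C' D' : Type u) [CommRing S'] [CommRing C'] [CommRing D']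
    [Algebra R' S'] [Algebra R S'] [Algebra S S'] [IsScalarTower R R' S'] [IsScalarTower R S S']
    [Algebra.IsPushout R R' S S']
    [Algebra R' C'] [Algebra R C'] [Algebra C C'] [IsScalarTower R R' C'] [IsScalarTower R C C']
    [Algebra.IsPushout R R' C C']
    [Algebra R' D'] [Algebra R D'] [Algebra D D'] [IsScalarTower R R' D'] [IsScalarTower R D D']
    [Algebra.IsPushout R R' D D']
    [Algebra S' C'] [IsScalarTower R' S' C'] [Algebra S C'] [IsScalarTower S S' C'] [IsScalarTower S C C']
    [Algebra D' C'] [IsScalarTower R' D' C'] [Algebra D C'] [IsScalarTower D D' C'] [IsScalarTower D C C']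
    (N' : Type u) [AddCommGroup N'] [Module S' N'] [Module R' N'] [IsScalarTower R' S' N']
    [Module S N'] [IsScalarTower S S' N'] (f : N →ₗ[S] N') (hf : IsBaseChange S' f)
    (G' : Type u) [AddCommGroup G'] [Module C' G'] [Module S' G'] [IsScalarTower S' C' G']
    [Module C G'] [IsScalarTower C C' G'] (g : G →ₗ[C] G') (hg : IsBaseChange C' g) :
    FlatCA.IsOneStepDevissage R' S' N' p' C' D' G' n := by
  obtain ⟨⟨eN⟩, hs, hfp, hfin, hGfin, hsm, hgi, hdim⟩ := h
  haveI : IsScalarTower R S' C' := .of_algebraMap_eq fun x => by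
    rw [IsScalarTower.algebraMap_apply R R' S', ← IsScalarTower.algebraMap_apply R' S' C', ← IsScalarTower.algebraMap_apply R R' C']
  haveI : IsScalarTower R D' C' := .of_algebraMap_eq fun x => by
    rw [IsScalarTower.algebraMap_apply R R' D', ← IsScalarTower.algebraMap_apply R' D' C', ← IsScalarTower.algebraMap_apply R R' C']
  haveI : Algebra.IsPushout R S R' S' := Algebra.IsPushout.symm ‹Algebra.IsPushout R R' S S'›
  haveI : Algebra.IsPushout R D R' D' := Algebra.IsPushout.symm ‹Algebra.IsPushout R R' D D'›
  haveI hC : Algebra.IsPushout S S' C C' :=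
    (Algebra.IsPushout.comp_iff R S R' S' (T := C) (T' := C')).1 (Algebra.IsPushout.symm inferInstance) |>.symm
  haveI hD : Algebra.IsPushout D D' C C' :=
    (Algebra.IsPushout.comp_iff R D R' D' (T := C) (T' := C')).1 (Algebra.IsPushout.symm inferInstance) |>.symm
  obtain ⟨hsm', hgi'⟩ := smoothRelDim_baseChange (R' := R') (D' := D') n hsm hgi
  haveI := hfp; haveI := hfin; haveI := hGfin
  refine ⟨⟨hf.equiv.symm.trans ((LinearEquiv.baseChange S S' N G eN).trans
    ((Algebra.IsPushout.cancelBaseChange S S' C C' G).symm.trans (hg.equiv.restrictScalars S')))⟩, ?_,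
    Algebra.FinitePresentation.equiv (Algebra.IsPushout.equiv S S' C C'),
    Module.Finite.equiv (Algebra.IsPushout.equiv D D' C C').toLinearEquiv,
    Module.Finite.equiv hg.equiv, hsm', hgi', (supportDim_baseChange R S N p R' p' S' N' f hf).trans hdim⟩
  intro c
  obtain ⟨t, rfl⟩ := (Algebra.IsPushout.equiv S S' C C').surjective c
  induction t with
  | zero => exact ⟨0, by simp⟩
  | add x y hx hy => obtain ⟨a, ha⟩ := hx; obtain ⟨b, hb⟩ := hy; exact ⟨a + b, by rw [map_add, map_add, ha, hb]⟩
  | tmul a b =>
    obtain ⟨b, rfl⟩ := hs b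
    exact ⟨a * algebraMap S S' b, by
      rw [Algebra.IsPushout.equiv_tmul, map_mul,
        ← IsScalarTower.algebraMap_apply S S' C', ← IsScalarTower.algebraMap_apply S C C']⟩

end Groth.Agent.FlatMor68.DevissageBC
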