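import Groth.Agent.FlatMor68.DevissageBC
import Groth.Agent.AlgGrp79.SepPoint

/-! Base change lemmas for the steps of a complete dévissage (S12243, S12244). -/

set_option autoImplicit false
set_option backward.isDefEq.respectTransparency.types false
set_option linter.style.haveILetI false

universe u

open TensorProduct CategoryTheory CategoryTheory.Limits AlgebraicGeometry

namespace Groth.Agent.FlatMor68.DevissageStep

variable {R B : Type u} [CommRing R] [CommRing B] [Algebra R B]

theorem isDomain_tensor (K : Type u) [Field K] [Algebra R K] [Algebra.Smooth R B]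
    (hg : FlatCA.GeomIrredFibres R B) : IsDomain (K ⊗[R] B) := by
  haveI : _root_.IsReduced (K ⊗[R] B) := AlgGrp79.isReduced_of_smooth_field K (K ⊗[R] B)
  have hsq := isPullback_SpecMap_of_isPushout _ _ _ _ (CommRingCat.isPushout_tensorProduct R K B)
  haveI := hg.geometrically_irreducibleSpace (Spec.map (CommRingCat.ofHom (algebraMap R K))) _ _ hsq.flip
  exact (affine_isIntegral_iff (CommRingCat.of (K ⊗[R] B))).1 (isIntegral_of_irreducibleSpace_of_isReduced _)

theorem ker_includeRight [Module.Flat R B] (p : Ideal R) [p.IsPrime] :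
    RingHom.ker (Algebra.TensorProduct.includeRight (R := R) (A := p.ResidueField) (B := B)).toRingHom =
      p.map (algebraMap R B) := by
  let j : (R ⧸ p) →ₐ[R] p.ResidueField := IsScalarTower.toAlgHom R (R ⧸ p) p.ResidueField
  have hj : Function.Injective (Algebra.TensorProduct.map j (AlgHom.id R B)) :=
    Module.Flat.rTensor_preserves_injective_linearMap (M := B) j.toLinearMap p.injective_algebraMap_quotient_residueField
  refine le_antisymm (fun b hb => ?_) ?_
  · have hb' : (1 : R ⧸ p) ⊗ₜ[R] b = 0 := hj (by simpa using hb)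
    rw [← Ideal.Quotient.eq_zero_iff_mem]
    apply (Algebra.TensorProduct.quotIdealMapEquivTensorQuot B p).injective
    rw [map_zero]
    have hc := congrArg (TensorProduct.comm R (R ⧸ p) B) hb'
    rw [TensorProduct.comm_tmul, map_zero] at hc
    simpa using hc
  · rw [Ideal.map_le_iff_le_comap]
    intro r hr
    simp only [Ideal.mem_comap, RingHom.mem_ker]
    show (1 : p.ResidueField) ⊗ₜ[R] algebraMap R B r = 0
    rw [Algebra.algebraMap_eq_smul_one, ← smul_tmul, Algebra.smul_def, Ideal.algebraMap_residueField_eq_zero.2 hr,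
      zero_mul, zero_tmul]

variable {R' B' : Type u} [CommRing R'] [Algebra R R'] [CommRing B'] [Algebra R' B'] [Algebra R B'] [Algebra B B']
  [IsScalarTower R R' B'] [IsScalarTower R B B'] [Algebra.IsPushout R R' B B']

theorem isPrime_map_and_comap [Algebra.Smooth R B] (hg : FlatCA.GeomIrredFibres R B)
    (p : Ideal R) [p.IsPrime] (p' : Ideal R') [p'.IsPrime] [hp : p'.LiesOver p] :
    (p'.map (algebraMap R' B')).IsPrime ∧
      (p'.map (algebraMap R' B')).comap (algebraMap B B') = p.map (algebraMap R B) := by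
  haveI : Algebra.Smooth R' B' := Algebra.Smooth.of_equiv (Algebra.IsPushout.equiv R R' B B')
  rw [← ker_includeRight (R := R') (B := B') p']
  haveI := isDomain_tensor (R := R) (B := B) p'.ResidueField hg
  let a : p'.ResidueField ⊗[R'] B' ≃ₐ[R'] p'.ResidueField ⊗[R] B :=
    (Algebra.TensorProduct.congr AlgEquiv.refl (Algebra.IsPushout.equiv R R' B B').symm).trans
      (Algebra.TensorProduct.cancelBaseChange R R' R' p'.ResidueField B)
  haveI : IsDomain (p'.ResidueField ⊗[R'] B') := a.injective.isDomain a.toRingEquiv.toRingHom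
  refine ⟨RingHom.ker_isPrime _, ?_⟩
  letI : Algebra p.ResidueField p'.ResidueField :=
    (Ideal.ResidueField.mapₐ p p' (Algebra.ofId R R') hp.over).toRingHom.toAlgebra
  haveI : IsScalarTower R p.ResidueField p'.ResidueField := .of_algebraMap_eq fun r =>
    ((Ideal.ResidueField.mapₐ p p' (Algebra.ofId R R') hp.over).commutes r).symm
  have hinj : Function.Injective (Algebra.TensorProduct.map (IsScalarTower.toAlgHom R p.ResidueField p'.ResidueField) (AlgHom.id R B)) :=
    Module.Flat.rTensor_preserves_injective_linearMap (M := B)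
      (IsScalarTower.toAlgHom R p.ResidueField p'.ResidueField).toLinearMap (algebraMap p.ResidueField p'.ResidueField).injective
  rw [← ker_includeRight (R := R) (B := B) p]
  ext b
  simp only [Ideal.mem_comap, RingHom.mem_ker]
  show (1 : p'.ResidueField) ⊗ₜ[R'] algebraMap B B' b = 0 ↔ (1 : p.ResidueField) ⊗ₜ[R] b = 0
  rw [← map_eq_zero_iff a a.injective, ← map_eq_zero_iff _ hinj]
  simp [a, Algebra.IsPushout.equiv_symm_algebraMap_right]

section modules

variable {P M M₁ M' M₁' : Type u} [AddCommGroup M] [Module B M] [AddCommGroup M₁] [Module B M₁]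
  [AddCommGroup M'] [Module B' M'] [Module B M'] [IsScalarTower B B' M']
  [AddCommGroup M₁'] [Module B' M₁'] [Module B M₁'] [IsScalarTower B B' M₁']

omit [IsScalarTower R R' B'] [Algebra.IsPushout R R' B B'] [IsScalarTower R B B'] in
theorem range_linearCombination {r : ℕ} (α : (Fin r → B) →ₗ[B] M) (g : M →ₗ[B] M') :
    LinearMap.range (Fintype.linearCombination B' fun j => g (α (Pi.single j 1))) =
      Submodule.span B' (g '' (LinearMap.range α : Set M)) := by
  rw [Fintype.range_linearCombination]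
  refine le_antisymm (Submodule.span_mono ?_) (Submodule.span_le.2 ?_)
  · rintro _ ⟨j, rfl⟩; exact ⟨_, ⟨_, rfl⟩, rfl⟩
  · rintro _ ⟨_, ⟨v, rfl⟩, rfl⟩
    rw [pi_eq_sum_univ v, map_sum, map_sum]
    refine Submodule.sum_mem _ fun j _ => ?_
    rw [LinearMap.map_smul, LinearMap.map_smul, ← algebraMap_smul B']
    refine Submodule.smul_mem _ _ (Submodule.subset_span ⟨j, ?_⟩)
    refine congrArg (fun w => g (α w)) (funext fun i => ?_)
    simp [Pi.single_apply, eq_comm]

omit [IsScalarTower R R' B'] [Algebra.IsPushout R R' B B'] [IsScalarTower R B B'] in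
theorem nonempty_quotient_equiv (K : Submodule B M) (e : (M ⧸ K) ≃ₗ[B] M₁) (g : M →ₗ[B] M') (hg : IsBaseChange B' g)
    (g₁ : M₁ →ₗ[B] M₁') (hg₁ : IsBaseChange B' g₁) :
    Nonempty ((M' ⧸ Submodule.span B' (g '' (K : Set M))) ≃ₗ[B'] M₁') := by
  let S := Submodule.span B' (g '' (K : Set M))
  let φ : M' →ₗ[B'] M₁' := hg.lift (g₁ ∘ₗ e.toLinearMap ∘ₗ K.mkQ)
  have hS : S ≤ LinearMap.ker φ := Submodule.span_le.2 (by
    rintro _ ⟨x, hx, rfl⟩
    show φ (g x) = 0
    rw [hg.lift_eq]
    simp [(Submodule.Quotient.mk_eq_zero K).2 hx])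
  let ψ₀ : (M ⧸ K) →ₗ[B] M' ⧸ S := K.liftQ ((S.mkQ.restrictScalars B) ∘ₗ g) (fun x hx => by
    simp [Submodule.Quotient.mk_eq_zero, S]
    exact Submodule.subset_span (Set.mem_image_of_mem g hx))
  let ψ : M₁' →ₗ[B'] M' ⧸ S := hg₁.lift (ψ₀ ∘ₗ e.symm.toLinearMap)
  refine ⟨LinearEquiv.ofLinearMap (S.liftQ φ hS) ψ ?_ ?_⟩
  · refine hg₁.algHom_ext _ _ fun x => ?_
    obtain ⟨y, hy⟩ := K.mkQ_surjective (e.symm x)
    simp [ψ, hg₁.lift_eq, ψ₀, ← hy, φ, hg.lift_eq]
    rw [show Submodule.Quotient.mk y = e.symm x from hy, e.apply_symm_apply]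
  · refine Submodule.linearMap_qext _ (hg.algHom_ext _ _ fun x => ?_)
    simp [φ, hg.lift_eq, ψ, hg₁.lift_eq, ψ₀]

omit [IsScalarTower R R' B'] [Algebra.IsPushout R R' B B'] [IsScalarTower R B B'] in
theorem bijective_baseChange {r : ℕ} (α : (Fin r → B) →ₗ[B] M) (g : M →ₗ[B] M') (hg : IsBaseChange B' g)
    (P : Ideal B) [P.IsPrime] (P' : Ideal B') [P'.IsPrime] (h : P'.comap (algebraMap B B') = P)
    (hb : Function.Bijective (α.baseChange P.ResidueField)) :
    Function.Bijective ((Fintype.linearCombination B' fun j => g (α (Pi.single j 1))).baseChange P'.ResidueField) := by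
  let κ := P.ResidueField
  let κ' := P'.ResidueField
  letI : Algebra κ κ' := (Ideal.ResidueField.mapₐ P P' (Algebra.ofId B B') h.symm).toRingHom.toAlgebra
  haveI : IsScalarTower B κ κ' := .of_algebraMap_eq fun x =>
    ((Ideal.ResidueField.mapₐ P P' (Algebra.ofId B B') h.symm).commutes x).symm
  let bc := LinearEquiv.ofBijective _ hb
  have hα : Function.Bijective (α.baseChange κ') := by
    let eF := AlgebraTensorModule.cancelBaseChange B κ κ' κ' (Fin r → B)
    let eM := AlgebraTensorModule.cancelBaseChange B κ κ' κ' M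
    have : α.baseChange κ' = (eF.symm ≪≫ₗ LinearEquiv.baseChange κ κ' _ _ bc ≪≫ₗ eM).toLinearMap := by
      ext j
      simp [eF, eM, bc, LinearEquiv.baseChange]
    rw [this]; exact LinearEquiv.bijective _
  let hF : IsBaseChange B' ((TensorProduct.piScalarRight B B' B' (Fin r)).toLinearMap.restrictScalars B ∘ₗ
      (TensorProduct.mk B B' (Fin r → B)) 1) := IsBaseChange.of_equiv (TensorProduct.piScalarRight B B' B' (Fin r)) fun _ => rfl
  let uF := AlgebraTensorModule.cancelBaseChange B B' κ' κ' (Fin r → B)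
  let uM := AlgebraTensorModule.cancelBaseChange B B' κ' κ' M
  let vF := LinearEquiv.baseChange B' κ' _ _ (TensorProduct.piScalarRight B B' B' (Fin r))
  let vM := LinearEquiv.baseChange B' κ' _ _ hg.equiv
  have : (Fintype.linearCombination B' fun j => g (α (Pi.single j 1))).baseChange κ' ∘ₗ (uF.symm ≪≫ₗ vF).toLinearMap =
      (uM.symm ≪≫ₗ vM).toLinearMap ∘ₗ α.baseChange κ' := by
    ext j
    simp [uF, uM, vF, vM, LinearEquiv.baseChange, IsBaseChange.equiv_tmul, Pi.single_apply, apply_ite (algebraMap B B'), Fintype.linearCombination_apply]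
  have h' : Function.Bijective ((Fintype.linearCombination B' fun j => g (α (Pi.single j 1))).baseChange κ' ∘ₗ (uF.symm ≪≫ₗ vF).toLinearMap) := by
    rw [this, LinearMap.coe_comp]; exact (LinearEquiv.bijective _).comp hα
  exact (Function.Bijective.of_comp_iff _ (LinearEquiv.bijective _)).1 h'

end modules

end Groth.Agent.FlatMor68.DevissageStep
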