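import Groth.Agent.FlatMor68.DimLT
import Mathlib

/-!
# The scheme of strata of a finite family of finitely generated ideals and quasi-compact opens
-/

set_option autoImplicit false
set_option backward.isDefEq.respectTransparency.types false
set_option linter.style.haveILetI false

universe u

open CategoryTheory CategoryTheory.Limits AlgebraicGeometry

namespace Groth.Agent.FlatMor68.StrataScheme

theorem exists_scheme {A : Type u} [CommRing A] {c : ℕ} (I : Fin c → Ideal A)
    (U : Fin c → Set (PrimeSpectrum A)) (hI : ∀ p, (I p).FG) (hU : ∀ p, IsCompact (U p) ∧ IsOpen (U p))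
    (hdisj : ∀ p q x, x ∈ PrimeSpectrum.zeroLocus (I p : Set A) ∩ U p →
      x ∈ PrimeSpectrum.zeroLocus (I q : Set A) ∩ U q → p = q) :
    ∃ (Z : Scheme.{u}) (i : Z ⟶ Spec (CommRingCat.of A)),
      Mono i ∧ LocallyOfFinitePresentation i ∧ QuasiCompact i ∧ QuasiSeparated i ∧
      ∀ (A' : Type u) [CommRing A'] [Algebra A A'],
        (∀ t : PrimeSpectrum A', ∃ p, PrimeSpectrum.comap (algebraMap A A') t ∈ U p ∧ ∃ g : A', g ∉ t.asIdeal ∧
          I p ≤ (RingHom.ker (algebraMap A' (Localization.Away g))).comap (algebraMap A A')) ↔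
          ∃ k : Spec (CommRingCat.of A') ⟶ Z, k ≫ i = Spec.map (CommRingCat.ofHom (algebraMap A A')) := by
  classical
  let S := Spec (CommRingCat.of A)
  let q : ∀ p, Spec (CommRingCat.of (A ⧸ I p)) ⟶ S := fun p => Spec.map (CommRingCat.ofHom (Ideal.Quotient.mk (I p)))
  haveI hq : ∀ p, IsClosedImmersion (q p) := fun p =>
    IsClosedImmersion.spec_of_surjective _ Ideal.Quotient.mk_surjective
  haveI hqfp : ∀ p, LocallyOfFinitePresentation (q p) := fun p => by
    rw [HasRingHomProperty.Spec_iff (P := @LocallyOfFinitePresentation)]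
    show (Ideal.Quotient.mk (I p)).FinitePresentation
    rw [show Ideal.Quotient.mk (I p) = algebraMap A (A ⧸ I p) from rfl, RingHom.finitePresentation_algebraMap]
    exact Algebra.FinitePresentation.quotient (hI p)
  let O : ∀ p, (Spec (CommRingCat.of (A ⧸ I p))).Opens := fun p => q p ⁻¹ᵁ ⟨U p, (hU p).2⟩
  let Zp : Fin c → Scheme.{u} := fun p => (O p).toScheme
  let ip : ∀ p, Zp p ⟶ S := fun p => (O p).ι ≫ q p
  have hmem : ∀ (p : Fin c) (y : Zp p),
      ip p y ∈ PrimeSpectrum.zeroLocus (I p : Set A) ∩ U p := fun p y => by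
    refine ⟨?_, y.2⟩
    rw [PrimeSpectrum.mem_zeroLocus]
    intro a ha
    show Ideal.Quotient.mk (I p) a ∈ y.1.asIdeal
    rw [Ideal.Quotient.eq_zero_iff_mem.2 ha]
    exact y.1.asIdeal.zero_mem
  let i : (∐ Zp) ⟶ S := Sigma.desc ip
  have hι : ∀ p, Sigma.ι Zp p ≫ i = ip p := fun p => Sigma.ι_desc _ _
  haveI hmono : Mono i := ⟨fun {T} a b hab => by
    refine Scheme.Cover.hom_ext (T.openCoverOfIsOpenCover (fun p => a ⁻¹ᵁ (Sigma.ι Zp p).opensRange) ?_) _ _ fun p => ?_
    · refine TopologicalSpace.Opens.ext (Set.eq_univ_of_forall fun x => ?_)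
      obtain ⟨p, y, hy⟩ := (sigmaOpenCover Zp).exists_eq (a x)
      exact TopologicalSpace.Opens.mem_iSup.2 ⟨p, y, hy⟩
    · show (a ⁻¹ᵁ (Sigma.ι Zp p).opensRange).ι ≫ a = (a ⁻¹ᵁ (Sigma.ι Zp p).opensRange).ι ≫ b
      set V := a ⁻¹ᵁ (Sigma.ι Zp p).opensRange
      have ha : Set.range (V.ι ≫ a) ⊆ Set.range (Sigma.ι Zp p) := by
        rintro _ ⟨x, rfl⟩
        exact x.2
      have hb : Set.range (V.ι ≫ b) ⊆ Set.range (Sigma.ι Zp p) := by
        rintro _ ⟨x, rfl⟩
        obtain ⟨y, hy⟩ : a x.1 ∈ Set.range (Sigma.ι Zp p) := x.2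
        obtain ⟨p', y', hy'⟩ := (sigmaOpenCover Zp).exists_eq (b x.1)
        have he : i (a x.1) = i (b x.1) := by
          rw [← Scheme.Hom.comp_apply, hab, Scheme.Hom.comp_apply]
        rw [← hy, ← hy', ← Scheme.Hom.comp_apply, ← Scheme.Hom.comp_apply, hι] at he
        have he' : ip p y = ip p' y' := he.trans (by rw [← hι p']; rfl)
        obtain rfl : p = p' := hdisj p p' _ (hmem p y) (he' ▸ hmem p' y')
        exact ⟨y', hy'⟩
      rw [← IsOpenImmersion.lift_fac (Sigma.ι Zp p) (V.ι ≫ a) ha, ← IsOpenImmersion.lift_fac (Sigma.ι Zp p) (V.ι ≫ b) hb]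
      congr 1
      haveI : Mono (ip p) := inferInstanceAs (Mono ((O p).ι ≫ q p))
      rw [← cancel_mono (ip p), ← hι, IsOpenImmersion.lift_fac_assoc, IsOpenImmersion.lift_fac_assoc, Category.assoc,
        Category.assoc, hab]⟩
  haveI hlfp : LocallyOfFinitePresentation i := by
    refine IsZariskiLocalAtSource.of_openCover (P := @LocallyOfFinitePresentation) (sigmaOpenCover Zp) fun p => ?_
    show LocallyOfFinitePresentation (Sigma.ι Zp p ≫ i)
    rw [hι]
    exact inferInstanceAs (LocallyOfFinitePresentation ((O p).ι ≫ q p))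
  haveI hqc : QuasiCompact i := by
    rw [quasiCompact_iff_compactSpace]
    haveI : ∀ p, CompactSpace (Zp p) := fun p => by
      refine isCompact_iff_compactSpace.mp ?_
      exact QuasiCompact.isCompact_preimage (f := q p) _ (hU p).2 (hU p).1
    exact ⟨by
      rw [show (Set.univ : Set (∐ Zp : Scheme)) = ⋃ p, Set.range (Sigma.ι Zp p) from
        (Set.eq_univ_of_forall fun x => Set.mem_iUnion.2 ((sigmaOpenCover Zp).exists_eq x)).symm]
      exact isCompact_iUnion fun p => isCompact_range (Sigma.ι Zp p).continuous⟩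
  refine ⟨∐ Zp, i, hmono, hlfp, hqc, inferInstance, fun A' _ _ => ⟨fun H => ?_, ?_⟩⟩
  · choose p hpU g hg hIg using H
    have hsh : ∀ t : PrimeSpectrum A', ∃ h : A', h ∉ t.asIdeal ∧
        ∀ t' : PrimeSpectrum A', h ∉ t'.asIdeal → PrimeSpectrum.comap (algebraMap A A') t' ∈ U (p t) := fun t => by
      obtain ⟨_, ⟨h, rfl⟩, ht, hsub⟩ := PrimeSpectrum.isTopologicalBasis_basic_opens.exists_subset_of_mem_open
        (show t ∈ PrimeSpectrum.comap (algebraMap A A') ⁻¹' U (p t) from hpU t)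
        ((hU (p t)).2.preimage (PrimeSpectrum.continuous_comap _))
      exact ⟨h, ht, fun t' ht' => hsub ht'⟩
    choose h hh hhU using hsh
    let G : PrimeSpectrum A' → A' := fun t => g t * h t
    have hG : Ideal.span (Set.range G) = ⊤ := by
      by_contra hne
      obtain ⟨m, hm, hle⟩ := Ideal.exists_le_maximal _ hne
      let t : PrimeSpectrum A' := ⟨m, hm.isPrime⟩
      exact (hm.isPrime.mem_or_mem (hle (Ideal.subset_span ⟨t, rfl⟩))).elim (hg t) (hh t)
    let 𝒱 := (Scheme.affineOpenCoverOfSpanRangeEqTop (R := CommRingCat.of A') G hG).openCover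
    let ψ : ∀ t, A ⧸ I (p t) →+* Localization.Away (G t) := fun t =>
      Ideal.Quotient.lift (I (p t)) ((algebraMap A' (Localization.Away (G t))).comp (algebraMap A A')) fun a ha => by
        obtain ⟨⟨_, m, rfl⟩, hm⟩ :=
          (IsLocalization.map_eq_zero_iff (Submonoid.powers (g t)) (Localization.Away (g t)) _).1 (hIg t ha)
        exact (IsLocalization.map_eq_zero_iff (Submonoid.powers (G t)) (Localization.Away (G t)) _).2
          ⟨⟨_, m, rfl⟩, by
            show (g t * h t) ^ m * algebraMap A A' a = 0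
            rw [mul_pow, mul_right_comm, show g t ^ m * algebraMap A A' a = 0 from hm, zero_mul]⟩
    have hψ : ∀ t, Spec.map (CommRingCat.ofHom (ψ t)) ≫ q (p t) =
        Spec.map (CommRingCat.ofHom (algebraMap A' (Localization.Away (G t)))) ≫
          Spec.map (CommRingCat.ofHom (algebraMap A A')) := fun t => by
      rw [← Spec.map_comp, ← Spec.map_comp]
      rfl
    have hrange : ∀ t, Set.range (Spec.map (CommRingCat.ofHom (ψ t))) ⊆ Set.range (O (p t)).ι := fun t => by
      rintro _ ⟨x, rfl⟩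
      rw [Scheme.Opens.range_ι]
      show q (p t) (Spec.map (CommRingCat.ofHom (ψ t)) x) ∈ U (p t)
      rw [← Scheme.Hom.comp_apply, hψ]
      refine hhU t _ fun hmem => ?_
      have hu : IsUnit (algebraMap A' (Localization.Away (G t)) (h t)) :=
        isUnit_of_dvd_unit (map_dvd _ (dvd_mul_left _ _)) (IsLocalization.Away.algebraMap_isUnit (G t))
      exact x.isPrime.ne_top (x.asIdeal.eq_top_of_isUnit_mem hmem hu)
    let f : ∀ t, 𝒱.X t ⟶ ∐ Zp := fun t =>
      IsOpenImmersion.lift (O (p t)).ι (Spec.map (CommRingCat.ofHom (ψ t))) (hrange t) ≫ Sigma.ι Zp (p t)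
    have hf : ∀ t, f t ≫ i = 𝒱.f t ≫ Spec.map (CommRingCat.ofHom (algebraMap A A')) := fun t => by
      show (IsOpenImmersion.lift (O (p t)).ι (Spec.map (CommRingCat.ofHom (ψ t))) (hrange t) ≫ Sigma.ι Zp (p t)) ≫ i = _
      rw [Category.assoc, hι]
      show _ ≫ (O (p t)).ι ≫ q (p t) = _
      rw [IsOpenImmersion.lift_fac_assoc, hψ]
      rfl
    refine ⟨𝒱.glueMorphisms f fun x y => ?_, Scheme.Cover.hom_ext 𝒱 _ _ fun t => ?_⟩
    · rw [← cancel_mono i, Category.assoc, Category.assoc]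
      exact ((congrArg (pullback.fst (𝒱.f x) (𝒱.f y) ≫ ·) (hf x)).trans (pullback.condition_assoc _)).trans
        (congrArg (pullback.snd (𝒱.f x) (𝒱.f y) ≫ ·) (hf y)).symm
    · rw [Scheme.Cover.ι_glueMorphisms_assoc, hf]
  · rintro ⟨k, hk⟩ t
    obtain ⟨p, y, hy⟩ := (sigmaOpenCover Zp).exists_eq (k t)
    refine ⟨p, ?_, ?_⟩
    · have h1 : Spec.map (CommRingCat.ofHom (algebraMap A A')) t = ip p y := by
        rw [← hk, Scheme.Hom.comp_apply, ← hy, ← hι p]
        rfl
      exact (congrArg (· ∈ U p) h1).mpr (hmem p y).2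
    · obtain ⟨_, ⟨g, rfl⟩, hg, hsub⟩ := PrimeSpectrum.isTopologicalBasis_basic_opens.exists_subset_of_mem_open
        (show (t : PrimeSpectrum A') ∈ SetLike.coe (k ⁻¹ᵁ (Sigma.ι Zp p).opensRange) from ⟨y, hy⟩)
        (k ⁻¹ᵁ (Sigma.ι Zp p).opensRange).2
      refine ⟨g, hg, fun a ha => ?_⟩
      let j : Spec (CommRingCat.of (Localization.Away g)) ⟶ Spec (CommRingCat.of A') :=
        Spec.map (CommRingCat.ofHom (algebraMap A' (Localization.Away g)))
      have hr : Set.range (j ≫ k) ⊆ Set.range (Sigma.ι Zp p) := by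
        rintro _ ⟨x, rfl⟩
        exact hsub (a := j x) fun hmem => x.isPrime.ne_top
          (x.asIdeal.eq_top_of_isUnit_mem (show algebraMap A' (Localization.Away g) g ∈ x.asIdeal from hmem)
            (IsLocalization.Away.algebraMap_isUnit g))
      let l := IsOpenImmersion.lift (Sigma.ι Zp p) (j ≫ k) hr ≫ (O p).ι
      have hl : l ≫ q p = j ≫ Spec.map (CommRingCat.ofHom (algebraMap A A')) := by
        simp only [l, Category.assoc]
        show _ ≫ ip p = _
        rw [← hι, IsOpenImmersion.lift_fac_assoc, Category.assoc, hk]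
      obtain ⟨χ, hχ⟩ : ∃ χ : CommRingCat.of (A ⧸ I p) ⟶ CommRingCat.of (Localization.Away g), Spec.map χ = l :=
        ⟨Spec.preimage l, Spec.map_preimage l⟩
      rw [← hχ, ← Spec.map_comp, ← Spec.map_comp] at hl
      have h2 := congrArg (fun φ => φ.hom a) (Spec.map_injective hl)
      simp only [CommRingCat.hom_comp, CommRingCat.hom_ofHom, RingHom.coe_comp, Function.comp_apply] at h2
      rw [Ideal.mem_comap, RingHom.mem_ker, ← h2, Ideal.Quotient.eq_zero_iff_mem.2 ha, map_zero]

end Groth.Agent.FlatMor68.StrataScheme
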