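import Groth.Agent.FlatMor68.DimLT
import Groth.Agent.RG29.DevExist
import Groth.Agent.RG29.DevFibre
import Groth.Agent.RG29.DevFreeLocal
import Groth.Agent.RG29.StepFlat
import Groth.Agent.Fit14.Local
import Mathlib

/-!
# Flatness in the top dimension for a module over a smooth algebra with geometrically irreducible fibres:
the stratification by Fitting ideals
-/

set_option autoImplicit false
set_option linter.style.haveILetI false

universe u

open TensorProduct CategoryTheory AlgebraicGeometry

namespace Groth.Agent.FlatMor68.TopDimRing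

section Content

variable {A D : Type u} [CommRing A] [CommRing D] [Algebra A D]
  {A' D' : Type u} [CommRing A'] [CommRing D'] [Algebra A A'] [Algebra D D'] [Algebra A' D'] [Algebra A D']
  [IsScalarTower A D D'] [IsScalarTower A A' D'] [Algebra.IsPushout A D A' D']

/-- Membership in an extended ideal is read off on coordinates. -/
theorem mem_map_iff (s : D →ₗ[A] D →₀ A) (hs : ∀ x, Finsupp.linearCombination A id (s x) = x)
    (x : D) (J : Ideal A') :
    algebraMap D D' x ∈ J.map (algebraMap A' D') ↔ ∀ k, algebraMap A A' (s x k) ∈ J := by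
  haveI : Algebra.IsPushout A A' D D' := Algebra.IsPushout.symm inferInstance
  constructor
  · intro hx k
    let fk : D →ₗ[A] A := (Finsupp.lapply k).comp s
    have hι : IsBaseChange A' (IsScalarTower.toAlgHom A D D').toLinearMap := Algebra.IsPushout.out
    let gk : D' →ₗ[A'] A' := hι.lift ((Algebra.linearMap A A').comp fk)
    have hg : gk (algebraMap D D' x) = algebraMap A A' (s x k) := hι.lift_eq _ x
    rw [← hg]
    have h2 : ∀ y ∈ J.map (algebraMap A' D'), ∀ d : D', gk (d * y) ∈ J := by
      intro y hy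
      induction hy using Submodule.span_induction with
      | mem y hy =>
        obtain ⟨j, hj, rfl⟩ := hy
        intro d
        rw [mul_comm, ← Algebra.smul_def, map_smul, smul_eq_mul]
        exact J.mul_mem_right _ hj
      | zero => intro d; simp
      | add a b _ _ ha hb => intro d; rw [mul_add, map_add]; exact J.add_mem (ha d) (hb d)
      | smul c y _ hy => intro d; rw [smul_eq_mul, ← mul_assoc]; exact hy _
    simpa using h2 _ hx 1
  · intro h
    rw [← hs x, Finsupp.linearCombination_apply, Finsupp.sum, map_sum]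
    refine Ideal.sum_mem _ fun k _ => ?_
    rw [id_eq, Algebra.smul_def, map_mul, ← IsScalarTower.algebraMap_apply, IsScalarTower.algebraMap_apply A A' D']
    exact Ideal.mul_mem_right _ _ (Ideal.mem_map_of_mem _ (h k))

omit [CommRing A] in
theorem exists_pow_mul_eq_zero (h : A') {y : D'}
    (hy : y ∈ (RingHom.ker (algebraMap A' (Localization.Away h))).map (algebraMap A' D')) :
    ∃ m : ℕ, algebraMap A' D' h ^ m * y = 0 := by
  induction hy using Submodule.span_induction with
  | mem z hz =>
    obtain ⟨a, ha, rfl⟩ := hz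
    obtain ⟨⟨_, m, rfl⟩, hm⟩ := (IsLocalization.map_eq_zero_iff (Submonoid.powers h) (Localization.Away h) a).1 ha
    exact ⟨m, by rw [← map_pow, ← map_mul, show h ^ m * a = 0 from hm, map_zero]⟩
  | zero => exact ⟨0, by simp⟩
  | add a b _ _ ha hb =>
    obtain ⟨m, hm⟩ := ha
    obtain ⟨n, hn⟩ := hb
    exact ⟨m + n, by rw [pow_add, mul_add, mul_right_comm, hm, zero_mul, zero_add, mul_assoc, hn, mul_zero]⟩
  | smul c z _ hz =>
    obtain ⟨m, hm⟩ := hz
    exact ⟨m, by rw [smul_eq_mul, mul_left_comm, hm, mul_zero]⟩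

end Content

section Generic

variable {A D : Type u} [CommRing A] [CommRing D] [Algebra A D]

theorem trdeg_fiber [Algebra.Smooth A D] {n : ℕ} (h : FlatCA.SmoothRelDim n A D)
    (hirr : FlatCA.GeomIrredFibres A D) (t : Ideal A) [t.IsPrime] :
    Algebra.trdeg t.ResidueField (t.Fiber D) = (n : Cardinal.{u}) := by
  haveI := RG29.isDomain_fiber t hirr
  have hd := RG29.topologicalKrullDim_fiber t h hirr
  rw [PrimeSpectrum.topologicalKrullDim_eq_ringKrullDim, E4O.ringKrullDim_eq_trdeg t.ResidueField] at hd
  rw [E4O.trdeg_eq_natCast t.ResidueField (t.Fiber D)]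
  exact_mod_cast hd

theorem trdeg_generic [Algebra.Smooth A D] {n : ℕ} (h : FlatCA.SmoothRelDim n A D)
    (hirr : FlatCA.GeomIrredFibres A D) (t : Ideal A) [t.IsPrime] (Q : Ideal D) [Q.IsPrime] [hQ : Q.LiesOver t] :
    (Algebra.trdeg (A ⧸ t) (D ⧸ Q) = (n : Cardinal.{u}) ∧ Q = t.map (algebraMap A D)) ∨
      (Algebra.trdeg (A ⧸ t) (D ⧸ Q) < (n : Cardinal.{u}) ∧ Q ≠ t.map (algebraMap A D)) := by
  haveI := RG29.isDomain_fiber t hirr
  let Qb := PrimeSpectrum.primesOverOrderIsoFiber A D t ⟨Q, inferInstance, hQ⟩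
  have hQb : Qb.asIdeal.comap (Algebra.TensorProduct.includeRight (R := A) (A := t.ResidueField) (B := D)).toRingHom
      = Q := congrArg Subtype.val ((PrimeSpectrum.primesOverOrderIsoFiber A D t).symm_apply_apply ⟨Q, inferInstance, hQ⟩)
  rw [← E4O.trdeg_fiber_quotient t Qb.asIdeal Q hQb.symm]
  have hker : ∀ x : D, x ∈ t.map (algebraMap A D) ↔
      (Algebra.TensorProduct.includeRight (R := A) (A := t.ResidueField) (B := D) x) = 0 := fun x => by
    refine ⟨fun hx => ?_, fun h0 => ?_⟩
    · have hle : t.map (algebraMap A D) ≤ RingHom.ker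
          (Algebra.TensorProduct.includeRight (R := A) (A := t.ResidueField) (B := D)).toRingHom :=
        Ideal.map_le_iff_le_comap.2 fun r hr => by
          show (Algebra.TensorProduct.includeRight : D →ₐ[A] t.Fiber D) (algebraMap A D r) = 0
          rw [AlgHom.commutes, IsScalarTower.algebraMap_apply A t.ResidueField (t.Fiber D),
            Ideal.algebraMap_residueField_eq_zero.2 hr, map_zero]
      exact hle hx
    · by_contra hx
      exact RG29.one_tmul_ne_zero_of_notMem hirr t x hx h0
  by_cases hbot : Qb.asIdeal = ⊥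
  · refine Or.inl ⟨?_, ?_⟩
    · rw [hbot, (AlgEquiv.quotientBot t.ResidueField (t.Fiber D)).trdeg_eq]
      exact trdeg_fiber h hirr t
    · rw [← hQb, hbot]
      ext x
      rw [hker]
      exact Ideal.mem_bot
  · refine Or.inr ⟨?_, fun hQw => hbot ?_⟩
    · have hsum := E4O.height_add_trdeg_eq t.ResidueField (t.Fiber D) Qb.asIdeal
      rw [trdeg_fiber h hirr t] at hsum
      have hlt : Algebra.trdeg t.ResidueField (t.Fiber D ⧸ Qb.asIdeal) < Cardinal.aleph0 :=
        lt_of_le_of_lt (le_add_self.trans hsum.le) Cardinal.natCast_lt_aleph0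
      obtain ⟨m, hm⟩ := Cardinal.lt_aleph0.1 hlt
      rw [hm] at hsum ⊢
      have hh : Qb.asIdeal.height ≠ 0 := by
        rw [Ne, Ideal.height_eq_zero_iff, IsDomain.minimalPrimes_eq_singleton_bot]
        exact hbot
      obtain ⟨e, he⟩ : ∃ e : ℕ, Qb.asIdeal.height = (e : ℕ∞) := by
        refine ENat.ne_top_iff_exists.1 (fun htop => ?_) |>.imp fun e he => he.symm
        rw [htop, Cardinal.ofENat_top] at hsum
        exact absurd hsum (ne_of_gt (lt_of_lt_of_le Cardinal.natCast_lt_aleph0 le_self_add))
      rw [he, Cardinal.ofENat_nat, ← Nat.cast_add, Nat.cast_inj] at hsum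
      rw [he, Ne, Nat.cast_eq_zero] at hh
      exact_mod_cast (show m < n by omega)
    · let o := PrimeSpectrum.primesOverOrderIsoFiber A D t
      have hb : (o.symm ⟨⊥, Ideal.isPrime_bot⟩).1 = Q := by
        rw [hQw]
        ext x
        rw [hker]
        exact Ideal.mem_bot
      have : Qb = ⟨⊥, Ideal.isPrime_bot⟩ := by
        rw [show Qb = o (o.symm ⟨⊥, Ideal.isPrime_bot⟩) from congrArg o (Subtype.ext hb.symm), o.apply_symm_apply]
      rw [this]

end Generic

section BaseChange

variable {A D : Type u} [CommRing A] [CommRing D] [Algebra A D]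
  {A' D' : Type u} [CommRing A'] [CommRing D'] [Algebra A A'] [Algebra D D'] [Algebra A' D'] [Algebra A D']
  [IsScalarTower A D D'] [IsScalarTower A A' D'] [Algebra.IsPushout A D A' D']

theorem isPullback_pushout :
    IsPullback (Spec.map (CommRingCat.ofHom (algebraMap A' D'))) (Spec.map (CommRingCat.ofHom (algebraMap D D')))
      (Spec.map (CommRingCat.ofHom (algebraMap A A'))) (Spec.map (CommRingCat.ofHom (algebraMap A D))) :=
  isPullback_SpecMap_of_isPushout _ _ _ _
    (CommRingCat.isPushout_iff_isPushout.2 (Algebra.IsPushout.symm (inferInstance : Algebra.IsPushout A D A' D')))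

theorem geomIrred_bc (hirr : FlatCA.GeomIrredFibres A D) : FlatCA.GeomIrredFibres A' D' :=
  MorphismProperty.of_isPullback (P := @GeometricallyIrreducible) (isPullback_pushout (A := A) (D := D)).flip hirr

theorem smoothRelDim_bc {n : ℕ} (h : FlatCA.SmoothRelDim n A D) : FlatCA.SmoothRelDim n A' D' :=
  (smoothOfRelativeDimension_isStableUnderBaseChange n).of_isPullback (isPullback_pushout (A := A) (D := D)).flip h

end BaseChange

section Strata

variable {A D : Type u} [CommRing A] [CommRing D] [Algebra A D] (G : Type u) [AddCommGroup G] [Module D G]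

/-- The Fitting ideal below rank `p`. -/
def fitBelow : ℕ → Ideal D
  | 0 => ⊥
  | p + 1 => Fitt.ideal D G p

theorem fitBelow_fg [Module.FinitePresentation D G] : ∀ p, (fitBelow (D := D) G p).FG
  | 0 => Submodule.fg_bot
  | p + 1 => Fit14.fg_of_finitePresentation p

theorem le_fitBelow [Module.Finite D G] {k p : ℕ} (hk : k < p) : Fitt.ideal D G k ≤ fitBelow (D := D) G p := by
  cases p with
  | zero => omega
  | succ q => exact Fit14.ideal_mono (by omega)

variable [Algebra.Smooth A D]

set_option maxHeartbeats 1600000 in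
/-- Strata in the base for flatness in the top dimension. -/
theorem exists_strata [Module.FinitePresentation D G] {d : ℕ} (h : FlatCA.SmoothRelDim d A D)
    (hirr : FlatCA.GeomIrredFibres A D) :
    ∃ (c : ℕ) (I : Fin (c + 1) → Ideal A) (U : Fin (c + 1) → Set (PrimeSpectrum A)),
      (∀ p, (I p).FG) ∧ (∀ p, IsCompact (U p) ∧ IsOpen (U p)) ∧
      (∀ p q x, x ∈ PrimeSpectrum.zeroLocus (I p : Set A) ∩ U p →
        x ∈ PrimeSpectrum.zeroLocus (I q : Set A) ∩ U q → p = q) ∧
      ∀ (A' D' G' : Type u) [CommRing A'] [CommRing D'] [Algebra A A'] [Algebra D D'] [Algebra A' D'] [Algebra A D']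
        [IsScalarTower A D D'] [IsScalarTower A A' D'] [Algebra.IsPushout A D A' D'] [AddCommGroup G']
        [Module D' G'] [Module D G'] [IsScalarTower D D' G'] [Module A' G'] [IsScalarTower A' D' G']
        (j : G →ₗ[D] G'), IsBaseChange D' j →
        ((∀ (t : Ideal A') [t.IsPrime], DimLT.Holds d (B := D') t G') ↔
          ∀ t : PrimeSpectrum A', ∃ p, PrimeSpectrum.comap (algebraMap A A') t ∈ U p ∧ ∃ g : A', g ∉ t.asIdeal ∧
            I p ≤ (RingHom.ker (algebraMap A' (Localization.Away g))).comap (algebraMap A A')) := by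
  classical
  haveI : Module.Projective A D := RG29.projective_of_smooth_geomIrred hirr
  obtain ⟨s, hs'⟩ := Module.projective_def.1 (inferInstance : Module.Projective A D)
  have hs : ∀ x : D, Finsupp.linearCombination A id (s x) = x := hs'
  obtain ⟨c, gens, hgens⟩ := Fit14.exists_gens D G
  choose F hF using fun p => fitBelow_fg (D := D) G p
  let I : ℕ → Ideal A := fun p => Ideal.span (((F p).biUnion fun x => (s x).support.image (s x) : Finset A) : Set A)
  have hI : ∀ (p : ℕ) (J : Ideal A), I p ≤ J ↔ ∀ x ∈ F p, ∀ k, s x k ∈ J := fun p J => by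
    rw [Ideal.span_le]
    constructor
    · intro h' x hx k
      by_cases hk : k ∈ (s x).support
      · exact h' (Finset.mem_biUnion.2 ⟨x, hx, Finset.mem_image_of_mem _ hk⟩)
      · rw [Finsupp.notMem_support_iff.1 hk]; exact J.zero_mem
    · intro h' a ha
      obtain ⟨x, hx, ha⟩ := Finset.mem_biUnion.1 ha
      obtain ⟨k, -, rfl⟩ := Finset.mem_image.1 ha
      exact h' x hx k
  let V : ℕ → Set (PrimeSpectrum A) := fun p =>
    PrimeSpectrum.comap (algebraMap A D) '' (PrimeSpectrum.zeroLocus (Fitt.ideal D G p : Set D))ᶜ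
  have hV : ∀ p, IsCompact (V p) ∧ IsOpen (V p) := fun p => by
    obtain ⟨hc, ho⟩ := PrimeSpectrum.isCompact_isOpen_iff_ideal.2
      ⟨_, Fit14.fg_of_finitePresentation (R := D) (M := G) p, rfl⟩
    exact ⟨hc.image (PrimeSpectrum.continuous_comap (algebraMap A D)),
      PrimeSpectrum.isOpenMap_comap_of_hasGoingDown_of_finitePresentation _ ho⟩
  refine ⟨c, fun p => I p, fun p => V p, fun p => ⟨_, rfl⟩, fun p => hV p, ?_, ?_⟩
  · have key : ∀ p q : ℕ, p < q → ∀ x, x ∈ PrimeSpectrum.zeroLocus (I q : Set A) → x ∉ V p := by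
      rintro p q hpq x hx ⟨P, hP, hPx⟩
      refine hP fun f hf => ?_
      have hf' : f ∈ fitBelow (D := D) G q := le_fitBelow G hpq hf
      rw [← hF q] at hf'
      refine Submodule.span_le.2 (fun z hz => ?_) hf'
      rw [← hs z, Finsupp.linearCombination_apply, Finsupp.sum]
      refine Ideal.sum_mem _ fun k _ => ?_
      rw [id_eq, Algebra.smul_def]
      refine Ideal.mul_mem_right _ _ ?_
      have : s z k ∈ x.asIdeal := (hI q x.asIdeal).1 ((PrimeSpectrum.mem_zeroLocus _ _).1 hx) z hz k
      rw [← hPx] at this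
      exact this
    rintro p q x ⟨hpI, hpV⟩ ⟨hqI, hqV⟩
    rcases lt_trichotomy (p : ℕ) q with hlt | heq | hlt
    · exact absurd hpV (key _ _ hlt x hqI)
    · exact Fin.ext heq
    · exact absurd hqV (key _ _ hlt x hpI)
  intro A' D' G' _ _ _ _ _ _ _ _ _ _ _ _ _ _ _ j hj
  haveI : Algebra.IsPushout A A' D D' := Algebra.IsPushout.symm inferInstance
  have hsm' : FlatCA.SmoothRelDim d A' D' := smoothRelDim_bc (A := A) (D := D) h
  have hirr' : FlatCA.GeomIrredFibres A' D' := geomIrred_bc (A := A) (D := D) hirr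
  haveI := RG29.smooth_of_smoothRelDim hsm'
  haveI : Module.FinitePresentation D G := ‹_›
  haveI : Module.FinitePresentation D' G' :=
    Module.finitePresentation_of_surjective hj.equiv.toLinearMap hj.equiv.surjective
      (by rw [LinearEquiv.ker]; exact Submodule.fg_bot)
  have hfit : ∀ k, Fitt.ideal D' G' k = (Fitt.ideal D G k).map (algebraMap D D') := fun k => by
    rw [← Fit14.ideal_baseChange D' k]
    exact (Fit14.ideal_congr hj.equiv k).symm
  constructor
  · intro H t
    haveI := t.isPrime
    let w := t.asIdeal.map (algebraMap A' D')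
    haveI : w.IsPrime := RG29.isPrime_map t.asIdeal hirr'
    haveI : w.LiesOver t.asIdeal := RG29.liesOver_map t.asIdeal hirr'
    have hflat : FlatCA.FlatAt A' w G' := by
      by_contra hn
      rcases trdeg_generic hsm' hirr' t.asIdeal w with ⟨he, -⟩ | ⟨-, hne⟩
      · exact (H t.asIdeal w hn).ne he
      · exact hne rfl
    haveI : Nontrivial (Localization.AtPrime w) := inferInstance
    let L := Localization.AtPrime w
    let Gw := LocalizedModule w.primeCompl G'
    haveI : Module.Flat A' Gw := hflat
    haveI : Module.Finite L Gw :=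
      Module.Finite.of_isLocalizedModule w.primeCompl (LocalizedModule.mkLinearMap w.primeCompl G')
    obtain ⟨r, hr⟩ : ∃ r : ℕ, ∀ k, (Fitt.ideal D' G' k).map (algebraMap D' L) = if r ≤ k then ⊤ else ⊥ := by
      have hfree : Module.Free L Gw := by
        by_cases hsupp : (⟨w, inferInstance⟩ : PrimeSpectrum D') ∈ Module.support D' G'
        · obtain ⟨r, α, -, hb⟩ := RG29.exists_map_bijective_at G' w hsupp
          obtain ⟨β, hβ, -⟩ := RG29.exists_bijective_localized t.asIdeal w rfl hflat α hb
          exact Module.Free.of_equiv (LinearEquiv.ofBijective β hβ)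
        · haveI : Subsingleton Gw := Module.notMem_support_iff.1 hsupp
          exact Module.Free.of_subsingleton L Gw
      exact ⟨Module.finrank L Gw, fun k => by rw [← Fit14.ideal_localizedModule, Fit14.ideal_of_free]⟩
    have hrc : r ≤ c := by
      by_contra hlt
      have h1 := hr c
      rw [if_neg hlt, hfit, Fit14.ideal_eq_top_of_gens gens hgens le_rfl, Ideal.map_top, Ideal.map_top] at h1
      exact top_ne_bot h1
    refine ⟨⟨r, by omega⟩, ?_, ?_⟩
    · refine ⟨⟨w.comap (algebraMap D D'), inferInstance⟩, fun hz => ?_, ?_⟩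
      · have h1 := hr r
        rw [if_pos le_rfl, hfit] at h1
        have h2 : ((Fitt.ideal D G r).map (algebraMap D D')) ≤ w :=
          Ideal.map_le_iff_le_comap.2 ((PrimeSpectrum.mem_zeroLocus _ _).1 hz)
        have h3 := (Ideal.map_mono h2).trans (IsLocalization.AtPrime.map_eq_maximalIdeal w L).le
        rw [h1] at h3
        exact (IsLocalRing.maximalIdeal.isMaximal L).ne_top (top_le_iff.1 h3)
      · refine PrimeSpectrum.ext ?_
        show (w.comap (algebraMap D D')).comap (algebraMap A D) = t.asIdeal.comap (algebraMap A A')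
        rw [Ideal.comap_comap, ← IsScalarTower.algebraMap_eq, IsScalarTower.algebraMap_eq A A' D',
          ← Ideal.comap_comap]
        exact congrArg (Ideal.comap (algebraMap A A')) (Ideal.over_def w t.asIdeal).symm
    · have hkill : ∀ x ∈ F r, ∃ σ : D', σ ∉ w ∧ σ * algebraMap D D' x = 0 := fun x hx => by
        cases r with
        | zero =>
          have : x ∈ fitBelow (D := D) G 0 := hF 0 ▸ Submodule.subset_span hx
          rw [show fitBelow (D := D) G 0 = ⊥ from rfl, Ideal.mem_bot] at this
          exact ⟨1, fun h1 => ‹w.IsPrime›.ne_top (w.eq_top_iff_one.2 h1), by rw [this, map_zero, mul_zero]⟩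
        | succ r =>
          have hmem : x ∈ Fitt.ideal D G r := (hF (r + 1)).le (Submodule.subset_span hx)
          have h1 : algebraMap D' L (algebraMap D D' x) ∈ (Fitt.ideal D' G' r).map (algebraMap D' L) :=
            Ideal.mem_map_of_mem _ (hfit r ▸ Ideal.mem_map_of_mem _ hmem)
          rw [hr r, if_neg (by omega), Ideal.mem_bot] at h1
          obtain ⟨σ, hσ⟩ := (IsLocalization.map_eq_zero_iff w.primeCompl L _).1 h1
          exact ⟨σ, σ.2, hσ⟩
      choose σ hσ hσx using hkill
      let σ₀ : D' := ∏ x ∈ (F r).attach, σ x x.2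
      have hσ₀ : σ₀ ∉ w := fun hm => by
        obtain ⟨x, -, hx⟩ := (‹w.IsPrime›.prod_mem_iff).1 hm
        exact hσ _ _ hx
      obtain ⟨g, hg, hk⟩ := RG29.exists_kerKilled_mulLeft hirr' t.asIdeal σ₀ hσ₀
      refine ⟨g, hg, (hI r _).2 fun x hx k => ?_⟩
      rw [Ideal.mem_comap]
      refine (mem_map_iff (D' := D') s hs x _).1 ?_ k
      have h0 : σ₀ * algebraMap D D' x = 0 := by
        obtain ⟨e, he⟩ : σ x hx ∣ σ₀ := Finset.dvd_prod_of_mem (fun y : {y // y ∈ F r} => σ y y.2)
          (Finset.mem_attach _ ⟨x, hx⟩)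
        rw [he, mul_comm (σ x hx), mul_assoc, hσx, mul_zero]
      obtain ⟨m, hm⟩ := hk A' (algebraMap D D' x ⊗ₜ[A'] (1 : A')) (by
        rw [LinearMap.rTensor_tmul, LinearMap.mulLeft_apply, h0, zero_tmul])
      have hm' : g ^ m • algebraMap D D' x = 0 := by
        simpa using congrArg (TensorProduct.rid A' D') hm
      have hmem : ∀ k, g ^ m * algebraMap A A' (s x k) = 0 := fun k => by
        haveI : Algebra.IsPushout A A' D D' := ‹_›
        have hι : IsBaseChange A' (IsScalarTower.toAlgHom A D D').toLinearMap := Algebra.IsPushout.out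
        have := congrArg (hι.lift ((Algebra.linearMap A A').comp ((Finsupp.lapply k).comp s))) hm'
        rw [map_smul, map_zero] at this
        have h2 : hι.lift ((Algebra.linearMap A A').comp ((Finsupp.lapply k).comp s)) (algebraMap D D' x) =
            algebraMap A A' (s x k) := hι.lift_eq _ x
        rwa [h2, smul_eq_mul] at this
      refine (mem_map_iff (D' := D') s hs x _).2 fun k => ?_
      exact (IsLocalization.map_eq_zero_iff (Submonoid.powers g) (Localization.Away g) _).2
        ⟨⟨g ^ m, m, rfl⟩, hmem k⟩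
  · intro H t _ Q _ _ hQ
    rcases trdeg_generic hsm' hirr' t Q with ⟨-, hQw⟩ | ⟨hlt, -⟩
    swap
    · exact hlt
    refine absurd ?_ hQ
    haveI := RG29.liesOver_map t hirr'
    obtain ⟨p, ⟨P, hP, hPt⟩, g, hg, hIg⟩ := H ⟨t, inferInstance⟩
    have hgQ : algebraMap A' D' g ∉ Q := fun hm => hg ((SetLike.ext_iff.1 (Ideal.over_def Q t) g).2 hm)
    let L := Localization.AtPrime Q
    have hbelow : ∀ k, k < (p : ℕ) → (Fitt.ideal D' G' k).map (algebraMap D' L) = ⊥ := fun k hk => by
      rw [hfit, Ideal.map_map, eq_bot_iff, Ideal.map_le_iff_le_comap]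
      refine (le_fitBelow G hk).trans ?_
      rw [← hF]
      refine Submodule.span_le.2 fun x hx => ?_
      obtain ⟨m, hm⟩ := exists_pow_mul_eq_zero g
        ((mem_map_iff (D' := D') s hs x _).2 fun k => (hI p _).1 hIg x hx k)
      show algebraMap D' L (algebraMap D D' x) ∈ (⊥ : Ideal L)
      rw [Ideal.mem_bot]
      exact (IsLocalization.map_eq_zero_iff Q.primeCompl L _).2
        ⟨⟨_, fun h' => hgQ (‹Q.IsPrime›.mem_of_pow_mem m h')⟩, hm⟩
    have htop : ¬ Fitt.ideal D' G' p ≤ Q := fun hle => by
      obtain ⟨f, hf, hfP⟩ := SetLike.not_le_iff_exists.1 (show ¬ Fitt.ideal D G p ≤ P.asIdeal from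
        fun hh => hP ((PrimeSpectrum.mem_zeroLocus _ _).2 hh))
      have h1 : algebraMap D D' f ∈ t.map (algebraMap A' D') := hQw ▸ hle (hfit p ▸ Ideal.mem_map_of_mem _ hf)
      refine hfP ?_
      rw [← hs f, Finsupp.linearCombination_apply, Finsupp.sum]
      refine Ideal.sum_mem _ fun k _ => ?_
      rw [id_eq, Algebra.smul_def]
      refine Ideal.mul_mem_right _ _ ?_
      have h2 : s f k ∈ (PrimeSpectrum.comap (algebraMap A A') ⟨t, inferInstance⟩).asIdeal :=
        (mem_map_iff (D' := D') s hs f t).1 h1 k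
      rw [← hPt] at h2
      exact h2
    haveI : Module.Finite L (LocalizedModule Q.primeCompl G') :=
      Module.Finite.of_isLocalizedModule Q.primeCompl (LocalizedModule.mkLinearMap Q.primeCompl G')
    obtain ⟨y, hy⟩ := (Fit14.exists_gens_atPrime_iff Q (p : ℕ)).2 htop
    obtain ⟨b⟩ := Fit14.free_of_gens_of_ideal_eq_bot y hy fun k hk =>
      (Fit14.ideal_localizedModule Q.primeCompl k).trans (hbelow k hk)
    haveI : Module.Free L (LocalizedModule Q.primeCompl G') := Module.Free.of_basis b
    haveI : Module.Flat A' D' := inferInstance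
    haveI : Module.Flat D' L := IsLocalization.flat L Q.primeCompl
    haveI : Module.Flat A' L := Module.Flat.trans A' D' L
    exact Module.Flat.trans A' L (LocalizedModule Q.primeCompl G')

end Strata

end Groth.Agent.FlatMor68.TopDimRing
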