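import Groth.Agent.FlatMor68.DimStepBC
import Groth.Agent.FlatMor68.TopDimRing
import Groth.Agent.FlatMor68.StrataScheme
import Groth.Agent.RG29.DevFlatProj
import Mathlib

/-!
# Representability of flatness in dimensions `≥ d` near a point with a complete dévissage
-/

set_option autoImplicit false
set_option backward.isDefEq.respectTransparency.types false
set_option linter.style.haveILetI false

universe u

open TensorProduct CategoryTheory CategoryTheory.Limits AlgebraicGeometry

namespace Groth.Agent.FlatMor68.DimDevissage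

/-- One step: flatness at the generic point of the fibre gives universal injectivity after inverting an element. -/
theorem exists_kerKilled {R D G : Type u} [CommRing R] [CommRing D] [Algebra R D] [Algebra.Smooth R D]
    (hirr : FlatCA.GeomIrredFibres R D) [AddCommGroup G] [Module D G] [Module R G] [IsScalarTower R D G]
    [Module.FinitePresentation D G] (rr : Ideal R) [hrr : rr.IsPrime] [hp : (rr.map (algebraMap R D)).IsPrime]
    (hflat : FlatCA.FlatAt R (rr.map (algebraMap R D)) G)
    {r : ℕ} (α : (Fin r → D) →ₗ[D] G)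
    (hb : Function.Bijective (α.baseChange (rr.map (algebraMap R D)).ResidueField)) :
    ∃ f : R, f ∉ rr ∧ RG29.KerKilled f (α.restrictScalars R) := by
  obtain ⟨s, δ, hs, hδ⟩ := RG29.exists_retraction rr _ rfl hflat α hb
  obtain ⟨f, hf, hmul⟩ := RG29.exists_kerKilled_mulLeft hirr rr s hs
  refine ⟨f, hf, fun X _ _ z hz => (hmul.compLeft r) X z ?_⟩
  rw [show (LinearMap.mulLeft R s).compLeft (Fin r) = (δ.restrictScalars R).comp (α.restrictScalars R) from
      LinearMap.ext fun v => (LinearMap.congr_fun hδ v).symm,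
    LinearMap.rTensor_comp_apply, hz, map_zero]

section

variable {A B : Type u} [CommRing A] [CommRing B] [Algebra A B] {N : Type u} [AddCommGroup N] [Module B N]
  {s : Ideal A} [s.IsPrime] (D : FlatCA.CompleteDevissage A B N s) (d : ℕ)

set_option maxHeartbeats 800000 in
/-- The steps of relative dimension `> d` are universally injective near the point. -/
theorem exists_prefix [Module A N] [IsScalarTower A B N] [Algebra.FinitePresentation A B]
    [Module.FinitePresentation B N] (e : ℕ → ℕ) (he : ∀ i, i < D.n → FlatCA.SmoothRelDim (e i) A (D.B i))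
    (hflat : FlatCA.FlatInDimGE (d + 1) A B N) :
    ∀ m, m ≤ D.n → (∀ i, i < m → d < e i) → ∃ g : A, g ∉ s ∧
      (∀ i, i < m → RG29.KerKilled g ((D.α i).restrictScalars A)) ∧
      (m < D.n → Module.FinitePresentation (D.B m) (D.M m) ∧ DimLT.Holds (d + 1) (B := D.B m) s (D.M m)) := by
  haveI := fun i => RG29.tower_RAM D i
  haveI := fun i => RG29.tower_RBM' D i
  intro m
  induction m with
  | zero =>
    intro _ _
    refine ⟨1, fun h => ‹s.IsPrime›.ne_top (s.eq_top_iff_one.2 h), fun i hi => absurd hi (by omega), fun hn => ?_⟩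
    haveI := D.smooth 0 hn
    haveI := D.finiteBA 0 hn
    haveI := D.fpSA
    haveI : IsScalarTower A B (D.M 0) := IsScalarTower.of_algebraMap_smul fun c m => by
      rw [← algebraMap_smul (D.A 0) (algebraMap A B c), ← IsScalarTower.algebraMap_apply, algebraMap_smul]
    haveI : Module.FinitePresentation B (D.M 0) :=
      Module.finitePresentation_of_surjective D.isoN.toLinearMap D.isoN.surjective
        (by rw [LinearEquiv.ker]; exact Submodule.fg_bot)
    refine ⟨RG29.fp_of_surjective_finite (R := A) (A := D.A 0) D.surjSA, ?_⟩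
    exact (DimLT.holds_iff_of_finite (D := D.B 0) (C := D.A 0) (d + 1) s).2
      ((DimLT.holds_iff_of_surjective (C := D.A 0) (d + 1) s D.surjSA).1
        ((DimLT.holds_congr (d + 1) s D.isoN).1 ((DimLT.flatInDimGE_iff _ N).1 hflat s)))
  | succ m ih =>
    intro hmn hlt
    obtain ⟨g, hg, hk, hP⟩ := ih (by omega) fun i hi => hlt i (by omega)
    obtain ⟨hfp, hH⟩ := hP (by omega)
    have hm : m < D.n := by omega
    haveI := hfp
    haveI := D.smooth m hm
    haveI := RG29.liesOver_map s (D.geomIrred m hm)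
    have hfw : FlatCA.FlatAt A (s.map (algebraMap A (D.B m))) (D.M m) := by
      by_contra hn
      have h1 := hH _ hn
      rcases TopDimRing.trdeg_generic (he m hm) (D.geomIrred m hm) s (s.map (algebraMap A (D.B m))) with
        ⟨he', -⟩ | ⟨-, hne⟩
      · rw [he', Nat.cast_lt] at h1
        have := hlt m (by omega)
        omega
      · exact hne rfl
    obtain ⟨f, hf, hkf⟩ := exists_kerKilled (D.geomIrred m hm) s hfw (D.α m) (D.fibreIso m hm)
    refine ⟨g * f, fun h => (‹s.IsPrime›.mem_or_mem h).elim hg hf, fun i hi => ?_, fun hn1 => ?_⟩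
    · rcases eq_or_lt_of_le (Nat.lt_succ_iff.1 hi) with rfl | hi'
      · exact hkf.of_dvd (dvd_mul_left _ _)
      · exact (hk i hi').of_dvd (dvd_mul_right _ _)
    haveI := D.smooth (m + 1) hn1
    haveI := D.finiteBA (m + 1) hn1
    haveI := D.fpBA' m hn1
    let st := RG29.stepMap D m hn1
    haveI : Module.FinitePresentation (D.B m) (D.M (m + 1)) :=
      Module.finitePresentation_of_surjective st (RG29.stepMap_surjective D m hn1)
        ((LinearMap.exact_iff.1 (RG29.exact_stepMap D m hn1)).symm ▸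
          Module.Finite.iff_fg.1 (Module.Finite.range (D.α m)))
    refine ⟨RG29.fp_of_surjective_finite (R := A) (A := D.A (m + 1)) (D.surjBA' m hn1), ?_⟩
    have hQ : DimLT.Holds (d + 1) (B := D.B m) s (D.M (m + 1)) := fun y _ _ hy =>
      hH y fun hG => hy (RG29.flatAt_coker_at s y hG ((D.α m).restrictScalars A)
        (fun X _ _ z hz => by
          obtain ⟨k, hk'⟩ := hkf X z hz
          exact ⟨f ^ k, fun h => hf (‹s.IsPrime›.mem_of_pow_mem k h), hk'⟩)
        st (RG29.stepMap_surjective D m hn1) (RG29.exact_stepMap D m hn1))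
    exact (DimLT.holds_iff_of_finite (D := D.B (m + 1)) (C := D.A (m + 1)) (d + 1) s).2
      ((DimLT.holds_iff_of_surjective (C := D.A (m + 1)) (d + 1) s (D.surjBA' m hn1)).1 hQ)

/-- `W` is the condition for flatness in dimensions `≥ d` of all base changes of the `i`-th step. -/
def StepIff (A' : Type u) [CommRing A'] [Algebra A A'] (W : Prop) (i : ℕ) : Prop :=
  ∀ (D₁ G₁ : Type u) [CommRing D₁] [Algebra (D.B i) D₁] [Algebra A' D₁] [Algebra A D₁]
    [IsScalarTower A A' D₁] [IsScalarTower A (D.B i) D₁] [Algebra.IsPushout A (D.B i) A' D₁] [AddCommGroup G₁]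
    [Module D₁ G₁] [Module (D.B i) G₁] [IsScalarTower (D.B i) D₁ G₁] [Module A' G₁] [IsScalarTower A' D₁ G₁]
    (j : D.M i →ₗ[D.B i] G₁), IsBaseChange D₁ j →
      ((∀ (t : Ideal A') [t.IsPrime], DimLT.Holds d (B := D₁) t G₁) ↔ W)

theorem stepIff_pred {A' : Type u} [CommRing A'] [Algebra A A'] {W : Prop} {g : A}
    (hg : IsUnit (algebraMap A A' g)) (i : ℕ) (hi : i + 1 < D.n)
    (hk : RG29.KerKilled g ((D.α i).restrictScalars A)) (h : StepIff D d A' W (i + 1)) : StepIff D d A' W i := by
  intro D₁ G₁ _ _ _ _ _ _ _ _ _ _ _ _ _ j hj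
  haveI := D.smooth i (by omega)
  haveI := D.finiteBA (i + 1) hi
  refine DimStepBC.step d (D.α i) hk hg W D₁ G₁ j hj ?_
  intro Q₁ _ _ _ _ _ _ j' hj'
  refine DimStepBC.transfer (A := A) (A' := A') d (C := D.A (i + 1)) (D := D.B (i + 1)) (D.isoCoker i hi) (D.surjBA' i hi) W ?_ D₁ Q₁ j' hj'
  intro D₂ G₂ _ _ _ _ _ _ _ _ _ _ _ _ _ j₂ hj₂
  exact h D₂ G₂ j₂ hj₂

theorem stepIff_zero {A' : Type u} [CommRing A'] [Algebra A A'] {W : Prop} {g : A}
    (hg : IsUnit (algebraMap A A' g)) :
    ∀ m, m < D.n → (∀ i, i < m → RG29.KerKilled g ((D.α i).restrictScalars A)) →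
      StepIff D d A' W m → StepIff D d A' W 0 := by
  intro m
  induction m with
  | zero => exact fun _ _ h => h
  | succ m ih =>
    intro hm hk h
    exact ih (by omega) (fun i hi => hk i (by omega)) (stepIff_pred D d hg m hm (hk m (by omega)) h)

theorem stepIff_last {A' : Type u} [CommRing A'] [Algebra A A'] {g : A}
    (hg : IsUnit (algebraMap A A' g)) (hk : RG29.KerKilled g ((D.α (D.n - 1)).restrictScalars A)) :
    StepIff D d A' True (D.n - 1) := by
  intro D₁ G₁ _ _ _ _ _ _ _ _ _ _ _ _ _ j hj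
  haveI := D.smooth (D.n - 1) (by have := D.pos; omega)
  refine DimStepBC.step d (D.α (D.n - 1)) hk hg True D₁ G₁ j hj ?_
  intro Q₁ _ _ _ _ _ _ j' hj'
  haveI : Subsingleton (D.M (D.n - 1) ⧸ LinearMap.range (D.α (D.n - 1))) :=
    Submodule.Quotient.subsingleton_iff.2 (LinearMap.range_eq_top.2 D.cokerLast)
  haveI : Subsingleton Q₁ := ⟨fun a b => by
    suffices h : ∀ x : Q₁, x = 0 by rw [h a, h b]
    intro x
    induction x using hj'.inductionOn with
    | zero => rfl
    | tmul m => rw [Subsingleton.elim m 0, map_zero]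
    | smul s n hn => rw [hn, smul_zero]
    | add a b ha hb => rw [ha, hb, add_zero]⟩
  haveI : Module.Free A' Q₁ := Module.Free.of_subsingleton A' Q₁
  exact iff_true_intro fun t _ => DimLT.holds_of_flat d t Q₁

theorem stepIff_lt {A' : Type u} [CommRing A'] [Algebra A A'] {e : ℕ} (i : ℕ) (hi : i < D.n)
    (he : FlatCA.SmoothRelDim e A (D.B i)) (hed : e < d) : StepIff D d A' True i := by
  intro D₁ G₁ _ _ _ _ _ _ _ _ _ _ _ _ _ j _
  have hsm := TopDimRing.smoothRelDim_bc (A' := A') (D' := D₁) he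
  have hirr := TopDimRing.geomIrred_bc (A' := A') (D' := D₁) (D.geomIrred i hi)
  haveI := RG29.smooth_of_smoothRelDim hsm
  refine iff_true_intro fun t _ Q _ _ _ => ?_
  have hd : (e : Cardinal.{u}) < d := Nat.cast_lt.2 hed
  rcases TopDimRing.trdeg_generic hsm hirr t Q with ⟨h, -⟩ | ⟨h, -⟩
  · rw [h]; exact hd
  · exact h.trans hd

/-- Only the relative dimensions of the smooth algebras of the dévissage matter. -/
theorem main' [Module A N] [IsScalarTower A B N] [Algebra.FinitePresentation A B] [Module.FinitePresentation B N]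
    (hdim : ∀ i, i < D.n → ∃ e : ℕ, FlatCA.SmoothRelDim e A (D.B i))
    (hflat : FlatCA.FlatInDimGE (d + 1) A B N) :
    ∃ g : A, g ∉ s ∧ ∃ (Z : Scheme.{u}) (i : Z ⟶ Spec (CommRingCat.of A)),
      Mono i ∧ LocallyOfFinitePresentation i ∧ QuasiCompact i ∧ QuasiSeparated i ∧
      ∀ (A' B' N' : Type u) [CommRing A'] [CommRing B'] [Algebra A A'] [Algebra B B'] [Algebra A' B'] [Algebra A B']
        [IsScalarTower A B B'] [IsScalarTower A A' B'] [Algebra.IsPushout A B A' B']
        [AddCommGroup N'] [Module B' N'] [Module B N'] [IsScalarTower B B' N'] [Module A' N'] [IsScalarTower A' B' N']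
        (φ : N →ₗ[B] N'), IsBaseChange B' φ → IsUnit (algebraMap A A' g) →
        (FlatCA.FlatInDimGE d A' B' N' ↔
          ∃ k : Spec (CommRingCat.of A') ⟶ Z, k ≫ i = Spec.map (CommRingCat.ofHom (algebraMap A A'))) := by
  classical
  choose e he using hdim
  let e' : ℕ → ℕ := fun i => if h : i < D.n then e i h else 0
  have he' : ∀ i, i < D.n → FlatCA.SmoothRelDim (e' i) A (D.B i) := fun i hi => by
    simp only [e', dif_pos hi]; exact he i hi
  haveI := D.finiteBA 0 D.pos
  have final : ∀ (A' B' N' : Type u) [CommRing A'] [CommRing B'] [Algebra A A'] [Algebra B B'] [Algebra A' B']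
      [Algebra A B'] [IsScalarTower A B B'] [IsScalarTower A A' B'] [Algebra.IsPushout A B A' B']
      [AddCommGroup N'] [Module B' N'] [Module B N'] [IsScalarTower B B' N'] [Module A' N'] [IsScalarTower A' B' N']
      (φ : N →ₗ[B] N'), IsBaseChange B' φ → ∀ (W : Prop), StepIff D d A' W 0 →
        (FlatCA.FlatInDimGE d A' B' N' ↔ W) := by
    intro A' B' N' _ _ _ _ _ _ _ _ _ _ _ _ _ _ _ φ hφ W hW
    rw [DimLT.flatInDimGE_iff]
    refine DimStepBC.transfer (A := A) (A' := A') d (C := D.A 0) (D := D.B 0) D.isoN D.surjSA W ?_ B' N' φ hφ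
    intro D₂ G₂ _ _ _ _ _ _ _ _ _ _ _ _ _ j₂ hj₂
    exact hW D₂ G₂ j₂ hj₂
  by_cases hex : ∃ i, i < D.n ∧ e' i ≤ d
  · obtain ⟨hm, hed⟩ := Nat.find_spec hex
    set m := Nat.find hex with hmdef
    obtain ⟨g, hg, hk, hP⟩ := exists_prefix D d e' he' hflat m hm.le fun i hi => by
      have := Nat.find_min hex hi
      push Not at this
      exact this (by omega)
    obtain ⟨hfp, -⟩ := hP hm
    refine ⟨g, hg, ?_⟩
    rcases hed.lt_or_eq with hlt | heq
    · refine ⟨Spec (CommRingCat.of A), 𝟙 _, inferInstance, inferInstance, inferInstance, inferInstance, ?_⟩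
      intro A' B' N' _ _ _ _ _ _ _ _ _ _ _ _ _ _ _ φ hφ hu
      refine (final A' B' N' φ hφ True (stepIff_zero D d hu m hm hk (stepIff_lt D d m hm (he' m hm) hlt))).trans ?_
      exact iff_of_true trivial ⟨_, Category.comp_id _⟩
    · haveI := hfp
      haveI := D.smooth m hm
      obtain ⟨c, I, U, hI, hU, hdisj, hstr⟩ := TopDimRing.exists_strata (A := A) (D := D.B m) (D.M m)
        (heq ▸ he' m hm) (D.geomIrred m hm)
      obtain ⟨Z, i, h1, h2, h3, h4, hZ⟩ := StrataScheme.exists_scheme I U hI hU hdisj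
      refine ⟨Z, i, h1, h2, h3, h4, ?_⟩
      intro A' B' N' _ _ _ _ _ _ _ _ _ _ _ _ _ _ _ φ hφ hu
      refine final A' B' N' φ hφ _ (stepIff_zero D d hu m hm hk ?_)
      intro D₁ G₁ _ _ _ _ _ _ _ _ _ _ _ _ _ j hj
      exact (hstr A' D₁ G₁ j hj).trans (hZ A')
  · push Not at hex
    obtain ⟨g, hg, hk, -⟩ := exists_prefix D d e' he' hflat D.n le_rfl hex
    refine ⟨g, hg, Spec (CommRingCat.of A), 𝟙 _, inferInstance, inferInstance, inferInstance, inferInstance, ?_⟩
    intro A' B' N' _ _ _ _ _ _ _ _ _ _ _ _ _ _ _ φ hφ hu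
    have hn : D.n - 1 < D.n := by have := D.pos; omega
    refine (final A' B' N' φ hφ True (stepIff_zero D d hu (D.n - 1) hn (fun i hi => hk i (by omega))
      (stepIff_last D d hu (hk _ hn)))).trans ?_
    exact iff_of_true trivial ⟨_, Category.comp_id _⟩

theorem main [Module A N] [IsScalarTower A B N] [Algebra.FinitePresentation A B] [Module.FinitePresentation B N]
    (hdim : ∀ i, i < D.n → ∃ e : ℕ, FlatCA.SmoothRelDim e A (D.B i) ∧
      Module.supportDim (s.Fiber (D.B i)) (FlatCA.fiberMod s (D.B i) (D.M i)) = e)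
    (hflat : FlatCA.FlatInDimGE (d + 1) A B N) :
    ∃ g : A, g ∉ s ∧ ∃ (Z : Scheme.{u}) (i : Z ⟶ Spec (CommRingCat.of A)),
      Mono i ∧ LocallyOfFinitePresentation i ∧ QuasiCompact i ∧ QuasiSeparated i ∧
      ∀ (A' B' N' : Type u) [CommRing A'] [CommRing B'] [Algebra A A'] [Algebra B B'] [Algebra A' B'] [Algebra A B']
        [IsScalarTower A B B'] [IsScalarTower A A' B'] [Algebra.IsPushout A B A' B']
        [AddCommGroup N'] [Module B' N'] [Module B N'] [IsScalarTower B B' N'] [Module A' N'] [IsScalarTower A' B' N']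
        (φ : N →ₗ[B] N'), IsBaseChange B' φ → IsUnit (algebraMap A A' g) →
        (FlatCA.FlatInDimGE d A' B' N' ↔
          ∃ k : Spec (CommRingCat.of A') ⟶ Z, k ≫ i = Spec.map (CommRingCat.ofHom (algebraMap A A'))) :=
  main' D d (fun i hi => (hdim i hi).imp fun _ h => h.1) hflat

end

end Groth.Agent.FlatMor68.DimDevissage
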