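import Groth.Agent.RG29.FlatTransfer
import Groth.Agent.RG29.DevFreeLocal
import Groth.Agent.E4O.FibreDimRing
import Groth.Agent.CAlgH2.LocalDimField
import Mathlib

/-!
# Flatness in dimensions `≥ n`, fibre by fibre, and its transfer along the maps of a dévissage
-/

set_option autoImplicit false
set_option linter.style.haveILetI false

universe u

open TensorProduct

namespace Groth.Agent.FlatMor68.DimLT

/-- Every prime over `t` at which the module is not flat has residual transcendence degree less than `n`. -/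
def Holds (n : ℕ) {A B : Type u} [CommRing A] [CommRing B] [Algebra A B] (t : Ideal A) [t.IsPrime]
    (N : Type u) [AddCommGroup N] [Module B N] [Module A N] [IsScalarTower A B N] : Prop :=
  ∀ (Q : Ideal B) [Q.IsPrime] [Q.LiesOver t], ¬ FlatCA.FlatAt A Q N →
    Algebra.trdeg (A ⧸ t) (B ⧸ Q) < (n : Cardinal.{u})

theorem injective_quot {A B : Type u} [CommRing A] [CommRing B] [Algebra A B] (t : Ideal A)
    (Q : Ideal B) [h : Q.LiesOver t] : Function.Injective (algebraMap (A ⧸ t) (B ⧸ Q)) := by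
  refine (injective_iff_map_eq_zero _).2 fun d hd => ?_
  obtain ⟨a, rfl⟩ := Ideal.Quotient.mk_surjective d
  exact Ideal.Quotient.eq_zero_iff_mem.2 (h.over.symm.le
    (show algebraMap A B a ∈ Q from Ideal.Quotient.eq_zero_iff_mem.1 hd))

theorem trdeg_residueField_eq {A B : Type u} [CommRing A] [CommRing B] [Algebra A B] (t : Ideal A) [t.IsPrime]
    (Q : Ideal B) [Q.IsPrime] [h : Q.LiesOver t] :
    (letI : Algebra t.ResidueField Q.ResidueField :=
      (Ideal.ResidueField.mapₐ t Q (Algebra.ofId A B) h.over).toRingHom.toAlgebra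
     Algebra.trdeg t.ResidueField Q.ResidueField) = Algebra.trdeg (A ⧸ t) (B ⧸ Q) := by
  letI : Algebra t.ResidueField Q.ResidueField :=
    (Ideal.ResidueField.mapₐ t Q (Algebra.ofId A B) h.over).toRingHom.toAlgebra
  refine E4O.trdeg_eq_of_square (D := A ⧸ t) (K := t.ResidueField) (algebraMap (B ⧸ Q) Q.ResidueField)
    (IsFractionRing.injective _ _) (injective_quot t Q) (fun d => ?_) fun x => ?_
  · obtain ⟨a, rfl⟩ := Ideal.Quotient.mk_surjective d
    show algebraMap (B ⧸ Q) Q.ResidueField (algebraMap A (B ⧸ Q) a) = _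
    rw [← IsScalarTower.algebraMap_apply A (B ⧸ Q) Q.ResidueField]
    exact ((Ideal.ResidueField.mapₐ t Q (Algebra.ofId A B) h.over).commutes a).symm
  · obtain ⟨a, b, hb, rfl⟩ := IsFractionRing.div_surjective (B ⧸ Q) x
    exact ⟨b, a, nonZeroDivisors.ne_zero hb,
      mul_div_cancel₀ _ ((map_ne_zero_iff _ (IsFractionRing.injective _ _)).2 (nonZeroDivisors.ne_zero hb))⟩

theorem flatInDimGE_iff (n : ℕ) {A B : Type u} [CommRing A] [CommRing B] [Algebra A B]
    (N : Type u) [AddCommGroup N] [Module B N] [Module A N] [IsScalarTower A B N] :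
    FlatCA.FlatInDimGE n A B N ↔ ∀ (t : Ideal A) [t.IsPrime], Holds n (B := B) t N := by
  constructor
  · intro h t _ Q _ _ hQ
    rw [← trdeg_residueField_eq t Q]
    exact h t Q hQ
  · intro h t Q _ _ _ hQ
    rw [trdeg_residueField_eq t Q]
    exact h t Q hQ

section Transfer

variable {A D C : Type u} [CommRing A] [CommRing D] [CommRing C] [Algebra A D] [Algebra A C] [Algebra D C]
  [IsScalarTower A D C] {M : Type u} [AddCommGroup M] [Module C M] [Module D M] [Module A M]
  [IsScalarTower D C M] [IsScalarTower A C M] [IsScalarTower A D M] (n : ℕ) (t : Ideal A) [t.IsPrime]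

theorem flatAt_of_flatAt_comap (Q : Ideal C) [Q.IsPrime]
    (h : FlatCA.FlatAt A (Q.comap (algebraMap D C)) M) : FlatCA.FlatAt A Q M := by
  unfold FlatCA.FlatAt at *
  rw [RG29.flat_localized_iff] at h ⊢
  intro I z hz
  obtain ⟨d, hd, hdz⟩ := h I z hz
  exact ⟨algebraMap D C d, hd, by rw [algebraMap_smul]; exact hdz⟩

theorem trdeg_comap_of_surjective (hsurj : Function.Surjective (algebraMap D C)) (Q : Ideal C) [Q.IsPrime]
    [Q.LiesOver t] (y : Ideal D) [y.LiesOver t] (hzy : y = Q.comap (algebraMap D C)) :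
    Algebra.trdeg (A ⧸ t) (D ⧸ y) = Algebra.trdeg (A ⧸ t) (C ⧸ Q) := by
  refine AlgEquiv.trdeg_eq (AlgEquiv.ofBijective
    ({ Ideal.quotientMap Q (algebraMap D C) hzy.le with
      commutes' := fun a => ?_ } : (D ⧸ y) →ₐ[A ⧸ t] C ⧸ Q)
    ⟨Ideal.quotientMap_injective' (H := hzy.le) hzy.ge, Ideal.quotientMap_surjective (H := hzy.le) hsurj⟩)
  obtain ⟨a, rfl⟩ := Ideal.Quotient.mk_surjective a
  show Ideal.Quotient.mk Q (algebraMap D C (algebraMap A D a)) = Ideal.Quotient.mk Q (algebraMap A C a)
  rw [← IsScalarTower.algebraMap_apply]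

theorem holds_iff_of_surjective (hsurj : Function.Surjective (algebraMap D C)) :
    Holds n (B := D) t M ↔ Holds n (B := C) t M := by
  constructor
  · intro h Q _ hQt hQ
    haveI : (Q.comap (algebraMap D C)).LiesOver t := ⟨by
      rw [Ideal.under_def, Ideal.comap_comap, ← IsScalarTower.algebraMap_eq]; exact hQt.over⟩
    rw [← trdeg_comap_of_surjective t hsurj Q _ rfl]
    exact h (Q.comap (algebraMap D C)) fun hf => hQ (flatAt_of_flatAt_comap Q hf)
  · intro h Q _ hQt hQ
    have hker : RingHom.ker (algebraMap D C) ≤ Q := fun k hk => by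
      by_contra hkQ
      refine hQ ((RG29.flat_localized_iff _).2 fun I z _ => ⟨k, hkQ, ?_⟩)
      rw [← algebraMap_smul C k z, RingHom.mem_ker.1 hk, zero_smul]
    haveI : (Q.map (algebraMap D C)).IsPrime := Ideal.map_isPrime_of_surjective hsurj hker
    have hcm : (Q.map (algebraMap D C)).comap (algebraMap D C) = Q := by
      rw [Ideal.comap_map_of_surjective _ hsurj, sup_eq_left]
      exact hker
    haveI : (Q.map (algebraMap D C)).LiesOver t := ⟨by
      rw [Ideal.under_def, IsScalarTower.algebraMap_eq A D C, ← Ideal.comap_comap, hcm]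
      exact hQt.over⟩
    have h2 := h (Q.map (algebraMap D C)) fun hf => hQ
      ((RG29.flatAt_iff_of_algebra (Q.map (algebraMap D C)) Q hcm fun J hJ =>
        hcm ▸ RG29.exists_mem_of_surjective hsurj _ J hJ).1 hf)
    exact (trdeg_comap_of_surjective t hsurj (Q.map (algebraMap D C)) Q hcm.symm).trans_lt h2

theorem trdeg_comap_of_finite [Module.Finite D C] (Q : Ideal C) [Q.IsPrime]
    [Q.LiesOver t] (y : Ideal D) [y.IsPrime] [y.LiesOver t] [hzy : Q.LiesOver y] :
    Algebra.trdeg (A ⧸ t) (D ⧸ y) = Algebra.trdeg (A ⧸ t) (C ⧸ Q) := by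
  haveI : IsScalarTower (A ⧸ t) (D ⧸ y) (C ⧸ Q) := IsScalarTower.of_algebraMap_eq fun a => by
    obtain ⟨a, rfl⟩ := Ideal.Quotient.mk_surjective a
    show Ideal.Quotient.mk Q (algebraMap A C a) = Ideal.Quotient.mk Q (algebraMap D C (algebraMap A D a))
    rw [← IsScalarTower.algebraMap_apply]
  haveI : FaithfulSMul (D ⧸ y) (C ⧸ Q) :=
    (faithfulSMul_iff_algebraMap_injective _ _).2 (injective_quot y Q)
  haveI : FaithfulSMul (A ⧸ t) (D ⧸ y) :=
    (faithfulSMul_iff_algebraMap_injective _ _).2 (injective_quot t y)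
  haveI : IsDomain (C ⧸ Q) := Ideal.Quotient.isDomain Q
  haveI : Algebra.IsIntegral (D ⧸ y) (C ⧸ Q) := ⟨fun x => by
    obtain ⟨c, rfl⟩ := Ideal.Quotient.mk_surjective x
    exact ((Algebra.IsIntegral.of_finite D C).isIntegral c).map (Ideal.Quotient.mkₐ D Q) |>.tower_top⟩
  haveI : Algebra.IsAlgebraic (D ⧸ y) (C ⧸ Q) := Algebra.IsIntegral.isAlgebraic
  rw [← trdeg_add_eq (A ⧸ t) (D ⧸ y) (A := C ⧸ Q), trdeg_eq_zero (R := D ⧸ y), add_zero]

theorem holds_iff_of_finite [Module.Finite D C] : Holds n (B := D) t M ↔ Holds n (B := C) t M := by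
  constructor
  · intro h Q _ hQt hQ
    haveI : (Q.comap (algebraMap D C)).LiesOver t := ⟨by
      rw [Ideal.under_def, Ideal.comap_comap, ← IsScalarTower.algebraMap_eq]; exact hQt.over⟩
    haveI : Q.LiesOver (Q.comap (algebraMap D C)) := ⟨rfl⟩
    rw [← trdeg_comap_of_finite t Q (Q.comap (algebraMap D C))]
    exact h (Q.comap (algebraMap D C)) fun hf => hQ (flatAt_of_flatAt_comap Q hf)
  · intro h y _ hyt hy
    haveI : Algebra.IsIntegral D C := Algebra.IsIntegral.of_finite D C
    obtain ⟨Q, hQp, hQy, hQ⟩ : ∃ (Q : Ideal C) (_ : Q.IsPrime), Q.LiesOver y ∧ ¬ FlatCA.FlatAt A Q M := by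
      by_contra hcon
      exact hy (RG29.flatAt_of_forall_over y fun Q hQp hQy => by
        by_contra hQ
        exact hcon ⟨Q, hQp, hQy, hQ⟩)
    haveI := hQp
    haveI : Q.LiesOver t := Ideal.LiesOver.trans Q y t
    haveI := hQy
    rw [trdeg_comap_of_finite t Q y]
    exact h Q hQ

end Transfer

section Step

variable {A D : Type u} [CommRing A] [CommRing D] [Algebra A D] {P G Q : Type u} [AddCommGroup P] [Module A P]
  [AddCommGroup G] [Module D G] [Module A G] [IsScalarTower A D G]
  [AddCommGroup Q] [Module D Q] [Module A Q] [IsScalarTower A D Q]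

/-- Flatness passes from the cokernel to the target of a universally injective map from a flat module. -/
theorem flatAt_of_coker [Module.Flat A P] (y : Ideal D) [y.IsPrime] (hQ : FlatCA.FlatAt A y Q)
    (φ : P →ₗ[A] G) (hφ : CAlgX.UniversallyInjective A φ) (g : G →ₗ[D] Q) (hg : Function.Surjective g)
    (hex : Function.Exact φ g) : FlatCA.FlatAt A y G := by
  unfold FlatCA.FlatAt at *
  rw [RG29.flat_localized_iff] at hQ ⊢
  intro I x hx
  let gR := g.restrictScalars A
  obtain ⟨s, hs, hsx⟩ := hQ I (gR.rTensor I x) (by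
    rw [← LinearMap.comp_apply (I.subtype.lTensor Q), LinearMap.lTensor_comp_rTensor,
      ← LinearMap.rTensor_comp_lTensor, LinearMap.comp_apply, hx, map_zero])
  have hD : ∀ (s : D) (a : G ⊗[A] I), gR.rTensor I (s • a) = s • gR.rTensor I a :=
    fun s a => map_smul (AlgebraTensorModule.rTensor A I g) s a
  rw [← hD] at hsx
  have hex' : Function.Exact φ gR := hex
  obtain ⟨w, hw⟩ := ((rTensor_exact I hex' hg) (s • x)).1 hsx
  have hsx0 : I.subtype.lTensor G (s • x) = 0 := by
    have hh : ∀ a : G ⊗[A] I, I.subtype.lTensor G (s • a) = s • I.subtype.lTensor G a := fun a => by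
      induction a using TensorProduct.induction_on with
      | zero => simp
      | tmul m i => simp [TensorProduct.smul_tmul']
      | add a b ha hb => simp only [map_add, smul_add, ha, hb]
    rw [hh, hx, smul_zero]
  rw [← hw, ← LinearMap.comp_apply (I.subtype.lTensor G), LinearMap.lTensor_comp_rTensor,
    ← LinearMap.rTensor_comp_lTensor, LinearMap.comp_apply] at hsx0
  have h1 : I.subtype.lTensor P w = 0 := hφ A (hsx0.trans (map_zero _).symm)
  have h2 : w = 0 := Module.Flat.lTensor_preserves_injective_linearMap I.subtype Subtype.val_injective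
    (h1.trans (map_zero _).symm)
  exact ⟨s, hs, by rw [← hw, h2, map_zero]⟩

theorem holds_iff_coker [Module.Flat A P] (n : ℕ) (t : Ideal A) [t.IsPrime]
    (φ : P →ₗ[A] G) (hφ : CAlgX.UniversallyInjective A φ) (g : G →ₗ[D] Q) (hg : Function.Surjective g)
    (hex : Function.Exact φ g) : Holds n (B := D) t G ↔ Holds n (B := D) t Q :=
  ⟨fun h y _ _ hy => h y fun hG => hy (RG29.flatAt_coker y hG φ hφ g hg hex),
    fun h y _ _ hy => h y fun hQ => hy (flatAt_of_coker y hQ φ hφ g hg hex)⟩

end Step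

theorem holds_of_flat {A D : Type u} [CommRing A] [CommRing D] [Algebra A D] (n : ℕ) (t : Ideal A) [t.IsPrime]
    (G : Type u) [AddCommGroup G] [Module D G] [Module A G] [IsScalarTower A D G] [Module.Flat A G] :
    Holds n (B := D) t G := fun y _ _ hy => (hy ((RG29.flat_localized_iff _).2 fun I z hz =>
  ⟨1, y.primeCompl.one_mem, by
    rw [one_smul]
    exact Module.Flat.lTensor_preserves_injective_linearMap I.subtype Subtype.val_injective
      (hz.trans (map_zero _).symm)⟩)).elim

theorem flatAt_congr {A D : Type u} [CommRing A] [CommRing D] [Algebra A D] {G G' : Type u}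
    [AddCommGroup G] [Module D G] [Module A G] [IsScalarTower A D G]
    [AddCommGroup G'] [Module D G'] [Module A G'] [IsScalarTower A D G'] (e : G ≃ₗ[D] G') (y : Ideal D) [y.IsPrime] :
    FlatCA.FlatAt A y G ↔ FlatCA.FlatAt A y G' :=
  ⟨fun h => FlatCrit65.flat_localized_equiv e y h, fun h => FlatCrit65.flat_localized_equiv e.symm y h⟩

theorem holds_congr {A D : Type u} [CommRing A] [CommRing D] [Algebra A D] (n : ℕ) (t : Ideal A) [t.IsPrime]
    {G G' : Type u} [AddCommGroup G] [Module D G] [Module A G] [IsScalarTower A D G]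
    [AddCommGroup G'] [Module D G'] [Module A G'] [IsScalarTower A D G'] (e : G ≃ₗ[D] G') :
    Holds n (B := D) t G ↔ Holds n (B := D) t G' :=
  ⟨fun h y _ _ hy => h y (mt (flatAt_congr e y).1 hy), fun h y _ _ hy => h y (mt (flatAt_congr e y).2 hy)⟩

end Groth.Agent.FlatMor68.DimLT
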