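import Groth.Agent.FlatMor68.DimLT
import Groth.Agent.RG29.DevBC
import Groth.Agent.RG29.DevFibre
import Groth.Agent.RG29.FlatSpread
import Mathlib

/-!
# Flatness in dimensions `≥ n` after base change along the steps of a dévissage
-/

set_option autoImplicit false
set_option linter.style.haveILetI false

universe u

open TensorProduct

namespace Groth.Agent.FlatMor68.DimStepBC

/-- Killed kernels become universal injectivity after a base change making the element invertible. -/
theorem univInj_of_kerKilled {A A' P G P' G' : Type u} [CommRing A] [CommRing A'] [Algebra A A']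
    [AddCommGroup P] [Module A P] [AddCommGroup G] [Module A G]
    [AddCommGroup P'] [Module A P'] [Module A' P'] [IsScalarTower A A' P']
    [AddCommGroup G'] [Module A G'] [Module A' G'] [IsScalarTower A A' G']
    {i : P →ₗ[A] P'} (hi : IsBaseChange A' i) {j : G →ₗ[A] G'} (hj : IsBaseChange A' j)
    (φ : P →ₗ[A] G) (φ' : P' →ₗ[A'] G') (hc : ∀ x, φ' (i x) = j (φ x))
    {g : A} (hk : RG29.KerKilled g φ) (hg : IsUnit (algebraMap A A' g)) :
    CAlgX.UniversallyInjective A' φ' := by
  intro X _ _
  letI : Module A X := Module.compHom X (algebraMap A A')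
  haveI : IsScalarTower A A' X := IsScalarTower.of_algebraMap_smul fun _ _ => rfl
  rw [← LinearMap.lTensor_inj_iff_rTensor_inj]
  let eP : X ⊗[A] P ≃ₗ[A'] X ⊗[A'] P' :=
    (AlgebraTensorModule.cancelBaseChange A A' A' X P).symm.trans
      (TensorProduct.congr (LinearEquiv.refl A' X) hi.equiv)
  let eG : X ⊗[A] G ≃ₗ[A'] X ⊗[A'] G' :=
    (AlgebraTensorModule.cancelBaseChange A A' A' X G).symm.trans
      (TensorProduct.congr (LinearEquiv.refl A' X) hj.equiv)
  have hsq : ∀ z, φ'.lTensor X (eP z) = eG (φ.lTensor X z) := fun z => by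
    induction z using TensorProduct.induction_on with
    | zero => simp
    | tmul x p => simp [eP, eG, IsBaseChange.equiv_tmul, hc]
    | add a b ha hb => simp only [map_add, ha, hb]
  refine (injective_iff_map_eq_zero _).2 fun w hw => ?_
  obtain ⟨z, rfl⟩ := eP.surjective w
  rw [hsq, LinearEquiv.map_eq_zero_iff] at hw
  have hcomm : ∀ z : X ⊗[A] P, φ.rTensor X (TensorProduct.comm A X P z) =
      TensorProduct.comm A X G (φ.lTensor X z) := fun z => by
    induction z using TensorProduct.induction_on with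
    | zero => simp
    | tmul x p => simp
    | add a b ha hb => simp only [map_add, ha, hb]
  obtain ⟨m, hm⟩ := hk X (TensorProduct.comm A X P z) (by rw [hcomm, hw, map_zero])
  rw [← map_smul, LinearEquiv.map_eq_zero_iff, ← algebraMap_smul A', map_pow] at hm
  rw [(hg.pow m).smul_eq_zero.1 hm, map_zero]

section

variable {A A' : Type u} [CommRing A] [CommRing A'] [Algebra A A'] (n : ℕ)

set_option maxHeartbeats 800000 in
/-- Changing the ambient algebra along a closed immersion followed by a finite morphism commutes with base change. -/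
theorem transfer {S : Type u} [CommRing S] [Algebra A S] {N : Type u} [AddCommGroup N] [Module S N]
    {C D G : Type u} [CommRing C] [CommRing D] [Algebra S C] [Algebra A C] [IsScalarTower A S C] [Algebra A D]
    [Algebra D C] [IsScalarTower A D C] [AddCommGroup G] [Module C G] [Module S G] [IsScalarTower S C G] [Module D G]
    [IsScalarTower D C G] (isoN : N ≃ₗ[S] G) (hsurjC : Function.Surjective (algebraMap S C)) [Module.Finite D C]
    (W : Prop)
    (hW : ∀ (D₁ G₁ : Type u) [CommRing D₁] [Algebra D D₁] [Algebra A' D₁] [Algebra A D₁]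
      [IsScalarTower A A' D₁] [IsScalarTower A D D₁] [Algebra.IsPushout A D A' D₁] [AddCommGroup G₁]
      [Module D₁ G₁] [Module D G₁] [IsScalarTower D D₁ G₁] [Module A' G₁] [IsScalarTower A' D₁ G₁]
      (j : G →ₗ[D] G₁), IsBaseChange D₁ j →
        ((∀ (t : Ideal A') [t.IsPrime], DimLT.Holds n (B := D₁) t G₁) ↔ W))
    (S'' : Type u) [CommRing S''] [Algebra S S''] [Algebra A' S''] [Algebra A S''] [IsScalarTower A A' S'']
    [IsScalarTower A S S''] [Algebra.IsPushout A S A' S''] (N'' : Type u) [AddCommGroup N''] [Module S'' N'']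
    [Module S N''] [IsScalarTower S S'' N''] [Module A' N''] [IsScalarTower A' S'' N'']
    (i : N →ₗ[S] N'') (hi : IsBaseChange S'' i) :
    (∀ (t : Ideal A') [t.IsPrime], DimLT.Holds n (B := S'') t N'') ↔ W := by
  let D₁ := A' ⊗[A] D
  letI aDD₁ : Algebra D D₁ := Algebra.TensorProduct.rightAlgebra
  haveI : IsScalarTower A D D₁ := IsScalarTower.of_algebraMap_eq (R := A) (S := D) (A := D₁) fun r =>
    ((Algebra.TensorProduct.includeRight : D →ₐ[A] D₁).commutes r).symm
  haveI : Algebra.IsPushout A D A' D₁ := TensorProduct.isPushout'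
  let C₁ := D₁ ⊗[D] C
  letI aCC₁ : Algebra C C₁ := Algebra.TensorProduct.rightAlgebra
  haveI : IsScalarTower D C C₁ := IsScalarTower.of_algebraMap_eq (R := D) (S := C) (A := C₁) fun d =>
    ((Algebra.TensorProduct.includeRight : C →ₐ[D] C₁).commutes d).symm
  haveI pDC : Algebra.IsPushout D C D₁ C₁ := TensorProduct.isPushout'
  haveI : IsScalarTower A D C₁ := IsScalarTower.of_algebraMap_eq (R := A) (S := D) (A := C₁) fun r => by
    exact ((IsScalarTower.algebraMap_apply A D₁ C₁ r).trans
      (congrArg (algebraMap D₁ C₁) (IsScalarTower.algebraMap_apply A D D₁ r))).trans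
      (IsScalarTower.algebraMap_apply D D₁ C₁ (algebraMap A D r)).symm
  haveI : IsScalarTower A C C₁ := IsScalarTower.of_algebraMap_eq (R := A) (S := C) (A := C₁) fun r => by
    rw [IsScalarTower.algebraMap_apply A D C, ← IsScalarTower.algebraMap_apply D C C₁,
      ← IsScalarTower.algebraMap_apply A D C₁]
  haveI : IsScalarTower A A' C₁ := IsScalarTower.of_algebraMap_eq (R := A) (S := A') (A := C₁) fun r => by
    rw [IsScalarTower.algebraMap_apply A' D₁ C₁, ← IsScalarTower.algebraMap_apply A A' D₁,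
      ← IsScalarTower.algebraMap_apply A D₁ C₁]
  haveI pRC : Algebra.IsPushout A C A' C₁ := (Algebra.IsPushout.comp_iff A D A' D₁ (T := C) (T' := C₁)).2 pDC
  letI aSC₁ : Algebra S C₁ := ((algebraMap C C₁).comp (algebraMap S C)).toAlgebra
  haveI : IsScalarTower S C C₁ := IsScalarTower.of_algebraMap_eq (R := S) (S := C) (A := C₁) fun _ => rfl
  haveI : IsScalarTower A S C₁ := IsScalarTower.of_algebraMap_eq (R := A) (S := S) (A := C₁) fun r => by
    rw [IsScalarTower.algebraMap_apply A C C₁, IsScalarTower.algebraMap_apply A S C,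
      ← IsScalarTower.algebraMap_apply S C C₁]
  let ψ₁ : S'' →ₐ[S] C₁ := (Algebra.TensorProduct.lift (Algebra.ofId S C₁) (IsScalarTower.toAlgHom A A' C₁)
    fun _ _ => .all _ _).comp (Algebra.IsPushout.equiv A S A' S'').symm.toAlgHom
  letI aS''C₁ : Algebra S'' C₁ := ψ₁.toRingHom.toAlgebra
  haveI : IsScalarTower S S'' C₁ := IsScalarTower.of_algHom ψ₁
  have hψR : ∀ r, algebraMap S'' C₁ (algebraMap A' S'' r) = algebraMap A' C₁ r := fun r => by
    show (Algebra.TensorProduct.lift (Algebra.ofId S C₁) (IsScalarTower.toAlgHom A A' C₁)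
      fun _ _ => .all _ _) ((Algebra.IsPushout.equiv A S A' S'').symm (algebraMap A' S'' r)) = _
    rw [Algebra.IsPushout.equiv_symm_algebraMap_right, Algebra.TensorProduct.lift_tmul, map_one, one_mul]
    rfl
  haveI : IsScalarTower A' S'' C₁ := IsScalarTower.of_algebraMap_eq (R := A') (S := S'') (A := C₁) fun r => (hψR r).symm
  haveI : IsScalarTower A S'' C₁ := IsScalarTower.of_algebraMap_eq (R := A) (S := S'') (A := C₁) fun r => by
    rw [IsScalarTower.algebraMap_apply A S S'', ← IsScalarTower.algebraMap_apply S S'' C₁,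
      ← IsScalarTower.algebraMap_apply A S C₁]
  haveI pSC : Algebra.IsPushout S C S'' C₁ :=
    (Algebra.IsPushout.comp_iff A S A' S'' (T := C) (T' := C₁)).1 pRC
  haveI : Algebra.IsPushout S S'' C C₁ := Algebra.IsPushout.symm pSC
  haveI : Algebra.IsPushout D D₁ C C₁ := Algebra.IsPushout.symm pDC
  have hsurj : Function.Surjective (algebraMap S'' C₁) := fun c => by
    obtain ⟨u, rfl⟩ := (Algebra.IsPushout.equiv S C S'' C₁).surjective c
    induction u using TensorProduct.induction_on with
    | zero => exact ⟨0, by simp⟩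
    | tmul c s =>
      obtain ⟨s', rfl⟩ := hsurjC c
      refine ⟨algebraMap S S'' s' * s, ?_⟩
      rw [Algebra.IsPushout.equiv_tmul, map_mul, ← IsScalarTower.algebraMap_apply, ← IsScalarTower.algebraMap_apply]
    | add u v hu hv =>
      obtain ⟨a, ha⟩ := hu
      obtain ⟨b, hb⟩ := hv
      exact ⟨a + b, by rw [map_add, map_add, ha, hb]⟩
  haveI : Module.Finite D₁ C₁ := Module.Finite.equiv (Algebra.IsPushout.equiv D D₁ C C₁).toLinearEquiv
  haveI : SMulCommClass C D₁ C₁ := ⟨fun c d v => by rw [Algebra.smul_def c, Algebra.smul_def c, mul_smul_comm]⟩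
  haveI : SMulCommClass C S'' C₁ := ⟨fun c d v => by rw [Algebra.smul_def c, Algebra.smul_def c, mul_smul_comm]⟩
  haveI : SMulCommClass C A' C₁ := ⟨fun c d v => by rw [Algebra.smul_def c, Algebra.smul_def c, mul_smul_comm]⟩
  haveI : SMulCommClass C D C₁ := ⟨fun c d v => by rw [Algebra.smul_def c, Algebra.smul_def c, mul_smul_comm]⟩
  haveI : SMulCommClass C S C₁ := ⟨fun c d v => by rw [Algebra.smul_def c, Algebra.smul_def c, mul_smul_comm]⟩
  let G₁ := C₁ ⊗[C] G
  let jD : G →ₗ[D] G₁ := ((TensorProduct.mk C C₁ G) 1).restrictScalars D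
  have hjD : IsBaseChange D₁ jD := RG29.isBaseChange_of_pushout (S := D) (S₂ := D₁) (C := C) (C₂ := C₁) G
  let jS : G →ₗ[S] G₁ := ((TensorProduct.mk C C₁ G) 1).restrictScalars S
  have hjS : IsBaseChange S'' jS := RG29.isBaseChange_of_pushout (S := S) (S₂ := S'') (C := C) (C₂ := C₁) G
  have hjN : IsBaseChange S'' ((jS.restrictScalars S).comp isoN.toLinearMap) :=
    (IsBaseChange.ofEquiv isoN).comp hjS
  let e₁ : N'' ≃ₗ[S''] G₁ := hi.equiv.symm.trans hjN.equiv
  refine Iff.trans ?_ (hW D₁ G₁ jD hjD)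
  refine forall_congr' fun t => forall_congr' fun _ => ?_
  exact ((DimLT.holds_congr (G' := G₁) n t e₁).trans (DimLT.holds_iff_of_surjective (M := G₁) (C := C₁) n t hsurj)).trans
    (DimLT.holds_iff_of_finite (M := G₁) (D := D₁) (C := C₁) n t).symm

set_option maxHeartbeats 800000 in
/-- One step of a dévissage: after a base change making the map universally injective, flatness in dimensions
`≥ n` of the module and of the cokernel agree. -/
theorem step {D : Type u} [CommRing D] [Algebra A D] [Module.Flat A D] {G : Type u} [AddCommGroup G] [Module D G]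
    [Module A G] [IsScalarTower A D G] {r : ℕ} (α : (Fin r → D) →ₗ[D] G) {g : A}
    (hk : RG29.KerKilled g (α.restrictScalars A)) (hg : IsUnit (algebraMap A A' g)) (W : Prop)
    (D₁ G₁ : Type u) [CommRing D₁] [Algebra D D₁] [Algebra A' D₁] [Algebra A D₁]
    [IsScalarTower A A' D₁] [IsScalarTower A D D₁] [Algebra.IsPushout A D A' D₁] [AddCommGroup G₁]
    [Module D₁ G₁] [Module D G₁] [IsScalarTower D D₁ G₁] [Module A' G₁] [IsScalarTower A' D₁ G₁]
    (j : G →ₗ[D] G₁) (hj : IsBaseChange D₁ j)
    (hW : ∀ (Q₁ : Type u) [AddCommGroup Q₁] [Module D₁ Q₁] [Module D Q₁] [IsScalarTower D D₁ Q₁]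
      [Module A' Q₁] [IsScalarTower A' D₁ Q₁] (j' : (G ⧸ LinearMap.range α) →ₗ[D] Q₁), IsBaseChange D₁ j' →
        ((∀ (t : Ideal A') [t.IsPrime], DimLT.Holds n (B := D₁) t Q₁) ↔ W)) :
    (∀ (t : Ideal A') [t.IsPrime], DimLT.Holds n (B := D₁) t G₁) ↔ W := by
  haveI : Algebra.IsPushout A A' D D₁ := Algebra.IsPushout.symm inferInstance
  letI : Module A G₁ := Module.compHom G₁ (algebraMap A A')
  haveI : IsScalarTower A A' G₁ := IsScalarTower.of_algebraMap_smul fun _ _ => rfl
  haveI : IsScalarTower A D G₁ := IsScalarTower.of_algebraMap_smul fun a x => by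
    show algebraMap A D a • x = algebraMap A A' a • x
    rw [← algebraMap_smul D₁ (algebraMap A D a), ← algebraMap_smul D₁ (algebraMap A A' a),
      ← IsScalarTower.algebraMap_apply, ← IsScalarTower.algebraMap_apply]
  obtain ⟨α₁, hα₁⟩ := RG29.exists_map_baseChange (D₂ := D₁) (G₂ := G₁) α j
  let ι : D →ₗ[A] D₁ := (IsScalarTower.toAlgHom A D D₁).toLinearMap
  have hι : IsBaseChange A' ι := Algebra.IsPushout.out
  have hjA : IsBaseChange A' (j.restrictScalars A) := by
    have h1 := RG29.isBaseChange_of_pushout (S := A) (S₂ := A') (C := D) (C₂ := D₁) G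
    let e : (D₁ ⊗[D] G) ≃ₗ[D₁] G₁ := hj.equiv
    convert h1.comp (IsBaseChange.ofEquiv (e.restrictScalars A')) using 1
    ext x
    simp [e, IsBaseChange.equiv_tmul]
  have hsq : ∀ v : Fin r → D, α₁ ((ι.compLeft (Fin r)) v) = j (α v) := fun v => by
    conv_rhs => rw [← (Pi.basisFun D (Fin r)).sum_repr v]
    rw [← (Pi.basisFun D₁ (Fin r)).sum_repr ((ι.compLeft (Fin r)) v)]
    simp only [map_sum, map_smul]
    refine Finset.sum_congr rfl fun k _ => ?_
    rw [Pi.basisFun_apply, Pi.basisFun_apply, hα₁, Pi.basisFun_repr, Pi.basisFun_repr]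
    exact algebraMap_smul D₁ (v k) _
  have hui : CAlgX.UniversallyInjective A' (α₁.restrictScalars A') :=
    univInj_of_kerKilled (hι.finitePow (Fin r)) hjA (α.restrictScalars A) (α₁.restrictScalars A') hsq hk hg
  haveI : Module.Flat A (Fin r → D) := Module.Flat.of_linearEquiv (DFinsupp.linearEquivFunOnFintype (R := A) (M := fun _ : Fin r => D)).symm
  haveI : Module.Flat A' (Fin r → D₁) := Module.Flat.isBaseChange A A' (Fin r → D) (Fin r → D₁) (hι.finitePow (Fin r))
  refine Iff.trans ?_ (hW _ _ (RG29.isBaseChange_coker hj hα₁))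
  refine forall_congr' fun t => forall_congr' fun _ => ?_
  exact DimLT.holds_iff_coker n t (α₁.restrictScalars A') hui (LinearMap.range α₁).mkQ (Submodule.mkQ_surjective _)
    (LinearMap.exact_iff.2 (Submodule.ker_mkQ _) : Function.Exact α₁ (LinearMap.range α₁).mkQ)

end

end Groth.Agent.FlatMor68.DimStepBC
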