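import Groth.Agent.FlatMor68.ReducedSpecial
import Groth.Agent.VarGal.LocalImm
import Mathlib

/-!
Irreducible components of the two fibres of a flat closed morphism over a discrete valuation ring
with reduced special fibre.
-/

set_option autoImplicit false
set_option linter.style.haveILetI false
set_option backward.isDefEq.respectTransparency.types false

universe u

open CategoryTheory CategoryTheory.Limits AlgebraicGeometry TopologicalSpace TensorProduct

namespace Groth.Agent.FlatMor68.DvrCompCount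

/-- The points without proper generizations in their fibre. -/
def fibreMax {Z S : Scheme.{u}} (g : Z ⟶ S) (t : S) : Set Z :=
  {d | g d = t ∧ ∀ w, g w = t → w ⤳ d → w = d}

theorem encard_irreducibleComponents_eq_max {T : Type u} [TopologicalSpace T] [QuasiSober T] [T0Space T] :
    (irreducibleComponents T).encard = {x : T | ∀ y, y ⤳ x → y = x}.encard := by
  have h : irreducibleComponents T = (fun x => closure {x}) '' {x : T | ∀ y, y ⤳ x → y = x} := by
    ext C
    constructor
    · intro hC
      obtain ⟨x, hx⟩ := QuasiSober.sober hC.1 (isClosed_of_mem_irreducibleComponents C hC)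
      refine ⟨x, (VarGal.closure_singleton_mem_irreducibleComponents_iff x).1 ?_, hx⟩
      rwa [hx]
    · rintro ⟨x, hx, rfl⟩
      exact (VarGal.closure_singleton_mem_irreducibleComponents_iff x).2 hx
  rw [h, Set.InjOn.encard_image]
  intro x _ y _ hxy
  have hxy' : closure ({x} : Set T) = closure {y} := hxy
  exact ((specializes_iff_mem_closure.2 (hxy'.symm ▸ subset_closure rfl : y ∈ closure {x})).antisymm
    (specializes_iff_mem_closure.2 (hxy' ▸ subset_closure rfl : x ∈ closure {y}))).eq

/-- The components of a fibre given by a preimmersion of a point. -/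
theorem encard_components_pullback {Z S P : Scheme.{u}} (g : Z ⟶ S) (a : P ⟶ S) [IsPreimmersion a]
    {t : S} (ha : Set.range a = {t}) :
    (irreducibleComponents ↥(pullback g a)).encard = (fibreMax g t).encard := by
  haveI : IsPreimmersion (pullback.fst g a) := MorphismProperty.pullback_fst _ _ inferInstance
  have he := (pullback.fst g a).isEmbedding
  have hr : Set.range (pullback.fst g a) = g ⁻¹' {t} := by
    rw [Scheme.Pullback.range_fst, ha]
  have him : (pullback.fst g a) '' {x | ∀ y, y ⤳ x → y = x} = fibreMax g t := by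
    ext d
    constructor
    · rintro ⟨x, hx, rfl⟩
      refine ⟨hr.le ⟨x, rfl⟩, fun w hw hwd => ?_⟩
      obtain ⟨y, rfl⟩ := hr.ge hw
      rw [hx y (he.isInducing.specializes_iff.1 hwd)]
    · rintro ⟨hd, hmax⟩
      obtain ⟨x, rfl⟩ := hr.ge hd
      exact ⟨x, fun y hy => he.injective
        (hmax _ (hr.le ⟨y, rfl⟩) (he.isInducing.specializes_iff.2 hy)), rfl⟩
  rw [encard_irreducibleComponents_eq_max, ← him, he.injective.encard_image]

variable {V : Type u} [CommRing V] [IsDomain V] [IsDiscreteValuationRing V]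

/-- The closed and the generic point. -/
theorem eq_bot_or_eq_closedPoint (x : PrimeSpectrum V) :
    x = ⊥ ∨ x = IsLocalRing.closedPoint V := by
  by_cases h : x.asIdeal = ⊥
  · exact Or.inl (PrimeSpectrum.ext h)
  · exact Or.inr (PrimeSpectrum.ext (IsLocalRing.eq_maximalIdeal (x.isPrime.isMaximal h)))

variable {Z : Scheme.{u}} (g : Z ⟶ Spec (CommRingCat.of V)) [LocallyOfFiniteType g] [Flat g]

/-- Local algebra of the fibres near a point. -/
theorem exists_chart (z : Z) {π : V} (hπ : Irreducible π)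
    [IsReduced (pullback g (Spec.map (CommRingCat.ofHom
      (algebraMap V (V ⧸ IsLocalRing.maximalIdeal V)))))] :
    ∃ (A : Type u) (_ : CommRing A) (_ : IsNoetherianRing A) (ι : Spec (CommRingCat.of A) ⟶ Z) (π' : A),
      IsOpenImmersion ι ∧ z ∈ Set.range ι ∧ (∀ a, π' * a = 0 → a = 0) ∧
      (Ideal.span {π'}).IsRadical ∧
      (∀ P : PrimeSpectrum A, π' ∈ P.asIdeal → g (ι P) = IsLocalRing.closedPoint V) ∧
      (∀ P : PrimeSpectrum A, π' ∉ P.asIdeal → g (ι P) = (⊥ : PrimeSpectrum V)) := by
  obtain ⟨_, ⟨U, hU, rfl⟩, hzU, -⟩ :=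
    Z.isBasis_affineOpens.exists_subset_of_mem_open (Set.mem_univ z) isOpen_univ
  let A := Γ(Z, U)
  let ι : Spec A ⟶ Z := hU.fromSpec
  haveI : IsLocallyNoetherian (Spec (CommRingCat.of V)) := inferInstance
  haveI : IsLocallyNoetherian Z := LocallyOfFiniteType.isLocallyNoetherian g
  haveI : IsNoetherianRing A := IsLocallyNoetherian.component_noetherian ⟨U, hU⟩
  let φ : CommRingCat.of V ⟶ A := Spec.preimage (ι ≫ g)
  have hφ : Spec.map φ = ι ≫ g := Spec.map_preimage _
  algebraize [φ.hom]
  have hflat : φ.hom.Flat := by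
    have : Flat (Spec.map φ) := by rw [hφ]; infer_instance
    exact (HasRingHomProperty.Spec_iff (P := @Flat)).1 this
  haveI : Module.Flat V A := hflat
  let π' := algebraMap V A π
  have hm : IsLocalRing.maximalIdeal V = Ideal.span {π} := hπ.maximalIdeal_eq
  have hgι : ∀ P : PrimeSpectrum A, g (ι P) = PrimeSpectrum.comap (algebraMap V A) P := fun P => by
    rw [← Scheme.Hom.comp_apply, ← hφ]
    rfl
  have hrad : (Ideal.span {π'}).IsRadical := by
    let k := V ⧸ IsLocalRing.maximalIdeal V
    let as := Spec.map (CommRingCat.ofHom (algebraMap V k))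
    have hsq : IsPullback (pullback.fst (ι ≫ g) as) (pullback.snd (ι ≫ g) as) (ι ≫ g) as :=
      IsPullback.of_hasPullback _ _
    let c : pullback (ι ≫ g) as ⟶ pullback g as := pullback.map _ _ _ _ ι (𝟙 _) (𝟙 _) (by simp) (by simp)
    haveI : IsOpenImmersion c := inferInstance
    haveI h1 : IsReduced (pullback (ι ≫ g) as) := isReduced_of_isOpenImmersion c
    have e0 : ι ≫ g = Spec.map (CommRingCat.ofHom (algebraMap V A)) := hφ.symm
    let e : pullback (ι ≫ g) as ≅ Spec (CommRingCat.of ((A : Type u) ⊗[V] k)) :=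
      pullback.congrHom e0 rfl ≪≫ pullbackSpecIso V A k
    haveI : IsReduced (Spec (CommRingCat.of ((A : Type u) ⊗[V] k))) := isReduced_of_isOpenImmersion e.inv
    haveI : _root_.IsReduced ((A : Type u) ⊗[V] k) := (affine_isReduced_iff (CommRingCat.of _)).1 ‹_›
    let E := Algebra.TensorProduct.quotIdealMapEquivTensorQuot (A : Type u) (IsLocalRing.maximalIdeal V)
    haveI : _root_.IsReduced ((A : Type u) ⧸ (IsLocalRing.maximalIdeal V).map (algebraMap V A)) :=
      isReduced_of_injective E E.injective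
    have h2 := (Ideal.isRadical_iff_quotient_reduced _).2 this
    rwa [hm, Ideal.map_span, Set.image_singleton] at h2
  refine ⟨A, inferInstance, inferInstance, ι, π', inferInstance, ?_, ?_, hrad, fun P hP => ?_, fun P hP => ?_⟩
  · rw [IsAffineOpen.range_fromSpec]
    exact hzU
  · intro a ha
    have hreg : IsSMulRegular (A : Type u) (algebraMap V A π) :=
      IsSMulRegular.of_flat (S := A) (isSMulRegular_iff_right_eq_zero_of_smul.2 fun r hr =>
        (mul_eq_zero.1 hr).resolve_left hπ.ne_zero)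
    exact hreg.right_eq_zero_of_smul ha
  · rw [hgι]
    rcases eq_bot_or_eq_closedPoint (PrimeSpectrum.comap (algebraMap V A) P) with h | h
    · have h3 : π ∈ (PrimeSpectrum.comap (algebraMap V A) P).asIdeal := hP
      rw [h] at h3
      exact absurd h3 hπ.ne_zero
    · exact h
  · rw [hgι]
    rcases eq_bot_or_eq_closedPoint (PrimeSpectrum.comap (algebraMap V A) P) with h | h
    · exact h
    · refine absurd ?_ hP
      show π ∈ (PrimeSpectrum.comap (algebraMap V A) P).asIdeal
      rw [h]
      show π ∈ IsLocalRing.maximalIdeal V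
      rw [hm]
      exact Ideal.mem_span_singleton_self π

/-- The special fibre has at least as many components as the generic fibre. -/
theorem encard_fibreMax_le (hclosed : IsClosedMap g)
    [IsReduced (pullback g (Spec.map (CommRingCat.ofHom
      (algebraMap V (V ⧸ IsLocalRing.maximalIdeal V)))))] :
    (fibreMax g (⊥ : PrimeSpectrum V)).encard ≤ (fibreMax g (IsLocalRing.closedPoint V)).encard := by
  classical
  obtain ⟨π, hπ⟩ := IsDiscreteValuationRing.exists_irreducible V
  let s := IsLocalRing.closedPoint V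
  have hex : ∀ d ∈ fibreMax g (⊥ : PrimeSpectrum V), ∃ u, u ∈ fibreMax g s ∧ d ⤳ u := by
    intro d hd
    obtain ⟨z, hdz, hz⟩ : ∃ z, d ⤳ z ∧ g z = s := by
      have h1 : s ∈ g '' closure {d} := by
        refine (hclosed _ isClosed_closure).closure_subset_iff.2
          (show ({g d} : Set _) ⊆ g '' closure {d} from by
            rintro _ rfl; exact ⟨d, subset_closure rfl, rfl⟩) ?_
        rw [hd.1]
        exact specializes_iff_mem_closure.1 ((PrimeSpectrum.le_iff_specializes _ _).1 bot_le)
      obtain ⟨z, hz, hzs⟩ := h1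
      exact ⟨z, specializes_iff_mem_closure.2 hz, hzs⟩
    obtain ⟨A, _, _, ι, π', _, ⟨Pz, rfl⟩, hreg, hrad, hs, hη⟩ := exists_chart g z hπ
    obtain ⟨Pd, rfl⟩ : d ∈ Set.range ι := hdz.mem_open ι.isOpenEmbedding.isOpen_range ⟨Pz, rfl⟩
    have hne : s ≠ (⊥ : PrimeSpectrum V) := fun h => IsDiscreteValuationRing.not_a_field V
      (congrArg PrimeSpectrum.asIdeal h)
    have hπd : π' ∉ Pd.asIdeal := fun h => hne ((hs _ h).symm.trans hd.1)
    have hπz : π' ∈ Pz.asIdeal := by
      by_contra h
      exact hne (hz.symm.trans (hη _ h))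
    have hle : Pd.asIdeal ≤ Pz.asIdeal := (PrimeSpectrum.le_iff_specializes _ _).2
      (ι.isOpenEmbedding.isInducing.specializes_iff.1 hdz)
    have hmin : Pd.asIdeal ∈ minimalPrimes A := by
      refine ⟨⟨Pd.isPrime, bot_le⟩, fun J hJ hJle => ?_⟩
      let PJ : PrimeSpectrum A := ⟨J, hJ.1⟩
      have h1 : ι PJ = ι Pd := hd.2 _ (hη PJ fun h => hπd (hJle h))
        (((PrimeSpectrum.le_iff_specializes PJ Pd).1 hJle).map ι.continuous)
      exact (congrArg PrimeSpectrum.asIdeal (ι.isOpenEmbedding.injective h1)).ge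
    obtain ⟨q, hq, hdq⟩ := ReducedSpecial.exists_minimalPrimes_ge hreg hrad hmin hle hπz
    let Pq : PrimeSpectrum A := ⟨q, hq.1.1⟩
    refine ⟨ι Pq, ⟨hs Pq (hq.1.2 (Ideal.mem_span_singleton_self _)), fun w hw hwq => ?_⟩,
      ((PrimeSpectrum.le_iff_specializes Pd Pq).1 hdq).map ι.continuous⟩
    obtain ⟨Pw, rfl⟩ : w ∈ Set.range ι := hwq.mem_open ι.isOpenEmbedding.isOpen_range ⟨Pq, rfl⟩
    have hwle : Pw.asIdeal ≤ Pq.asIdeal := (PrimeSpectrum.le_iff_specializes _ _).2
      (ι.isOpenEmbedding.isInducing.specializes_iff.1 hwq)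
    have hπw : π' ∈ Pw.asIdeal := by
      by_contra h
      exact hne (hw.symm.trans (hη _ h))
    exact congrArg ι (PrimeSpectrum.ext (le_antisymm hwle
      (hq.2 ⟨Pw.isPrime, (Ideal.span_singleton_le_iff_mem _).2 hπw⟩ hwle)))
  choose! F hF1 hF2 using hex
  refine Set.encard_le_encard_of_injOn (f := F) hF1 fun d hd d' hd' hdd => ?_
  have hu := hF1 d hd
  have h1 := hF2 d hd
  have h2 := hF2 d' hd'
  rw [← hdd] at h2
  generalize F d = u at hu h1 h2
  obtain ⟨A, _, _, ι, π', _, ⟨Pu, rfl⟩, -, hrad, hs, hη⟩ := exists_chart g u hπ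
  obtain ⟨Pd, rfl⟩ : d ∈ Set.range ι := h1.mem_open ι.isOpenEmbedding.isOpen_range ⟨Pu, rfl⟩
  obtain ⟨Pd', rfl⟩ : d' ∈ Set.range ι := h2.mem_open ι.isOpenEmbedding.isOpen_range ⟨Pu, rfl⟩
  have hne : s ≠ (⊥ : PrimeSpectrum V) := fun h => IsDiscreteValuationRing.not_a_field V
    (congrArg PrimeSpectrum.asIdeal h)
  have hπd : π' ∉ Pd.asIdeal := fun h => hne ((hs _ h).symm.trans hd.1)
  have hπd' : π' ∉ Pd'.asIdeal := fun h => hne ((hs _ h).symm.trans hd'.1)
  have hπu : π' ∈ Pu.asIdeal := by
    by_contra h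
    exact hne (hu.1.symm.trans (hη _ h))
  have hq : Pu.asIdeal ∈ (Ideal.span {π'}).minimalPrimes := by
    refine ⟨⟨Pu.isPrime, (Ideal.span_singleton_le_iff_mem _).2 hπu⟩, fun J hJ hJle => ?_⟩
    let PJ : PrimeSpectrum A := ⟨J, hJ.1⟩
    have h3 : ι PJ = ι Pu := hu.2 _ (hs PJ (hJ.2 (Ideal.mem_span_singleton_self _)))
      (((PrimeSpectrum.le_iff_specializes PJ Pu).1 hJle).map ι.continuous)
    exact (congrArg PrimeSpectrum.asIdeal (ι.isOpenEmbedding.injective h3)).ge
  have hle : Pd.asIdeal ≤ Pu.asIdeal := (PrimeSpectrum.le_iff_specializes _ _).2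
    (ι.isOpenEmbedding.isInducing.specializes_iff.1 h1)
  have hle' : Pd'.asIdeal ≤ Pu.asIdeal := (PrimeSpectrum.le_iff_specializes _ _).2
    (ι.isOpenEmbedding.isInducing.specializes_iff.1 h2)
  exact congrArg ι (PrimeSpectrum.ext (le_antisymm
    (ReducedSpecial.le_of_le_minimalPrimes hrad hq hle hle' hπd)
    (ReducedSpecial.le_of_le_minimalPrimes hrad hq hle' hle hπd')))

end Groth.Agent.FlatMor68.DvrCompCount
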