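import Groth.Agent.RG29.Elem
import Groth.Prelude.Def_Hens2
import Groth.Agent.CAlg4.FibreDimCompact
import Groth.Agent.FlatCrit65.Dev.ProjNhdScheme
import Groth.Agent.Desc59.EtaleDim

/-!
Elementary dévissage of a morphism: locally for the étale topology a morphism of finite type factors as
a finite morphism followed by a smooth morphism with geometrically integral fibres.
-/

set_option autoImplicit false
set_option backward.isDefEq.respectTransparency.types false
set_option linter.style.haveILetI false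
universe u

open CategoryTheory CategoryTheory.Limits AlgebraicGeometry TensorProduct TopologicalSpace

noncomputable section

namespace Groth.Agent.FlatMor68.ElemScheme

attribute [local instance] Algebra.TensorProduct.rightAlgebra

theorem bijective_residueFieldMap_congr {X Y : Scheme.{u}} (g : X ⟶ Y) {a b : X} (h : a = b)
    (hb : Function.Bijective (g.residueFieldMap b)) : Function.Bijective (g.residueFieldMap a) := by
  subst h; exact hb

/-- An elementary dévissage of the structure sheaf has a bijective `S' → C`. -/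
theorem bijective_algebraMap {R S : Type u} [CommRing R] [CommRing S] [Algebra R S] {p : Ideal R}
    {q : Ideal S} [p.IsPrime] [q.IsPrime] {n : ℕ} (E : FlatCA.ElemDevissage R S S p q n) :
    Function.Bijective (algebraMap E.S' E.C) := by
  refine ⟨(injective_iff_map_eq_zero _).2 fun c hc => ?_, E.surjC⟩
  have h0 : c • E.f 1 = 0 := E.iso.injective (by
    rw [map_smul, map_zero, ← IsScalarTower.algebraMap_smul E.C, hc, zero_smul])
  have h1 := congrArg E.isBaseChange.equiv.symm h0
  rw [map_smul, map_zero, IsBaseChange.equiv_symm_apply, TensorProduct.smul_tmul'] at h1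
  have h2 := congrArg (TensorProduct.rid S E.S') h1
  simpa using h2

theorem etaleNbhd_comp {A B : Type u} [CommRing A] [CommRing B] [Algebra A B] (p : Ideal A) (P : Ideal B)
    [p.IsPrime] [P.IsPrime] (h : FlatCA.IsEtaleNhd A B p P) {S : Scheme.{u}}
    (j : Spec (CommRingCat.of A) ⟶ S) [IsOpenImmersion j] :
    Hens2.IsEtaleNbhd (Spec.map (CommRingCat.ofHom (algebraMap A B)) ≫ j)
      (show Spec (CommRingCat.of B) from (⟨P, inferInstance⟩ : PrimeSpectrum B))
      (j (show Spec (CommRingCat.of A) from (⟨p, inferInstance⟩ : PrimeSpectrum A))) := by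
  obtain ⟨he, hP, hb⟩ := h
  have hlies : P.LiesOver p := hP
  have hetale : Etale (Spec.map (CommRingCat.ofHom (algebraMap A B))) :=
    (HasRingHomProperty.Spec_iff (P := @Etale)).2 (RingHom.etale_algebraMap.2 he)
  have hpt : Spec.map (CommRingCat.ofHom (algebraMap A B))
      (show Spec (CommRingCat.of B) from (⟨P, inferInstance⟩ : PrimeSpectrum B)) =
      (show Spec (CommRingCat.of A) from (⟨p, inferInstance⟩ : PrimeSpectrum A)) :=
    PrimeSpectrum.ext hlies.over.symm
  refine ⟨inferInstance, ?_, RingHom.injective _, ?_⟩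
  · show (_ ≫ j) _ = _
    rw [Scheme.Hom.comp_apply, hpt]
  · exact FlatCrit65.Dev.surjective_residueFieldMap_comp _ j _
      (FlatCrit65.Dev.surjective_residueFieldMap_specMap p (⟨P, inferInstance⟩ : PrimeSpectrum B) (hx := hlies) hb)

theorem t1457 {X S : Scheme.{u}} (f : X ⟶ S) [LocallyOfFiniteType f] (x : X) (n : ℕ)
    (hn : FlatMor.fibreDimAt f x = n) :
    ∃ (S' Y' X' : Scheme.{u}) (e : S' ⟶ S) (h : Y' ⟶ S') (π : X' ⟶ Y') (g : X' ⟶ X) (s' : S') (x' : X'),
      IsAffine S' ∧ IsAffine Y' ∧ IsAffine X' ∧ Hens2.IsEtaleNbhd e s' (f x) ∧ Hens2.IsEtaleNbhd g x' x ∧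
      g ≫ f = π ≫ h ≫ e ∧ SmoothOfRelativeDimension n h ∧ GeometricallyIntegral h ∧ IsFinite π ∧ h (π x') = s' ∧
      ∀ z : X', π z = π x' → z = x' := by
  obtain ⟨_, ⟨U, hU, rfl⟩, hfxU, -⟩ := S.isBasis_affineOpens.exists_subset_of_mem_open (Set.mem_univ (f x)) isOpen_univ
  obtain ⟨_, ⟨V, hV, rfl⟩, hxV, hVU⟩ :=
    X.isBasis_affineOpens.exists_subset_of_mem_open (show x ∈ f ⁻¹ᵁ U from hfxU) (f ⁻¹ᵁ U).2
  let R : Type u := Γ(S, U)
  let B : Type u := Γ(X, V)
  letI : Algebra R B := (f.appLE U V hVU).hom.toAlgebra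
  have hft : Algebra.FiniteType R B := f.finiteType_appLE hU hV hVU
  have hsq : Spec.map (CommRingCat.ofHom (algebraMap R B)) ≫ hU.fromSpec = hV.fromSpec ≫ f :=
    hU.SpecMap_appLE_fromSpec f hV hVU
  let Q : PrimeSpectrum B := hV.primeIdealOf ⟨x, hxV⟩
  have hQ : hV.fromSpec Q = x := hV.fromSpec_primeIdealOf ⟨x, hxV⟩
  let q : Ideal B := Q.asIdeal
  let p : Ideal R := q.under R
  obtain ⟨x₀, hx₀⟩ := CAlg4.FibreDimCompact.exists_point R B Q
  have hxq : x₀.asIdeal = FlatCA.fiberIdeal p q := by
    apply le_antisymm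
    · intro z hz
      obtain ⟨r, hr, w, hw⟩ := Ideal.Fiber.exists_smul_eq_one_tmul p z
      have hwQ : w ∈ q := by
        have := Ideal.mul_mem_left x₀.asIdeal (algebraMap R (p.Fiber B) r) hz
        rw [← Algebra.smul_def, hw] at this
        exact hx₀.le this
      have hu : IsUnit (algebraMap R (p.Fiber B) r) := by
        rw [IsScalarTower.algebraMap_apply R p.ResidueField (p.Fiber B)]
        exact (IsUnit.mk0 _ (by rwa [ne_eq, Ideal.algebraMap_residueField_eq_zero])).map _
      refine (Ideal.unit_mul_mem_iff_mem _ hu).1 ?_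
      rw [← Algebra.smul_def, hw]
      exact Ideal.mem_map_of_mem _ hwQ
    · exact Ideal.map_le_iff_le_comap.2 hx₀.ge
  have hsupp : Module.support (p.Fiber B) (FlatCA.fiberMod p B B) = Set.univ := by
    refine Set.eq_univ_of_forall fun P => ?_
    rw [show Module.support (p.Fiber B) (FlatCA.fiberMod p B B) = Module.support (p.Fiber B) (p.Fiber B) from
      LinearEquiv.support_eq (AlgebraTensorModule.rid B (p.Fiber B) (p.Fiber B)),
      Module.support_eq_zeroLocus, Module.annihilator_eq_bot.2 inferInstance]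
    simp
  have hdim : FlatMor.localDim (Module.support (p.Fiber B) (FlatCA.fiberMod p B B))
      ⟨x₀, hsupp ▸ Set.mem_univ x₀⟩ = n := by
    refine Eq.trans ?_ hn
    refine (E4O.localDim_eq_of_homeomorph ((Homeomorph.setCongr hsupp).trans (Homeomorph.Set.univ _)) _).trans ?_
    refine (CAlg4.FibreDimCompact.localDim_eq_fibreDimAt R B Q x₀ hx₀).trans ?_
    have : LocallyOfFiniteType (RelGCI94.str (R := R) B) := RelGCI94.locallyOfFiniteType_str R B
    have := hU.isOpenImmersion_fromSpec
    have := hV.isOpenImmersion_fromSpec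
    have h := Desc59.EtaleDim.fibreDimAt_eq f (RelGCI94.str (R := R) B) hV.fromSpec hU.fromSpec hsq Q
    rw [hQ] at h
    exact h.symm
  obtain ⟨E⟩ := RG29.nonempty_elemDevissage (R := R) (S := B) B p q n x₀ hxq (hsupp ▸ Set.mem_univ x₀) hdim
  have := hU.isOpenImmersion_fromSpec
  have := hV.isOpenImmersion_fromSpec
  let eS := etaleNbhd_comp p E.p' E.etaleR hU.fromSpec
  have hbij := bijective_algebraMap E
  let iC : Spec (CommRingCat.of E.C) ⟶ Spec (CommRingCat.of E.S') :=
    Spec.map (CommRingCat.ofHom (algebraMap E.S' E.C))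
  have : IsIso (CommRingCat.ofHom (algebraMap E.S' E.C)) :=
    (RingEquiv.ofBijective (algebraMap E.S' E.C) hbij).toCommRingCatIso.isIso_hom
  have : IsIso iC := inferInstanceAs (IsIso (Spec.map _))
  let z' : Spec (CommRingCat.of E.C) := (⟨E.z, inferInstance⟩ : PrimeSpectrum E.C)
  have hz : iC z' = (⟨E.q', inferInstance⟩ : PrimeSpectrum E.S') := PrimeSpectrum.ext E.zOver.over.symm
  refine ⟨Spec (CommRingCat.of E.R'), Spec (CommRingCat.of E.D), Spec (CommRingCat.of E.C),
    Spec.map (CommRingCat.ofHom (algebraMap R E.R')) ≫ hU.fromSpec,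
    Spec.map (CommRingCat.ofHom (algebraMap E.R' E.D)),
    Spec.map (CommRingCat.ofHom (algebraMap E.D E.C)),
    iC ≫ Spec.map (CommRingCat.ofHom (algebraMap B E.S')) ≫ hV.fromSpec,
    (⟨E.p', inferInstance⟩ : PrimeSpectrum E.R'), z', inferInstance, inferInstance, inferInstance, ?_, ?_, ?_,
    E.smooth, E.geomInt, (IsFinite.SpecMap_iff _).2 (RingHom.finite_algebraMap.2 E.finiteDC), ?_, ?_⟩
  · have : hU.fromSpec (show Spec (CommRingCat.of R) from (⟨p, inferInstance⟩ : PrimeSpectrum R)) = f x := by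
      conv_rhs => rw [← hQ, ← Scheme.Hom.comp_apply, ← hsq, Scheme.Hom.comp_apply]
      rfl
    exact this ▸ eS
  · obtain ⟨h1, h2, h3⟩ := etaleNbhd_comp q E.q' E.etaleS hV.fromSpec
    refine ⟨inferInstance, ?_, ?_⟩
    · show (iC ≫ _) z' = x
      rw [Scheme.Hom.comp_apply, hz]
      exact h2.trans hQ
    · rw [Scheme.residueFieldMap_comp]
      refine (ConcreteCategory.bijective_of_isIso (iC.residueFieldMap z')).comp ?_
      exact bijective_residueFieldMap_congr _ hz h3
  · simp only [Category.assoc, ← hsq, iC]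
    simp only [← Spec.map_comp_assoc, ← CommRingCat.ofHom_comp]
    congr 3
    rw [← IsScalarTower.algebraMap_eq R B E.S', IsScalarTower.algebraMap_eq R E.R' E.S',
      ← RingHom.comp_assoc, ← IsScalarTower.algebraMap_eq E.R' E.S' E.C,
      IsScalarTower.algebraMap_eq E.R' E.D E.C, RingHom.comp_assoc]
  · exact PrimeSpectrum.ext (by
      show (E.z.under E.D).comap (algebraMap E.R' E.D) = E.p'
      rw [← E.zOverY.over]
      exact E.yOver.over.symm)
  · intro z hzz
    refine PrimeSpectrum.ext (E.uniq (show PrimeSpectrum E.C from z).asIdeal ⟨?_⟩)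
    exact E.zOverY.over.trans (congrArg PrimeSpectrum.asIdeal hzz).symm

end Groth.Agent.FlatMor68.ElemScheme
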