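import Mathlib
import Groth.Prelude.Def_MoreMor

/-!
Lifting standard étale algebras along ring maps which are surjective up to units.
-/

set_option autoImplicit false
set_option linter.style.haveILetI false
set_option backward.isDefEq.respectTransparency.types false

universe u

open Polynomial
open scoped TensorProduct

namespace Groth.Agent.FlatMor68.EtaleFibreLift

variable {A B : Type u} [CommRing A] [CommRing B] [Algebra A B]

/-- `B` consists of fractions of elements of `A`. -/
def SurjUpToUnits (A B : Type u) [CommRing A] [CommRing B] [Algebra A B] : Prop :=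
  ∀ b : B, ∃ a s : A, IsUnit (algebraMap A B s) ∧ b * algebraMap A B s = algebraMap A B a

theorem exists_poly (hι : SurjUpToUnits A B) (p : B[X]) :
    ∃ s : A, IsUnit (algebraMap A B s) ∧ C (algebraMap A B s) * p ∈ lifts (algebraMap A B) := by
  induction p using Polynomial.induction_on' with
  | add p q hp hq =>
    obtain ⟨s, hs, hps⟩ := hp
    obtain ⟨t, ht, hqt⟩ := hq
    refine ⟨s * t, by rw [map_mul]; exact hs.mul ht, ?_⟩
    rw [show C (algebraMap A B (s * t)) * (p + q) =
      C (algebraMap A B t) * (C (algebraMap A B s) * p) + C (algebraMap A B s) * (C (algebraMap A B t) * q) by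
        rw [map_mul, C_mul]; ring]
    exact add_mem (mul_mem (C_mem_lifts _ _) hps) (mul_mem (C_mem_lifts _ _) hqt)
  | monomial n b =>
    obtain ⟨a, s, hs, hab⟩ := hι b
    refine ⟨s, hs, ?_⟩
    rw [C_mul_monomial, mul_comm, hab]
    exact monomial_mem_lifts n ⟨a, rfl⟩

theorem exists_lift (hι : SurjUpToUnits A B) (P : StandardEtalePair B) :
    ∃ (Q : StandardEtalePair A), Nonempty (B ⊗[A] Q.Ring ≃ₐ[B] P.Ring) := by
  obtain ⟨s, hs, hsf⟩ := exists_poly hι P.f
  obtain ⟨u, hu⟩ := hs
  set d := P.f.natDegree with hd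
  let f₁ : B[X] := P.f.scaleRoots (u : B)
  have hf₁m : f₁.Monic := (monic_scaleRoots_iff (u : B)).2 P.monic_f
  have hf₁l : f₁ ∈ lifts (algebraMap A B) := by
    rw [lifts_iff_coeff_lifts]
    intro i
    rw [coeff_scaleRoots]
    rcases lt_trichotomy i P.f.natDegree with hi | hi | hi
    · obtain ⟨q, hq⟩ := mem_lifts _ |>.1 hsf
      refine ⟨q.coeff i * s ^ (P.f.natDegree - i - 1), ?_⟩
      have := congrArg (fun r : B[X] => r.coeff i) hq
      simp only [coeff_map, coeff_C_mul] at this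
      rw [map_mul, map_pow, this, hu, mul_comm (algebraMap A B s) _, mul_assoc, ← pow_succ',
        show P.f.natDegree - i - 1 + 1 = P.f.natDegree - i by omega]
    · exact ⟨1, by simp [hi, P.monic_f]⟩
    · exact ⟨0, by simp [coeff_eq_zero_of_natDegree_lt hi]⟩
  obtain ⟨F, hF, -, hFm⟩ := lifts_and_natDegree_eq_and_monic hf₁l hf₁m
  let g₁ : B[X] := P.g.comp (C (↑u⁻¹ : B) * X)
  obtain ⟨t, ht, hgt⟩ := exists_poly hι g₁
  obtain ⟨G, hG⟩ := mem_lifts _ |>.1 hgt
  let Q : StandardEtalePair A := ⟨F, hFm, G * derivative F, G, 0, 1, by ring⟩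
  have evalF : ∀ {T : Type u} [CommRing T] [Algebra A T] [Algebra B T] [IsScalarTower A B T] (z : T),
      aeval (algebraMap B T u * z) F = algebraMap B T u ^ d * aeval z P.f ∧
      aeval (algebraMap B T u * z) (derivative F) * algebraMap B T u = algebraMap B T u ^ d * aeval z (derivative P.f) ∧
      aeval (algebraMap B T u * z) G = algebraMap B T (algebraMap A B t) * aeval z P.g := by
    intro T _ _ _ _ z
    have hcomp : f₁ = C ((u : B) ^ d) * P.f.comp (C (↑u⁻¹ : B) * X) := by
      ext i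
      rw [coeff_scaleRoots, coeff_C_mul, comp_C_mul_X_coeff]
      rcases le_or_gt i d with hi | hi
      · have : (u : B) ^ d * ((↑u⁻¹ : B) ^ i) = (u : B) ^ (d - i) := by
          conv_lhs => rw [← Nat.sub_add_cancel hi]
          rw [pow_add, mul_assoc, ← mul_pow, Units.mul_inv, one_pow, mul_one]
        rw [← hd, ← this]; ring
      · simp [coeff_eq_zero_of_natDegree_lt (show P.f.natDegree < i from hi)]
    have hz : algebraMap B T (↑u⁻¹ : B) * (algebraMap B T u * z) = z := by
      rw [← mul_assoc, ← map_mul, Units.inv_mul, map_one, one_mul]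
    have key : ∀ p : B[X], aeval (algebraMap B T u * z) (p.comp (C (↑u⁻¹ : B) * X)) = aeval z p := fun p => by
      rw [aeval_comp, map_mul, aeval_C, aeval_X, hz]
    refine ⟨?_, ?_, ?_⟩
    · rw [← aeval_map_algebraMap B, hF, hcomp, map_mul, aeval_C, key, map_pow]
    · rw [← aeval_map_algebraMap B, ← derivative_map, hF, hcomp, derivative_C_mul, derivative_comp,
        derivative_C_mul, derivative_X, mul_one, map_mul, aeval_C, map_mul, aeval_C, key, map_pow]
      have : algebraMap B T (↑u⁻¹ : B) * algebraMap B T u = 1 := by rw [← map_mul, Units.inv_mul, map_one]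
      linear_combination (algebraMap B T ↑u ^ d * aeval z (derivative P.f)) * this
    · rw [← aeval_map_algebraMap B, hG, map_mul, aeval_C, key]
  letI := Algebra.compHom P.Ring (algebraMap A B)
  haveI : IsScalarTower A B P.Ring := IsScalarTower.of_algebraMap_eq fun a => rfl
  let uP : P.Ring := algebraMap B P.Ring u
  have huP : IsUnit uP := u.isUnit.map _
  obtain ⟨e1, e2, e3⟩ := evalF (T := P.Ring) P.X
  have hy : Q.HasMap (uP * P.X) := by
    refine ⟨e1.trans (by rw [P.hasMap_X.1, mul_zero]), ?_⟩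
    show IsUnit (aeval (uP * P.X) (G * derivative F))
    rw [map_mul]
    refine IsUnit.mul ?_ ?_
    · rw [e3]; exact (ht.map _).mul P.hasMap_X.2
    · exact isUnit_of_mul_isUnit_left (y := uP) (by rw [e2]; exact (huP.pow d).mul P.hasMap_X.isUnit_derivative_f)
  let φ : B ⊗[A] Q.Ring →ₐ[B] P.Ring :=
    Algebra.TensorProduct.lift (Algebra.ofId B P.Ring) (Q.lift _ hy) fun _ _ => .all _ _
  let z : B ⊗[A] Q.Ring := (↑u⁻¹ : B) ⊗ₜ[A] Q.X
  have hz : algebraMap B (B ⊗[A] Q.Ring) u * z = 1 ⊗ₜ[A] Q.X := by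
    simp [z, Algebra.TensorProduct.algebraMap_apply]
  obtain ⟨f1, f2, f3⟩ := evalF (T := B ⊗[A] Q.Ring) z
  rw [hz] at f1 f2 f3
  have inc : ∀ p : A[X], aeval ((1 : B) ⊗ₜ[A] Q.X) p = Algebra.TensorProduct.includeRight (aeval Q.X p) :=
    fun p => aeval_algHom_apply (Algebra.TensorProduct.includeRight : Q.Ring →ₐ[A] B ⊗[A] Q.Ring) Q.X p
  rw [inc] at f1 f3
  have hzP : P.HasMap z := by
    refine ⟨?_, ?_⟩
    · rw [show aeval Q.X F = 0 from Q.hasMap_X.1, map_zero] at f1
      exact ((u.isUnit.map _).pow d).mul_right_eq_zero.1 f1.symm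
    · have h := Q.hasMap_X.2
      rw [show Q.g = G * derivative F from rfl, map_mul] at h
      exact isUnit_of_mul_isUnit_right (f3 ▸ (isUnit_of_mul_isUnit_left h).map _)
  refine ⟨Q, ⟨AlgEquiv.ofAlgHom φ (P.lift z hzP) ?_ ?_⟩⟩
  · refine P.hom_ext ?_
    simp [φ, z, uP, Algebra.ofId_apply, ← mul_assoc, ← map_mul]
  · refine Algebra.TensorProduct.ext' fun b q => ?_
    rw [← mul_one b, ← one_mul q, ← Algebra.TensorProduct.tmul_mul_tmul, map_mul, map_mul]
    congr 1
    · rw [show (b ⊗ₜ[A] (1 : Q.Ring)) = algebraMap B (B ⊗[A] Q.Ring) b from rfl, AlgHom.commutes, AlgHom.commutes]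
    · show (P.lift z hzP) (φ (1 ⊗ₜ q)) = 1 ⊗ₜ q
      have : (((P.lift z hzP).comp φ).restrictScalars A).comp (Algebra.TensorProduct.includeRight : Q.Ring →ₐ[A] B ⊗[A] Q.Ring) =
          (Algebra.TensorProduct.includeRight : Q.Ring →ₐ[A] B ⊗[A] Q.Ring) := Q.hom_ext (by
        simp [φ, uP, z, Algebra.TensorProduct.algebraMap_apply])
      exact AlgHom.congr_fun this q

section Scheme

open CategoryTheory CategoryTheory.Limits AlgebraicGeometry IsLocalRing

/-- The ring of sections on an affine open maps to the residue field, surjectively up to units. -/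
theorem exists_residue_map {S : Scheme.{u}} {U : S.Opens} (hU : IsAffineOpen U) (s : S) (hs : s ∈ U) :
    ∃ φ : Γ(S, U) ⟶ S.residueField s,
      Spec.map φ ≫ hU.fromSpec = S.fromSpecResidueField s ∧
      ∀ k, ∃ r t, φ t ≠ 0 ∧ k * φ t = φ r := by
  refine ⟨S.presheaf.germ U s hs ≫ S.residue s, ?_, fun k => ?_⟩
  · rw [Spec.map_comp, Category.assoc]
    show Spec.map (S.residue s) ≫ hU.fromSpecStalk hs = _
    rw [hU.fromSpecStalk_eq_fromSpecStalk]; rfl
  · obtain ⟨y, rfl⟩ := Scheme.residue_surjective S s k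
    letI : Algebra Γ(S, U) (S.presheaf.stalk s) := (S.presheaf.germ U s hs).hom.toAlgebra
    haveI := hU.isLocalization_stalk ⟨s, hs⟩
    obtain ⟨⟨r, t⟩, h⟩ := IsLocalization.surj (hU.primeIdealOf ⟨s, hs⟩).asIdeal.primeCompl y
    refine ⟨r, t.1, ?_, ?_⟩
    · show S.residue s (algebraMap Γ(S, U) (S.presheaf.stalk s) t.1) ≠ 0
      exact ((IsLocalization.map_units (S.presheaf.stalk s) t).map (S.residue s).hom).ne_zero
    · show S.residue s y * S.residue s (algebraMap Γ(S, U) (S.presheaf.stalk s) t.1) =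
        S.residue s (algebraMap Γ(S, U) (S.presheaf.stalk s) r)
      rw [← map_mul]; exact congrArg _ h

theorem surjUpToUnits_tensor {R A K : Type u} [CommRing R] [CommRing A] [Field K] [Algebra R A] [Algebra R K]
    (h : ∀ k : K, ∃ r t : R, algebraMap R K t ≠ 0 ∧ k * algebraMap R K t = algebraMap R K r) :
    SurjUpToUnits A (A ⊗[R] K) := by
  intro b
  have htw : ∀ r : R, algebraMap A (A ⊗[R] K) (algebraMap R A r) = (1 : A) ⊗ₜ[R] algebraMap R K r :=
    fun r => (IsScalarTower.algebraMap_apply R A _ r).symm.trans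
      ((Algebra.TensorProduct.includeRight : K →ₐ[R] A ⊗[R] K).commutes r).symm
  induction b with
  | zero => exact ⟨0, 1, by rw [map_one]; exact isUnit_one, by simp⟩
  | tmul a k =>
    obtain ⟨r, t, ht, hk⟩ := h k
    refine ⟨a * algebraMap R A r, algebraMap R A t, ?_, ?_⟩
    · rw [htw]
      exact ((isUnit_iff_ne_zero.2 ht).map (Algebra.TensorProduct.includeRight : K →ₐ[R] A ⊗[R] K))
    · rw [htw, Algebra.TensorProduct.tmul_mul_tmul, mul_one, hk, map_mul, htw,
        Algebra.TensorProduct.algebraMap_apply, Algebra.TensorProduct.tmul_mul_tmul]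
      simp
  | add x y hx hy =>
    obtain ⟨a, s, hs, has⟩ := hx
    obtain ⟨b, t, ht, hbt⟩ := hy
    refine ⟨a * t + b * s, s * t, by rw [map_mul]; exact hs.mul ht, ?_⟩
    rw [map_add, map_mul, map_mul, map_mul, ← has, ← hbt]
    ring

theorem isPullback_comp_mono {P X Y Z W : Scheme.{u}} {a : P ⟶ X} {b : P ⟶ Y} {f : X ⟶ Z} {g : Y ⟶ Z}
    (h : IsPullback a b f g) (m : Z ⟶ W) [Mono m] : IsPullback a b (f ≫ m) (g ≫ m) := by
  refine IsPullback.of_isLimit' ⟨by rw [h.w_assoc]⟩ (PullbackCone.IsLimit.mk _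
    (fun s => h.lift s.fst s.snd (by rw [← cancel_mono m, Category.assoc, Category.assoc]; exact s.condition))
    (fun s => h.lift_fst _ _ _) (fun s => h.lift_snd _ _ _) fun s k h₁ h₂ => h.hom_ext ?_ ?_)
  · rw [h.lift_fst]; exact h₁
  · rw [h.lift_snd]; exact h₂

/-- Tensor product as a pushout square with the surjectivity up to units. -/
theorem exists_pushout_ring (R A K : CommRingCat.{u}) (hK : IsField K) (ψ : R ⟶ A) (φ : R ⟶ K)
    (h : ∀ k, ∃ r t, φ t ≠ 0 ∧ k * φ t = φ r) :
    ∃ (B : CommRingCat.{u}) (inl : A ⟶ B) (inr : K ⟶ B), IsPushout ψ φ inl inr ∧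
      (letI := inl.hom.toAlgebra; SurjUpToUnits A B) := by
  letI := hK.toField
  letI : Algebra R A := ψ.hom.toAlgebra
  letI : Algebra R K := φ.hom.toAlgebra
  refine ⟨CommRingCat.of (A ⊗[R] K), CommRingCat.ofHom (algebraMap A (A ⊗[R] K)),
    CommRingCat.ofHom (Algebra.TensorProduct.includeRight.toRingHom),
    CommRingCat.isPushout_tensorProduct R A K, ?_⟩
  have : (CommRingCat.ofHom (algebraMap A (A ⊗[R] K))).hom.toAlgebra = (inferInstance : Algebra A (A ⊗[R] K)) :=
    Algebra.algebra_ext _ _ fun r => rfl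
  simp only [this]
  exact surjUpToUnits_tensor h

/-- Affine charts of a fibre. -/
theorem exists_fibre_chart {X S : Scheme.{u}} (f : X ⟶ S) (x : X) :
    ∃ (A B : Type u) (_ : CommRing A) (_ : CommRing B) (_ : Algebra A B) (i : Spec (.of A) ⟶ X)
      (j : Spec (.of B) ⟶ f.fiber (f x)),
      SurjUpToUnits A B ∧ IsOpenImmersion i ∧ IsOpenImmersion j ∧ f.asFiber x ∈ Set.range j ∧
      IsPullback (Spec.map (CommRingCat.ofHom (algebraMap A B))) j i (f.fiberι (f x)) := by
  obtain ⟨U, hU, hxU, -⟩ := exists_isAffineOpen_mem_and_subset (x := f x) (U := ⊤) trivial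
  obtain ⟨V, hV, hxV, hVU⟩ := exists_isAffineOpen_mem_and_subset (x := x) (U := f ⁻¹ᵁ U) hxU
  obtain ⟨φ, hφ, hfrac⟩ := exists_residue_map hU (f x) hxU
  let ψ : Γ(S, U) ⟶ Γ(X, V) := f.appLE U V hVU
  have hψ : Spec.map ψ ≫ hU.fromSpec = hV.fromSpec ≫ f := IsAffineOpen.SpecMap_appLE_fromSpec f hU hV hVU
  obtain ⟨B, inl, inr, hpo, hB⟩ := exists_pushout_ring Γ(S, U) Γ(X, V) (S.residueField (f x))
    (Semifield.toIsField _) ψ φ hfrac
  letI : Algebra Γ(X, V) B := inl.hom.toAlgebra
  have hbig := isPullback_comp_mono (isPullback_SpecMap_of_isPushout _ _ _ _ hpo) hU.fromSpec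
  rw [hψ, hφ] at hbig
  let j : Spec B ⟶ f.fiber (f x) :=
    pullback.lift (Spec.map inl ≫ hV.fromSpec) (Spec.map inr) (by rw [Category.assoc]; exact hbig.w)
  have hsq : IsPullback (Spec.map inl) j hV.fromSpec (f.fiberι (f x)) := by
    refine (IsPullback.of_right ?_ (pullback.lift_fst _ _ _) (IsPullback.of_hasPullback f (S.fromSpecResidueField (f x))).flip).flip.flip.flip
    have : j ≫ f.fiberToSpecResidueField (f x) = Spec.map inr := pullback.lift_snd _ _ _
    show IsPullback (j ≫ f.fiberToSpecResidueField (f x)) (Spec.map inl) _ _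
    rw [this]
    exact hbig.flip
  have hjo : IsOpenImmersion j := MorphismProperty.of_isPullback hsq (inferInstance : IsOpenImmersion hV.fromSpec)
  refine ⟨Γ(X, V), B, inferInstance, inferInstance, inferInstance, hV.fromSpec, j,
    hB, inferInstance, hjo, ?_, hsq⟩
  obtain ⟨a, ha⟩ : x ∈ Set.range hV.fromSpec := by rw [hV.range_fromSpec]; exact hxV
  obtain ⟨w, -, hw⟩ := Scheme.exists_preimage_of_isPullback hsq a (f.asFiber x) (by rw [ha, f.fiberι_asFiber])
  exact ⟨w, hw⟩

/-- Standard étale charts of an étale neighbourhood in an affine open. -/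
theorem exists_standard_chart {B : Type u} [CommRing B] {F V : Scheme.{u}} (j : Spec (.of B) ⟶ F)
    [IsOpenImmersion j] (g : V ⟶ F) [Etale g] (v : V) (hv : g v ∈ Set.range j) :
    ∃ (P : StandardEtalePair B) (k : Spec (.of P.Ring) ⟶ V), IsOpenImmersion k ∧ v ∈ Set.range k ∧
      k ≫ g = Spec.map (CommRingCat.ofHom (algebraMap B P.Ring)) ≫ j := by
  obtain ⟨b, hb⟩ := hv
  obtain ⟨w, hw, -⟩ := Scheme.Pullback.exists_preimage_pullback (f := g) (g := j) v b hb.symm
  obtain ⟨O, hO, hwO, -⟩ := exists_isAffineOpen_mem_and_subset (x := w) (U := ⊤) trivial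
  let ψ := Spec.preimage (hO.fromSpec ≫ pullback.snd g j)
  have hψ : Spec.map ψ = hO.fromSpec ≫ pullback.snd g j := Spec.map_preimage _
  let T := Γ(pullback g j, O)
  letI : Algebra B T := ψ.hom.toAlgebra
  have het : Algebra.Etale B T := by
    have : Etale (Spec.map ψ) := by rw [hψ]; infer_instance
    rw [HasRingHomProperty.Spec_iff (P := @Etale)] at this
    exact RingHom.etale_algebraMap.mp this
  obtain ⟨q, hq⟩ : w ∈ Set.range hO.fromSpec := by rw [hO.range_fromSpec]; exact hwO
  have : Algebra.IsEtaleAt B q.asIdeal := by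
    have := (Algebra.etaleLocus_eq_univ_iff (R := B) (A := T)).2 inferInstance
    exact (this.ge (Set.mem_univ q) : q ∈ Algebra.etaleLocus B T)
  obtain ⟨h, hhq, hstd⟩ := Algebra.IsEtaleAt.exists_isStandardEtale (R := B) q.asIdeal
  obtain ⟨pres⟩ := hstd.nonempty_standardEtalePresentation
  let e : CommRingCat.of (Localization.Away h) ≅ CommRingCat.of pres.P.Ring := pres.equivRing.toRingEquiv.toCommRingCatIso
  let k := Spec.map e.hom ≫ Spec.map (CommRingCat.ofHom (algebraMap T (Localization.Away h))) ≫ hO.fromSpec ≫ pullback.fst g j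
  have : IsOpenImmersion (Spec.map (CommRingCat.ofHom (algebraMap T (Localization.Away h)))) :=
    IsOpenImmersion.of_isLocalization h
  refine ⟨pres.P, k, inferInstance, ?_, ?_⟩
  · obtain ⟨q', hq'⟩ : q ∈ Set.range (PrimeSpectrum.comap (algebraMap T (Localization.Away h))) := by
      rw [PrimeSpectrum.localization_away_comap_range (Localization.Away h) h]; exact hhq
    refine ⟨Spec.map e.inv q', ?_⟩
    show (Spec.map e.inv ≫ k) q' = v
    have : Spec.map e.inv ≫ k = Spec.map (CommRingCat.ofHom (algebraMap T (Localization.Away h))) ≫ hO.fromSpec ≫ pullback.fst g j := by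
      show Spec.map e.inv ≫ Spec.map e.hom ≫ _ = _
      rw [← Spec.map_comp_assoc, e.hom_inv_id, Spec.map_id, Category.id_comp]
    rw [this, Scheme.Hom.comp_apply, Scheme.Hom.comp_apply]
    show pullback.fst g j (hO.fromSpec (PrimeSpectrum.comap (algebraMap T (Localization.Away h)) q')) = v
    exact ((congrArg (fun z => pullback.fst g j (hO.fromSpec z)) hq').trans (congrArg _ hq)).trans hw
  · simp only [k, Category.assoc, pullback.condition]
    rw [← Category.assoc hO.fromSpec, ← hψ, ← Spec.map_comp_assoc, ← Spec.map_comp_assoc]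
    congr 2
    ext b
    show pres.equivRing (algebraMap T (Localization.Away h) (algebraMap B T b)) = algebraMap B pres.P.Ring b
    rw [← IsScalarTower.algebraMap_apply, AlgEquiv.commutes]

theorem exists_etale_lift {X S V : Scheme.{u}} (f : X ⟶ S) (x : X)
    (g : V ⟶ f.fiber (f x)) [Etale g] (v : V) (hv : g v = f.asFiber x) :
    ∃ (U : Scheme.{u}) (p : U ⟶ X) (u : U) (m : (p ≫ f).fiber (f x) ⟶ V) (u' : ↑((p ≫ f).fiber (f x))),
      Etale p ∧ p u = x ∧ IsOpenImmersion m ∧ m ≫ g = MoreMor.fiberMap p f (f x) ∧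
      (p ≫ f).fiberι (f x) u' = u ∧ m u' = v := by
  obtain ⟨A, B, _, _, _, i, j, hι, hi, hj, hxj, hsq⟩ := exists_fibre_chart f x
  obtain ⟨P, k, hk, hvk, hkg⟩ := exists_standard_chart j g v (hv ▸ hxj)
  obtain ⟨Q, ⟨e⟩⟩ := exists_lift hι P
  let p : Spec (.of Q.Ring) ⟶ X := Spec.map (CommRingCat.ofHom (algebraMap A Q.Ring)) ≫ i
  have hp : Etale p := by
    have : Etale (Spec.map (CommRingCat.ofHom (algebraMap A Q.Ring))) := by
      rw [HasRingHomProperty.Spec_iff (P := @Etale)]
      exact RingHom.etale_algebraMap.mpr inferInstance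
    exact MorphismProperty.comp_mem _ _ _ this inferInstance
  let inr : CommRingCat.of Q.Ring ⟶ CommRingCat.of (B ⊗[A] Q.Ring) :=
    CommRingCat.ofHom (Algebra.TensorProduct.includeRight.toRingHom)
  let inl : CommRingCat.of B ⟶ CommRingCat.of (B ⊗[A] Q.Ring) :=
    CommRingCat.ofHom (algebraMap B (B ⊗[A] Q.Ring))
  have hpo := CommRingCat.isPushout_tensorProduct A B Q.Ring
  have hsq2 : IsPullback (Spec.map inr) (Spec.map inl ≫ j) p (f.fiberι (f x)) :=
    ((isPullback_SpecMap_of_isPushout _ _ _ _ hpo).flip).paste_vert hsq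
  have hfib : IsPullback ((p ≫ f).fiberι (f x)) (MoreMor.fiberMap p f (f x)) p (f.fiberι (f x)) := by
    refine (IsPullback.of_right ?_ ?_ (IsPullback.of_hasPullback f (S.fromSpecResidueField (f x))).flip).flip.flip.flip
    · have : MoreMor.fiberMap p f (f x) ≫ pullback.snd f (S.fromSpecResidueField (f x)) = (p ≫ f).fiberToSpecResidueField (f x) :=
        pullback.lift_snd _ _ _
      exact this.symm ▸ (IsPullback.of_hasPullback (p ≫ f) (S.fromSpecResidueField (f x))).flip
    · exact pullback.lift_fst _ _ _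
  let c : CommRingCat.of (B ⊗[A] Q.Ring) ≅ CommRingCat.of P.Ring := e.toRingEquiv.toCommRingCatIso
  let θ : (p ≫ f).fiber (f x) ≅ Spec (.of P.Ring) :=
    hfib.isoIsPullback _ _ hsq2 ≪≫ (Scheme.Spec.mapIso c.op).symm
  have hθ : θ.inv ≫ MoreMor.fiberMap p f (f x) = Spec.map (CommRingCat.ofHom (algebraMap B P.Ring)) ≫ j := by
    simp only [θ, Iso.trans_inv, Category.assoc, IsPullback.isoIsPullback_inv_snd, Iso.symm_inv]
    show Spec.map c.hom ≫ Spec.map inl ≫ j = _
    rw [← Spec.map_comp_assoc]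
    congr 2
    ext b
    exact e.commutes b
  have hm : (θ.hom ≫ k) ≫ g = MoreMor.fiberMap p f (f x) := by
    exact (Category.assoc θ.hom k g).trans ((congrArg (θ.hom ≫ ·) (hkg.trans hθ.symm)).trans (Iso.hom_inv_id_assoc θ _))
  obtain ⟨v', hv'⟩ := hvk
  refine ⟨_, p, (p ≫ f).fiberι (f x) (θ.inv v'), θ.hom ≫ k, θ.inv v', hp, ?_, inferInstance, hm, rfl, ?_⟩
  · rw [← Scheme.Hom.comp_apply, hfib.w, ← hm, Scheme.Hom.comp_apply]
    simp only [Scheme.Hom.comp_apply]
    rw [← Scheme.Hom.comp_apply θ.inv θ.hom, Iso.inv_hom_id]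
    show f.fiberι (f x) (g (k v')) = x
    rw [hv', hv, f.fiberι_asFiber]
  · rw [← Scheme.Hom.comp_apply, Iso.inv_hom_id_assoc, hv']

end Scheme

end Groth.Agent.FlatMor68.EtaleFibreLift
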