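import Groth.Agent.FlatMor68.Shrink
import Groth.Agent.RG29.Elem
import Groth.Agent.Ind91.Lift
import Groth.Agent.Desc59.EtaleDim

/-! Auxiliary lemmas for étale localisation of one-step dévissages (S12245). -/

set_option autoImplicit false
set_option backward.isDefEq.respectTransparency.types false
set_option linter.style.haveILetI false

universe u

open TensorProduct CategoryTheory CategoryTheory.Limits AlgebraicGeometry Topology

namespace Groth.Agent.FlatMor68.EtaleLoc

theorem mapₐ_comp_apply {A B C : Type u} [CommRing A] [CommRing B] [CommRing C] [Algebra A B] [Algebra A C]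
    [Algebra B C] [IsScalarTower A B C] (a : Ideal A) [a.IsPrime] (b : Ideal B) [b.IsPrime] (c : Ideal C) [c.IsPrime]
    [hb : b.LiesOver a] [hc : c.LiesOver b] [hac : c.LiesOver a] (x : a.ResidueField) :
    Ideal.ResidueField.mapₐ a c (Algebra.ofId A C) hac.over x =
      Ideal.ResidueField.mapₐ b c (Algebra.ofId B C) hc.over (Ideal.ResidueField.mapₐ a b (Algebra.ofId A B) hb.over x) := by
  refine RingHom.congr_fun (Ideal.ResidueField.ringHom_ext
    (f := (Ideal.ResidueField.mapₐ a c (Algebra.ofId A C) hac.over).toRingHom)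
    (g := (Ideal.ResidueField.mapₐ b c (Algebra.ofId B C) hc.over).toRingHom.comp
      (Ideal.ResidueField.mapₐ a b (Algebra.ofId A B) hb.over).toRingHom) (RingHom.ext fun r => ?_)) x
  show Ideal.ResidueField.mapₐ a c (Algebra.ofId A C) _ (algebraMap A _ r) =
    Ideal.ResidueField.mapₐ b c (Algebra.ofId B C) _ (Ideal.ResidueField.mapₐ a b (Algebra.ofId A B) _ (algebraMap A _ r))
  rw [AlgHom.commutes, AlgHom.commutes, IsScalarTower.algebraMap_apply A B b.ResidueField, AlgHom.commutes,
    ← IsScalarTower.algebraMap_apply A B c.ResidueField]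

theorem bijective_trans {A B C : Type u} [CommRing A] [CommRing B] [CommRing C] [Algebra A B] [Algebra A C]
    [Algebra B C] [IsScalarTower A B C] (a : Ideal A) [a.IsPrime] (b : Ideal B) [b.IsPrime] (c : Ideal C) [c.IsPrime]
    [hb : b.LiesOver a] [hc : c.LiesOver b] [hac : c.LiesOver a]
    (h1 : Function.Bijective (Ideal.ResidueField.mapₐ a b (Algebra.ofId A B) hb.over))
    (h2 : Function.Bijective (Ideal.ResidueField.mapₐ b c (Algebra.ofId B C) hc.over)) :
    Function.Bijective (Ideal.ResidueField.mapₐ a c (Algebra.ofId A C) hac.over) := by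
  rw [funext (mapₐ_comp_apply a b c)]
  exact h2.comp h1

theorem etale_specMap {A B : Type u} [CommRing A] [CommRing B] [Algebra A B] [Algebra.Etale A B] :
    Etale (Spec.map (CommRingCat.ofHom (algebraMap A B))) :=
  (HasRingHomProperty.Spec_iff (P := @Etale)).2 (RingHom.etale_algebraMap.2 ‹_›)

theorem smoothRelDim_etaleNhd {R R' D D' : Type u} [CommRing R] [CommRing R'] [CommRing D] [CommRing D'] [Algebra R R']
    [Algebra R D] [Algebra R' D'] [Algebra R D'] [Algebra D D'] [IsScalarTower R R' D'] [IsScalarTower R D D']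
    [Algebra.Etale R R'] [Algebra.Etale D D'] (n : ℕ) (h : FlatCA.SmoothRelDim n R D) : FlatCA.SmoothRelDim n R' D' := by
  let a := Spec.map (CommRingCat.ofHom (algebraMap R D))
  let b := Spec.map (CommRingCat.ofHom (algebraMap R R'))
  haveI hb : Etale b := etale_specMap
  haveI hj : Etale (Spec.map (CommRingCat.ofHom (algebraMap D D'))) := etale_specMap
  let t := Spec.map (CommRingCat.ofHom (algebraMap R' D'))
  have hw : Spec.map (CommRingCat.ofHom (algebraMap D D')) ≫ a = t ≫ b := by
    simp only [a, b, t, ← Spec.map_comp, ← CommRingCat.ofHom_comp, ← IsScalarTower.algebraMap_eq]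
  let j := pullback.lift _ t hw
  haveI : Etale (j ≫ pullback.fst a b) := (pullback.lift_fst .. : j ≫ _ = _) ▸ hj
  haveI : Etale j := Etale.of_comp j (pullback.fst a b)
  show SmoothOfRelativeDimension n t
  haveI : SmoothOfRelativeDimension n a := h
  haveI := smoothOfRelativeDimension_isStableUnderBaseChange n
  haveI : SmoothOfRelativeDimension n (pullback.snd a b) := MorphismProperty.pullback_snd _ _ h
  rw [← (pullback.lift_snd .. : j ≫ pullback.snd a b = t)]
  have := smoothOfRelativeDimension_comp (n := 0) (m := n) (f := j) (g := pullback.snd a b)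
  simpa using this

theorem exists_standardSmooth {R D : Type u} [CommRing R] [CommRing D] [Algebra R D] (n : ℕ)
    (h : FlatCA.SmoothRelDim n R D) (y : Ideal D) [y.IsPrime] :
    ∃ f ∉ y, ∃ (_ : Algebra (MvPolynomial (Fin n) R) (Localization.Away f))
      (_ : IsScalarTower R (MvPolynomial (Fin n) R) (Localization.Away f)),
      Algebra.Etale (MvPolynomial (Fin n) R) (Localization.Away f) := by
  obtain ⟨s, hs, hP⟩ := (HasRingHomProperty.Spec_iff (P := @SmoothOfRelativeDimension n)).1 h
  obtain ⟨f, hf, hfy⟩ : ∃ f ∈ s, f ∉ y := by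
    by_contra! hc
    exact ‹y.IsPrime›.ne_top (top_le_iff.1 (hs ▸ Ideal.span_le.2 hc))
  have h2 : RingHom.IsStandardSmoothOfRelativeDimension n (algebraMap R (Localization.Away f)) := by
    have := hP f hf
    rwa [show (algebraMap D (Localization.Away f)).comp (CommRingCat.ofHom (algebraMap R D)).hom =
      algebraMap R (Localization.Away f) from (IsScalarTower.algebraMap_eq R D _).symm] at this
  obtain ⟨φ, hφ, het⟩ := RingHom.IsStandardSmoothOfRelativeDimension.exists_etale_mvPolynomial h2
  letI := φ.toAlgebra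
  exact ⟨f, hfy, φ.toAlgebra, .of_algebraMap_eq fun r => (RingHom.congr_fun hφ r).symm, RingHom.etale_algebraMap.1 het⟩

section etaleFibre

variable {R A B : Type u} [CommRing R] [CommRing A] [CommRing B] [Algebra R A] [Algebra R B] [Algebra A B]
  [IsScalarTower R A B] [Algebra.Etale A B]

theorem etale_fibreMap (p : Ideal R) [p.IsPrime] :
    (Algebra.TensorProduct.map (AlgHom.id R p.ResidueField) (IsScalarTower.toAlgHom R A B)).toRingHom.Etale := by
  letI := (Algebra.TensorProduct.map (AlgHom.id R p.ResidueField) (IsScalarTower.toAlgHom R A B)).toRingHom.toAlgebra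
  letI : Algebra A (p.ResidueField ⊗[R] A) := Algebra.TensorProduct.rightAlgebra
  letI : Algebra B (p.ResidueField ⊗[R] B) := Algebra.TensorProduct.rightAlgebra
  letI : Algebra A (p.ResidueField ⊗[R] B) := ((algebraMap B (p.ResidueField ⊗[R] B)).comp (algebraMap A B)).toAlgebra
  haveI : IsScalarTower A B (p.ResidueField ⊗[R] B) := .of_algebraMap_eq fun _ => rfl
  haveI : IsScalarTower A (p.ResidueField ⊗[R] A) (p.ResidueField ⊗[R] B) := .of_algebraMap_eq fun a => by
    simp [RingHom.algebraMap_toAlgebra]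
  haveI : IsScalarTower p.ResidueField (p.ResidueField ⊗[R] A) (p.ResidueField ⊗[R] B) := .of_algebraMap_eq fun a => by
    simp [RingHom.algebraMap_toAlgebra]
  haveI : IsScalarTower R (p.ResidueField ⊗[R] A) (p.ResidueField ⊗[R] B) :=
    .of_algebraMap_eq fun a => by
      exact ((Algebra.TensorProduct.map (AlgHom.id R p.ResidueField) (IsScalarTower.toAlgHom R A B)).commutes a).symm
  have hA : Algebra.IsPushout R A p.ResidueField (p.ResidueField ⊗[R] A) := Algebra.IsPushout.symm inferInstance
  haveI := hA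
  haveI : Algebra.IsPushout A B (p.ResidueField ⊗[R] A) (p.ResidueField ⊗[R] B) :=
    (Algebra.IsPushout.comp_iff R A p.ResidueField (p.ResidueField ⊗[R] A) (T := B) (T' := p.ResidueField ⊗[R] B)).1
      (Algebra.IsPushout.symm inferInstance)
  haveI : Algebra.IsPushout A (p.ResidueField ⊗[R] A) B (p.ResidueField ⊗[R] B) := Algebra.IsPushout.symm inferInstance
  haveI : Algebra.Etale (p.ResidueField ⊗[R] A) (p.ResidueField ⊗[R] B) :=
    Algebra.Etale.of_equiv (Algebra.IsPushout.equiv A (p.ResidueField ⊗[R] A) B (p.ResidueField ⊗[R] B))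
  exact RingHom.etale_algebraMap.2 this

theorem zeroLocus_dims (A' B' : Type u) [CommRing A'] [CommRing B'] [Algebra A' B'] [Algebra.Etale A' B']
    (s : Set (PrimeSpectrum A')) (hs : IsClosed s) (t : Set (PrimeSpectrum B'))
    (ht : t = PrimeSpectrum.comap (algebraMap A' B') ⁻¹' s) :
    topologicalKrullDim t ≤ topologicalKrullDim s ∧
      ∀ (x : PrimeSpectrum B') (hx : x ∈ t), FlatMor.localDim t ⟨x, hx⟩ =
        FlatMor.localDim s ⟨PrimeSpectrum.comap (algebraMap A' B') x, ht.le hx⟩ := by
  obtain ⟨I, rfl⟩ : ∃ I : Ideal A', s = PrimeSpectrum.zeroLocus I :=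
    ⟨PrimeSpectrum.vanishingIdeal s, by rw [PrimeSpectrum.zeroLocus_vanishingIdeal_eq_closure, hs.closure_eq]⟩
  let J := I.map (algebraMap A' B')
  have ht' : t = PrimeSpectrum.zeroLocus (J : Set B') := by
    rw [ht, PrimeSpectrum.preimage_comap_zeroLocus, ← PrimeSpectrum.zeroLocus_span]
    rfl
  subst ht'
  let e : (B' ⧸ J) ≃ₐ[A' ⧸ I] (A' ⧸ I) ⊗[A'] B' :=
    AlgEquiv.ofRingEquiv (f := (Algebra.TensorProduct.quotIdealMapEquivTensorQuot B' I).toRingEquiv.trans
      (Algebra.TensorProduct.comm A' B' (A' ⧸ I)).toRingEquiv) (fun a => by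
        obtain ⟨a, rfl⟩ := Ideal.Quotient.mk_surjective a
        show (Algebra.TensorProduct.comm A' B' (A' ⧸ I)) (Algebra.TensorProduct.quotIdealMapEquivTensorQuot B' I
          (Ideal.Quotient.mk J (algebraMap A' B' a))) = _
        rw [Algebra.TensorProduct.quotIdealMapEquivTensorQuot_mk, Algebra.algebraMap_eq_smul_one a (A := B'),
          smul_tmul]
        simp [Algebra.algebraMap_eq_smul_one]
        exact (algebraMap_smul (A' ⧸ I) a _).symm)
  haveI : Algebra.Etale (A' ⧸ I) (B' ⧸ J) := Algebra.Etale.of_equiv e.symm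
  let F := Spec.map (CommRingCat.ofHom (algebraMap (A' ⧸ I) (B' ⧸ J)))
  haveI : Etale F := etale_specMap
  have hA := LC17.zeroLocusHomeo I
  have hval : ∀ (C : Type u) [CommRing C] (K : Ideal C) (P : PrimeSpectrum (C ⧸ K)),
      (LC17.zeroLocusHomeo K P).1 = PrimeSpectrum.comap (Ideal.Quotient.mk K) P := fun C _ K P => rfl
  constructor
  · rw [← IsHomeomorph.topologicalKrullDim_eq _ (LC17.zeroLocusHomeo J).isHomeomorph,
      ← IsHomeomorph.topologicalKrullDim_eq _ (LC17.zeroLocusHomeo I).isHomeomorph]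
    have h1 := Desc59.EtaleDim.dim_image F ⊤
    rw [← (Homeomorph.Set.univ (PrimeSpectrum (B' ⧸ J))).isHomeomorph.topologicalKrullDim_eq]
    exact h1.trans_le (topologicalKrullDim_subspace_le _ _)
  · intro x hx
    obtain ⟨P, hP⟩ := (LC17.zeroLocusHomeo J).surjective ⟨x, hx⟩
    rw [← hP, ← E4O.localDim_eq_of_homeomorph (LC17.zeroLocusHomeo J) P]
    refine (Desc59.EtaleDim.localDim_eq F P).trans ((E4O.localDim_eq_of_homeomorph (LC17.zeroLocusHomeo I) (F P)).trans ?_)
    congr 1
    apply Subtype.ext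
    rw [hval]
    show PrimeSpectrum.comap (Ideal.Quotient.mk I) (PrimeSpectrum.comap (algebraMap (A' ⧸ I) (B' ⧸ J)) P) = PrimeSpectrum.comap (algebraMap A' B') x
    rw [show x = (LC17.zeroLocusHomeo J P).1 from (congrArg Subtype.val hP).symm, hval, ← PrimeSpectrum.comap_comp_apply,
      ← PrimeSpectrum.comap_comp_apply]
    congr 1

theorem etale_localDim_supportDim (p : Ideal R) [p.IsPrime]
    (N : Type u) [AddCommGroup N] [Module A N] [Module R N] [IsScalarTower R A N] [Module.Finite A N]
    (N' : Type u) [AddCommGroup N'] [Module B N'] [Module R N'] [IsScalarTower R B N']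
    [Module A N'] [IsScalarTower A B N'] (f : N →ₗ[A] N') (hf : IsBaseChange B f)
    (q : Ideal A) [q.IsPrime] (q' : Ideal B) [q'.IsPrime] [q'.LiesOver q] [q'.LiesOver p] {n : ℕ}
    (h1 : ∃ (ξ : PrimeSpectrum (p.Fiber A)) (hξ : ξ ∈ Module.support (p.Fiber A) (FlatCA.fiberMod p A N)),
      ξ.asIdeal = FlatCA.fiberIdeal p q ∧
      FlatMor.localDim (Module.support (p.Fiber A) (FlatCA.fiberMod p A N)) ⟨ξ, hξ⟩ = n)
    (h2 : Module.supportDim (p.Fiber A) (FlatCA.fiberMod p A N) = n) :
    (∃ (ξ' : PrimeSpectrum (p.Fiber B)) (hξ' : ξ' ∈ Module.support (p.Fiber B) (FlatCA.fiberMod p B N')),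
      ξ'.asIdeal = FlatCA.fiberIdeal p q' ∧
      FlatMor.localDim (Module.support (p.Fiber B) (FlatCA.fiberMod p B N')) ⟨ξ', hξ'⟩ = n) ∧
    Module.supportDim (p.Fiber B) (FlatCA.fiberMod p B N') = n := by
  obtain ⟨ξ, hξ, hξq, hdim⟩ := h1
  let φ := Algebra.TensorProduct.map (AlgHom.id R p.ResidueField) (IsScalarTower.toAlgHom R A B)
  letI : Algebra (p.Fiber A) (p.Fiber B) := φ.toRingHom.toAlgebra
  haveI : Algebra.Etale (p.Fiber A) (p.Fiber B) := RingHom.etale_algebraMap.1 (etale_fibreMap p)
  haveI : Module.Finite B N' := Module.Finite.equiv hf.equiv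
  letI : Algebra A (p.Fiber A) := Algebra.TensorProduct.rightAlgebra
  letI : Algebra B (p.Fiber B) := Algebra.TensorProduct.rightAlgebra
  have hφ : ∀ a, φ ((Algebra.TensorProduct.includeRight (R := R) (A := p.ResidueField) (B := A)) a) =
      (Algebra.TensorProduct.includeRight (R := R) (A := p.ResidueField) (B := B)) (algebraMap A B a) := fun a => by
    simp [φ]
  have hsupp : Module.support (p.Fiber B) (FlatCA.fiberMod p B N') =
      PrimeSpectrum.comap (algebraMap (p.Fiber A) (p.Fiber B)) ⁻¹' Module.support (p.Fiber A) (FlatCA.fiberMod p A N) := by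
    rw [show Module.support (p.Fiber B) (FlatCA.fiberMod p B N') = _ from S6284.result (R' := p.Fiber B) N',
      show Module.support (p.Fiber A) (FlatCA.fiberMod p A N) = _ from S6284.result (R' := p.Fiber A) N,
      ← hf.equiv.support_eq, S6284.result N, ← Set.preimage_comp, ← Set.preimage_comp]
    congr 1
  haveI : Module.Finite (p.Fiber A) (FlatCA.fiberMod p A N) := inferInstanceAs (Module.Finite (p.Fiber A) ((p.Fiber A) ⊗[A] N))
  haveI : Module.Finite (p.Fiber B) (FlatCA.fiberMod p B N') := inferInstanceAs (Module.Finite (p.Fiber B) ((p.Fiber B) ⊗[B] N'))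
  obtain ⟨hle, hloc⟩ := zeroLocus_dims (p.Fiber A) (p.Fiber B) _ (by rw [Module.support_eq_zeroLocus]; exact PrimeSpectrum.isClosed_zeroLocus _) _ hsupp
  let ξ' := PrimeSpectrum.primesOverOrderIsoFiber R B p ⟨q', ‹_›, ‹_›⟩
  have hξ'i : ξ'.asIdeal.comap (Algebra.TensorProduct.includeRight (R := R) (A := p.ResidueField) (B := B)).toRingHom = q' := by
    have h := PrimeSpectrum.coe_primesOverOrderIsoFiber_symm_apply (p := p) ξ'
    rw [OrderIso.symm_apply_apply] at h
    exact h.symm
  have hξ'q : ξ'.asIdeal = FlatCA.fiberIdeal p q' := by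
    rw [← FlatMor67.PurePush.fiberIdeal_comap p ξ'.asIdeal, hξ'i]
  have he : PrimeSpectrum.comap (algebraMap (p.Fiber A) (p.Fiber B)) ξ' = ξ := by
    apply PrimeSpectrum.ext
    rw [hξq, ← FlatMor67.PurePush.fiberIdeal_comap p (PrimeSpectrum.comap (algebraMap (p.Fiber A) (p.Fiber B)) ξ').asIdeal]
    congr 1
    rw [← show q'.comap (algebraMap A B) = q from (q'.over_def q).symm, ← hξ'i]
    ext s
    show φ _ ∈ ξ'.asIdeal ↔ _
    rw [show φ ((Algebra.TensorProduct.includeRight (R := R) (A := p.ResidueField) (B := A)).toRingHom s) = _ from hφ s]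
    rfl
  have hξ' : ξ' ∈ Module.support (p.Fiber B) (FlatCA.fiberMod p B N') := by
    rw [hsupp, Set.mem_preimage, he]; exact hξ
  have hl : FlatMor.localDim (Module.support (p.Fiber B) (FlatCA.fiberMod p B N')) ⟨ξ', hξ'⟩ = n := by
    rw [hloc ξ' hξ', ← hdim]
    congr 1
    exact Subtype.ext he
  refine ⟨⟨ξ', hξ', hξ'q, hl⟩, le_antisymm ?_ ?_⟩
  · rw [← h2]
    rw [Module.supportDim_eq_ringKrullDim_quotient_annihilator, Module.supportDim_eq_ringKrullDim_quotient_annihilator,
      ← LC17.dim_zeroLocus, ← LC17.dim_zeroLocus, ← Module.support_eq_zeroLocus, ← Module.support_eq_zeroLocus]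
    exact hle
  · rw [← hl, Module.supportDim_eq_ringKrullDim_quotient_annihilator, ← LC17.dim_zeroLocus, ← Module.support_eq_zeroLocus]
    exact TopDim50.localDim_le_dim _

end etaleFibre

end Groth.Agent.FlatMor68.EtaleLoc
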