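import Groth.Agent.FlatMor68.EtaleLoc

/-! Étale localisation of a one-step dévissage at a point (S12245). -/

set_option autoImplicit false
set_option backward.isDefEq.respectTransparency.types false
set_option linter.style.haveILetI false
set_option linter.unusedVariables false

universe u

open TensorProduct CategoryTheory CategoryTheory.Limits AlgebraicGeometry

namespace Groth.Agent.FlatMor68.EtaleLocMain

open EtaleLoc

/-- Lift of an étale algebra over a quotient, after base change of the base. -/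
theorem exists_lift {R S C R'' C'' : Type u} [CommRing R] [CommRing S] [CommRing C] [CommRing R''] [CommRing C'']
    [Algebra R S] [Algebra S C] [Algebra R C] [IsScalarTower R S C] [Algebra R R''] [Algebra.Etale R R'']
    [Algebra C C''] [Algebra S C''] [IsScalarTower S C C''] [Algebra R'' C''] [Algebra R C''] [IsScalarTower R R'' C'']
    [IsScalarTower R C C''] [Algebra.Etale C C''] (hs : Function.Surjective (algebraMap S C)) :
    ∃ (W : Type u) (_ : CommRing W) (_ : Algebra (S ⊗[R] R'') W) (π : W →+* C''),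
      Algebra.Etale (S ⊗[R] R'') W ∧ Function.Surjective π ∧
      (∀ s r, π (algebraMap (S ⊗[R] R'') W (s ⊗ₜ r)) = algebraMap S C'' s * algebraMap R'' C'' r) ∧
      ∀ x, π x = 0 → x ∈ ((RingHom.ker (algebraMap S C)).map (algebraMap S (S ⊗[R] R''))).map (algebraMap (S ⊗[R] R'') W) := by
  haveI : IsScalarTower R S C'' := .of_algebraMap_eq fun r => by
    rw [IsScalarTower.algebraMap_apply S C C'', ← IsScalarTower.algebraMap_apply R S C, ← IsScalarTower.algebraMap_apply R C C'']
  let A := S ⊗[R] R''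
  let I : Ideal A := (RingHom.ker (algebraMap S C)).map (algebraMap S A)
  let ψ : A →ₐ[S] C'' := Algebra.TensorProduct.lift (Algebra.ofId S C'') (IsScalarTower.toAlgHom R R'' C'')
    fun _ _ => .all _ _
  letI : Algebra A C'' := ψ.toRingHom.toAlgebra
  haveI : IsScalarTower S A C'' := IsScalarTower.of_algHom ψ
  have hI : I ≤ RingHom.ker (algebraMap A C'') := Ideal.map_le_iff_le_comap.2 fun s hs => by
    show algebraMap A C'' (algebraMap S A s) = 0
    rw [← IsScalarTower.algebraMap_apply, IsScalarTower.algebraMap_apply S C C'', RingHom.mem_ker.1 hs, map_zero]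
  letI : Algebra (A ⧸ I) C'' := (Ideal.Quotient.lift I (algebraMap A C'') hI).toAlgebra
  haveI : IsScalarTower A (A ⧸ I) C'' := IsScalarTower.of_algebraMap_eq (R := A) (S := A ⧸ I) (A := C'') fun _ => rfl
  let σ : C →+* A ⧸ I := (Ideal.Quotient.lift (RingHom.ker (algebraMap S C)) ((Ideal.Quotient.mk I).comp (algebraMap S A) : S →+* A ⧸ I)
    fun s hs => Ideal.Quotient.eq_zero_iff_mem.2 (Ideal.mem_map_of_mem _ hs)).comp
    (RingHom.quotientKerEquivOfSurjective hs).symm.toRingHom
  have hσ : ∀ s, σ (algebraMap S C s) = Ideal.Quotient.mk I (algebraMap S A s) := fun s => by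
    have : (RingHom.quotientKerEquivOfSurjective hs).symm (algebraMap S C s) = Ideal.Quotient.mk _ s := by
      rw [RingEquiv.symm_apply_eq]; rfl
    simp only [σ, RingHom.comp_apply, RingEquiv.toRingHom_eq_coe, RingHom.coe_coe, this, Ideal.Quotient.lift_mk]
  letI : Algebra C (A ⧸ I) := σ.toAlgebra
  haveI : IsScalarTower S C (A ⧸ I) := .of_algebraMap_eq fun s => (hσ s).symm
  haveI : IsScalarTower C (A ⧸ I) C'' := .of_algebraMap_eq fun c => by
    obtain ⟨s, rfl⟩ := hs c
    show _ = algebraMap (A ⧸ I) C'' (σ (algebraMap S C s))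
    rw [hσ, ← IsScalarTower.algebraMap_apply S C C'']
    exact (IsScalarTower.algebraMap_apply S A C'' s)
  haveI : Algebra.Etale S A := inferInstance
  haveI : Algebra.FormallyUnramified S (A ⧸ I) := Algebra.FormallyUnramified.comp S A (A ⧸ I)
  haveI : Algebra.FormallyUnramified C (A ⧸ I) := Algebra.FormallyUnramified.of_restrictScalars S C (A ⧸ I)
  haveI : Algebra.FiniteType S (A ⧸ I) := Algebra.FiniteType.trans (S := A) inferInstance inferInstance
  haveI : Algebra.FiniteType C (A ⧸ I) := Algebra.FiniteType.of_restrictScalars_finiteType S C (A ⧸ I)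
  haveI : Algebra.FormallyEtale (A ⧸ I) C'' := Algebra.FormallyEtale.of_restrictScalars (R := C) (A := A ⧸ I) (B := C'')
  haveI : Algebra.FinitePresentation (A ⧸ I) C'' :=
    Algebra.FinitePresentation.of_restrict_scalars_finitePresentation C (A ⧸ I) C''
  haveI : Algebra.Etale (A ⧸ I) C'' := ⟨inferInstance, inferInstance⟩
  obtain ⟨W, _, _, π, hW, hπ, hker⟩ := Ind91.exists_etale_lift A I C''
  refine ⟨W, inferInstance, inferInstance, π.toRingHom, hW, hπ, fun s r => ?_, fun x hx => hker.le hx⟩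
  show π (algebraMap A W (s ⊗ₜ r)) = _
  rw [AlgHom.commutes]
  exact Algebra.TensorProduct.lift_tmul _ _ _ s r

open FlatMor in
/-- Local and global fibre dimensions of the support after a pushout with trivial residue extension followed by an étale algebra. -/
theorem fibre_dims {R S R'' A W : Type u} [CommRing R] [CommRing S] [CommRing R''] [CommRing A] [CommRing W]
    [Algebra R S] [Algebra.FiniteType R S] [Algebra R R''] [Algebra R'' A] [Algebra R A] [Algebra S A]
    [IsScalarTower R R'' A] [IsScalarTower R S A] [Algebra.IsPushout R R'' S A] [Algebra A W] [Algebra.Etale A W]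
    [Algebra R'' W] [IsScalarTower R'' A W] [Algebra S W] [IsScalarTower S A W]
    (N : Type u) [AddCommGroup N] [Module S N] [Module R N] [IsScalarTower R S N] [Module.Finite S N]
    (p : Ideal R) [p.IsPrime] (p'' : Ideal R'') [p''.IsPrime] [hp : p''.LiesOver p]
    (hκ : Function.Bijective (Ideal.ResidueField.mapₐ p p'' (Algebra.ofId R R'') hp.over))
    (q : Ideal S) [q.IsPrime] [q.LiesOver p] (q'' : Ideal W) [q''.IsPrime] [q''.LiesOver q] [q''.LiesOver p''] {n : ℕ}
    (h1 : ∃ (ξ : PrimeSpectrum (p.Fiber S)) (hξ : ξ ∈ Module.support (p.Fiber S) (FlatCA.fiberMod p S N)),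
      ξ.asIdeal = FlatCA.fiberIdeal p q ∧
      FlatMor.localDim (Module.support (p.Fiber S) (FlatCA.fiberMod p S N)) ⟨ξ, hξ⟩ = n)
    (hdim : Module.supportDim (p.Fiber S) (FlatCA.fiberMod p S N) = n) :
    (∃ (ξ' : PrimeSpectrum (p''.Fiber W)) (hξ' : ξ' ∈ Module.support (p''.Fiber W) (FlatCA.fiberMod p'' W (W ⊗[S] N))),
      ξ'.asIdeal = FlatCA.fiberIdeal p'' q'' ∧
      FlatMor.localDim (Module.support (p''.Fiber W) (FlatCA.fiberMod p'' W (W ⊗[S] N))) ⟨ξ', hξ'⟩ = n) ∧
    Module.supportDim (p''.Fiber W) (FlatCA.fiberMod p'' W (W ⊗[S] N)) = n := by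
  let qA : Ideal A := q''.comap (algebraMap A W)
  haveI : q''.LiesOver qA := ⟨rfl⟩
  haveI : qA.LiesOver q := ⟨by
    rw [Ideal.under, Ideal.comap_comap, ← IsScalarTower.algebraMap_eq]; exact q''.over_def q⟩
  haveI : qA.LiesOver p'' := ⟨by
    rw [Ideal.under, Ideal.comap_comap, ← IsScalarTower.algebraMap_eq]; exact q''.over_def p''⟩
  have hA1 := CompleteDevAtBC.localDim_bc (S := S) (S' := A) p p'' hκ N (A ⊗[S] N) (TensorProduct.mk S A N 1)
    (TensorProduct.isBaseChange _ _ _) q qA h1
  have hA2 := (DevissageBC.supportDim_baseChange R S N p R'' p'' A (A ⊗[S] N) (TensorProduct.mk S A N 1)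
    (TensorProduct.isBaseChange _ _ _)).trans hdim
  let fA : A ⊗[S] N →ₗ[A] W ⊗[S] N :=
    ((AlgebraTensorModule.cancelBaseChange S A W W N).toLinearMap.restrictScalars A).comp
    (TensorProduct.mk A W (A ⊗[S] N) 1)
  have hfA : IsBaseChange W fA :=
    IsBaseChange.of_equiv (AlgebraTensorModule.cancelBaseChange S A W W N) fun _ => rfl
  exact etale_localDim_supportDim (A := A) (B := W) p'' (A ⊗[S] N) (W ⊗[S] N) fA hfA qA q'' hA1 hA2

open FlatMor in
set_option maxHeartbeats 2000000 in
set_option synthInstance.maxHeartbeats 100000 in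
theorem finish
    (R S : Type u) [CommRing R] [CommRing S] [Algebra R S] [Algebra.FiniteType R S]
    (N : Type u) [AddCommGroup N] [Module S N] [Module R N] [IsScalarTower R S N] [Module.Finite S N]
    (p : Ideal R) [p.IsPrime] (q : Ideal S) [q.IsPrime] [q.LiesOver p]
    (C D G : Type u) [CommRing C] [CommRing D] [Algebra S C] [Algebra R C] [IsScalarTower R S C]
    [Algebra R D] [Algebra D C] [IsScalarTower R D C] [AddCommGroup G] [Module C G] [Module S G]
    [IsScalarTower S C G] (n : ℕ)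
    (h : FlatCA.IsOneStepDevissage R S N p C D G n)
    (z : Ideal C) [z.IsPrime] (y : Ideal D) [y.IsPrime] [z.LiesOver q] [z.LiesOver y] [y.LiesOver p]
    (h1 : ∃ (ξ : PrimeSpectrum (p.Fiber S)) (hξ : ξ ∈ Module.support (p.Fiber S) (FlatCA.fiberMod p S N)),
      ξ.asIdeal = FlatCA.fiberIdeal p q ∧
      FlatMor.localDim (Module.support (p.Fiber S) (FlatCA.fiberMod p S N)) ⟨ξ, hξ⟩ = n)
    (h3 : ∀ (z₁ : Ideal C) [z₁.IsPrime], z₁.LiesOver y → z₁ = z)
    (h4 : FlatCA.PurelyTranscendental p y)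
    (R'' : Type u) [CommRing R''] [Algebra R R''] [Algebra.Etale R R''] (p'' : Ideal R'') [p''.IsPrime]
    [hp'' : p''.LiesOver p] (hκ : Function.Bijective (Ideal.ResidueField.mapₐ p p'' (Algebra.ofId R R'') hp''.over))
    (D'' : Type u) [CommRing D''] [Algebra D D''] [Algebra R'' D''] [Algebra R D''] [IsScalarTower R R'' D'']
    [IsScalarTower R D D''] [Algebra.Etale D D''] (y'' : Ideal D'') [y''.IsPrime] [oy''y : y''.LiesOver y]
    [oy''p : y''.LiesOver p'']
    (hκy'' : Function.Bijective (Ideal.ResidueField.mapₐ y y'' (Algebra.ofId D D'') oy''y.over))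
    (hsm'' : FlatCA.SmoothRelDim n R'' D'') (hgi'' : FlatCA.GeomIrredFibres R'' D'') :
    ∃ (C'' : Type u) (_ : CommRing C'') (_ : Algebra C C'') (_ : Algebra D'' C'') (_ : Algebra D C'')
      (_ : Algebra R'' C'') (_ : IsScalarTower D D'' C'') (_ : IsScalarTower D C C'') (_ : IsScalarTower R'' D'' C'')
      (z'' : Ideal C'') (_ : z''.IsPrime) (_ : z''.LiesOver z) (_ : z''.LiesOver y''),
      Algebra.IsPushout D D'' C C'' ∧
    ∃ (G'' : Type u) (_ : AddCommGroup G'') (_ : Module C'' G'') (_ : Module C G'') (_ : IsScalarTower C C'' G'')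
      (gG : G →ₗ[C] G''), IsBaseChange C'' gG ∧
    ∃ (S'' : Type u) (_ : CommRing S'') (_ : Algebra S S'') (_ : Algebra R'' S'') (_ : Algebra R S'')
      (_ : IsScalarTower R S S'') (_ : IsScalarTower R R'' S'') (q'' : Ideal S'') (_ : q''.IsPrime)
      (_ : Algebra S'' C'') (_ : Algebra S C'') (_ : IsScalarTower S S'' C'') (_ : IsScalarTower S C C'')
      (_ : IsScalarTower R'' S'' C'') (_ : Module S'' G'') (_ : IsScalarTower S'' C'' G''),
      FlatCA.IsEtaleNhd S S'' q q'' ∧ z''.LiesOver q'' ∧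
    ∃ (N'' : Type u) (_ : AddCommGroup N'') (_ : Module S'' N'') (_ : Module S N'') (_ : IsScalarTower S S'' N'')
      (_ : Module R'' N'') (_ : IsScalarTower R'' S'' N'') (gN : N →ₗ[S] N''), IsBaseChange S'' gN ∧
      FlatCA.IsOneStepDevissage R'' S'' N'' p'' C'' D'' G'' n ∧
      (∃ (ξ : PrimeSpectrum (p''.Fiber S'')) (hξ : ξ ∈ Module.support (p''.Fiber S'') (FlatCA.fiberMod p'' S'' N'')),
        ξ.asIdeal = FlatCA.fiberIdeal p'' q'' ∧
        FlatMor.localDim (Module.support (p''.Fiber S'') (FlatCA.fiberMod p'' S'' N'')) ⟨ξ, hξ⟩ = n) ∧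
      (∀ (z₂ : Ideal C'') [z₂.IsPrime], z₂.LiesOver y'' → z₂ = z'') ∧
      FlatCA.PurelyTranscendental p'' y'' := by
  obtain ⟨⟨eN⟩, hs, hfp, hfin, hGfin, hsm, hgi, hdim⟩ := h
  haveI := hfp; haveI := hfin; haveI := hGfin
  -- the finite algebra
  let C'' := D'' ⊗[D] C
  letI algCC'' : Algebra C C'' := Algebra.TensorProduct.rightAlgebra
  let algR''C'' : Algebra R'' C'' := inferInstance
  haveI tR''DC : IsScalarTower R'' D'' C'' := inferInstance
  haveI : z.LiesOver p := Ideal.LiesOver.trans z y p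
  obtain ⟨z'', hz''p, hz''y, hz''z⟩ := CompleteDevAtBC.exists_over (R := D) (S := C) (R' := D'') (S' := C'') y y'' hκy'' z
  haveI := hz''p; haveI := hz''y; haveI := hz''z
  have huniq : ∀ (z₂ : Ideal C'') [z₂.IsPrime], z₂.LiesOver y'' → z₂ = z'' := fun z₂ _ hz₂ => by
    refine DevissageAtBC.eq_of_comap_eq (S := C) y y'' hκy'' z₂ z'' ((h3 _ ⟨?_⟩).trans (z''.over_def z))
    rw [Ideal.under, Ideal.comap_comap, ← IsScalarTower.algebraMap_eq, IsScalarTower.algebraMap_eq D D'' C'', ← Ideal.comap_comap,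
      show z₂.comap (algebraMap D'' C'') = y'' from hz₂.over.symm]
    exact oy''y.over
  have hptD'' : FlatCA.PurelyTranscendental p'' y'' :=
    Shrink.purelyTranscendental_of_surjective p p'' hκ y y'' hκy''.2 h4
  let G'' := C'' ⊗[C] G
  -- the étale lift
  let algRC'' : Algebra R C'' := inferInstance
  haveI tRR''C : IsScalarTower R R'' C'' := inferInstance
  haveI tRCC : IsScalarTower R C C'' := .of_algebraMap_eq fun r => by
    rw [IsScalarTower.algebraMap_apply R D'' C'', IsScalarTower.algebraMap_apply R D D'',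
      ← IsScalarTower.algebraMap_apply D D'' C'', IsScalarTower.algebraMap_apply R D C,
      ← IsScalarTower.algebraMap_apply D C C'']
  letI algSC'' : Algebra S C'' := ((algebraMap C C'').comp (algebraMap S C)).toAlgebra
  haveI tSCC : IsScalarTower S C C'' := .of_algebraMap_eq fun _ => rfl
  haveI : Algebra.Etale C C'' := RingHom.etale_algebraMap.1 (RG29.etale_includeRight D D'' C)
  obtain ⟨W, _, algAW, π, hW, hπs, hπA, hker⟩ := exists_lift (R := R) (S := S) (C := C) (R'' := R'') (C'' := C'') hs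
  letI algSW : Algebra S W := ((algebraMap (S ⊗[R] R'') W).comp (algebraMap S (S ⊗[R] R''))).toAlgebra
  haveI : IsScalarTower S (S ⊗[R] R'') W := IsScalarTower.of_algebraMap_eq (R := S) (S := S ⊗[R] R'') (A := W) fun _ => rfl
  letI algR''W : Algebra R'' W := ((algebraMap (S ⊗[R] R'') W).comp
    (Algebra.TensorProduct.includeRight : R'' →ₐ[R] S ⊗[R] R'').toRingHom).toAlgebra
  letI algRW : Algebra R W := ((algebraMap S W).comp (algebraMap R S)).toAlgebra
  haveI tRSW : IsScalarTower R S W := .of_algebraMap_eq fun _ => rfl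
  haveI tRR''W : IsScalarTower R R'' W := .of_algebraMap_eq fun r => by
    show algebraMap (S ⊗[R] R'') W (algebraMap S (S ⊗[R] R'') (algebraMap R S r)) =
      algebraMap (S ⊗[R] R'') W ((Algebra.TensorProduct.includeRight : R'' →ₐ[R] S ⊗[R] R'') (algebraMap R R'' r))
    rw [AlgHom.commutes, ← IsScalarTower.algebraMap_apply R S (S ⊗[R] R'')]
  letI algWC : Algebra W C'' := π.toAlgebra
  haveI tSWC : IsScalarTower S W C'' := .of_algebraMap_eq fun s => by
    show _ = π (algebraMap (S ⊗[R] R'') W (s ⊗ₜ (1 : R'')))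
    rw [hπA, map_one, mul_one]
  haveI tR''WC : IsScalarTower R'' W C'' := .of_algebraMap_eq fun r => by
    show _ = π (algebraMap (S ⊗[R] R'') W ((1 : S) ⊗ₜ r))
    rw [hπA, map_one, one_mul]
  haveI : Algebra.Etale S (S ⊗[R] R'') := inferInstance
  haveI hetS : Algebra.Etale S W := Algebra.Etale.comp S (S ⊗[R] R'') W
  let q'' : Ideal W := z''.comap (algebraMap W C'')
  haveI oz''q : z''.LiesOver q'' := ⟨rfl⟩
  haveI oq''q : q''.LiesOver q := ⟨by
    rw [Ideal.under, Ideal.comap_comap, ← IsScalarTower.algebraMap_eq, IsScalarTower.algebraMap_eq S C C'',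
      ← Ideal.comap_comap, show z''.comap (algebraMap C C'') = z from (z''.over_def z).symm]
    exact z.over_def q⟩
  haveI oz''p'' : z''.LiesOver p'' := Ideal.LiesOver.trans z'' y'' p''
  haveI oq''p : q''.LiesOver p'' := ⟨by
    rw [Ideal.under, Ideal.comap_comap, ← IsScalarTower.algebraMap_eq]; exact z''.over_def p''⟩
  haveI : z''.LiesOver q := Ideal.LiesOver.trans z'' q'' q
  have hκS : Function.Bijective (Ideal.ResidueField.mapₐ q q'' (Algebra.ofId S W) oq''q.over) := by
    refine ⟨RingHom.injective _, fun v => ?_⟩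
    obtain ⟨a, ha⟩ := DevissageAtBC.residue_surjective (R := D) (S := C) (S' := C'') y y'' hκy'' z z''
      (Ideal.ResidueField.mapₐ q'' z'' (Algebra.ofId W C'') oz''q.over v)
    obtain ⟨b, rfl⟩ : ∃ b, Ideal.ResidueField.mapₐ q z (Algebra.ofId S C) (z.over_def q) b = a := by
      obtain ⟨c, d, hd, rfl⟩ := IsFractionRing.div_surjective (A := C ⧸ z) a
      obtain ⟨c, rfl⟩ := Ideal.Quotient.mk_surjective c
      obtain ⟨d, rfl⟩ := Ideal.Quotient.mk_surjective d
      obtain ⟨c, rfl⟩ := hs c
      obtain ⟨d, rfl⟩ := hs d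
      refine ⟨algebraMap S _ c / algebraMap S _ d, ?_⟩
      rw [map_div₀, AlgHom.commutes, AlgHom.commutes, IsScalarTower.algebraMap_apply S C z.ResidueField,
        IsScalarTower.algebraMap_apply S C z.ResidueField]
      rfl
    refine ⟨b, (Ideal.ResidueField.mapₐ q'' z'' (Algebra.ofId W C'') oz''q.over).toRingHom.injective ?_⟩
    show Ideal.ResidueField.mapₐ q'' z'' (Algebra.ofId W C'') _ _ = Ideal.ResidueField.mapₐ q'' z'' (Algebra.ofId W C'') _ v
    rw [← ha, ← mapₐ_comp_apply q q'' z'', mapₐ_comp_apply q z z'']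
  -- `C''` is the base change of `C` to `W`
  let L : W ⊗[S] C →ₐ[W] C'' := Algebra.TensorProduct.lift (Algebra.ofId W C'') (IsScalarTower.toAlgHom S C C'') fun _ _ => .all _ _
  have hsurjW : Function.Surjective (algebraMap W C'') := hπs
  have hLbij : Function.Bijective L := by
    have hpure : ∀ t : W ⊗[S] C, ∃ w : W, t = w ⊗ₜ[S] (1 : C) := fun t => by
      induction t using TensorProduct.induction_on with
      | zero => exact ⟨0, (zero_tmul _ _).symm⟩
      | tmul w c =>
        obtain ⟨s, rfl⟩ := hs c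
        exact ⟨s • w, by rw [Algebra.algebraMap_eq_smul_one, smul_tmul]⟩
      | add a b ha hb =>
        obtain ⟨a, rfl⟩ := ha
        obtain ⟨b, rfl⟩ := hb
        exact ⟨a + b, (add_tmul _ _ _).symm⟩
    refine ⟨(injective_iff_map_eq_zero L).2 fun t ht => ?_, fun c => ?_⟩
    · obtain ⟨w, rfl⟩ := hpure t
      have hw : π w = 0 := by
        rw [Algebra.TensorProduct.lift_tmul, map_one, mul_one] at ht
        exact ht
      have hm := hker w hw
      rw [Ideal.map_map, show (algebraMap (S ⊗[R] R'') W).comp (algebraMap S (S ⊗[R] R'')) = algebraMap S W from rfl] at hm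
      have : (RingHom.ker (algebraMap S C)).map (algebraMap S W) ≤
          RingHom.ker (Algebra.TensorProduct.includeLeft : W →ₐ[W] W ⊗[S] C).toRingHom := by
        refine Ideal.map_le_iff_le_comap.2 fun s hs' => ?_
        show algebraMap S W s ⊗ₜ[S] (1 : C) = 0
        rw [Algebra.algebraMap_eq_smul_one, smul_tmul, ← Algebra.algebraMap_eq_smul_one, RingHom.mem_ker.1 hs', tmul_zero]
      exact this hm
    · obtain ⟨w, hw⟩ := hπs c
      exact ⟨w ⊗ₜ 1, by rw [Algebra.TensorProduct.lift_tmul, map_one, mul_one]; exact hw⟩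
  letI algCWC : Algebra C (W ⊗[S] C) := Algebra.TensorProduct.rightAlgebra
  haveI hpo : Algebra.IsPushout S W C C'' :=
    Algebra.IsPushout.of_equiv (AlgEquiv.ofBijective L hLbij) (RingHom.ext fun c => by
      show L ((1 : W) ⊗ₜ[S] c) = algebraMap C C'' c
      rw [Algebra.TensorProduct.lift_tmul, map_one, one_mul]
      rfl)
  haveI : Algebra.FinitePresentation W C'' := Algebra.FinitePresentation.equiv (Algebra.IsPushout.equiv S W C C'')
  haveI : Module.Finite D'' C'' := inferInstance
  haveI : Module.Finite C'' G'' := inferInstance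
  letI mWG : Module W G'' := Module.compHom _ (algebraMap W C'')
  haveI tWG : IsScalarTower W C'' G'' := IsScalarTower.of_algebraMap_smul fun _ _ => rfl
  let N'' := W ⊗[S] N
  let mR''N : Module R'' N'' := inferInstance
  haveI tR''N : IsScalarTower R'' W N'' := inferInstance
  have hgN : IsBaseChange W (TensorProduct.mk S W N 1) := TensorProduct.isBaseChange _ _ _
  let eNG : N'' ≃ₗ[W] G'' := (LinearEquiv.baseChange S W N G eN).trans
    ((Algebra.IsPushout.cancelBaseChange S W C C'' G).symm)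
  -- fibre dimensions
  let A := S ⊗[R] R''
  letI algR''A : Algebra R'' A := Algebra.TensorProduct.rightAlgebra
  haveI : IsScalarTower R'' A W := .of_algebraMap_eq fun _ => rfl
  haveI : Algebra.IsPushout R R'' S A := Algebra.IsPushout.symm inferInstance
  obtain ⟨hloc, hsd⟩ := fibre_dims (A := A) (W := W) N p p'' hκ q q'' h1 hdim
  exact ⟨C'', inferInstance, algCC'', inferInstance, inferInstance, algR''C'', inferInstance, inferInstance, tR''DC,
    z'', hz''p, hz''z, hz''y, inferInstance,
    G'', inferInstance, inferInstance, inferInstance, inferInstance, TensorProduct.mk C C'' G 1, TensorProduct.isBaseChange _ _ _,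
    W, inferInstance, algSW, algR''W, algRW, tRSW, tRR''W, q'', inferInstance, algWC, algSC'', tSWC, tSCC, tR''WC, mWG, tWG,
    ⟨hetS, oq''q, hκS⟩, oz''q,
    N'', inferInstance, inferInstance, inferInstance, inferInstance, mR''N, tR''N, TensorProduct.mk S W N 1, hgN,
    ⟨⟨eNG⟩, hsurjW, inferInstance, inferInstance, inferInstance, hsm'', hgi'', hsd⟩, hloc, huniq, hptD''⟩

theorem bijective_self {A : Type u} [CommRing A] (a : Ideal A) [a.IsPrime] [ha : a.LiesOver a] :
    Function.Bijective (Ideal.ResidueField.mapₐ a a (Algebra.ofId A A) ha.over) := by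
  have h : (Ideal.ResidueField.mapₐ a a (Algebra.ofId A A) ha.over).toRingHom = RingHom.id _ := by
    refine Ideal.ResidueField.ringHom_ext (RingHom.ext fun r => ?_)
    show Ideal.ResidueField.mapₐ a a (Algebra.ofId A A) _ (algebraMap A _ r) = algebraMap A _ r
    rw [AlgHom.commutes]
  exact ⟨RingHom.injective _, fun x => ⟨x, RingHom.congr_fun h x⟩⟩

open FlatMor in
set_option maxHeartbeats 2000000 in
set_option synthInstance.maxHeartbeats 400000 in
theorem main
    (R S : Type u) [CommRing R] [CommRing S] [Algebra R S] [Algebra.FiniteType R S]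
    (N : Type u) [AddCommGroup N] [Module S N] [Module R N] [IsScalarTower R S N] [Module.Finite S N]
    (p : Ideal R) [p.IsPrime] (q : Ideal S) [q.IsPrime] [q.LiesOver p]
    (C D G : Type u) [CommRing C] [CommRing D] [Algebra S C] [Algebra R C] [IsScalarTower R S C]
    [Algebra R D] [Algebra D C] [IsScalarTower R D C] [AddCommGroup G] [Module C G] [Module S G]
    [IsScalarTower S C G] (n : ℕ)
    (h : FlatCA.IsOneStepDevissage R S N p C D G n)
    (z : Ideal C) [z.IsPrime] (y : Ideal D) [y.IsPrime] [z.LiesOver q] [z.LiesOver y] [y.LiesOver p]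
    (h1 : ∃ (ξ : PrimeSpectrum (p.Fiber S)) (hξ : ξ ∈ Module.support (p.Fiber S) (FlatCA.fiberMod p S N)),
      ξ.asIdeal = FlatCA.fiberIdeal p q ∧
      FlatMor.localDim (Module.support (p.Fiber S) (FlatCA.fiberMod p S N)) ⟨ξ, hξ⟩ = n)
    (h3 : ∀ (z₁ : Ideal C) [z₁.IsPrime], z₁.LiesOver y → z₁ = z)
    (h4 : FlatCA.PurelyTranscendental p y)
    (R' : Type u) [CommRing R'] [Algebra R R'] (p' : Ideal R') [p'.IsPrime] (hR' : FlatCA.IsEtaleNhd R R' p p')
    (D' : Type u) [CommRing D'] [Algebra D D'] [Algebra R' D'] [Algebra R D'] [IsScalarTower R R' D']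
    [IsScalarTower R D D'] (y' : Ideal D') [y'.IsPrime] (hD' : FlatCA.IsEtaleNhd D D' y y') [y'.LiesOver p'] :
    ∃ (R'' : Type u) (_ : CommRing R'') (_ : Algebra R' R'') (_ : Algebra R R'') (_ : IsScalarTower R R' R'')
      (p'' : Ideal R'') (_ : p''.IsPrime),
      FlatCA.IsEtaleNhd R' R'' p' p'' ∧
    ∃ (T : Type u) (_ : CommRing T) (_ : Algebra R' T) (_ : Algebra R'' T) (_ : Algebra D' T)
      (_ : IsScalarTower R' R'' T) (_ : IsScalarTower R' D' T),
      Algebra.IsPushout R' R'' D' T ∧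
    ∃ (D'' : Type u) (_ : CommRing D'') (_ : Algebra T D'') (_ : Algebra D' D'') (_ : Algebra R'' D'')
      (_ : Algebra D D'') (_ : Algebra R D'') (_ : IsScalarTower D' T D'') (_ : IsScalarTower R'' T D'')
      (_ : IsScalarTower D D' D'') (_ : IsScalarTower R R'' D'') (_ : IsScalarTower R D D'')
      (y'' : Ideal D'') (_ : y''.IsPrime) (_ : y''.LiesOver y') (_ : y''.LiesOver p''),
      IsOpenImmersion (Spec.map (CommRingCat.ofHom (algebraMap T D''))) ∧
    ∃ (C'' : Type u) (_ : CommRing C'') (_ : Algebra C C'') (_ : Algebra D'' C'') (_ : Algebra D C'')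
      (_ : Algebra R'' C'') (_ : IsScalarTower D D'' C'') (_ : IsScalarTower D C C'') (_ : IsScalarTower R'' D'' C'')
      (z'' : Ideal C'') (_ : z''.IsPrime) (_ : z''.LiesOver z) (_ : z''.LiesOver y''),
      Algebra.IsPushout D D'' C C'' ∧
    ∃ (G'' : Type u) (_ : AddCommGroup G'') (_ : Module C'' G'') (_ : Module C G'') (_ : IsScalarTower C C'' G'')
      (gG : G →ₗ[C] G''), IsBaseChange C'' gG ∧
    ∃ (S'' : Type u) (_ : CommRing S'') (_ : Algebra S S'') (_ : Algebra R'' S'') (_ : Algebra R S'')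
      (_ : IsScalarTower R S S'') (_ : IsScalarTower R R'' S'') (q'' : Ideal S'') (_ : q''.IsPrime)
      (_ : Algebra S'' C'') (_ : Algebra S C'') (_ : IsScalarTower S S'' C'') (_ : IsScalarTower S C C'')
      (_ : IsScalarTower R'' S'' C'') (_ : Module S'' G'') (_ : IsScalarTower S'' C'' G''),
      FlatCA.IsEtaleNhd S S'' q q'' ∧ z''.LiesOver q'' ∧
    ∃ (N'' : Type u) (_ : AddCommGroup N'') (_ : Module S'' N'') (_ : Module S N'') (_ : IsScalarTower S S'' N'')
      (_ : Module R'' N'') (_ : IsScalarTower R'' S'' N'') (gN : N →ₗ[S] N''), IsBaseChange S'' gN ∧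
      FlatCA.IsOneStepDevissage R'' S'' N'' p'' C'' D'' G'' n ∧
      (∃ (ξ : PrimeSpectrum (p''.Fiber S'')) (hξ : ξ ∈ Module.support (p''.Fiber S'') (FlatCA.fiberMod p'' S'' N'')),
        ξ.asIdeal = FlatCA.fiberIdeal p'' q'' ∧
        FlatMor.localDim (Module.support (p''.Fiber S'') (FlatCA.fiberMod p'' S'' N'')) ⟨ξ, hξ⟩ = n) ∧
      (∀ (z₂ : Ideal C'') [z₂.IsPrime], z₂.LiesOver y'' → z₂ = z'') ∧
      FlatCA.PurelyTranscendental p'' y'' := by
  classical
  obtain ⟨⟨eN⟩, hs, hfp, hfin, hGfin, hsm, hgi, hdim⟩ := h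
  haveI := hfp; haveI := hfin; haveI := hGfin
  obtain ⟨hEtR, op, hκR⟩ := hR'
  obtain ⟨hEtD, oy, hκD⟩ := hD'
  haveI := hEtR; haveI := op; haveI := hEtD; haveI := oy
  haveI : y'.LiesOver p := Ideal.LiesOver.trans y' y p
  have hptD' : FlatCA.PurelyTranscendental p' y' := Shrink.purelyTranscendental_of_surjective p p' hκR y y' hκD.2 h4
  obtain ⟨f, hfy, _, _, hetP⟩ := exists_standardSmooth n (smoothRelDim_etaleNhd (R' := R') (D' := D') n hsm) y'
  let D1 := Localization.Away f
  obtain ⟨hy1p, hy1c⟩ := Shrink.isPrime_map_away D1 f y' hfy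
  let y1 := y'.map (algebraMap D' D1)
  haveI : y1.IsPrime := hy1p
  haveI oy1 : y1.LiesOver y' := ⟨hy1c.symm⟩
  haveI oy1p : y1.LiesOver p' := Ideal.LiesOver.trans y1 y' p'
  have hκ1 := Shrink.surjective_residue_of_loc f y' y1
  haveI : p'.LiesOver p' := ⟨Ideal.comap_id p' |>.symm⟩
  have hptD1 : FlatCA.PurelyTranscendental p' y1 :=
    Shrink.purelyTranscendental_of_surjective (R := R') (R' := R') p' p'
      (bijective_self p')
      y' y1 hκ1.2 hptD'
  let ky := y1.ResidueField
  haveI : Algebra.Smooth R' (MvPolynomial (Fin n) R') := ⟨inferInstance, inferInstance⟩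
  haveI : Algebra.Smooth R' D1 := Algebra.Smooth.comp R' (MvPolynomial (Fin n) R') D1
  have hprim : letI : Algebra p'.ResidueField y1.ResidueField :=
        (Ideal.ResidueField.mapₐ p' y1 (Algebra.ofId R' D1) oy1p.over).toRingHom.toAlgebra
      separableClosure p'.ResidueField y1.ResidueField = ⊥ := by
    letI : Algebra p'.ResidueField y1.ResidueField :=
      (Ideal.ResidueField.mapₐ p' y1 (Algebra.ofId R' D1) oy1p.over).toRingHom.toAlgebra
    obtain ⟨ι, x, hx, htop⟩ := hptD1
    exact RG29.separableClosure_eq_bot_of_adjoin hx.1 htop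
  obtain ⟨R₁, _, _, _, P₁, _, hP₁, g, hh₁, jy, hP₁bij, hgP₁, hjy, hhy, hdom⟩ := RG29.exists_geomIntNhd n p' y1 hprim
  let R'' := Localization.Away g
  haveI : Algebra.Etale R₁ R'' := Algebra.Etale.of_isLocalizationAway g
  haveI : Algebra.Etale R' R'' := Algebra.Etale.comp R' R₁ R''
  letI algRR'' : Algebra R R'' := ((algebraMap R' R'').comp (algebraMap R R')).toAlgebra
  haveI tRR'' : IsScalarTower R R' R'' := .of_algebraMap_eq fun _ => rfl
  haveI : Algebra.Etale R R'' := Algebra.Etale.comp R R' R''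
  obtain ⟨hpg, hpgc⟩ := Shrink.isPrime_map_away R'' g P₁ hgP₁
  let p'' : Ideal R'' := P₁.map (algebraMap R₁ R'')
  haveI : p''.IsPrime := hpg
  haveI : p''.LiesOver P₁ := ⟨hpgc.symm⟩
  haveI := hP₁
  haveI op'' : p''.LiesOver p' := Ideal.LiesOver.trans p'' P₁ p'
  haveI op''p : p''.LiesOver p := Ideal.LiesOver.trans p'' p' p
  have hκ'' := bijective_trans p' P₁ p'' hP₁bij (Shrink.surjective_residue_of_loc g P₁ p'')
  have hκ := bijective_trans p p' p'' hκR hκ''
  -- the point as a homomorphism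
  let jg : R'' →ₐ[R'] y1.ResidueField := IsLocalization.liftAlgHom (M := Submonoid.powers g) (f := jy) (fun m => by
    obtain ⟨_, k, rfl⟩ := m
    exact (IsUnit.mk0 (jy (g ^ k)) fun h0 => hgP₁ (Ideal.IsPrime.mem_of_pow_mem ‹_› k ((hjy _).1 h0))))
  have hjgA : ∀ r, jg (algebraMap R₁ R'' r) = jy r := fun r => IsLocalization.lift_eq _ r
  -- the smooth algebra
  let m₁ := IsScalarTower.toAlgHom R' R₁ R''
  let hh : R'' ⊗[R'] D1 := RG29.baseMap D1 m₁ hh₁
  let D'' := Localization.Away hh
  let T := R'' ⊗[R'] D'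
  letI algD'T : Algebra D' T := Algebra.TensorProduct.rightAlgebra
  let τ : T →ₐ[R''] R'' ⊗[R'] D1 := Algebra.TensorProduct.map (AlgHom.id R'' R'') (IsScalarTower.toAlgHom R' D' D1)
  letI algTT1 : Algebra T (R'' ⊗[R'] D1) := τ.toRingHom.toAlgebra
  letI algD'T1 : Algebra D' (R'' ⊗[R'] D1) :=
    ((algebraMap T (R'' ⊗[R'] D1)).comp (algebraMap D' T)).toAlgebra
  haveI : IsScalarTower D' T (R'' ⊗[R'] D1) := .of_algebraMap_eq fun _ => rfl
  letI algD1T1 : Algebra D1 (R'' ⊗[R'] D1) := Algebra.TensorProduct.rightAlgebra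
  haveI : IsScalarTower D' D1 (R'' ⊗[R'] D1) := .of_algebraMap_eq fun d => by
    simp [RingHom.algebraMap_toAlgebra, τ]
    rfl
  haveI : IsScalarTower R'' T (R'' ⊗[R'] D1) := .of_algebraMap_eq fun r => (τ.commutes r).symm
  haveI : IsScalarTower R' T (R'' ⊗[R'] D1) := .of_algebraMap_eq fun r => ((τ.restrictScalars R').commutes r).symm
  haveI : IsLocalization.Away (algebraMap D' T f) (R'' ⊗[R'] D1) := by
    haveI : Algebra.IsPushout R' D' R'' T := Algebra.IsPushout.symm inferInstance
    haveI : Algebra.IsPushout D' D1 T (R'' ⊗[R'] D1) :=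
      (Algebra.IsPushout.comp_iff R' D' R'' T (T := D1) (T' := R'' ⊗[R'] D1)).1 (Algebra.IsPushout.symm inferInstance)
    have h := (Algebra.isLocalization_iff_isPushout (T := T) (B := R'' ⊗[R'] D1) (Submonoid.powers f) D1).2 (Algebra.IsPushout.symm inferInstance)
    rwa [Algebra.algebraMapSubmonoid_powers] at h
  let algTD'' : Algebra T D'' := inferInstance
  let algD'D'' : Algebra D' D'' := inferInstance
  haveI tD'T : IsScalarTower D' T D'' := .of_algebraMap_eq fun d => by
    rw [IsScalarTower.algebraMap_apply D' (R'' ⊗[R'] D1) D'', IsScalarTower.algebraMap_apply T (R'' ⊗[R'] D1) D'',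
      ← IsScalarTower.algebraMap_apply D' T]
  haveI tR''T : IsScalarTower R'' T D'' := .of_algebraMap_eq fun r => by
    rw [IsScalarTower.algebraMap_apply T (R'' ⊗[R'] D1) D'' (algebraMap R'' T r),
      ← IsScalarTower.algebraMap_apply R'' T, ← IsScalarTower.algebraMap_apply]
  letI algDD'' : Algebra D D'' := ((algebraMap D' D'').comp (algebraMap D D')).toAlgebra
  haveI tDD' : IsScalarTower D D' D'' := .of_algebraMap_eq fun _ => rfl
  let algRD'' : Algebra R D'' := inferInstance
  haveI tRR''D : IsScalarTower R R'' D'' := inferInstance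
  haveI tR'D'D'' : IsScalarTower R' D' D'' := .of_algebraMap_eq fun r => by
    rw [IsScalarTower.algebraMap_apply D' T D'', show algebraMap D' T (algebraMap R' D' r) = algebraMap R' T r from
      (Algebra.TensorProduct.includeRight : D' →ₐ[R'] T).commutes r,
      IsScalarTower.algebraMap_apply R' R'' T, ← IsScalarTower.algebraMap_apply R'' T D'',
      ← IsScalarTower.algebraMap_apply R' R'' D'']
  haveI tRDD'' : IsScalarTower R D D'' := .of_algebraMap_eq fun r => by
    show algebraMap R D'' r = algebraMap D' D'' (algebraMap D D' (algebraMap R D r))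
    rw [← IsScalarTower.algebraMap_apply R D D', IsScalarTower.algebraMap_apply R R' D',
      ← IsScalarTower.algebraMap_apply R' D' D'', IsScalarTower.algebraMap_apply R' R'' D'', IsScalarTower.algebraMap_apply R R'' D'']
    rfl
  have hopen : IsOpenImmersion (Spec.map (CommRingCat.ofHom (algebraMap T D''))) := by
    haveI : IsOpenImmersion (Spec.map (CommRingCat.ofHom (algebraMap T (R'' ⊗[R'] D1)))) :=
      IsOpenImmersion.of_isLocalization (algebraMap D' T f)
    haveI : IsOpenImmersion (Spec.map (CommRingCat.ofHom (algebraMap (R'' ⊗[R'] D1) D''))) :=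
      IsOpenImmersion.of_isLocalization hh
    rw [IsScalarTower.algebraMap_eq T (R'' ⊗[R'] D1) D'', CommRingCat.ofHom_comp, Spec.map_comp]
    infer_instance
  haveI : Algebra.Etale D' T := RingHom.etale_algebraMap.1 (RG29.etale_includeRight R' R'' D')
  haveI : Algebra.Etale T (R'' ⊗[R'] D1) := Algebra.Etale.of_isLocalizationAway (algebraMap D' T f)
  haveI : Algebra.Etale T D'' := Algebra.Etale.comp T (R'' ⊗[R'] D1) D''
  haveI : Algebra.Etale D' D'' := Algebra.Etale.comp D' T D''
  haveI hetD : Algebra.Etale D D'' := Algebra.Etale.comp D D' D''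
  have hgi'' : FlatCA.GeomIrredFibres R'' D'' := by
    haveI : FlatCA.GeomIntegralFibres R'' D'' := RG29.geomIntegralFibres_of_forall fun L _ _ => by
      letI : Algebra R' L := ((algebraMap R'' L).comp (algebraMap R' R'')).toAlgebra
      haveI : IsScalarTower R' R'' L := .of_algebraMap_eq fun _ => rfl
      refine RG29.isDomain_baseChange_away hh ?_
      let jL : R₁ →ₐ[R'] L := (IsScalarTower.toAlgHom R' R'' L).comp m₁
      have e : ∀ w, RG29.baseMap D1 jL w = RG29.baseMap D1 (IsScalarTower.toAlgHom R' R'' L) (RG29.baseMap D1 m₁ w) := fun w => by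
        induction w using TensorProduct.induction_on with
        | zero => simp
        | tmul s b => rfl
        | add u v hu hv => simp only [map_add, hu, hv]
      rw [← e hh₁]
      exact hdom L jL (((IsLocalization.Away.algebraMap_isUnit g).map (IsScalarTower.toAlgHom R' R'' L)).ne_zero)
    exact (inferInstance : GeometricallyIrreducible (Spec.map (CommRingCat.ofHom (algebraMap R'' D''))))
  have hsm'' : FlatCA.SmoothRelDim n R'' D'' := smoothRelDim_etaleNhd (R := R) (D := D) n hsm
  -- the point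
  let τy : D1 →ₐ[R'] ky := IsScalarTower.toAlgHom R' D1 ky
  let τg : R'' ⊗[R'] D1 →ₐ[R'] ky := Algebra.TensorProduct.lift jg τy fun _ _ => .all _ _
  have hτg : τg hh ≠ 0 := by
    suffices hall : ∀ w, τg (RG29.baseMap D1 m₁ w) = RG29.ptMap τy (RG29.baseMap D1 jy w) from hall hh₁ ▸ hhy
    intro w
    induction w using TensorProduct.induction_on with
    | zero => simp
    | tmul a b =>
      rw [RG29.baseMap_tmul, RG29.baseMap_tmul, RG29.ptMap_tmul, Algebra.TensorProduct.lift_tmul]
      exact congrArg (· * τy b) (hjgA a)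
    | add u v hu hv => simp only [map_add, hu, hv]
  let evD : D'' →+* ky := IsLocalization.Away.lift hh (g := τg.toRingHom) (IsUnit.mk0 _ hτg)
  have hevD : ∀ w, evD (algebraMap (R'' ⊗[R'] D1) D'' w) = τg w := IsLocalization.Away.lift_eq _ _
  have hevD' : ∀ d : D', evD (algebraMap D' D'' d) = algebraMap D1 ky (algebraMap D' D1 d) := fun d => by
    show evD (algebraMap (R'' ⊗[R'] D1) D'' (τ ((Algebra.TensorProduct.includeRight : D' →ₐ[R'] T) d))) = _
    rw [hevD]
    show τg ((1 : R'') ⊗ₜ[R'] algebraMap D' D1 d) = _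
    rw [Algebra.TensorProduct.lift_tmul, map_one, one_mul]
    rfl
  have hevR : ∀ r, evD (algebraMap R'' D'' r) = jg r := fun r => by
    rw [IsScalarTower.algebraMap_apply R'' (R'' ⊗[R'] D1) D'', hevD]
    show τg (r ⊗ₜ[R'] (1 : D1)) = _
    rw [Algebra.TensorProduct.lift_tmul, map_one, mul_one]
  let y'' : Ideal D'' := RingHom.ker evD
  haveI : y''.IsPrime := RingHom.ker_isPrime _
  haveI oyy'' : y''.LiesOver y' := ⟨by
    ext d
    show d ∈ y' ↔ evD (algebraMap D' D'' d) = 0
    rw [hevD', Ideal.algebraMap_residueField_eq_zero, ← Ideal.mem_comap, hy1c]⟩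
  haveI oy''p : y''.LiesOver p'' := ⟨by
    ext r
    show r ∈ p'' ↔ evD (algebraMap R'' D'' r) = 0
    rw [hevR]
    obtain ⟨a, m, rfl⟩ := IsLocalization.exists_mk'_eq (Submonoid.powers g) r
    rw [IsLocalization.mk'_mem_iff, ← Ideal.mem_comap, hpgc, ← hjy, ← hjgA a, ← IsLocalization.mk'_spec R'' a m, map_mul]
    refine ⟨fun h0 => (mul_eq_zero.1 h0).resolve_right fun h1 => ?_, fun h0 => by rw [h0, zero_mul]⟩
    exact ((IsLocalization.map_units R'' m).map jg).ne_zero h1⟩
  haveI oy''y : y''.LiesOver y := Ideal.LiesOver.trans y'' y' y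
  have hκy'' : Function.Bijective (Ideal.ResidueField.mapₐ y y'' (Algebra.ofId D D'') oy''y.over) := by
    refine bijective_trans y y' y'' hκD ⟨RingHom.injective _, fun v => ?_⟩
    let i1 : y''.ResidueField →+* ky := Ideal.ResidueField.lift y'' evD le_rfl fun d hd => IsUnit.mk0 _ hd
    have hi1 : ∀ d, i1 (algebraMap D'' y''.ResidueField d) = evD d := Ideal.ResidueField.lift_algebraMap _ _ _ _
    obtain ⟨u, hu⟩ := hκ1.2 (i1 v)
    refine ⟨u, i1.injective (Eq.trans ?_ hu)⟩
    refine RingHom.congr_fun (Ideal.ResidueField.ringHom_ext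
      (f := i1.comp (Ideal.ResidueField.mapₐ y' y'' (Algebra.ofId D' D'') oyy''.over).toRingHom)
      (g := (Ideal.ResidueField.mapₐ y' y1 (Algebra.ofId D' D1) oy1.over).toRingHom) (RingHom.ext fun d => ?_)) u
    show i1 (Ideal.ResidueField.mapₐ y' y'' (Algebra.ofId D' D'') _ (algebraMap D' _ d)) =
      Ideal.ResidueField.mapₐ y' y1 (Algebra.ofId D' D1) _ (algebraMap D' _ d)
    rw [AlgHom.commutes, AlgHom.commutes, IsScalarTower.algebraMap_apply D' D'' y''.ResidueField, hi1, hevD',
      ← IsScalarTower.algebraMap_apply D' D1 y1.ResidueField]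
  obtain rest := finish R S N p q C D G n ⟨⟨eN⟩, hs, hfp, hfin, hGfin, hsm, hgi, hdim⟩ z y h1 h3 h4 R'' p'' hκ D'' y'' hκy'' hsm'' hgi''
  exact ⟨R'', inferInstance, inferInstance, algRR'', tRR'', p'', inferInstance, ⟨inferInstance, op'', hκ''⟩,
    T, inferInstance, inferInstance, inferInstance, algD'T, inferInstance, inferInstance, inferInstance,
    D'', inferInstance, algTD'', algD'D'', inferInstance, algDD'', algRD'', tD'T, tR''T, tDD', tRR''D, tRDD'',
    y'', inferInstance, oyy'', oy''p, hopen, rest⟩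

end Groth.Agent.FlatMor68.EtaleLocMain
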