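import Groth.Agent.FlatMor68.FibreBasisTFAE
import Groth.Agent.FlatCrit65.Assassin.FibrewiseInj
import Mathlib

/-!
Equivalent forms of flatness at a point in terms of a basis at the generic point of its fibre, for flat
algebras with geometrically integral fibres, without a locality assumption on the base.
-/

set_option autoImplicit false
set_option linter.style.haveILetI false
set_option maxHeartbeats 800000

universe u

open TensorProduct

namespace Groth.Agent.FlatMor68.FibreBasisGlobal

open RG29

section Base

variable {R S : Type u} [CommRing R] [CommRing S] [Algebra R S] [Algebra.FinitePresentation R S] [Module.Flat R S]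

set_option maxHeartbeats 1600000 in
/-- An element nonzero in the fibres over the primes prime to a submonoid of the base is a nonzerodivisor
up to that submonoid, universally. -/
theorem exists_smul_eq_zero (hgi : FlatCA.GeomIntegralFibres R S) (T : Submonoid R) (s : S)
    (hs : ∀ (p : Ideal R) [p.IsPrime], Disjoint (p : Set R) T → s ∉ p.map (algebraMap R S))
    {r : ℕ} {Q : Type u} [AddCommGroup Q] [Module R Q] (y : (Fin r → S) ⊗[R] Q) (hy : s • y = 0) :
    ∃ t ∈ T, t • y = 0 := by
  classical
  let U : Submonoid S := Algebra.algebraMapSubmonoid S T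
  let L := LocalizedModule U (Fin r → S)
  haveI hPflat : Module.Flat R (Fin r → S) :=
    Module.Flat.of_linearEquiv (DFinsupp.linearEquivFunOnFintype (R := R) (M := fun _ : Fin r => S)).symm
  haveI : Module.Flat R L := Module.Flat.trans R (Localization U) L
  let mk : (Fin r → S) →ₗ[S] L := LocalizedModule.mkLinearMap U (Fin r → S)
  let u : L →ₗ[R] L := (LinearMap.lsmul S L s).restrictScalars R
  have hu : ∀ (X : Type u) [AddCommGroup X] [Module R X] (z : L ⊗[R] X), u.rTensor X z = s • z := by
    intro X _ _ z
    induction z using TensorProduct.induction_on with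
    | zero => simp
    | tmul a b => simp [u, TensorProduct.smul_tmul']
    | add a b ha hb => simp only [map_add, smul_add, ha, hb]
  have hfib : ∀ (p : Ideal R) [p.IsPrime], Function.Injective (u.lTensor p.ResidueField) := by
    intro p _
    rw [LinearMap.lTensor_inj_iff_rTensor_inj, injective_iff_map_eq_zero]
    intro z hz
    rw [hu] at hz
    by_cases hd : Disjoint (p : Set R) T
    · let ι := AlgebraTensorModule.rTensor R p.ResidueField mk
      obtain ⟨⟨w, c⟩, hw⟩ := IsLocalizedModule.surj U ι z
      have h1 : ι (s • w) = 0 := by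
        rw [map_smul, ← hw, Submonoid.smul_def, smul_comm, hz, smul_zero]
      obtain ⟨⟨_, t, ht, rfl⟩, htw⟩ := (IsLocalizedModule.eq_zero_iff U ι).1 h1
      have h2 : s • w = 0 := by
        have h3 : algebraMap R p.ResidueField t ≠ 0 := fun h =>
          Set.disjoint_left.1 hd (Ideal.algebraMap_residueField_eq_zero.1 h) ht
        apply (TensorProduct.comm R (Fin r → S) p.ResidueField).injective
        rw [map_zero]
        rw [Submonoid.smul_def, algebraMap_smul] at htw
        have h4 := congrArg (TensorProduct.comm R (Fin r → S) p.ResidueField) htw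
        rw [map_zero, map_smul, ← algebraMap_smul p.ResidueField t, smul_eq_zero] at h4
        exact h4.resolve_left h3
      haveI := FibreBasisTFAE.isDomain_fibre hgi p
      have hne := FibreBasisTFAE.one_tmul_ne_zero_of_notMem p s (hs p hd)
      have hw0 : w = 0 := by
        apply (TensorProduct.comm R (Fin r → S) p.ResidueField).injective
        apply (TensorProduct.piRight R R p.ResidueField (fun _ : Fin r => S)).injective
        rw [map_zero, map_zero]
        funext i
        refine (mul_eq_zero.1 (?_ : ((1 : p.ResidueField) ⊗ₜ[R] s : p.Fiber S) * _ = 0)).resolve_left hne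
        have h5 : ∀ w : (Fin r → S) ⊗[R] p.ResidueField,
            ((1 : p.ResidueField) ⊗ₜ[R] s : p.Fiber S) *
              TensorProduct.piRight R R p.ResidueField (fun _ : Fin r => S) (TensorProduct.comm R _ _ w) i =
            TensorProduct.piRight R R p.ResidueField (fun _ : Fin r => S) (TensorProduct.comm R _ _ (s • w)) i := by
          intro w
          induction w using TensorProduct.induction_on with
          | zero => simp
          | tmul a b => simp [TensorProduct.smul_tmul', Algebra.TensorProduct.tmul_mul_tmul]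
          | add a b ha hb => simp only [smul_add, map_add, Pi.add_apply, mul_add, ha, hb]
        rw [h5, h2, map_zero, map_zero]
        rfl
      refine IsLocalizedModule.smul_injective ι c ?_
      show c • z = c • (0 : L ⊗[R] p.ResidueField)
      simp only at hw
      rw [hw, hw0, map_zero, smul_zero]
    · obtain ⟨t, htp, htT⟩ := Set.not_disjoint_iff.1 hd
      have hc : algebraMap R S t ∈ U := ⟨t, htT, rfl⟩
      let ι := AlgebraTensorModule.rTensor R p.ResidueField mk
      refine IsLocalizedModule.smul_injective ι ⟨_, hc⟩ ?_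
      show (⟨algebraMap R S t, hc⟩ : U) • z = (⟨algebraMap R S t, hc⟩ : U) • (0 : L ⊗[R] p.ResidueField)
      rw [smul_zero, Submonoid.smul_def, algebraMap_smul]
      show t • z = 0
      have h6 : algebraMap R p.ResidueField t = 0 := Ideal.algebraMap_residueField_eq_zero.2 htp
      apply (TensorProduct.comm R L p.ResidueField).injective
      rw [map_smul, map_zero, ← algebraMap_smul p.ResidueField t, h6, zero_smul]
  have hui := FlatCrit65.univInj_of_fibres (A := R) (B := S) (M := Fin r → S) U u hfib Q
  let ι := AlgebraTensorModule.rTensor R Q mk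
  have h0 : ι y = 0 := hui (by rw [map_zero, hu, ← map_smul, hy, map_zero])
  obtain ⟨⟨_, t, ht, rfl⟩, hty⟩ := (IsLocalizedModule.eq_zero_iff U ι).1 h0
  rw [Submonoid.smul_def, algebraMap_smul] at hty
  exact ⟨t, ht, hty⟩

end Base

section Mod

variable {R S : Type u} [CommRing R] [CommRing S] [Algebra R S]
  {M N : Type u} [AddCommGroup M] [Module S M] [Module R M] [IsScalarTower R S M]
  [AddCommGroup N] [Module S N] [Module R N] [IsScalarTower R S N]

theorem localized_rTensor_apply (U : Submonoid S) (α : M →ₗ[S] N) (X : Type u) [AddCommGroup X] [Module R X]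
    (y : M ⊗[R] X) :
    ((LocalizedModule.map U α).restrictScalars R).rTensor X
        (AlgebraTensorModule.rTensor R X (LocalizedModule.mkLinearMap U M) y) =
      AlgebraTensorModule.rTensor R X (LocalizedModule.mkLinearMap U N) ((α.restrictScalars R).rTensor X y) := by
  induction y using TensorProduct.induction_on with
  | zero => simp
  | tmul a b => simp [LocalizedModule.mkLinearMap_apply, LocalizedModule.map_mk]
  | add a b ha hb => simp only [map_add, ha, hb]

/-- Universal injectivity of a localized map in terms of elements. -/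
theorem univInj_map_iff (U : Submonoid S) (α : M →ₗ[S] N) :
    FlatCA.UnivInj R ((LocalizedModule.map U α).restrictScalars R) ↔
      ∀ (X : Type u) [AddCommGroup X] [Module R X] (y : M ⊗[R] X),
        (α.restrictScalars R).rTensor X y = 0 → ∃ c ∈ U, c • y = 0 := by
  constructor
  · intro h X _ _ y hy
    have h1 : AlgebraTensorModule.rTensor R X (LocalizedModule.mkLinearMap U M) y = 0 := by
      refine ((LinearMap.lTensor_inj_iff_rTensor_inj X _).1 (h X)) ?_
      rw [localized_rTensor_apply, hy, map_zero, map_zero]
    obtain ⟨⟨c, hc⟩, hcy⟩ := (IsLocalizedModule.eq_zero_iff U _).1 h1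
    exact ⟨c, hc, hcy⟩
  · intro h X _ _
    rw [LinearMap.lTensor_inj_iff_rTensor_inj, injective_iff_map_eq_zero]
    intro z hz
    let ιM := AlgebraTensorModule.rTensor R X (LocalizedModule.mkLinearMap U M)
    let ιN := AlgebraTensorModule.rTensor R X (LocalizedModule.mkLinearMap U N)
    obtain ⟨⟨y, c⟩, hy⟩ := IsLocalizedModule.surj U ιM z
    have h1 : ιN ((α.restrictScalars R).rTensor X y) = 0 := by
      rw [← localized_rTensor_apply]
      show ((LocalizedModule.map U α).restrictScalars R).rTensor X (ιM y) = 0
      rw [← hy, Submonoid.smul_def]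
      have hS : ∀ w, ((LocalizedModule.map U α).restrictScalars R).rTensor X ((c : S) • w) =
          (c : S) • ((LocalizedModule.map U α).restrictScalars R).rTensor X w := fun w => by
        induction w using TensorProduct.induction_on with
        | zero => simp
        | tmul a b => simp [TensorProduct.smul_tmul']
        | add a b ha hb => simp only [smul_add, map_add, ha, hb]
      rw [hS, hz, smul_zero]
    obtain ⟨⟨c', hc'⟩, hc'y⟩ := (IsLocalizedModule.eq_zero_iff U ιN).1 h1
    obtain ⟨d, hd, hdy⟩ := h X (c' • y) (by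
      rw [show (α.restrictScalars R).rTensor X (c' • y) = c' • (α.restrictScalars R).rTensor X y from
        map_smul (AlgebraTensorModule.rTensor R X α) c' y]
      exact hc'y)
    have h2 : ιM y = 0 := (IsLocalizedModule.eq_zero_iff U ιM).2
      ⟨⟨d * c', U.mul_mem hd hc'⟩, by rw [Submonoid.smul_def, mul_smul]; exact hdy⟩
    refine IsLocalizedModule.smul_injective ιM c ?_
    show c • z = c • (0 : LocalizedModule U M ⊗[R] X)
    simp only at hy
    rw [hy, h2, smul_zero]

theorem injective_of_univInj (f : M →ₗ[R] N) (h : FlatCA.UnivInj R f) : Function.Injective f := fun a b hab => by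
  have h1 : f.lTensor R ((1 : R) ⊗ₜ a) = f.lTensor R ((1 : R) ⊗ₜ b) := by simp [hab]
  simpa using congrArg (TensorProduct.lid R M) (h R h1)

/-- Injectivity of a localized map in terms of elements. -/
theorem injective_map_iff (U : Submonoid S) (α : M →ₗ[S] N) :
    Function.Injective (LocalizedModule.map U α) ↔ ∀ v, α v = 0 → ∃ c ∈ U, c • v = 0 := by
  constructor
  · intro h v hv
    have h1 : LocalizedModule.mkLinearMap U M v = 0 := h (by
      rw [map_zero, LocalizedModule.mkLinearMap_apply, LocalizedModule.map_mk, hv]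
      exact LocalizedModule.zero_mk 1)
    obtain ⟨⟨c, hc⟩, hcv⟩ := (IsLocalizedModule.eq_zero_iff U _).1 h1
    exact ⟨c, hc, hcv⟩
  · intro h
    refine (injective_iff_map_eq_zero _).2 fun z hz => ?_
    induction z using LocalizedModule.induction_on with
    | _ v s =>
      rw [LocalizedModule.map_mk] at hz
      obtain ⟨c, hc⟩ := LocalizedModule.mk_eq.1 (hz.trans (LocalizedModule.zero_mk 1).symm)
      simp only [smul_zero, one_smul] at hc
      rw [Submonoid.smul_def, ← map_smul] at hc
      obtain ⟨d, hd, hdv⟩ := h _ hc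
      refine (LocalizedModule.mk_eq.2 ⟨⟨d, hd⟩ * c, ?_⟩).trans (LocalizedModule.zero_mk 1)
      simp only [smul_zero, one_smul]
      rw [Submonoid.smul_def, Submonoid.coe_mul, mul_smul]
      exact hdv

/-- Flatness at a prime is unchanged by localizing at elements outside the prime. -/
theorem flatAt_localized_iff (q : Ideal S) [q.IsPrime] (U : Submonoid S) (hU : ∀ c ∈ U, c ∉ q) :
    FlatCA.FlatAt R q (LocalizedModule U M) ↔ FlatCA.FlatAt R q M := by
  unfold FlatCA.FlatAt
  rw [FlatCrit65.flat_localized_iff_kernels, FlatCrit65.flat_localized_iff_kernels]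
  have nat : ∀ (I : Ideal R) (y : M ⊗[R] I),
      I.subtype.lTensor (LocalizedModule U M) (AlgebraTensorModule.rTensor R I (LocalizedModule.mkLinearMap U M) y) =
        AlgebraTensorModule.rTensor R R (LocalizedModule.mkLinearMap U M) (I.subtype.lTensor M y) := fun I y => by
    induction y using TensorProduct.induction_on with
    | zero => simp
    | tmul a b => simp
    | add a b ha hb => simp only [map_add, ha, hb]
  have hS : ∀ {G : Type u} [AddCommGroup G] [Module S G] [Module R G] [IsScalarTower R S G] (I : Ideal R) (c : S)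
      (w : G ⊗[R] I), I.subtype.lTensor G (c • w) = c • I.subtype.lTensor G w := fun I c w => by
    induction w using TensorProduct.induction_on with
    | zero => simp
    | tmul a b => simp [TensorProduct.smul_tmul']
    | add a b ha hb => simp only [smul_add, map_add, ha, hb]
  constructor
  · intro h I x hx
    obtain ⟨s, hs, hsx⟩ := h I (AlgebraTensorModule.rTensor R I (LocalizedModule.mkLinearMap U M) x)
      (by rw [nat, hx, map_zero])
    rw [← map_smul] at hsx
    obtain ⟨⟨c, hc⟩, hcx⟩ := (IsLocalizedModule.eq_zero_iff U _).1 hsx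
    exact ⟨c * s, fun h' => (‹q.IsPrime›.mem_or_mem h').elim (hU c hc) hs, by rw [mul_smul]; exact hcx⟩
  · intro h I x hx
    let ι := AlgebraTensorModule.rTensor R I (LocalizedModule.mkLinearMap U M)
    obtain ⟨⟨y, c⟩, hy⟩ := IsLocalizedModule.surj U ι x
    have h1 : AlgebraTensorModule.rTensor R R (LocalizedModule.mkLinearMap U M) (I.subtype.lTensor M y) = 0 := by
      rw [← nat]
      show I.subtype.lTensor _ (ι y) = 0
      rw [← hy, Submonoid.smul_def, hS, hx, smul_zero]
    obtain ⟨⟨c', hc'⟩, hc'y⟩ := (IsLocalizedModule.eq_zero_iff U _).1 h1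
    obtain ⟨s, hs, hsy⟩ := h I (c' • y) (by rw [hS]; exact hc'y)
    refine ⟨s * c' * c, fun h' => (‹q.IsPrime›.mem_or_mem h').elim
      (fun h'' => (‹q.IsPrime›.mem_or_mem h'').elim hs (hU c' hc')) (hU c c.2), ?_⟩
    have hy' : (c : S) • x = ι y := hy
    rw [mul_smul, hy', mul_smul, ← map_smul, ← map_smul, hsy, map_zero]

end Mod

section Main

variable {R S : Type u} [CommRing R] [CommRing S] [Algebra R S] [Algebra.FinitePresentation R S]
  {N : Type u} [AddCommGroup N] [Module S N] [Module R N] [IsScalarTower R S N]

/-- A map that is bijective at a prime has a back map up to an element outside the prime. -/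
theorem exists_back_map [Module.FinitePresentation S N] (w : Ideal S) [w.IsPrime] {r : ℕ}
    (α : (Fin r → S) →ₗ[S] N) (hb : Function.Bijective (LocalizedModule.map w.primeCompl α)) :
    ∃ (h : S) (β : N →ₗ[S] (Fin r → S)), h ∉ w ∧ β.comp α = h • LinearMap.id := by
  classical
  let e := (LinearEquiv.ofBijective _ hb).symm
  let g : N →ₗ[S] LocalizedModule w.primeCompl (Fin r → S) :=
    (e.toLinearMap.restrictScalars S).comp (LocalizedModule.mkLinearMap w.primeCompl N)
  obtain ⟨β, s, hs⟩ := Module.FinitePresentation.exists_lift_of_isLocalizedModule w.primeCompl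
    (LocalizedModule.mkLinearMap w.primeCompl (Fin r → S)) g
  have h1 : ∀ v, LocalizedModule.mkLinearMap w.primeCompl (Fin r → S) (β (α v) - (s : S) • v) = 0 := fun v => by
    have h2 := LinearMap.congr_fun hs (α v)
    rw [LinearMap.comp_apply, LinearMap.smul_apply] at h2
    have h3 : g (α v) = LocalizedModule.mkLinearMap w.primeCompl (Fin r → S) v := by
      show e (LocalizedModule.mkLinearMap w.primeCompl N (α v)) = _
      rw [LinearEquiv.symm_apply_eq]
      simp [LocalizedModule.mkLinearMap_apply, LocalizedModule.map_mk]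
    rw [map_sub, map_smul, h2, h3, Submonoid.smul_def, sub_self]
  choose c hc using fun i => (IsLocalizedModule.eq_zero_iff w.primeCompl _).1 (h1 (Pi.basisFun S (Fin r) i))
  refine ⟨((∏ i, c i : w.primeCompl) : S) * s, ((∏ i, c i : w.primeCompl) : S) • β,
    fun h' => (‹w.IsPrime›.mem_or_mem h').elim (∏ i, c i).2 s.2, ?_⟩
  refine (Pi.basisFun S (Fin r)).ext fun i => ?_
  have h4 : ((∏ i, c i : w.primeCompl) : S) • (β (α (Pi.basisFun S (Fin r) i)) - (s : S) • Pi.basisFun S (Fin r) i) = 0 := by
    rw [← Finset.prod_erase_mul _ _ (Finset.mem_univ i), Submonoid.coe_mul, mul_smul,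
      show ((c i : w.primeCompl) : S) • _ = (0 : Fin r → S) from hc i, smul_zero]
  rw [smul_sub, sub_eq_zero, smul_smul] at h4
  simpa using h4

theorem bijective_localized_of_flatAt [Module.FinitePresentation S N] (rr : Ideal R) (w : Ideal S) [w.IsPrime]
    (hw : w = rr.map (algebraMap R S)) (hflat : FlatCA.FlatAt R w N) {r : ℕ} (α : (Fin r → S) →ₗ[S] N)
    (hb : Function.Bijective (α.baseChange w.ResidueField)) :
    Function.Injective (LocalizedModule.map w.primeCompl α) := by
  classical
  obtain ⟨β, hβ, hcomp⟩ := exists_bijective_localized rr w hw hflat α hb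
  refine (injective_iff_map_eq_zero _).2 fun z hz => ?_
  induction z using LocalizedModule.induction_on with
  | _ v s =>
    rw [LocalizedModule.map_mk] at hz
    obtain ⟨c, hc⟩ := LocalizedModule.mk_eq.1 (hz.trans (LocalizedModule.zero_mk 1).symm)
    simp only [smul_zero, one_smul] at hc
    rw [Submonoid.smul_def, ← map_smul] at hc
    have h1 := hcomp ((c : S) • v)
    rw [hc, map_zero] at h1
    have h2 := hβ.1 (h1.trans β.map_zero.symm)
    choose d hd using fun i => (IsLocalization.map_eq_zero_iff w.primeCompl (Localization.AtPrime w) _).1 (congrFun h2 i)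
    refine (LocalizedModule.mk_eq.2 ⟨(∏ i, d i) * c, ?_⟩).trans (LocalizedModule.zero_mk 1)
    simp only [smul_zero, one_smul]
    funext i
    rw [Submonoid.smul_def, Submonoid.coe_mul, Pi.smul_apply, smul_eq_mul, Pi.zero_apply, mul_assoc,
      ← Finset.prod_erase_mul _ _ (Finset.mem_univ i), Submonoid.coe_mul, mul_assoc]
    have := hd i
    simp only [Pi.smul_apply, smul_eq_mul] at this
    rw [this, mul_zero]

theorem surjective_localized (w : Ideal S) [w.IsPrime] [Module.Finite S N] {r : ℕ}
    (α : (Fin r → S) →ₗ[S] N) (hb : Function.Bijective (α.baseChange w.ResidueField)) :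
    Function.Surjective (LocalizedModule.map w.primeCompl α) := fun z => by
  induction z using LocalizedModule.induction_on with
  | _ g s =>
    have hns := notMem_support_coker w α hb
    rw [Module.notMem_support_iff'] at hns
    obtain ⟨a, ha, hag⟩ := hns (Submodule.Quotient.mk g)
    rw [← Submodule.Quotient.mk_smul, Submodule.Quotient.mk_eq_zero] at hag
    obtain ⟨v, hv⟩ := hag
    refine ⟨LocalizedModule.mk v (⟨a, ha⟩ * s), ?_⟩
    rw [LocalizedModule.map_mk, hv, LocalizedModule.mk_eq]
    exact ⟨1, by simp [Submonoid.smul_def, smul_smul, mul_comm]⟩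

variable [Module.Flat R S]

/-- The image of a basic open set is a neighbourhood. -/
theorem exists_notMem_forall_notMem_map (rr : Ideal R) [rr.IsPrime] (w : Ideal S) [w.IsPrime]
    (hw : w.comap (algebraMap R S) = rr) (h : S) (hh : h ∉ w) :
    ∃ f : R, f ∉ rr ∧ ∀ (p : Ideal R) [p.IsPrime], f ∉ p → h ∉ p.map (algebraMap R S) := by
  have hopen := PrimeSpectrum.isOpenMap_comap_of_hasGoingDown_of_finitePresentation (R := R) (S := S) _
    (PrimeSpectrum.isOpen_basicOpen (a := h))
  have hmem : (⟨rr, ‹_›⟩ : PrimeSpectrum R) ∈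
      PrimeSpectrum.comap (algebraMap R S) '' (PrimeSpectrum.basicOpen h : Set (PrimeSpectrum S)) :=
    ⟨⟨w, ‹_›⟩, hh, PrimeSpectrum.ext hw⟩
  obtain ⟨_, ⟨f, rfl⟩, hf, hsub⟩ :=
    PrimeSpectrum.isTopologicalBasis_basic_opens.exists_subset_of_mem_open hmem hopen
  refine ⟨f, hf, fun p _ hfp hhp => ?_⟩
  obtain ⟨P, hP, hPp⟩ := hsub (show (⟨p, ‹_›⟩ : PrimeSpectrum R) ∈ PrimeSpectrum.basicOpen f from hfp)
  refine hP (Ideal.map_le_iff_le_comap.2 (le_of_eq ?_) hhp)
  exact (congrArg PrimeSpectrum.asIdeal hPp).symm

/-- The equivalences. -/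
theorem tfae (hgi : FlatCA.GeomIntegralFibres R S) (rr : Ideal R) [rr.IsPrime]
    (w : Ideal S) [w.IsPrime] (hw : w = rr.map (algebraMap R S))
    (q : Ideal S) [q.IsPrime] [q.LiesOver rr] [Module.FinitePresentation S N]
    (r : ℕ) (α : (Fin r → S) →ₗ[S] N) (hb : Function.Bijective (α.baseChange w.ResidueField)) :
    [FlatCA.FlatAt R q N,
     (∃ f : R, f ∉ rr ∧ FlatCA.UnivInj R ((LocalizedModule.map (Submonoid.powers (algebraMap R S f)) α).restrictScalars R)) ∧
       (∃ g : S, g ∉ q ∧ Module.Flat R (LocalizedModule (Submonoid.powers g) (N ⧸ LinearMap.range α))),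
     FlatCA.UnivInj R ((LocalizedModule.map (Algebra.algebraMapSubmonoid S rr.primeCompl) α).restrictScalars R) ∧
       FlatCA.FlatAt R q (N ⧸ LinearMap.range α),
     Function.Injective (LocalizedModule.map (Algebra.algebraMapSubmonoid S rr.primeCompl) α) ∧
       FlatCA.FlatAt R q (N ⧸ LinearMap.range α),
     Function.Bijective (LocalizedModule.map w.primeCompl α) ∧ FlatCA.FlatAt R q (N ⧸ LinearMap.range α),
     Function.Injective (LocalizedModule.map q.primeCompl α) ∧ FlatCA.FlatAt R q (N ⧸ LinearMap.range α)].TFAE := by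
  have hq : q.comap (algebraMap R S) = rr := (Ideal.over_def q rr).symm
  have hwq : w ≤ q := hw.trans_le (Ideal.map_le_iff_le_comap.2 hq.ge)
  have hwr : w.comap (algebraMap R S) = rr :=
    le_antisymm ((Ideal.comap_mono hwq).trans hq.le) (Ideal.map_le_iff_le_comap.1 hw.ge)
  have hexact : Function.Exact α (LinearMap.range α).mkQ := LinearMap.exact_map_mkQ_range α
  tfae_have 1 → 2 := fun h => by
    have hbij : Function.Bijective (LocalizedModule.map w.primeCompl α) :=
      ⟨bijective_localized_of_flatAt rr w hw (FibreBasisTFAE.flatAt_mono hwq h) α hb, surjective_localized w α hb⟩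
    obtain ⟨b, β, hbw, hβ⟩ := exists_back_map w α hbij
    obtain ⟨f, hf, hfh⟩ := exists_notMem_forall_notMem_map rr w hwr b hbw
    have hU : ∀ c ∈ Submonoid.powers (algebraMap R S f), c ∉ q := by
      rintro _ ⟨n, rfl⟩ hc
      refine hf (hq ▸ ?_)
      exact ‹q.IsPrime›.mem_of_pow_mem n hc
    have hui : FlatCA.UnivInj R ((LocalizedModule.map (Submonoid.powers (algebraMap R S f)) α).restrictScalars R) := by
      rw [univInj_map_iff]
      intro X _ _ y hy
      have hby : b • y = 0 := by
        have h1 : ∀ z, (β.restrictScalars R).rTensor X ((α.restrictScalars R).rTensor X z) = b • z := fun z => by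
          induction z using TensorProduct.induction_on with
          | zero => simp
          | tmul a c => simp [TensorProduct.smul_tmul', show β (α a) = b • a from LinearMap.congr_fun hβ a]
          | add a c ha hc => simp only [map_add, smul_add, ha, hc]
        rw [← h1, hy, map_zero]
      obtain ⟨t, ⟨n, rfl⟩, ht⟩ := exists_smul_eq_zero hgi (Submonoid.powers f) b
        (fun p _ hd => hfh p fun hfp => Set.disjoint_left.1 hd hfp (Submonoid.mem_powers f)) y hby
      exact ⟨algebraMap R S f ^ n, ⟨n, rfl⟩, by rw [← map_pow, algebraMap_smul]; exact ht⟩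
    refine ⟨⟨f, hf, hui⟩, ?_⟩
    have hcoker : FlatCA.FlatAt R q (N ⧸ LinearMap.range α) := by
      rw [← flatAt_localized_iff q _ hU] at h ⊢
      refine flatAt_coker q h _ (fun X _ _ => (LinearMap.lTensor_inj_iff_rTensor_inj X _).1 (hui X))
        ((LocalizedModule.map (Submonoid.powers (algebraMap R S f)) (LinearMap.range α).mkQ).restrictScalars S)
        (LocalizedModule.map_surjective _ _ (Submodule.mkQ_surjective _))
        (LocalizedModule.map_exact _ α _ hexact)
    haveI : Module.FinitePresentation S (N ⧸ LinearMap.range α) :=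
      Module.finitePresentation_of_surjective _ (Submodule.mkQ_surjective _) (by
        rw [Submodule.ker_mkQ]
        exact Module.Finite.iff_fg.1 (Module.Finite.range α))
    haveI : Module.Flat R (LocalizedModule q.primeCompl (N ⧸ LinearMap.range α)) := hcoker
    obtain ⟨g, hg, hflat⟩ := FlatCrit65.exists_flat_powers (A := R) (M := N ⧸ LinearMap.range α) q.primeCompl
    exact ⟨g, hg, hflat g dvd_rfl⟩
  tfae_have 2 → 3 := fun ⟨⟨f, hf, hui⟩, g, hg, hflat⟩ => by
    refine ⟨(univInj_map_iff _ α).2 fun X _ _ y hy => ?_, ?_⟩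
    · obtain ⟨c, ⟨n, rfl⟩, hc⟩ := (univInj_map_iff _ α).1 hui X y hy
      exact ⟨_, ⟨f ^ n, fun h' => hf (‹rr.IsPrime›.mem_of_pow_mem n h'), map_pow (algebraMap R S) f n⟩, hc⟩
    · haveI := hflat
      refine (flatAt_localized_iff q (Submonoid.powers g) ?_).1 (FibreBasisTFAE.flatAt_of_flat q)
      rintro _ ⟨n, rfl⟩ hc
      exact hg (‹q.IsPrime›.mem_of_pow_mem n hc)
  tfae_have 3 → 4 := fun h => ⟨injective_of_univInj (R := R) ((LocalizedModule.map _ α).restrictScalars R) h.1, h.2⟩
  tfae_have 4 → 5 := fun h => ⟨⟨by
    refine (injective_map_iff _ α).2 fun v hv => ?_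
    obtain ⟨_, ⟨t, ht, rfl⟩, htv⟩ := (injective_map_iff _ α).1 h.1 v hv
    exact ⟨_, show algebraMap R S t ∈ w.primeCompl from fun h' => ht (hwr ▸ h'), htv⟩, surjective_localized w α hb⟩, h.2⟩
  tfae_have 5 → 6 := fun h => by
    refine ⟨(injective_map_iff _ α).2 fun v hv => ?_, h.2⟩
    obtain ⟨s, hs, hsv⟩ := (injective_map_iff _ α).1 h.1.1 v hv
    obtain ⟨t, ht, htv⟩ := exists_smul_eq_zero hgi rr.primeCompl s (fun p _ hd h' => hs (hw ▸ Ideal.map_mono
      (fun x hx => by_contra fun hxr => Set.disjoint_left.1 hd hx hxr) h')) (v ⊗ₜ[R] (1 : R))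
      (by rw [TensorProduct.smul_tmul', hsv, TensorProduct.zero_tmul])
    refine ⟨algebraMap R S t, show algebraMap R S t ∈ q.primeCompl from fun h' => ht (hq ▸ h'), ?_⟩
    rw [algebraMap_smul]
    rw [TensorProduct.smul_tmul'] at htv
    simpa using congrArg (TensorProduct.rid R (Fin r → S)) htv
  tfae_have 6 → 1 := fun h => by
    haveI : Module.Flat R (Fin r → S) :=
      Module.Flat.of_linearEquiv (DFinsupp.linearEquivFunOnFintype (R := R) (M := fun _ : Fin r => S)).symm
    haveI h1 : Module.Flat R (LocalizedModule q.primeCompl (Fin r → S)) :=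
      FibreBasisTFAE.flatAt_of_flat (R := R) (N := Fin r → S) q
    haveI h2 : Module.Flat R (LocalizedModule q.primeCompl (N ⧸ LinearMap.range α)) := h.2
    exact CAlgH2.flat_middle (f := (LocalizedModule.map q.primeCompl α).restrictScalars R)
      (g := (LocalizedModule.map q.primeCompl (LinearMap.range α).mkQ).restrictScalars R) h.1
      (LocalizedModule.map_exact q.primeCompl α _ hexact)
      (LocalizedModule.map_surjective q.primeCompl _ (Submodule.mkQ_surjective _))
  tfae_finish

end Main

end Groth.Agent.FlatMor68.FibreBasisGlobal
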