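import Groth.Agent.RG29.StepFlat
import Groth.Agent.RG29.GeomIntProj
import Groth.Prelude.Def_FlatCA
import Mathlib

/-!
Equivalent forms of flatness at a point of the closed fibre in terms of a basis at the generic point
of the fibre, for flat algebras with geometrically integral fibres.
-/

set_option autoImplicit false
set_option linter.style.haveILetI false
set_option maxHeartbeats 400000

universe u

open TensorProduct

namespace Groth.Agent.FlatMor68.FibreBasisTFAE

open RG29

section Base

variable {R D : Type u} [CommRing R] [CommRing D] [Algebra R D] [Module.Flat R D]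

omit [Module.Flat R D] in
theorem isDomain_fibre (hgi : FlatCA.GeomIntegralFibres R D) (p : Ideal R) [p.IsPrime] :
    IsDomain (p.ResidueField ⊗[R] D) := isDomain_field_tensor hgi

/-- An element outside a fibre ideal is nonzero in that fibre. -/
theorem one_tmul_ne_zero_of_notMem (p : Ideal R) [p.IsPrime] (s : D)
    (hs : s ∉ p.map (algebraMap R D)) : ((1 : p.ResidueField) ⊗ₜ[R] s : p.Fiber D) ≠ 0 := by
  intro hd'
  have hinj : Function.Injective (LinearMap.rTensor D (Algebra.linearMap (R ⧸ p) p.ResidueField |>.restrictScalars R)) :=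
    Module.Flat.rTensor_preserves_injective_linearMap _ (IsFractionRing.injective (R ⧸ p) p.ResidueField)
  have h1 : (Ideal.Quotient.mk p 1) ⊗ₜ[R] s = (0 : (R ⧸ p) ⊗[R] D) := hinj (by
    rw [LinearMap.rTensor_tmul, map_zero]
    show algebraMap (R ⧸ p) p.ResidueField 1 ⊗ₜ[R] s = 0
    rwa [map_one])
  have h2 := congrArg (TensorProduct.quotTensorEquivQuotSMul D p) h1
  rw [map_zero, TensorProduct.quotTensorEquivQuotSMul_mk_tmul, one_smul, Submodule.Quotient.mk_eq_zero,
    Ideal.smul_top_eq_map] at h2
  exact hs h2

variable [Algebra.FinitePresentation R D]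

theorem univInj_mulLeft (hgi : FlatCA.GeomIntegralFibres R D) (s : D)
    (hs : ∀ (p : Ideal R) [p.IsPrime], s ∉ p.map (algebraMap R D))
    (X : Type u) [AddCommGroup X] [Module R X] : Function.Injective ((LinearMap.mulLeft R s).rTensor X) := by
  refine univInj_of_fibres_fp (B := D) (M := D) (LinearMap.mulLeft R s) (fun p _ => ?_) X
  haveI := isDomain_fibre hgi p
  have hm : ∀ w : p.Fiber D, (LinearMap.mulLeft R s).lTensor p.ResidueField w =
      ((1 : p.ResidueField) ⊗ₜ[R] s : p.Fiber D) * w := fun w => by
    induction w using TensorProduct.induction_on with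
    | zero => simp
    | tmul a d => simp [Algebra.TensorProduct.tmul_mul_tmul]
    | add a b ha hb => simp only [map_add, mul_add, ha, hb]
  intro a b hab
  rw [hm, hm] at hab
  exact mul_left_cancel₀ (one_tmul_ne_zero_of_notMem p s (hs p)) hab

variable [IsLocalRing R]

theorem univInj_localization (hgi : FlatCA.GeomIntegralFibres R D) (w : Ideal D) [w.IsPrime]
    (hw : w = (IsLocalRing.maximalIdeal R).map (algebraMap R D))
    (X : Type u) [AddCommGroup X] [Module R X] :
    Function.Injective (((Algebra.linearMap D (Localization.AtPrime w)).restrictScalars R).rTensor X) := by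
  refine (injective_iff_map_eq_zero _).2 fun x hx => ?_
  obtain ⟨t, ht⟩ := (IsLocalizedModule.eq_zero_iff w.primeCompl
    (AlgebraTensorModule.rTensor R X (Algebra.linearMap D (Localization.AtPrime w)))).1 hx
  have hmul : ∀ a : D ⊗[R] X, (LinearMap.mulLeft R (t : D)).rTensor X a = (t : D) • a := fun a => by
    induction a using TensorProduct.induction_on with
    | zero => simp
    | tmul d c => simp [TensorProduct.smul_tmul']
    | add a b ha hb => simp only [map_add, smul_add, ha, hb]
  refine (univInj_mulLeft hgi (t : D) (fun p _ h => t.2 (hw.ge (Ideal.map_mono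
    (IsLocalRing.le_maximalIdeal ‹p.IsPrime›.ne_top) h))) X) ?_
  rw [hmul, map_zero]
  exact ht

theorem univInj_of_flatAt (hgi : FlatCA.GeomIntegralFibres R D) {G : Type u} [AddCommGroup G] [Module D G]
    [Module R G] [IsScalarTower R D G] [Module.Finite D G] (w : Ideal D) [w.IsPrime]
    (hw : w = (IsLocalRing.maximalIdeal R).map (algebraMap R D)) (hflat : FlatCA.FlatAt R w G)
    {r : ℕ} (α : (Fin r → D) →ₗ[D] G) (hb : Function.Bijective (α.baseChange w.ResidueField)) :
    CAlgX.UniversallyInjective R (α.restrictScalars R) := by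
  obtain ⟨β, hβ, hcomp⟩ := exists_bijective_localized _ w hw hflat α hb
  let mkG : G →ₗ[D] LocalizedModule w.primeCompl G := LocalizedModule.mkLinearMap w.primeCompl G
  intro X _ _
  refine Function.Injective.of_comp (f := (mkG.restrictScalars R).rTensor X) ?_
  let ι := ((Algebra.linearMap D (Localization.AtPrime w)).restrictScalars R).compLeft (Fin r)
  let e : (Fin r → Localization.AtPrime w) ≃ₗ[R] LocalizedModule w.primeCompl G :=
    (LinearEquiv.ofBijective β hβ).restrictScalars R
  rw [← LinearMap.coe_comp, ← LinearMap.rTensor_comp,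
    show (mkG.restrictScalars R).comp (α.restrictScalars R) = e.toLinearMap.comp ι from
      LinearMap.ext fun v => (hcomp v).symm,
    LinearMap.rTensor_comp, LinearMap.coe_comp]
  exact (LinearEquiv.rTensor X e).injective.comp
    (univInj_compLeft _ (fun X _ _ => univInj_localization hgi w hw X) r X)

end Base

section Mod

variable {R S : Type u} [CommRing R] [CommRing S] [Algebra R S] {N : Type u} [AddCommGroup N] [Module S N]
  [Module R N] [IsScalarTower R S N]

theorem flatAt_of_flat (q : Ideal S) [q.IsPrime] [Module.Flat R N] : FlatCA.FlatAt R q N := by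
  unfold FlatCA.FlatAt
  rw [FlatCrit65.flat_localized_iff_kernels]
  intro I x hx
  exact ⟨1, fun h => Ideal.IsPrime.ne_top ‹_› ((Ideal.eq_top_iff_one q).2 h),
    (Module.Flat.lTensor_preserves_injective_linearMap I.subtype I.subtype_injective (by rw [hx, map_zero]) :
      x = 0).symm ▸ smul_zero _⟩

theorem flatAt_mono {p q : Ideal S} [p.IsPrime] [q.IsPrime] (hpq : p ≤ q) (h : FlatCA.FlatAt R q N) :
    FlatCA.FlatAt R p N := by
  unfold FlatCA.FlatAt at *
  rw [FlatCrit65.flat_localized_iff_kernels] at h ⊢
  intro I x hx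
  obtain ⟨s, hs, hsx⟩ := h I x hx
  exact ⟨s, fun h' => hs (hpq h'), hsx⟩

theorem exists_basis_map (w : Ideal S) [w.IsPrime] [Module.Finite S N] :
    ∃ (r : ℕ) (α : (Fin r → S) →ₗ[S] N), Function.Bijective (α.baseChange w.ResidueField) := by
  classical
  let K := w.ResidueField
  let j : N → K ⊗[S] N := fun n => (1 : K) ⊗ₜ n
  have hspan : Submodule.span K (Set.range j) = ⊤ := by
    rw [eq_top_iff]
    intro x _
    induction x using TensorProduct.induction_on with
    | zero => exact zero_mem _
    | add a b ha hb => exact add_mem (ha trivial) (hb trivial)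
    | tmul a n =>
      rw [← mul_one a, ← smul_eq_mul, ← TensorProduct.smul_tmul']
      exact Submodule.smul_mem _ a (Submodule.subset_span ⟨n, rfl⟩)
  obtain ⟨b, hbsub, hbspan, hbli⟩ := exists_linearIndependent K (Set.range j)
  rw [hspan] at hbspan
  let bas : Module.Basis b K (K ⊗[S] N) := Module.Basis.mk hbli (by rw [Subtype.range_coe, hbspan])
  have : Finite b := Module.Finite.finite_basis bas
  obtain ⟨r, ⟨e⟩⟩ := Finite.exists_equiv_fin b
  choose n hn using fun i : Fin r => hbsub (e.symm i).2
  let α : (Fin r → S) →ₗ[S] N := (Pi.basisFun S (Fin r)).constr S n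
  refine ⟨r, α, ?_⟩
  let bK := Algebra.TensorProduct.basis K (Pi.basisFun S (Fin r))
  let E : K ⊗[S] (Fin r → S) ≃ₗ[K] K ⊗[S] N := bK.equiv (bas.reindex e) (Equiv.refl _)
  have hE : α.baseChange K = E.toLinearMap := bK.ext fun i => by
    rw [Algebra.TensorProduct.basis_apply, LinearMap.baseChange_tmul, Module.Basis.constr_basis]
    have h1 : E (bK i) = (bas.reindex e) i := Module.Basis.equiv_apply _ _ _ _
    rw [LinearEquiv.coe_coe, ← Algebra.TensorProduct.basis_apply, h1, Module.Basis.reindex_apply,
      Module.Basis.mk_apply]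
    exact hn i
  rw [hE]
  exact E.bijective

end Mod

/-- The equivalences. -/
theorem tfae {R S : Type u} [CommRing R] [IsLocalRing R] [CommRing S] [Algebra R S]
    [Algebra.FinitePresentation R S] [Module.Flat R S] (hgi : FlatCA.GeomIntegralFibres R S)
    (w : Ideal S) [w.IsPrime] (hw : w = (IsLocalRing.maximalIdeal R).map (algebraMap R S))
    (q : Ideal S) [q.IsPrime] (hwq : w ≤ q)
    (N : Type u) [AddCommGroup N] [Module S N] [Module R N] [IsScalarTower R S N] [Module.Finite S N]
    (r : ℕ) (α : (Fin r → S) →ₗ[S] N) (hb : Function.Bijective (α.baseChange w.ResidueField)) :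
    [FlatCA.FlatAt R q N,
     FlatCA.UnivInj R (α.restrictScalars R) ∧ FlatCA.FlatAt R q (N ⧸ LinearMap.range α),
     Function.Injective α ∧ FlatCA.FlatAt R q (N ⧸ LinearMap.range α),
     Function.Bijective (LocalizedModule.map w.primeCompl α) ∧ FlatCA.FlatAt R q (N ⧸ LinearMap.range α),
     Function.Injective (LocalizedModule.map q.primeCompl α) ∧ FlatCA.FlatAt R q (N ⧸ LinearMap.range α)].TFAE := by
  have hexact : Function.Exact α (LinearMap.range α).mkQ := LinearMap.exact_map_mkQ_range α
  tfae_have 1 → 2 := fun h => by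
    have hu := univInj_of_flatAt hgi w hw (flatAt_mono hwq h) α hb
    refine ⟨fun Q _ _ => ?_, flatAt_coker q h (α.restrictScalars R) hu (LinearMap.range α).mkQ
      (Submodule.mkQ_surjective _) hexact⟩
    have h1 : (α.restrictScalars R).lTensor Q =
        (TensorProduct.comm R N Q).toLinearMap.comp (((α.restrictScalars R).rTensor Q).comp
          (TensorProduct.comm R Q (Fin r → S)).toLinearMap) := TensorProduct.ext' fun a b => by simp
    rw [h1]
    exact (TensorProduct.comm R N Q).injective.comp ((hu Q).comp (TensorProduct.comm R Q (Fin r → S)).injective)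
  tfae_have 2 → 3 := fun h => ⟨fun a b hab => by
      have h1 : (α.restrictScalars R).lTensor R ((1 : R) ⊗ₜ a) = (α.restrictScalars R).lTensor R ((1 : R) ⊗ₜ b) := by
        simp [hab]
      simpa using congrArg (TensorProduct.lid R (Fin r → S)) (h.1 R h1), h.2⟩
  tfae_have 3 → 4 := fun h => ⟨⟨LocalizedModule.map_injective w.primeCompl α h.1, fun z => by
      induction z using LocalizedModule.induction_on with
      | _ g s =>
        have hns := notMem_support_coker w α hb
        rw [Module.notMem_support_iff'] at hns
        obtain ⟨a, ha, hag⟩ := hns (Submodule.Quotient.mk g)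
        rw [← Submodule.Quotient.mk_smul, Submodule.Quotient.mk_eq_zero] at hag
        obtain ⟨v, hv⟩ := hag
        refine ⟨LocalizedModule.mk v (⟨a, ha⟩ * s), ?_⟩
        rw [LocalizedModule.map_mk, hv, LocalizedModule.mk_eq]
        exact ⟨1, by simp [Submonoid.smul_def, smul_smul, mul_comm]⟩⟩, h.2⟩
  tfae_have 4 → 5 := fun h => by
    refine ⟨LocalizedModule.map_injective q.primeCompl α ((injective_iff_map_eq_zero α).2 fun v hv => ?_), h.2⟩
    have h1 : LocalizedModule.mkLinearMap w.primeCompl (Fin r → S) v = 0 := h.1.1 (by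
      rw [map_zero, LocalizedModule.mkLinearMap_apply, LocalizedModule.map_mk, hv]
      exact LocalizedModule.zero_mk 1)
    obtain ⟨t, ht⟩ := (IsLocalizedModule.eq_zero_iff w.primeCompl _).1 h1
    funext i
    have hinj := univInj_mulLeft hgi (t : S) (fun p _ h' => t.2 (hw.ge (Ideal.map_mono
      (IsLocalRing.le_maximalIdeal ‹p.IsPrime›.ne_top) h'))) R
    have h2 : (t : S) * v i = 0 := congrFun ht i
    have h3 : (v i) ⊗ₜ[R] (1 : R) = 0 := hinj (by
      rw [LinearMap.rTensor_tmul, map_zero, LinearMap.mulLeft_apply, h2, TensorProduct.zero_tmul])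
    simpa using congrArg (TensorProduct.rid R S) h3
  tfae_have 5 → 1 := fun h => by
    haveI : Module.Flat R (Fin r → S) :=
      Module.Flat.of_linearEquiv (DFinsupp.linearEquivFunOnFintype (R := R) (M := fun _ : Fin r => S)).symm
    haveI h1 : Module.Flat R (LocalizedModule q.primeCompl (Fin r → S)) :=
      flatAt_of_flat (R := R) (N := Fin r → S) q
    haveI h2 : Module.Flat R (LocalizedModule q.primeCompl (N ⧸ LinearMap.range α)) := h.2
    exact CAlgH2.flat_middle (f := (LocalizedModule.map q.primeCompl α).restrictScalars R)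
      (g := (LocalizedModule.map q.primeCompl (LinearMap.range α).mkQ).restrictScalars R) h.1
      (LocalizedModule.map_exact q.primeCompl α _ hexact)
      (LocalizedModule.map_surjective q.primeCompl _ (Submodule.mkQ_surjective _))
  tfae_finish

end Groth.Agent.FlatMor68.FibreBasisTFAE
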