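import Groth.Agent.FlatMor68.FibreGenericAlg
import Groth.Agent.E4O.FibreComp
import Groth.Agent.E4O.ChartDim

set_option backward.isDefEq.respectTransparency.types false
set_option linter.style.haveILetI false
set_option autoImplicit false
universe u

open CategoryTheory CategoryTheory.Limits AlgebraicGeometry TopologicalSpace Topology

namespace Groth.Agent.FlatMor68.FibreGeneric

open E4O (fdeg IsFibreMax Chart)

variable {X S : Scheme.{u}} (f : X ⟶ S) [Flat f] [LocallyOfFinitePresentation f]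

/-- Near any point the fibre-maximal points have at least its residue transcendence degree. -/
theorem exists_open_fdeg_ge (x : X) :
    ∃ W : X.Opens, x ∈ W ∧ ∀ w ∈ W, IsFibreMax f w → fdeg f x ≤ fdeg f w := by
  obtain ⟨_, ⟨U, hU, rfl⟩, hxU, -⟩ :=
    S.isBasis_affineOpens.exists_subset_of_mem_open (Set.mem_univ (f x)) isOpen_univ
  obtain ⟨_, ⟨V, hV, rfl⟩, hxV, hVU⟩ :=
    X.isBasis_affineOpens.exists_subset_of_mem_open (show x ∈ f ⁻¹ᵁ U from hxU) (f ⁻¹ᵁ U).2
  let A := Γ(S, U)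
  let B := Γ(X, V)
  letI : Algebra A B := (f.appLE U V hVU).hom.toAlgebra
  haveI : Algebra.FinitePresentation A B :=
    RingHom.finitePresentation_algebraMap.1 (f.finitePresentation_appLE hU hV hVU)
  haveI : Module.Flat A B := RingHom.flat_algebraMap_iff.1 (Flat.flat_appLE f hU hV hVU)
  let C : Chart f :=
    { A := A
      B := B
      e := hV.fromSpec
      j := hU.fromSpec
      comm := (IsAffineOpen.SpecMap_appLE_fromSpec f hU hV hVU).symm }
  obtain ⟨q, hq⟩ : ∃ q, C.pt q = x := by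
    have : x ∈ Set.range hV.fromSpec := by rw [hV.range_fromSpec]; exact hxV
    exact this
  have hdeg := C.trdeg_eq_fdeg q
  rw [hq] at hdeg
  haveI : FaithfulSMul (A ⧸ q.asIdeal.under A) (B ⧸ q.asIdeal) :=
    (faithfulSMul_iff_algebraMap_injective _ _).2 Ideal.algebraMap_quotient_injective
  obtain ⟨T, hT⟩ := exists_isTranscendenceBasis (A ⧸ q.asIdeal.under A) (B ⧸ q.asIdeal)
  have hcard : Cardinal.mk T = (fdeg f x : Cardinal.{u}) := hT.cardinalMk_eq_trdeg.trans hdeg
  haveI : Finite T := Cardinal.lt_aleph0_iff_finite.1 (hcard ▸ Cardinal.natCast_lt_aleph0)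
  have hn : Nat.card T = fdeg f x := by
    rw [Nat.card, hcard, Cardinal.toNat_natCast]
  let ε : Fin (fdeg f x) ≃ T := (finCongr hn.symm).trans (Finite.equivFin T).symm
  choose t ht using fun i => Ideal.Quotient.mk_surjective (ε i).1
  have hind : AlgebraicIndependent (A ⧸ q.asIdeal.under A) (fun i => Ideal.Quotient.mk q.asIdeal (t i)) := by
    rw [show (fun i => Ideal.Quotient.mk q.asIdeal (t i)) = Subtype.val ∘ ε from funext ht]
    exact hT.1.comp ε ε.injective
  obtain ⟨W, hWo, hqW, hW⟩ := FibreGenericAlg.exists_open_trdeg_ge q t hind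
  refine ⟨⟨C.pt '' W, C.isOpenEmbedding_pt.isOpenMap _ hWo⟩, ⟨q, hqW, hq⟩, ?_⟩
  rintro _ ⟨q', hq', rfl⟩ hmax
  have h1 := hW q' hq' fun q'' hle hu =>
    (C.isFibreMax_iff q').1 hmax q'' hle (PrimeSpectrum.ext hu)
  have h2 := h1.lift_cardinalMk_le_trdeg
  rw [show Algebra.trdeg (A ⧸ q'.asIdeal.under A) (B ⧸ q'.asIdeal) = _ from C.trdeg_eq_fdeg q',
    Cardinal.mk_fin, Cardinal.lift_natCast, Cardinal.lift_natCast, Nat.cast_le] at h2
  exact h2

/-- Near a maximal point of a fibre the fibre dimension is constant. -/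
theorem exists_open_fibreDimAt_eq (x : X) (hx : IsFibreMax f x) :
    ∃ W : X.Opens, x ∈ W ∧ ∀ x' ∈ W, FlatMor.fibreDimAt f x' = (fdeg f x : ℕ) := by
  obtain ⟨W, hxW, hW⟩ := exists_open_fdeg_ge f x
  obtain ⟨U, hxU, hU⟩ := E4O.exists_open_forall_fibreDimAt_le f x
  refine ⟨W ⊓ U, ⟨hxW, hxU⟩, fun x' hx' => le_antisymm ?_ ?_⟩
  · rw [← E4O.fibreDimAt_eq_fdeg (f := f) hx]
    exact hU x' hx'.2
  · obtain ⟨z, hz, -, hzmax, hd, -⟩ := E4O.exists_isFibreMax_specializes f x'
    rw [hd]
    exact_mod_cast hW z (hz.mem_open W.2 hx'.1) hzmax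

omit [Flat f] [LocallyOfFinitePresentation f] in
theorem isFibreMax_of_isGenericPoint (x : X)
    (h : ∃ Z ∈ irreducibleComponents ↥(f.fiber (f x)), IsGenericPoint (f.asFiber x) Z) :
    IsFibreMax f x := by
  obtain ⟨Z, hZ, hx⟩ := h
  rw [← f.fiberι_asFiber x, E4O.isFibreMax_fiberι_iff]
  intro z' hz'
  have h2 : Z ⊆ closure {z'} := hx.def.symm.le.trans
    (closure_minimal (Set.singleton_subset_iff.2 (specializes_iff_mem_closure.1 hz')) isClosed_closure)
  exact (hz'.antisymm (hx.specializes (hZ.2 isIrreducible_singleton.closure h2 (subset_closure rfl)))).eq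

theorem t9739 (x x' : X) (hsp : x' ⤳ x)
    (hgen : ∃ Z ∈ irreducibleComponents ↥(f.fiber (f x)), IsGenericPoint (f.asFiber x) Z) :
    FlatMor.fibreDimAt f x' = FlatMor.fibreDimAt f x := by
  obtain ⟨W, hxW, hW⟩ := exists_open_fibreDimAt_eq f x (isFibreMax_of_isGenericPoint f x hgen)
  rw [hW x hxW, hW x' (hsp.mem_open W.2 hxW)]

/-- The open set where the fibre dimension is locally constant equal to `d`. -/
def piece (d : ℕ) : X.Opens :=
  ⟨interior {x | FlatMor.fibreDimAt f x = (d : ℕ)}, isOpen_interior⟩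

omit [Flat f] [LocallyOfFinitePresentation f] in
theorem fibreDimAt_of_mem_piece {d : ℕ} {x : X} (h : x ∈ piece f d) :
    FlatMor.fibreDimAt f x = (d : ℕ) :=
  interior_subset (s := {x | FlatMor.fibreDimAt f x = (d : ℕ)}) h

theorem mem_piece_of_isFibreMax {z : X} (hz : IsFibreMax f z) : z ∈ piece f (fdeg f z) := by
  obtain ⟨W, hzW, hW⟩ := exists_open_fibreDimAt_eq f z hz
  exact mem_interior.2 ⟨W, fun w hw => hW w hw, W.2, hzW⟩

theorem t9757 : ∃ U : ℕ → X.Opens, (∀ s : S, Dense ((f.fiberι s) ⁻¹' ((⨆ d, U d : X.Opens) : Set ↑X))) ∧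
      ∀ (d : ℕ) (x : ↑X), x ∈ U d → FlatMor.fibreDimAt f x = d := by
  refine ⟨piece f, fun s a => ?_, fun d x hx => fibreDimAt_of_mem_piece f hx⟩
  obtain ⟨z, hz, hfz, hzmax, -, -⟩ := E4O.exists_isFibreMax_specializes f (f.fiberι s a)
  obtain ⟨b, rfl⟩ := E4O.exists_fiberι_eq f (hfz.trans (E4O.apply_fiberι f s a))
  refine closure_mono (Set.singleton_subset_iff.2 ?_)
    (specializes_iff_mem_closure.1 ((E4O.specializes_fiberι_iff f s b a).1 hz))
  exact Opens.mem_iSup.2 ⟨_, mem_piece_of_isFibreMax f hzmax⟩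

omit [Flat f] in
theorem mem_V_iff (y : S) : topologicalKrullDim (f ⁻¹' {y}) = 0 ↔
    y ∈ Set.range f ∧ y ∉ f '' {x | FlatMor.fibreDimAt f x ≤ 0}ᶜ := by
  have e := IsHomeomorph.topologicalKrullDim_eq _ (f.fiberHomeo y).isHomeomorph
  rw [← e]
  constructor
  · intro h
    refine ⟨?_, ?_⟩
    · by_contra hy
      haveI : IsEmpty ↥(f.fiber y) :=
        ⟨fun z => hy ⟨f.fiberι y z, E4O.apply_fiberι f y z⟩⟩
      haveI : IsEmpty (TopologicalSpace.IrreducibleCloseds ↥(f.fiber y)) :=
        ⟨fun T => IsEmpty.false (α := ↥(f.fiber y)) T.2.nonempty.some⟩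
      rw [topologicalKrullDim, Order.krullDim_eq_bot] at h
      exact WithBot.bot_ne_zero h
    · rintro ⟨x, hx, rfl⟩
      exact hx ((E4O.fibreDimAt_le_dim_fiber f x).trans h.le)
  · rintro ⟨⟨x, rfl⟩, hZ⟩
    refine le_antisymm ((E4O.dim_fiber_le_iff f (f x) 0).2 fun z hz => ?_) ?_
    · refine (E4O.fdeg_le_fibreDimAt (f := f) (z := z) (x := z) specializes_rfl rfl).trans ?_
      by_contra h
      exact hZ ⟨z, h, hz⟩
    · exact Order.krullDim_nonneg_iff.2
        ⟨⟨closure {f.asFiber x}, isIrreducible_singleton.closure, isClosed_closure⟩⟩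

omit [Flat f] in
theorem finite_of_dim_zero [QuasiCompact f] (y : S) (h : topologicalKrullDim (f ⁻¹' {y}) = 0) :
    (f ⁻¹' {y}).Finite := by
  have hmax : ∀ x : X, f x = y → IsFibreMax f x := by
    intro x hx z hz hfz
    by_contra hne
    have h1 := E4O.fdeg_lt (f := f) hz hfz hne
    have h2 : ((fdeg f z : ℕ) : WithBot ℕ∞) ≤ 0 := by
      refine le_trans ?_ ((IsHomeomorph.topologicalKrullDim_eq _ (f.fiberHomeo y).isHomeomorph).trans h).le
      exact (E4O.fdeg_le_fibreDimAt (f := f) (z := z) (x := z) specializes_rfl rfl).trans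
        ((E4O.fibreDimAt_le_dim_fiber f z).trans (by rw [show f z = y from hfz.trans hx]))
    have h3 : fdeg f z ≤ 0 := by exact_mod_cast h2
    omega
  haveI : LocallyOfFiniteType (f.fiberToSpecResidueField y) :=
    MorphismProperty.pullback_snd _ _ inferInstance
  haveI : IsLocallyNoetherian (f.fiber y) :=
    LocallyOfFiniteType.isLocallyNoetherian (f.fiberToSpecResidueField y)
  haveI : IsNoetherian (f.fiber y) := {}
  haveI : Finite ↥(f.fiber y) := by
    have hfin := NoetherianSpace.finite_irreducibleComponents (α := ↥(f.fiber y))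
    haveI := hfin.to_subtype
    refine Finite.of_injective (fun z => (⟨closure {z}, E4O.closure_mem_irreducibleComponents
      ((E4O.isFibreMax_fiberι_iff f y z).1 (hmax _ (E4O.apply_fiberι f y z)))⟩ : irreducibleComponents ↥(f.fiber y))) ?_
    intro a b hab
    exact ((specializes_iff_closure_subset.2 (congrArg Subtype.val hab).ge).antisymm
      (specializes_iff_closure_subset.2 (congrArg Subtype.val hab).le)).eq
  rw [← f.range_fiberι y]
  exact Set.finite_range _

theorem t10889 [IsProper f] :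
    IsClopen {y : S | topologicalKrullDim (f.base ⁻¹' {y}) = 0} ∧
      ∀ U : S.Opens, (U : Set S) ⊆ {y : S | topologicalKrullDim (f.base ⁻¹' {y}) = 0} → IsFinite (f ∣_ U) := by
  let Z : Set X := {x | FlatMor.fibreDimAt f x ≤ 0}ᶜ
  have hset : {y : S | topologicalKrullDim (f.base ⁻¹' {y}) = 0} = Set.range f ∩ (f '' Z)ᶜ :=
    Set.ext (mem_V_iff f)
  have hopen : IsOpenMap f := f.isOpenMap
  have hclosed : IsClosedMap f := f.isClosedMap
  have hZc : IsClosed (f '' Z) := by
    refine hclosed _ (isClosed_compl_iff.2 ?_)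
    refine isOpen_iff_forall_mem_open.2 fun x hx => ?_
    obtain ⟨U, hxU, hU⟩ := E4O.exists_open_forall_fibreDimAt_le f x
    exact ⟨U, fun x' hx' => (hU x' hx').trans hx, U.2, hxU⟩
  have hZo : IsOpen (f '' Z) := by
    have : f '' Z = ⋃ d : ℕ, f '' (piece f (d + 1) : Set X) := by
      refine Set.Subset.antisymm ?_ (Set.iUnion_subset fun d => ?_)
      · rintro _ ⟨x, hx, rfl⟩
        obtain ⟨z, -, hfz, hzmax, hd, -⟩ := E4O.exists_isFibreMax_specializes f x
        have h0 : fdeg f z ≠ 0 := fun h0 => hx (show FlatMor.fibreDimAt f x ≤ 0 by rw [hd, h0]; rfl)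
        exact Set.mem_iUnion.2 ⟨fdeg f z - 1, z,
          by rw [Nat.sub_add_cancel (Nat.pos_of_ne_zero h0)]; exact mem_piece_of_isFibreMax f hzmax, hfz⟩
      · refine Set.image_mono fun x hx => ?_
        intro (hle : FlatMor.fibreDimAt f x ≤ 0)
        rw [fibreDimAt_of_mem_piece f hx] at hle
        have : (d + 1 : ℕ) ≤ 0 := by exact_mod_cast hle
        omega
    rw [this]
    exact isOpen_iUnion fun d => hopen _ (piece f (d + 1)).2
  refine ⟨?_, fun U hU => ?_⟩
  · rw [hset]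
    exact IsClopen.inter ⟨hclosed.isClosed_range, hopen.isOpen_range⟩ (IsClopen.compl ⟨hZc, hZo⟩)
  · haveI : LocallyQuasiFinite (f ∣_ U) := by
      refine LocallyQuasiFinite.of_finite_preimage_singleton (f ∣_ U) fun y => ?_
      refine ((finite_of_dim_zero f _ (hU y.2)).preimage (f := (f ⁻¹ᵁ U).ι)
        (f ⁻¹ᵁ U).ι.isOpenEmbedding.injective.injOn).subset ?_
      intro a (ha : (f ∣_ U) a = y)
      show f ((f ⁻¹ᵁ U).ι a) = y.1
      rw [← Scheme.Hom.comp_apply, ← morphismRestrict_ι, Scheme.Hom.comp_apply, ha]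
      rfl
    exact IsFinite.of_isProper_of_locallyQuasiFinite _

end Groth.Agent.FlatMor68.FibreGeneric
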