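import Mathlib
import Groth.Agent.S0392
import Groth.Agent.Cons62.Model
import Groth.Agent.FlatStage64.Main
import Groth.Agent.FlatMor66.EpiLoc
import Groth.Agent.FlatCrit65.FlatLocus.Module

set_option backward.isDefEq.respectTransparency.types false
set_option linter.style.haveILetI false
set_option autoImplicit false
universe u

open TensorProduct

attribute [local instance] Algebra.TensorProduct.rightAlgebra MvPolynomial.algebraMvPolynomial
set_option synthInstance.maxHeartbeats 200000

namespace Groth.Agent.FlatMor68.FibreGenericAlg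

/-- A flat finitely presented algebra has a flat model of finite type over a Noetherian ring containing
given elements. -/
theorem exists_flat_model {A B : Type u} [CommRing A] [CommRing B] [Algebra A B]
    [Algebra.FinitePresentation A B] [Module.Flat A B] {t : Set B} (ht : t.Finite) :
    ∃ (A₁ B₁ : Type u) (_ : CommRing A₁) (_ : CommRing B₁) (_ : Algebra A₁ A) (_ : Algebra A₁ B₁)
      (e : A ⊗[A₁] B₁ ≃ₐ[A] B), IsNoetherianRing A₁ ∧ Algebra.FiniteType A₁ B₁ ∧ Module.Flat A₁ B₁ ∧
        t ⊆ Set.range (fun b : B₁ => e (1 ⊗ₜ b)) := by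
  obtain ⟨A₀, B₀, _, _, e, hN, hfp, hsub⟩ := Cons62.exists_model (A := A) ht
  haveI := hN
  obtain ⟨D, hD, hflat⟩ := FlatStage64.exists_fg_flat (R := A₀) (B := B₀) (M := B₀) (A := A)
    (Module.Flat.of_linearEquiv e.toLinearEquiv)
  haveI : Algebra.FiniteType A₀ D := (Subalgebra.fg_iff_finiteType D).1 hD
  refine ⟨D, D ⊗[A₀] B₀, inferInstance, inferInstance, inferInstance, inferInstance,
    (Algebra.TensorProduct.cancelBaseChange A₀ D A A B₀).trans e,
    Algebra.FiniteType.isNoetherianRing A₀ D, inferInstance, hflat D le_rfl, fun b hb => ?_⟩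
  obtain ⟨b₀, rfl⟩ := hsub hb
  exact ⟨(1 : D) ⊗ₜ b₀, by simp⟩

/-- Flatness at a prime is stable under base change. -/
theorem flat_atPrime_baseChange {S S' C C' : Type u} [CommRing S] [CommRing S'] [CommRing C] [CommRing C']
    [Algebra S S'] [Algebra S C] [Algebra S C'] [Algebra S' C'] [Algebra C C'] [IsScalarTower S S' C']
    [IsScalarTower S C C'] [Algebra.IsPushout S C S' C'] (q : Ideal C') [q.IsPrime]
    [Module.Flat S (Localization.AtPrime (q.under C))] :
    Module.Flat S' (Localization.AtPrime q) := by
  let Cq := Localization.AtPrime (q.under C)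
  let Q := Localization.AtPrime q
  let ι : Cq →+* Q := Localization.localRingHom (q.under C) q (algebraMap C C') rfl
  let ιS : Cq →ₐ[S] Q :=
    { ι with
      commutes' := fun s => by
        show ι (algebraMap S Cq s) = algebraMap S Q s
        rw [IsScalarTower.algebraMap_apply S C Cq, Localization.localRingHom_to_map,
          ← IsScalarTower.algebraMap_apply S C C', ← IsScalarTower.algebraMap_apply] }
  let τ : Cq ⊗[S] S' →ₐ[S] Q :=
    Algebra.TensorProduct.lift ιS (IsScalarTower.toAlgHom S S' Q) fun _ _ => .all _ _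
  let j : C ⊗[S] S' →+* Q := (algebraMap C' Q).comp (Algebra.IsPushout.equiv S C S' C').toRingEquiv.toRingHom
  have hj : j.Flat := RingHom.Flat.comp (RingHom.Flat.of_bijective (Algebra.IsPushout.equiv S C S' C').toRingEquiv.bijective)
    (RingHom.flat_algebraMap_iff.2 (IsLocalization.flat Q q.primeCompl))
  haveI : IsLocalization (⊥ : Submonoid S') S' := IsLocalization.of_le_isUnit bot_le
  have hτ : τ.toRingHom.Flat := by
    refine FlatMor66.flat_tensor_localization (A := S) (A' := S) (B := C) (C := S') (B' := Cq) (C' := S')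
      (q.under C).primeCompl (⊥ : Submonoid S') τ.toRingHom j (fun b => ?_) (fun c => ?_) hj
    · show algebraMap C' Q (Algebra.IsPushout.equiv S C S' C' (b ⊗ₜ[S] (1 : S'))) =
        τ (algebraMap C Cq b ⊗ₜ[S] (1 : S'))
      rw [Algebra.IsPushout.equiv_tmul, Algebra.TensorProduct.lift_tmul, map_one, map_one, mul_one, mul_one]
      exact (Localization.localRingHom_to_map (q.under C) q (algebraMap C C') rfl b).symm
    · show algebraMap C' Q (Algebra.IsPushout.equiv S C S' C' ((1 : C) ⊗ₜ[S] c)) = τ ((1 : Cq) ⊗ₜ[S] c)
      rw [Algebra.IsPushout.equiv_tmul, Algebra.TensorProduct.lift_tmul, map_one, map_one, one_mul, one_mul]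
      exact (IsScalarTower.algebraMap_apply S' C' Q c).symm
  have h1 : (Algebra.TensorProduct.includeRight : S' →ₐ[S] Cq ⊗[S] S').toRingHom.Flat := by
    letI : Algebra S' (S' ⊗[S] Cq) := Algebra.TensorProduct.leftAlgebra
    exact RingHom.Flat.comp (RingHom.flat_algebraMap_iff.2 (inferInstance : Module.Flat S' (S' ⊗[S] Cq)))
      (RingHom.Flat.of_bijective (Algebra.TensorProduct.comm S S' Cq).bijective)
  have h2 := RingHom.Flat.comp h1 hτ
  rw [← RingHom.flat_algebraMap_iff]
  convert h2 using 1
  refine RingHom.ext fun c => ?_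
  show _ = τ ((1 : Cq) ⊗ₜ[S] c)
  rw [Algebra.TensorProduct.lift_tmul, map_one, one_mul]
  rfl

/-- Over a Noetherian base: a flat algebra is flat over a polynomial ring at a prime where the variables
are algebraically independent in the fibre. -/
theorem flat_polynomial_noetherian {A B : Type u} [CommRing A] [CommRing B] [IsNoetherianRing A]
    [Algebra A B] [Algebra.FiniteType A B] [Module.Flat A B] {d : ℕ}
    [Algebra (MvPolynomial (Fin d) A) B] [IsScalarTower A (MvPolynomial (Fin d) A) B]
    (q : Ideal B) [q.IsPrime]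
    (hind : ∀ f : MvPolynomial (Fin d) A, algebraMap _ B f ∈ q → ∀ m, f.coeff m ∈ q.under A) :
    Module.Flat (MvPolynomial (Fin d) A) (Localization.AtPrime q) := by
  let S := MvPolynomial (Fin d) A
  let P := q.under S
  let p := q.under A
  have hPp : P.under A = p := Ideal.under_under q
  haveI : P.LiesOver p := ⟨hPp.symm⟩
  have hP : P = p.map (algebraMap A S) := by
    refine le_antisymm (fun f hf => ?_) (Ideal.map_le_iff_le_comap.2 hPp.ge)
    exact MvPolynomial.mem_map_C_iff.2 (hind f hf)
  haveI : IsNoetherianRing B := Algebra.FiniteType.isNoetherianRing A B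
  let R := Localization.AtPrime p
  let SP := Localization.AtPrime P
  let Bq := Localization.AtPrime q
  letI : Algebra R SP := Localization.AtPrime.algebraOfLiesOver p P
  letI : Algebra SP Bq := Localization.AtPrime.algebraOfLiesOver P q
  letI : Algebra R Bq := ((algebraMap SP Bq).comp (algebraMap R SP)).toAlgebra
  haveI : IsScalarTower R SP Bq := .of_algebraMap_eq' rfl
  haveI : IsScalarTower A R SP := .of_algebraMap_eq fun a => by
    show _ = Localization.localRingHom p P (algebraMap A S) Ideal.LiesOver.over (algebraMap A R a)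
    rw [Localization.localRingHom_to_map, ← IsScalarTower.algebraMap_apply]
  haveI : IsScalarTower S SP Bq := .of_algebraMap_eq fun s => by
    show _ = Localization.localRingHom P q (algebraMap S B) Ideal.LiesOver.over (algebraMap S SP s)
    rw [Localization.localRingHom_to_map, ← IsScalarTower.algebraMap_apply]
  haveI : IsScalarTower A R Bq := .of_algebraMap_eq fun a => by
    show _ = algebraMap SP Bq (algebraMap R SP (algebraMap A R a))
    rw [← IsScalarTower.algebraMap_apply A R SP, IsScalarTower.algebraMap_apply A S SP,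
      ← IsScalarTower.algebraMap_apply S SP Bq, ← IsScalarTower.algebraMap_apply A S Bq]
  haveI : IsLocalHom (algebraMap R SP) :=
    Localization.isLocalHom_localRingHom p P (algebraMap A S) Ideal.LiesOver.over
  haveI : IsLocalHom (algebraMap SP Bq) :=
    Localization.isLocalHom_localRingHom P q (algebraMap S B) Ideal.LiesOver.over
  haveI : Module.Flat R Bq := by
    haveI : Module.Flat A Bq := Module.Flat.trans A B Bq
    exact (Module.flat_iff_of_isLocalization R p.primeCompl Bq).mpr inferInstance
  have hm : (IsLocalRing.maximalIdeal R).map (algebraMap R SP) = IsLocalRing.maximalIdeal SP := by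
    rw [← Localization.AtPrime.map_eq_maximalIdeal, ← Localization.AtPrime.map_eq_maximalIdeal,
      Ideal.map_map, ← IsScalarTower.algebraMap_eq, IsScalarTower.algebraMap_eq A S SP, ← Ideal.map_map]
    exact congrArg _ hP.symm
  haveI := (S0392.result (R := R) (S := SP) (S' := Bq) (M := Bq) (by
    rw [hm]
    exact inferInstanceAs (Module.Flat (IsLocalRing.ResidueField SP) ((IsLocalRing.ResidueField SP) ⊗[SP] Bq)))).2
  exact Module.Flat.trans S SP Bq

/-- A flat finitely presented algebra is flat over a polynomial ring at a prime where the variables are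
algebraically independent in the fibre. -/
theorem flat_polynomial {A B : Type u} [CommRing A] [CommRing B] [Algebra A B]
    [Algebra.FinitePresentation A B] [Module.Flat A B] {d : ℕ}
    [Algebra (MvPolynomial (Fin d) A) B] [IsScalarTower A (MvPolynomial (Fin d) A) B]
    (q : Ideal B) [q.IsPrime]
    (hind : ∀ f : MvPolynomial (Fin d) A, algebraMap _ B f ∈ q → ∀ m, f.coeff m ∈ q.under A) :
    Module.Flat (MvPolynomial (Fin d) A) (Localization.AtPrime q) := by
  let t : Fin d → B := fun i => algebraMap (MvPolynomial (Fin d) A) B (MvPolynomial.X i)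
  obtain ⟨A₁, B₁, _, _, _, _, e, hN, hft, hfl, hsub⟩ := exists_flat_model (A := A) (Set.finite_range t)
  haveI := hN; haveI := hft; haveI := hfl
  choose y hy using fun i => hsub ⟨i, rfl⟩
  let S₁ := MvPolynomial (Fin d) A₁
  let S := MvPolynomial (Fin d) A
  letI : Algebra S₁ B₁ := (MvPolynomial.aeval y).toRingHom.toAlgebra
  haveI : IsScalarTower A₁ S₁ B₁ := .of_algebraMap_eq fun a => ((MvPolynomial.aeval y).commutes a).symm
  letI : Algebra B₁ B := (e.toRingHom.comp Algebra.TensorProduct.includeRight.toRingHom).toAlgebra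
  letI : Algebra A₁ B := ((algebraMap A B).comp (algebraMap A₁ A)).toAlgebra
  haveI : IsScalarTower A₁ A B := .of_algebraMap_eq' rfl
  haveI : IsScalarTower A₁ B₁ B := .of_algebraMap_eq fun a => by
    show algebraMap A B (algebraMap A₁ A a) = e ((1 : A) ⊗ₜ algebraMap A₁ B₁ a)
    rw [Algebra.algebraMap_eq_smul_one a, Algebra.algebraMap_eq_smul_one a, ← TensorProduct.smul_tmul,
      ← Algebra.algebraMap_eq_smul_one a, ← e.commutes]
    rfl
  haveI : Algebra.IsPushout A₁ A B₁ B := Algebra.IsPushout.of_equiv e (RingHom.ext fun b => rfl)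
  letI : Algebra S₁ B := ((algebraMap S B).comp (algebraMap S₁ S)).toAlgebra
  haveI : IsScalarTower S₁ S B := .of_algebraMap_eq' rfl
  haveI : IsScalarTower S₁ B₁ B := .of_algebraMap_eq' <| by
    refine MvPolynomial.ringHom_ext (fun a => ?_) fun i => ?_
    · show algebraMap S B (MvPolynomial.map (algebraMap A₁ A) (MvPolynomial.C a)) =
        algebraMap B₁ B (MvPolynomial.aeval y (MvPolynomial.C a))
      rw [MvPolynomial.map_C, MvPolynomial.algHom_C]
      exact ((IsScalarTower.algebraMap_apply A S B _).symm.trans (IsScalarTower.algebraMap_apply A₁ A B a).symm).trans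
        (IsScalarTower.algebraMap_apply A₁ B₁ B a)
    · show algebraMap S B (MvPolynomial.map (algebraMap A₁ A) (MvPolynomial.X i)) =
        algebraMap B₁ B (MvPolynomial.aeval y (MvPolynomial.X i))
      rw [MvPolynomial.map_X, MvPolynomial.aeval_X]
      exact (hy i).symm
  haveI : Algebra.IsPushout S₁ B₁ S B := by
    haveI : Algebra.IsPushout A₁ A S₁ S := inferInstance
    haveI : IsScalarTower A₁ S₁ B := .of_algebraMap_eq fun a => by
      rw [IsScalarTower.algebraMap_apply A₁ B₁ B, IsScalarTower.algebraMap_apply A₁ S₁ B₁,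
        ← IsScalarTower.algebraMap_apply S₁ B₁ B]
    haveI : IsScalarTower A₁ S B := .of_algebraMap_eq fun a => by
      rw [IsScalarTower.algebraMap_apply A₁ A B, IsScalarTower.algebraMap_apply A₁ A S,
        ← IsScalarTower.algebraMap_apply A S B]
    exact (Algebra.IsPushout.comp_iff A₁ S₁ A S (T := B₁) (T' := B)).1 (Algebra.IsPushout.symm inferInstance)
  haveI := flat_polynomial_noetherian (A := A₁) (B := B₁) (q.under B₁) (d := d) fun f hf m => by
    have h1 : algebraMap S B (MvPolynomial.map (algebraMap A₁ A) f) ∈ q := by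
      have := hf
      rw [Ideal.mem_comap, ← IsScalarTower.algebraMap_apply S₁ B₁ B] at this
      exact this
    have h2 := hind _ h1 m
    rw [MvPolynomial.coeff_map, Ideal.mem_comap, ← IsScalarTower.algebraMap_apply A₁ A B] at h2
    rw [Ideal.mem_comap, Ideal.mem_comap, ← IsScalarTower.algebraMap_apply A₁ B₁ B]
    exact h2
  exact flat_atPrime_baseChange (S := S₁) (S' := S) (C := B₁) (C' := B) q

/-- A flat finitely presented algebra: near a prime `q` the transcendence degree over the base of
every prime which is minimal in its fibre is at least that of `q`. -/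
theorem exists_open_trdeg_ge {A B : Type u} [CommRing A] [CommRing B] [Algebra A B]
    [Algebra.FinitePresentation A B] [Module.Flat A B] (q : PrimeSpectrum B) {d : ℕ} (t : Fin d → B)
    (hind : AlgebraicIndependent (A ⧸ q.asIdeal.under A) (fun i => Ideal.Quotient.mk q.asIdeal (t i))) :
    ∃ W : Set (PrimeSpectrum B), IsOpen W ∧ q ∈ W ∧ ∀ q' ∈ W,
      (∀ q'' : PrimeSpectrum B, q''.asIdeal ≤ q'.asIdeal → q''.asIdeal.under A = q'.asIdeal.under A → q'' = q') →
      AlgebraicIndependent (A ⧸ q'.asIdeal.under A) (fun i => Ideal.Quotient.mk q'.asIdeal (t i)) := by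
  classical
  let S := MvPolynomial (Fin d) A
  letI : Algebra S B := (MvPolynomial.aeval t).toRingHom.toAlgebra
  haveI : IsScalarTower A S B := .of_algebraMap_eq fun a => ((MvPolynomial.aeval t).commutes a).symm
  have key : ∀ (r : Ideal B) (f : S), Ideal.Quotient.mk r (algebraMap S B f) =
      MvPolynomial.aeval (fun i => Ideal.Quotient.mk r (t i))
        (MvPolynomial.map (Ideal.Quotient.mk (r.under A)) f) := by
    intro r f
    show Ideal.Quotient.mk r (MvPolynomial.aeval t f) = _
    induction f using MvPolynomial.induction_on with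
    | C a => simp only [MvPolynomial.map_C, MvPolynomial.algHom_C]; rfl
    | add a b ha hb => simp only [map_add, ha, hb]
    | mul_X a i ha => simp only [map_mul, ha, MvPolynomial.map_X, MvPolynomial.aeval_X]
  have hq : ∀ f : S, algebraMap S B f ∈ q.asIdeal → ∀ m, f.coeff m ∈ q.asIdeal.under A := by
    intro f hf m
    have h1 := Ideal.Quotient.eq_zero_iff_mem.2 hf
    rw [key] at h1
    have h2 := hind.eq_zero_of_aeval_eq_zero _ h1
    have h3 := congrArg (MvPolynomial.coeff m) h2
    rw [MvPolynomial.coeff_map, MvPolynomial.coeff_zero, Ideal.Quotient.eq_zero_iff_mem] at h3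
    exact h3
  haveI : Algebra.FinitePresentation S B := Algebra.FinitePresentation.of_restrict_scalars_finitePresentation A S B
  refine ⟨{q' | Module.Flat S (Localization.AtPrime q'.asIdeal)}, ?_, flat_polynomial q.asIdeal hq, ?_⟩
  · exact FlatCrit65.isOpen_flat_locus_module (R := S) (S := B) (M := B)
  intro q' (hflat : Module.Flat S (Localization.AtPrime q'.asIdeal)) hmax
  let p' := q'.asIdeal.under A
  let π : S →+* MvPolynomial (Fin d) (A ⧸ p') := MvPolynomial.map (Ideal.Quotient.mk p')
  let P := RingHom.ker π
  haveI : P.IsPrime := RingHom.ker_isPrime π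
  have hP : P ≤ q'.asIdeal.under S := fun f (hf : π f = 0) => by
    rw [Ideal.mem_comap, ← Ideal.Quotient.eq_zero_iff_mem, key, show MvPolynomial.map _ f = 0 from hf, map_zero]
  let L := Localization.AtPrime q'.asIdeal
  haveI := hflat
  haveI : (IsLocalRing.maximalIdeal L).LiesOver (q'.asIdeal.under S) := ⟨by
    rw [← Ideal.under_under (B := B) (IsLocalRing.maximalIdeal L)]
    exact congrArg _ (IsLocalization.AtPrime.under_maximalIdeal (R := B) (S := L) (q'.asIdeal)).symm⟩
  obtain ⟨Q, hQle, hQ, hQo⟩ := Ideal.exists_ideal_le_liesOver_of_le (p := P) (q := q'.asIdeal.under S)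
    (IsLocalRing.maximalIdeal L) hP
  haveI := hQ
  have hQu : Q.under S = P := hQo.over.symm
  have hle : Q.under B ≤ q'.asIdeal := by
    have := Ideal.comap_mono (f := algebraMap B L) hQle
    exact this.trans (IsLocalization.AtPrime.under_maximalIdeal (R := B) (S := L) (q'.asIdeal)).le
  have hQS : (Q.under B).under S = P := (Ideal.under_under Q).trans hQu
  have hQA : (Q.under B).under A = q'.asIdeal.under A := by
    rw [← Ideal.under_under (B := S) (Q.under B), hQS]
    ext a
    show MvPolynomial.map (Ideal.Quotient.mk p') (MvPolynomial.C a) = 0 ↔ _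
    rw [MvPolynomial.map_C, MvPolynomial.C_eq_zero, Ideal.Quotient.eq_zero_iff_mem]
  have heq : q'.asIdeal.under S = P := by
    rw [← hQS, show Q.under B = q'.asIdeal from
      congrArg PrimeSpectrum.asIdeal (hmax ⟨Q.under B, inferInstance⟩ hle hQA)]
  rw [algebraicIndependent_iff]
  intro f hf
  obtain ⟨f, rfl⟩ := MvPolynomial.map_surjective (Ideal.Quotient.mk p') Ideal.Quotient.mk_surjective f
  rw [← key, Ideal.Quotient.eq_zero_iff_mem] at hf
  exact (heq.le hf : f ∈ P)

end Groth.Agent.FlatMor68.FibreGenericAlg
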