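import Groth.Agent.Cons62.FlatFibre
import Groth.Agent.FlatMor67.FibCritModule
import Groth.Agent.FlatMor67.StalkEssFP
import Mathlib

/-!
The fibre criterion of flatness at a prime over an arbitrary base, and modulo a locally nilpotent
ideal.
-/

set_option autoImplicit false
set_option linter.style.haveILetI false
universe u

open TensorProduct

namespace Groth.Agent.FlatMor68.FibreNil

variable {A B C : Type u} [CommRing A] [CommRing B] [CommRing C] [Algebra A B] [Algebra B C] [Algebra A C]
  [IsScalarTower A B C]

attribute [local instance] Algebra.TensorProduct.rightAlgebra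

/-- The fibre criterion of flatness at a prime `P` of a finite type algebra. -/
theorem flat_of_fibre_flat [Algebra.FiniteType A B] [Algebra.FinitePresentation A C]
    (P : Ideal C) [P.IsPrime] (M : Type u) [AddCommGroup M] [Module C M] [Module.FinitePresentation C M]
    [Module B M] [IsScalarTower B C M]
    [Module.Flat A (Localization.AtPrime P ⊗[C] M)]
    (hfib : Module.Flat (((P.under B).under A).ResidueField ⊗[A] B)
      ((((P.under B).under A).ResidueField ⊗[A] B) ⊗[B] M)) :
    Module.Flat B (Localization.AtPrime P ⊗[C] M) := by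
  let q := P.under B
  let p := q.under A
  let N := Localization.AtPrime P ⊗[C] M
  rcases subsingleton_or_nontrivial N with hN | hN
  · infer_instance
  let Ap := Localization.AtPrime p
  let Bq := Localization.AtPrime q
  let Cp := Localization.AtPrime P
  letI : Algebra Ap Bq := Localization.AtPrime.algebraOfLiesOver p q
  letI : Algebra Bq Cp := Localization.AtPrime.algebraOfLiesOver q P
  letI : Algebra Ap Cp := ((algebraMap Bq Cp).comp (algebraMap Ap Bq)).toAlgebra
  have : IsScalarTower Ap Bq Cp := .of_algebraMap_eq' rfl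
  have : IsScalarTower A Ap Cp := .of_algebraMap_eq fun a => by
    rw [IsScalarTower.algebraMap_apply A B Cp, IsScalarTower.algebraMap_apply B Bq Cp,
      ← IsScalarTower.algebraMap_apply A B Bq, IsScalarTower.algebraMap_apply A Ap Bq]
    rfl
  have : IsLocalHom (algebraMap Ap Bq) :=
    Localization.isLocalHom_localRingHom p q (algebraMap A B) Ideal.LiesOver.over
  have : IsLocalHom (algebraMap Bq Cp) :=
    Localization.isLocalHom_localRingHom q P (algebraMap B C) Ideal.LiesOver.over
  have : Module.Flat Ap N := (Module.flat_iff_of_isLocalization Ap p.primeCompl N).mpr inferInstance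
  -- the fibre ring of the local rings
  let E := Bq ⧸ (IsLocalRing.maximalIdeal Ap).map (algebraMap Ap Bq)
  let α : p.ResidueField →ₐ[A] E :=
    Ideal.Quotient.liftₐ (IsLocalRing.maximalIdeal Ap)
      ((Ideal.Quotient.mkₐ A _).comp (IsScalarTower.toAlgHom A Ap Bq))
      fun a ha => Ideal.Quotient.eq_zero_iff_mem.mpr (Ideal.mem_map_of_mem _ ha)
  let β : B →ₐ[A] E := (Ideal.Quotient.mkₐ A _).comp (IsScalarTower.toAlgHom A B Bq)
  let D' := p.ResidueField ⊗[A] B
  letI : Algebra D' E := (Algebra.TensorProduct.lift α β fun _ _ => .all _ _).toRingHom.toAlgebra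
  have : IsScalarTower B D' E := .of_algebraMap_eq fun b => by
    show _ = Algebra.TensorProduct.lift α β _ ((1 : p.ResidueField) ⊗ₜ[A] b)
    rw [Algebra.TensorProduct.lift_tmul, map_one, one_mul]
    rfl
  have : Module.Flat D' (D' ⊗[B] M) := hfib
  have : Module.Flat E (E ⊗[B] M) :=
    Module.Flat.of_linearEquiv (AlgebraTensorModule.cancelBaseChange B D' E E M).symm
  have : Module.Flat E (E ⊗[B] N) := Cons62.flat_baseChange_tensor
  let eN : Bq ⊗[B] N ≃ₗ[Bq] N :=
    haveI := isLocalizedModule_id q.primeCompl N Bq
    (IsLocalizedModule.isBaseChange q.primeCompl Bq (LinearMap.id : N →ₗ[B] N)).equiv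
  have h : Module.Flat E (E ⊗[Bq] N) :=
    Module.Flat.of_linearEquiv ((AlgebraTensorModule.congr (LinearEquiv.refl E E) eN).symm ≪≫ₗ
      AlgebraTensorModule.cancelBaseChange B Bq E E N)
  let J : Ideal Bq := (IsLocalRing.maximalIdeal Ap).map (algebraMap Ap Bq)
  let e0 := TensorProduct.quotTensorEquivQuotSMul N J
  let e1 : (Bq ⧸ J) ⊗[Bq] N ≃ₗ[Bq ⧸ J] N ⧸ J • (⊤ : Submodule Bq N) :=
    { e0 with
      map_smul' := fun c v => by
        obtain ⟨c, rfl⟩ := Ideal.Quotient.mk_surjective c
        exact e0.map_smul c v }
  have h' : Module.Flat (Bq ⧸ J) (N ⧸ J • (⊤ : Submodule Bq N)) := Module.Flat.of_linearEquiv e1.symm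
  haveI : Module.FinitePresentation Cp N := inferInstance
  obtain ⟨n, π, hπ⟩ := FlatMor67.exists_gen_of_localization (A := A) (B := B) (Ar := Ap) (L := Bq) q.primeCompl
  have hC : CAlgX.IsEssFinitePresentation Ap Cp :=
    FlatMor67.essFP_of_localizations (A := A) (C := C) p.primeCompl P.primeCompl fun a ha hP => ha (by
      show algebraMap B C (algebraMap A B a) ∈ P
      rwa [← IsScalarTower.algebraMap_apply])
  have hflat := (FlatMor67.fibre_criterion_essFT (R := Ap) (S := Bq) (S' := Cp) (M := N) π hπ hC h').2
  exact (Module.flat_iff_of_isLocalization Bq q.primeCompl N).mp hflat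

/-- Flatness modulo a locally nilpotent ideal with flat total space gives flatness. -/
theorem flat_of_flat_mod_nil [Algebra.FiniteType A B] [Algebra.FinitePresentation A C] (I : Ideal A)
    (hI : ∀ a ∈ I, IsNilpotent a) (M : Type u) [AddCommGroup M] [Module C M] [Module.FinitePresentation C M]
    [Module B M] [IsScalarTower B C M] [Module A M] [IsScalarTower A C M] [Module.Flat A M]
    (h : Module.Flat (B ⧸ I.map (algebraMap A B)) ((B ⧸ I.map (algebraMap A B)) ⊗[B] M)) :
    Module.Flat B M := by
  refine Module.flat_of_isLocalized_maximal C M (fun P => Localization.AtPrime P ⊗[C] M)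
    (fun P => TensorProduct.mk C (Localization.AtPrime P) M 1) fun P _ => ?_
  haveI : Module.Flat A (A ⊗[A] M) := Module.Flat.of_linearEquiv (TensorProduct.lid A M)
  haveI : Module.Flat A (A ⊗[A] (Localization.AtPrime P ⊗[C] M)) := Cons62.flat_baseChange_tensor
  haveI : Module.Flat A (Localization.AtPrime P ⊗[C] M) :=
    Module.Flat.of_linearEquiv (TensorProduct.lid A (Localization.AtPrime P ⊗[C] M)).symm
  refine flat_of_fibre_flat (A := A) P M ?_
  let p := (P.under B).under A
  let B₀ := B ⧸ I.map (algebraMap A B)
  let D' := p.ResidueField ⊗[A] B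
  have hker : ∀ b ∈ I.map (algebraMap A B), algebraMap B D' b = 0 := by
    intro b hb
    refine (Ideal.map_le_iff_le_comap.2 fun a ha => ?_ :
      I.map (algebraMap A B) ≤ RingHom.ker (algebraMap B D')) hb
    show algebraMap B D' (algebraMap A B a) = 0
    rw [← IsScalarTower.algebraMap_apply, IsScalarTower.algebraMap_apply A p.ResidueField D']
    have : algebraMap A p.ResidueField a = 0 := ((hI a ha).map (algebraMap A p.ResidueField)).eq_zero
    rw [this, map_zero]
  letI : Algebra B₀ D' := (Ideal.Quotient.lift _ (algebraMap B D') hker).toAlgebra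
  haveI : IsScalarTower B B₀ D' := .of_algebraMap_eq fun b => rfl
  haveI : Module.Flat B₀ (B₀ ⊗[B] M) := h
  exact Module.Flat.of_linearEquiv (AlgebraTensorModule.cancelBaseChange B B₀ D' D' M).symm

end Groth.Agent.FlatMor68.FibreNil
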