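import Groth.Agent.FlatMor68.LocFree
import Groth.Agent.FlatMor68.DedekindFlat
import Groth.Agent.QCqs72.Basic
import Mathlib.AlgebraicGeometry.Morphisms.Finite
import Mathlib.RingTheory.Flat.EquationalCriterion
import Groth.Prelude.Def_Curv2

set_option autoImplicit false
set_option backward.isDefEq.respectTransparency.types false
set_option linter.style.haveILetI false

universe u

open CategoryTheory Limits AlgebraicGeometry TopologicalSpace IsLocalRing
open Groth.Agent.Cyc90 Groth.Agent.QC70

namespace Groth.Agent.FlatMor68.FiniteFlatFree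

/-- Finite flat morphisms to locally Noetherian schemes have locally free direct image. -/
theorem push_isFinLocFree {C C' : Scheme.{u}} (f : C ⟶ C') [IsFinite f] [Flat f] [IsLocallyNoetherian C'] :
    FlatMod.IsFinLocFree ((Coh.push f).obj (Coh.structureModule C)) := by
  haveI : (Coh.structureModule C).IsQuasicoherent := isQuasicoherent_unit
  haveI : ((Coh.push f).obj (Coh.structureModule C)).IsQuasicoherent :=
    QCqs72.isQuasicoherent_pushforward (Coh.structureModule C) f
  refine LocFree.isFinLocFree_of_projective_sections _ fun y => ?_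
  obtain ⟨U, hU, hy, -⟩ := exists_isAffineOpen_mem_and_subset (X := C') (x := y) (U := ⊤) trivial
  refine ⟨U, hU, hy, ?_⟩
  haveI : IsNoetherianRing Γ(C', U) := IsLocallyNoetherian.component_noetherian ⟨U, hU⟩
  letI : Algebra Γ(C', U) Γ(C, f ⁻¹ᵁ U) := (f.app U).hom.toAlgebra
  haveI : Module.Finite Γ(C', U) Γ(C, f ⁻¹ᵁ U) := IsFinite.finite_app f U hU
  haveI : Module.Flat Γ(C', U) Γ(C, f ⁻¹ᵁ U) := by
    have := Flat.flat_appLE f hU (hU.preimage f) le_rfl
    rwa [← Scheme.Hom.app_eq_appLE] at this
  haveI : Module.FinitePresentation Γ(C', U) Γ(C, f ⁻¹ᵁ U) := Module.finitePresentation_of_finite _ _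
  haveI : Module.Projective Γ(C', U) Γ(C, f ⁻¹ᵁ U) := Module.Flat.projective_of_finitePresentation
  let e : Γ((Coh.push f).obj (Coh.structureModule C), U) ≃ₗ[Γ(C', U)] Γ(C, f ⁻¹ᵁ U) :=
    { toFun := fun s => s
      invFun := fun s => s
      left_inv := fun _ => rfl
      right_inv := fun _ => rfl
      map_add' := fun _ _ => rfl
      map_smul' := fun _ _ => rfl }
  exact ⟨Module.Projective.of_equiv e.symm, Module.Finite.equiv e.symm⟩

theorem t14415
    (C C' : Scheme.{u}) (f : C ⟶ C') [IsFinite f] [IsLocallyNoetherian C']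
    (hreg : ∀ y : C', IsRegularLocalRing (C'.presheaf.stalk y))
    (hdim : ∀ y : C', ringKrullDim (C'.presheaf.stalk y) ≤ 1)
    (hass : ∀ x : C, Curv2.IsAssPoint (Coh.structureModule C) x →
      ringKrullDim (C'.presheaf.stalk (f.base x)) = 0) :
    FlatMod.IsFinLocFree ((Coh.push f).obj (Coh.structureModule C)) := by
  haveI : IsLocallyNoetherian C := LocallyOfFiniteType.isLocallyNoetherian f
  have hdom : ∀ y : C', IsDomain (C'.presheaf.stalk y) := fun y => by
    haveI := hreg y
    exact Groth.Agent.Ega11.RegLocal.isDomain _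
  haveI : Flat f := by
    refine (DedekindFlat.flat_iff_nzd f fun y => ⟨hdom y, ?_⟩).mpr fun x a ha s hs => ?_
    · haveI := hreg y
      exact DedekindFlat.isPrincipalIdealRing_of_regular _ (hdim y)
    · refine DedekindFlat.nzd_of_ass f x a (fun z hz hzA => ?_) s hs
      haveI := hdom (f.base x)
      haveI := hdom (f.base z)
      haveI : Ring.KrullDimLE 0 (C'.presheaf.stalk (f.base z)) :=
        Ring.krullDimLE_iff.mpr (hass z hzA).le
      have hfield : IsField (C'.presheaf.stalk (f.base z)) := Ring.KrullDimLE.isField_of_isDomain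
      have hne : (C'.presheaf.stalkSpecializes (hz.map f.continuous)).hom a ≠ 0 := by
        intro h0
        have h' : f.base z ⤳ f.base x := hz.map f.continuous
        letI := (C'.presheaf.stalkSpecializes h').hom.toAlgebra
        haveI := isLocalization_genPrime h'
        exact ha ((IsLocalization.injective (C'.presheaf.stalk (f.base z))
          (genPrime h').asIdeal.primeCompl_le_nonZeroDivisors) (h0.trans (map_zero _).symm))
      obtain ⟨b, hb⟩ := hfield.mul_inv_cancel hne
      exact IsUnit.of_mul_eq_one b hb
  exact push_isFinLocFree f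

end Groth.Agent.FlatMor68.FiniteFlatFree
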