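import Groth.Agent.Fib62.FibreRegular
import Groth.Agent.Fib62.RegularFlat
import Groth.Agent.EGA4Alg4.Depth
import Groth.Agent.FlatMor68.FibreStalk

set_option backward.isDefEq.respectTransparency.types false
set_option linter.style.haveILetI false
set_option autoImplicit false
universe u

open CategoryTheory CategoryTheory.Limits AlgebraicGeometry TopologicalSpace TensorProduct IsLocalRing
open RingTheory.Sequence Pointwise

namespace Groth.Agent.FlatMor68.FlatCartier

attribute [local instance] Algebra.TensorProduct.rightAlgebra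

/-- Regularity on the fibre at a prime, spelled out in the local ring. -/
theorem weaklyRegular_fibre_of {A C : Type u} [CommRing A] [CommRing C] [Algebra A C]
    (P : PrimeSpectrum C) (c : C)
    (h : ∀ t : Localization.AtPrime P.asIdeal,
      algebraMap C _ c * t ∈ (P.asIdeal.under A).map (algebraMap A (Localization.AtPrime P.asIdeal)) →
        t ∈ (P.asIdeal.under A).map (algebraMap A (Localization.AtPrime P.asIdeal))) :
    IsWeaklyRegular (Fib62.FibreLocal A P ⊗[C] C) [c] := by
  rw [Fib62.weaklyRegular_fibreLocal_iff]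
  let Cp := Localization.AtPrime P.asIdeal
  let J := (P.asIdeal.under A).map (algebraMap A Cp)
  let e : Cp ⊗[C] C ≃ₗ[Cp] Cp := AlgebraTensorModule.rid C Cp Cp
  have hJ : ∀ z : Cp ⊗[C] C, z ∈ J • (⊤ : Submodule Cp (Cp ⊗[C] C)) ↔ e z ∈ J := by
    intro z
    have h1 : (J • (⊤ : Submodule Cp (Cp ⊗[C] C))).map e.toLinearMap = J := by
      rw [Submodule.map_smul'', Submodule.map_top, LinearEquiv.range, smul_eq_mul, Ideal.mul_top]
    refine ⟨fun hz => h1.le ⟨z, hz, rfl⟩, fun hz => ?_⟩
    obtain ⟨w, hw, hwz⟩ := h1.ge hz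
    rwa [e.injective hwz] at hw
  refine (isWeaklyRegular_cons_iff _ c []).2 ⟨?_, IsWeaklyRegular.nil _ _⟩
  intro a b hab
  rw [← sub_eq_zero]
  have hz : c • (a - b) = 0 := by rw [smul_sub]; exact sub_eq_zero.2 hab
  obtain ⟨z, hzab⟩ := Submodule.mkQ_surjective _ (a - b)
  rw [← hzab, Submodule.mkQ_apply, ← Submodule.Quotient.mk_smul, Submodule.Quotient.mk_eq_zero, hJ] at hz
  rw [← hzab, Submodule.mkQ_apply, Submodule.Quotient.mk_eq_zero, hJ]
  refine h _ ?_
  rwa [← algebraMap_smul Cp c z, map_smul, smul_eq_mul] at hz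

theorem t9756 {X S : Scheme.{u}} (f : X ⟶ S) [LocallyOfFinitePresentation f] (x : X)
    (hflat : (f.stalkMap x).hom.Flat)
    (hdepth : 1 ≤ LocCoh.depth ↑((f.fiber (f x)).presheaf.stalk (f.asFiber x)) ↑((f.fiber (f x)).presheaf.stalk (f.asFiber x))) :
    ∃ (U : X.Opens) (hU : IsAffineOpen U) (hx : x ∈ U) (h' : Γ(X, U)), h' ∈ nonZeroDivisors Γ(X, U) ∧
      X.presheaf.germ U x hx h' ∈ IsLocalRing.maximalIdeal ↑(X.presheaf.stalk x) ∧
      Flat (Spec.map (CommRingCat.ofHom (Ideal.Quotient.mk (Ideal.span {h'}))) ≫ hU.fromSpec ≫ f) ∧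
      LocallyOfFinitePresentation (Spec.map (CommRingCat.ofHom (Ideal.Quotient.mk (Ideal.span {h'}))) ≫ hU.fromSpec ≫ f) := by
  classical
  -- a non-zero-divisor on the fibre
  haveI : LocallyOfFiniteType (f.fiberToSpecResidueField (f x)) :=
    MorphismProperty.pullback_snd _ _ inferInstance
  haveI : IsLocallyNoetherian (f.fiber (f x)) :=
    LocallyOfFiniteType.isLocallyNoetherian (f.fiberToSpecResidueField (f x))
  let O' := (f.fiber (f x)).presheaf.stalk (f.asFiber x)
  obtain ⟨rs, hlen, hmem, hreg⟩ := (EGA4Alg4.natCast_le_depth_iff (A := O') (M := O') 1).1 (by exact_mod_cast hdepth)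
  obtain ⟨r, rfl⟩ := List.length_eq_one_iff.1 hlen
  rw [isWeaklyRegular_cons_iff] at hreg
  let O := X.presheaf.stalk x
  let J : Ideal O := (maximalIdeal (S.presheaf.stalk (f x))).map (f.stalkMap x).hom
  let ε : (O ⧸ J) ≃+* O' := FibreStalk.fibreStalkEquivAt f x
  obtain ⟨r₀, hr₀⟩ := Ideal.Quotient.mk_surjective (ε.symm r)
  have hJreg : ∀ t : O, r₀ * t ∈ J → t ∈ J := by
    intro t ht
    rw [← Ideal.Quotient.eq_zero_iff_mem] at ht ⊢
    rw [map_mul, hr₀] at ht
    apply ε.injective
    have h1 := congrArg ε ht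
    rw [map_mul, RingEquiv.apply_symm_apply, map_zero] at h1
    rw [map_zero]
    exact hreg.1 (show r • ε (Ideal.Quotient.mk J t) = r • 0 by rw [smul_zero]; exact h1)
  have hr₀m : r₀ ∈ maximalIdeal O := by
    rw [mem_maximalIdeal, mem_nonunits_iff]
    intro hu
    have h1 := (hu.map (Ideal.Quotient.mk J)).map ε
    rw [hr₀, RingEquiv.apply_symm_apply] at h1
    exact (mem_nonunits_iff.1 ((mem_maximalIdeal _).1 (hmem r (List.mem_singleton_self r)))) h1
  -- charts
  obtain ⟨V, hV, hxV, -⟩ := exists_isAffineOpen_mem_and_subset (X := S) (x := f x) (U := ⊤) trivial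
  obtain ⟨U₀, hU₀, hxU₀, e₀⟩ := exists_isAffineOpen_mem_and_subset (X := X) (x := x) (U := f ⁻¹ᵁ V) hxV
  let A := Γ(S, V)
  let C := Γ(X, U₀)
  letI : Algebra A C := (f.appLE V U₀ e₀).hom.toAlgebra
  haveI : Algebra.FinitePresentation A C :=
    RingHom.finitePresentation_algebraMap.1 (f.finitePresentation_appLE hV hU₀ e₀)
  let P := hU₀.primeIdealOf ⟨x, hxU₀⟩
  let γ : C →+* O := (X.presheaf.germ U₀ x hxU₀).hom
  letI : Algebra C O := γ.toAlgebra
  haveI : IsLocalization.AtPrime O P.asIdeal := hU₀.isLocalization_stalk ⟨x, hxU₀⟩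
  letI : Algebra A O := (γ.comp (algebraMap A C)).toAlgebra
  haveI : IsScalarTower A C O := .of_algebraMap_eq' rfl
  have hP : P.asIdeal.under A = (hV.primeIdealOf ⟨f x, hxV⟩).asIdeal :=
    congr($(IsAffineOpen.comap_primeIdealOf_appLE V hV U₀ hU₀ e₀ hxU₀).1)
  letI : Algebra A (S.presheaf.stalk (f x)) := (S.presheaf.germ V (f x) hxV).hom.toAlgebra
  haveI hlocS : IsLocalization.AtPrime (S.presheaf.stalk (f x)) (hV.primeIdealOf ⟨f x, hxV⟩).asIdeal :=
    hV.isLocalization_stalk ⟨f x, hxV⟩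
  have hcomp : (f.stalkMap x).hom.comp (algebraMap A (S.presheaf.stalk (f x))) = algebraMap A O :=
    RingHom.ext fun a => FlatSections.stalkMap_germ_appLE f e₀ hxU₀ a
  have hJ : J = (P.asIdeal.under A).map (algebraMap A O) := by
    rw [← hcomp, ← Ideal.map_map, hP,
      IsLocalization.AtPrime.map_eq_maximalIdeal (hV.primeIdealOf ⟨f x, hxV⟩).asIdeal (S.presheaf.stalk (f x))]
  obtain ⟨⟨c, s⟩, hcs⟩ := IsLocalization.surj P.asIdeal.primeCompl r₀
  have hsu : IsUnit (algebraMap C O s.1) := IsLocalization.map_units O s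
  let eO : Localization.AtPrime P.asIdeal ≃ₐ[C] O := IsLocalization.algEquiv P.asIdeal.primeCompl _ _
  have hcP : c ∈ P.asIdeal := by
    rw [← IsLocalization.AtPrime.under_maximalIdeal (R := C) (S := O) P.asIdeal, Ideal.mem_comap]
    show algebraMap C O c ∈ _
    rw [← hcs]
    exact Ideal.mul_mem_right _ _ hr₀m
  have hfibP : IsWeaklyRegular (Fib62.FibreLocal A P ⊗[C] C) [c] := by
    refine weaklyRegular_fibre_of P c fun t ht => ?_
    have hmap : ((P.asIdeal.under A).map (algebraMap A (Localization.AtPrime P.asIdeal))).map eO.toRingHom = J := by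
      rw [hJ, Ideal.map_map]
      congr 1
      exact RingHom.ext fun a => (eO.restrictScalars A).commutes a
    have h1 := Ideal.mem_map_of_mem eO.toRingHom ht
    rw [hmap] at h1
    have h2 : algebraMap C O c * eO t ∈ J := by
      have e1 : eO.toRingHom (algebraMap C _ c * t) = algebraMap C O c * eO t := by
        show eO (algebraMap C _ c * t) = _
        rw [map_mul, AlgEquiv.commutes]
      rwa [e1] at h1
    rw [← hcs, mul_right_comm, Ideal.mul_unit_mem_iff_mem _ hsu] at h2
    have h3 := hJreg _ h2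
    rw [← hmap] at h3
    obtain ⟨t', ht', he⟩ := (Ideal.mem_map_iff_of_surjective eO.toRingHom eO.surjective).1 h3
    rwa [eO.injective he] at ht'
  have hflP : Module.Flat A (Localization.AtPrime P.asIdeal ⊗[C] C) := by
    haveI : Module.Flat A O := by
      rw [← RingHom.flat_algebraMap_iff, ← hcomp]
      exact RingHom.Flat.comp (RingHom.flat_algebraMap_iff.2
        (IsLocalization.flat (S.presheaf.stalk (f x)) (hV.primeIdealOf ⟨f x, hxV⟩).asIdeal.primeCompl)) hflat
    exact Module.Flat.of_linearEquiv (((AlgebraTensorModule.rid C C (Localization.AtPrime P.asIdeal)).restrictScalars A) ≪≫ₗ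
      (eO.restrictScalars A).toLinearEquiv)
  -- a basic open in the good locus
  have hW := Fib62.isOpen_weaklyRegular_fibre (A := A) [c] C
  obtain ⟨_, ⟨g, rfl⟩, hPg, hgW⟩ := PrimeSpectrum.isTopologicalBasis_basic_opens.exists_subset_of_mem_open
    (show P ∈ {P : PrimeSpectrum C | Module.Flat A (Localization.AtPrime P.asIdeal ⊗[C] C) ∧
      IsWeaklyRegular (Fib62.FibreLocal A P ⊗[C] C) [c]} from ⟨hflP, hfibP⟩) hW
  have good : ∀ Q : PrimeSpectrum C, g ∉ Q.asIdeal →
      IsWeaklyRegular (Localization.AtPrime Q.asIdeal ⊗[C] C) [c] ∧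
      Module.Flat A (Localization.AtPrime Q.asIdeal ⊗[C] (C ⧸ Ideal.span {c})) := by
    intro Q hQ
    obtain ⟨h1, h2⟩ := hgW (show Q ∈ (PrimeSpectrum.basicOpen g : Set _) from hQ)
    obtain ⟨h3, h4⟩ := Fib62.weaklyRegular_and_flat Q [c] C h1 h2
    refine ⟨h3, ?_⟩
    haveI := h4 1 le_rfl
    have he : (Ideal.ofList (([c] : List C).take 1) • (⊤ : Submodule C C)) = Ideal.span {c} := by
      simp [Ideal.mul_top]
      rfl
    exact Module.Flat.of_linearEquiv ((AlgebraTensorModule.congr (LinearEquiv.refl (Localization.AtPrime Q.asIdeal) _)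
      (Submodule.quotEquivOfEq _ _ he.symm)).restrictScalars A)
  have hxg : x ∈ X.basicOpen g := by
    rw [Scheme.mem_basicOpen _ g x hxU₀]
    exact IsLocalization.map_units O (⟨g, hPg⟩ : P.asIdeal.primeCompl)
  let U := X.basicOpen g
  have hle : U ≤ U₀ := X.basicOpen_le g
  have hU : IsAffineOpen U := hU₀.basicOpen g
  let C' := Γ(X, U)
  letI : Algebra C C' := (X.presheaf.map (homOfLE hle).op).hom.toAlgebra
  haveI : IsLocalization.Away g C' := hU₀.isLocalization_basicOpen g
  letI : Algebra A C' := ((algebraMap C C').comp (algebraMap A C)).toAlgebra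
  haveI : IsScalarTower A C C' := .of_algebraMap_eq' rfl
  let h' := algebraMap C C' c
  -- non-zero-divisor
  have hnzd : h' ∈ nonZeroDivisors C' := by
    rw [mem_nonZeroDivisors_iff_right]
    intro t ht
    obtain ⟨⟨a, gn⟩, ha⟩ := IsLocalization.surj (Submonoid.powers g) t
    have h1 : algebraMap C C' (a * c) = algebraMap C C' 0 := by
      rw [map_mul, ← ha, mul_right_comm, ht, zero_mul, map_zero]
    obtain ⟨gm, hgm⟩ := (IsLocalization.eq_iff_exists (Submonoid.powers g) C').1 h1
    rw [mul_zero] at hgm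
    have hann : ∀ Q : PrimeSpectrum C, g ∉ Q.asIdeal →
        ∃ s : C, s ∉ Q.asIdeal ∧ s * a = 0 := by
      intro Q hQ
      obtain ⟨h3, -⟩ := good Q hQ
      rw [isWeaklyRegular_cons_iff] at h3
      let L := Localization.AtPrime Q.asIdeal
      have hinj : algebraMap C L (gm.1 * a) = 0 := by
        have h4 : c • (algebraMap C L (gm.1 * a) ⊗ₜ[C] (1 : C)) = 0 := by
          rw [TensorProduct.smul_tmul', Algebra.smul_def, ← map_mul,
            show c * (gm.1 * a) = gm.1 * (a * c) by ring, hgm, map_zero, TensorProduct.zero_tmul]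
        have h5 := congrArg (AlgebraTensorModule.rid C L L) ((h3.1 (show c • (algebraMap C L (gm.1 * a) ⊗ₜ[C] (1 : C)) = c • 0 by rw [smul_zero]; exact h4) : algebraMap C L (gm.1 * a) ⊗ₜ[C] (1 : C) = 0))
        simpa using h5
      obtain ⟨s, hs⟩ := (IsLocalization.map_eq_zero_iff Q.asIdeal.primeCompl L _).1 hinj
      refine ⟨s.1 * gm.1, fun hm => (Q.isPrime.mem_or_mem hm).elim s.2 ?_, by rw [mul_assoc]; exact hs⟩
      intro hgmQ
      obtain ⟨n, hn⟩ := gm.2
      rw [show gm.1 = g ^ n from hn.symm] at hgmQ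
      exact hQ (Q.isPrime.mem_of_pow_mem n hgmQ)
    obtain ⟨n, hn⟩ : ∃ n, g ^ n * a = 0 := by
      by_contra hcon
      push Not at hcon
      let I : Ideal C := LinearMap.ker (LinearMap.toSpanSingleton C C a)
      have hg : g ∉ I.radical := by
        rintro ⟨n, hn⟩
        exact hcon n hn
      rw [Ideal.radical_eq_sInf, Ideal.mem_sInf] at hg
      push Not at hg
      obtain ⟨Q, ⟨hIQ, hQp⟩, hgQ⟩ := hg
      obtain ⟨s, hs, hsa⟩ := hann ⟨Q, hQp⟩ hgQ
      exact hs (hIQ hsa)
    have h6 : algebraMap C C' a = 0 :=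
      (IsLocalization.map_eq_zero_iff (Submonoid.powers g) C' a).2 ⟨⟨g ^ n, n, rfl⟩, hn⟩
    rw [h6] at ha
    exact ((IsLocalization.map_units C' gn).mul_left_eq_zero).1 ha
  -- flat quotient
  have hflatQ : Module.Flat A (C' ⧸ Ideal.span {h'}) := by
    refine Module.flat_of_isLocalized_maximal C' (C' ⧸ Ideal.span {h'})
      (fun P' _ => LocalizedModule P'.primeCompl (C' ⧸ Ideal.span {h'}))
      (fun P' _ => LocalizedModule.mkLinearMap _ _) fun P' _ => ?_
    let Q : PrimeSpectrum C := ⟨P'.under C, inferInstance⟩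
    have hQ : g ∉ Q.asIdeal := fun hg => Ideal.IsPrime.ne_top inferInstance
      (Ideal.eq_top_of_isUnit_mem P' hg (IsLocalization.Away.algebraMap_isUnit g))
    obtain ⟨-, h2⟩ := good Q hQ
    haveI := h2
    let L := Localization.AtPrime P'
    haveI : IsLocalization.AtPrime L Q.asIdeal :=
      IsLocalization.isLocalization_isLocalization_atPrime_isLocalization (Submonoid.powers g) L P'
    let eL : Localization.AtPrime Q.asIdeal ≃ₐ[C] L := IsLocalization.algEquiv Q.asIdeal.primeCompl _ _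
    let e1 : Localization.AtPrime Q.asIdeal ⊗[C] (C ⧸ Ideal.span {c}) ≃ₗ[A] L ⊗[C] (C ⧸ Ideal.span {c}) :=
      (TensorProduct.congr eL.toLinearEquiv (LinearEquiv.refl C _)).restrictScalars A
    haveI : Module.Flat A (L ⊗[C] (C ⧸ Ideal.span {c})) := Module.Flat.of_linearEquiv e1.symm
    let e2 : C' ⊗[C] (C ⧸ Ideal.span {c}) ≃ₐ[C'] C' ⧸ Ideal.span {h'} :=
      (Algebra.TensorProduct.quotIdealMapEquivTensorQuot C' (Ideal.span {c})).symm.trans
        (Ideal.quotientEquivAlgOfEq C' (by rw [Ideal.map_span, Set.image_singleton]))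
    exact Module.Flat.of_linearEquiv (((LocalizedModule.equivTensorProduct P'.primeCompl (C' ⧸ Ideal.span {h'})).restrictScalars A) ≪≫ₗ
      ((AlgebraTensorModule.congr (LinearEquiv.refl L L) e2.symm.toLinearEquiv).restrictScalars A) ≪≫ₗ
      ((AlgebraTensorModule.cancelBaseChange C C' L L (C ⧸ Ideal.span {c})).restrictScalars A))
  haveI : Algebra.FinitePresentation A C' := by
    haveI : Algebra.FinitePresentation C C' := IsLocalization.Away.finitePresentation g
    exact Algebra.FinitePresentation.trans A C C'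
  let ψ : A →+* C' ⧸ Ideal.span {h'} := algebraMap A (C' ⧸ Ideal.span {h'})
  have hfac : Spec.map (CommRingCat.ofHom (Ideal.Quotient.mk (Ideal.span {h'}))) ≫ hU.fromSpec ≫ f =
      Spec.map (CommRingCat.ofHom ψ) ≫ hV.fromSpec := by
    rw [← IsAffineOpen.SpecMap_appLE_fromSpec f hV hU (hle.trans e₀), ← Category.assoc, ← Spec.map_comp]
    congr 2
    ext a
    show Ideal.Quotient.mk _ (f.appLE V U (hle.trans e₀) a) = Ideal.Quotient.mk _ (algebraMap C C' (f.appLE V U₀ e₀ a))
    rw [← Scheme.Hom.appLE_map f e₀ (homOfLE hle).op]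
    rfl
  refine ⟨U, hU, hxg, h', hnzd, ?_, ?_, ?_⟩
  · show X.presheaf.germ U x hxg (X.presheaf.map (homOfLE hle).op c) ∈ _
    rw [TopCat.Presheaf.germ_res_apply]
    show algebraMap C O c ∈ maximalIdeal O
    rw [← hcs]
    exact Ideal.mul_mem_right _ _ hr₀m
  · rw [hfac]
    haveI : Flat (Spec.map (CommRingCat.ofHom ψ)) :=
      (HasRingHomProperty.Spec_iff (P := @Flat)).2 (RingHom.flat_algebraMap_iff.2 hflatQ)
    infer_instance
  · rw [hfac]
    haveI : LocallyOfFinitePresentation (Spec.map (CommRingCat.ofHom ψ)) := by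
      refine (HasRingHomProperty.Spec_iff (P := @LocallyOfFinitePresentation)).2 ?_
      exact RingHom.FinitePresentation.comp (RingHom.FinitePresentation.of_surjective _ Ideal.Quotient.mk_surjective
        (by rw [Ideal.mk_ker]; exact ⟨{h'}, by simp⟩)) (RingHom.finitePresentation_algebraMap.2 inferInstance)
    infer_instance

end Groth.Agent.FlatMor68.FlatCartier
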