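import Groth.Agent.FlatMor68.MiracleFlat
import Groth.Agent.FibDim94.BaseChange

/-! Dimension formula for base changes of flat equidimensional maps (S10941). -/

set_option autoImplicit false
set_option backward.isDefEq.respectTransparency.types false
set_option linter.style.haveILetI false

universe u

open CategoryTheory Limits AlgebraicGeometry TopologicalSpace
open Groth.Agent.WC97 (tdegN)
open Groth.Agent.E4O (fdeg IsFibreMax)

namespace Groth.Agent.FlatMor68.FlatDimBC

theorem t10941 (k : Type u) [Field k]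
    {X Y Y' : Scheme.{u}} (qX : X ⟶ Spec (CommRingCat.of k)) (qY : Y ⟶ Spec (CommRingCat.of k))
    (qY' : Y' ⟶ Spec (CommRingCat.of k))
    [LocallyOfFiniteType qX] [LocallyOfFiniteType qY] [LocallyOfFiniteType qY']
    [IrreducibleSpace ↥Y] (f : X ⟶ Y) (hf : f ≫ qY = qX) [Flat f] (n : ℕ)
    (hX : ∀ Z : Set ↥X, Z ∈ irreducibleComponents ↥X →
      topologicalKrullDim ↥Z = topologicalKrullDim ↥Y + (n : WithBot ℕ∞))
    (g : Y' ⟶ Y) (hg : g ≫ qY = qY')
    (V : Set ↥Y') (hV : IsClosed V) (hVirr : IsIrreducible V)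
    (W : Set ↥((pullback.snd f g).base ⁻¹' V))
    (hW : W ∈ irreducibleComponents ↥((pullback.snd f g).base ⁻¹' V)) :
    topologicalKrullDim ↥W = topologicalKrullDim ↥V + (n : WithBot ℕ∞) := by
  haveI : LocallyOfFiniteType (f ≫ qY) := hf ▸ ‹LocallyOfFiniteType qX›
  haveI : LocallyOfFiniteType f := locallyOfFiniteType_of_comp f qY
  have hn : ∀ z : X, IsFibreMax f z → fdeg f z = n :=
    (FlatDimField.equidim_iff_fdeg qX qY f hf _ n (FlatDimField.equidim_of_irreducible qY)).1
      ((FlatDimField.equidim_iff qX _).2 fun Z hZ => by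
        rw [hX Z hZ, FlatDimField.dim_eq_generic qY, Nat.cast_add])
  let I := Scheme.IdealSheafData.vanishingIdeal (⟨V, hV⟩ : Closeds Y')
  let j := I.subschemeι
  have hj : Set.range j = V := by
    rw [Scheme.IdealSheafData.range_subschemeι, Scheme.IdealSheafData.coe_support_vanishingIdeal]
    rfl
  let eV : I.subscheme ≃ₜ V := j.isClosedEmbedding.isEmbedding.toHomeomorph.trans (Homeomorph.setCongr hj)
  haveI : IrreducibleSpace ↥V := Subtype.irreducibleSpace hVirr
  haveI : IrreducibleSpace I.subscheme := eV.symm.surjective.irreducibleSpace eV.symm.continuous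
  let i := pullback.fst (pullback.snd f g) j
  let q := pullback.snd (pullback.snd f g) j
  haveI : Flat q := inferInstance
  haveI : LocallyOfFiniteType q := inferInstance
  have hsq : IsPullback (i ≫ pullback.fst f g) q f (j ≫ g) :=
    (IsPullback.of_hasPullback _ _).paste_horiz (IsPullback.of_hasPullback f g)
  have hq : ∀ z, IsFibreMax q z → fdeg q z = n := fun z hz => by
    rw [FibDim94.fdeg_eq_of_isFibreMax hsq hz]
    exact hn _ (FibDim94.isFibreMax_image hsq hz)
  have hP := (FlatDimField.equidim_iff _ _).1 ((FlatDimField.equidim_iff_fdeg (q ≫ j ≫ qY') (j ≫ qY') q rfl _ n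
    (FlatDimField.equidim_of_irreducible (j ≫ qY'))).2 hq)
  have hi : Set.range i = (pullback.snd f g).base ⁻¹' V := by
    rw [Scheme.Pullback.range_fst, hj]
  let eP : ↥(pullback (pullback.snd f g) j) ≃ₜ ↥((pullback.snd f g).base ⁻¹' V) :=
    i.isClosedEmbedding.isEmbedding.toHomeomorph.trans (Homeomorph.setCongr hi)
  rw [(eP.symm.image W).isHomeomorph.topologicalKrullDim_eq, hP _ (MiracleFlat.irred_image eP.symm hW),
    ← eV.isHomeomorph.topologicalKrullDim_eq, FlatDimField.dim_eq_generic (j ≫ qY'), Nat.cast_add]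

end Groth.Agent.FlatMor68.FlatDimBC
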