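import Groth.Agent.Cyc90.FlatRelDim
import Groth.Agent.Var76.FibreBound
import Groth.Agent.VarGal.LocalDim
import Groth.Prelude.Def_Flat

/-! Dimensions of components and fibres of flat morphisms of schemes of finite type over a field
(S14403, S14404, S11322). -/

set_option autoImplicit false
set_option backward.isDefEq.respectTransparency.types false
set_option linter.style.haveILetI false

universe u

open CategoryTheory Limits AlgebraicGeometry TopologicalSpace
open Groth.Agent.WC97 (tdegN)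
open Groth.Agent.E4O (fdeg IsFibreMax)

namespace Groth.Agent.FlatMor68.FlatDimField

variable {k : Type u} [Field k] {X Y : Scheme.{u}} (qX : X ⟶ Spec (CommRingCat.of k))
  (qY : Y ⟶ Spec (CommRingCat.of k)) [LocallyOfFiniteType qX] [LocallyOfFiniteType qY]

/-- All maximal points have residual transcendence degree `D`. -/
def Equidim (D : ℕ) : Prop := ∀ ξ : X, (∀ w, w ⤳ ξ → w = ξ) → tdegN qX ξ = D

theorem equidim_iff (D : ℕ) : Equidim qX D ↔
    ∀ Z ∈ irreducibleComponents (X : Type u), topologicalKrullDim Z = (D : WithBot ℕ∞) := by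
  constructor
  · intro h Z hZ
    obtain ⟨z, rfl, hz⟩ := E4O.exists_eq_closure_of_mem_irreducibleComponents hZ
    rw [WC97.topologicalKrullDim_closure qX z, h z hz]
  · intro h ξ hξ
    have := h _ (E4O.closure_mem_irreducibleComponents hξ)
    rw [WC97.topologicalKrullDim_closure qX ξ] at this
    exact_mod_cast this

omit [LocallyOfFiniteType qX] in
theorem equidim_of_irreducible [IrreducibleSpace X] : Equidim qX (tdegN qX (genericPoint X)) :=
  fun ξ hξ => by rw [hξ _ ((genericPoint_spec X).specializes trivial)]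

theorem dim_eq_generic [IrreducibleSpace X] :
    topologicalKrullDim X = (tdegN qX (genericPoint X) : WithBot ℕ∞) := by
  refine le_antisymm (Var76.FibreBound.dim_le_of_forall_univ qX fun x => ?_)
    (Var76.FibreBound.tdegN_le_dim qX _)
  exact_mod_cast Var76.FibreBound.tdegN_le qX ((genericPoint_spec X).specializes (y := x) trivial)

theorem localDim_eq {D : ℕ} (h : Equidim qX D) (x : X) : FlatMor.localDim X x = (D : WithBot ℕ∞) := by
  refine le_antisymm ?_ (le_iInf fun U => ?_)
  · refine (TopDim50.localDim_le ⊤ (Set.mem_univ x)).trans ((topologicalKrullDim_subspace_le X _).trans ?_)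
    refine Var76.FibreBound.dim_le_of_forall_univ qX fun w => ?_
    obtain ⟨ξ, hξw, hξ⟩ := Var76.FibreBound.exists_maximal qX w
    exact Nat.cast_le.2 ((Var76.FibreBound.tdegN_le qX hξw).trans (h ξ hξ).le)
  · obtain ⟨ξ, hξx, hξ⟩ := Var76.FibreBound.exists_maximal qX x
    have hξU : ξ ∈ U.1 := hξx.mem_open U.1.2 U.2
    haveI : LocallyOfFiniteType ((Scheme.Opens.ι U.1) ≫ qX) := inferInstance
    have h1 := Var76.FibreBound.tdegN_eq_add (qX := (Scheme.Opens.ι U.1) ≫ qX) (qY := qX) (Scheme.Opens.ι U.1) rfl ⟨ξ, hξU⟩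
    have h2 : D ≤ tdegN ((Scheme.Opens.ι U.1) ≫ qX) ⟨ξ, hξU⟩ := by
      rw [h1, show (Scheme.Opens.ι U.1) ⟨ξ, hξU⟩ = ξ from rfl, h ξ hξ]
      exact Nat.le_add_right _ _
    exact le_trans (Nat.cast_le.2 h2) (Var76.FibreBound.tdegN_le_dim ((Scheme.Opens.ι U.1) ≫ qX) ⟨ξ, hξU⟩)

theorem ringKrullDim_add {D : ℕ} (h : Equidim qX D) (x : X) :
    (tdegN qX x : WithBot ℕ∞) + ringKrullDim (X.presheaf.stalk x) = (D : WithBot ℕ∞) := by
  rw [← VarGal.localDim_eq_tdegN_add qX x, localDim_eq qX h x]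

variable (f : X ⟶ Y) [Flat f]

theorem maximal_apply {ξ : X} (hξ : ∀ w, w ⤳ ξ → w = ξ) :
    (∀ v, v ⤳ f.base ξ → v = f.base ξ) ∧ IsFibreMax f ξ := by
  refine ⟨fun v hv => ?_, fun x' hx' _ => hξ x' hx'⟩
  obtain ⟨w, hw, rfl⟩ := Flat.generalizingMap f hv
  rw [hξ w hw]

include qX qY in
theorem equidim_iff_fdeg (hf : f ≫ qY = qX) (d n : ℕ) (hY : Equidim qY d) :
    Equidim qX (d + n) ↔ ∀ z : X, IsFibreMax f z → fdeg f z = n := by
  haveI : LocallyOfFiniteType (f ≫ qY) := hf ▸ ‹LocallyOfFiniteType qX›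
  haveI : LocallyOfFiniteType f := locallyOfFiniteType_of_comp f qY
  constructor
  · intro hX z hz
    haveI : IsLocallyNoetherian X := LocallyOfFiniteType.isLocallyNoetherian qX
    haveI : IsLocallyNoetherian Y := LocallyOfFiniteType.isLocallyNoetherian qY
    have h0 := Cyc90.ringKrullDim_stalk_eq_of_isFibreMax f z hz
    have h1 := ringKrullDim_add qX hX z
    have h2 := ringKrullDim_add qY hY (f z)
    rw [h0, Var76.FibreBound.tdegN_eq_add (qX := qX) (qY := qY) f hf z] at h1
    obtain ⟨b, hb⟩ : ∃ b : ℕ, ringKrullDim (Y.presheaf.stalk (f z)) = (b : WithBot ℕ∞) := by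
      generalize ringKrullDim (Y.presheaf.stalk (f z)) = r at h2
      induction r with
      | bot => simp at h2
      | coe r =>
        induction r with
        | top =>
          rw [← WithBot.coe_natCast, ← WithBot.coe_natCast, ← WithBot.coe_add, WithBot.coe_inj, add_top] at h2
          exact absurd h2.symm (ENat.natCast_ne_top d)
        | coe r => exact ⟨r, rfl⟩
    rw [hb] at h1 h2
    norm_cast at h1 h2
    omega
  · intro h ξ hξ
    obtain ⟨h1, h2⟩ := maximal_apply f hξ
    rw [Var76.FibreBound.tdegN_eq_add (qX := qX) (qY := qY) f hf ξ, hY _ h1, h ξ h2]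

omit [Flat f] in
theorem fdeg_iff [LocallyOfFiniteType f] (n : ℕ) : (∀ z : X, IsFibreMax f z → fdeg f z = n) ↔
    ∀ (y : Y), ∀ Z ∈ irreducibleComponents (f.fiber y : Type u),
      topologicalKrullDim Z = (n : WithBot ℕ∞) := by
  constructor
  · intro h y Z hZ
    obtain ⟨z, -, hz, hd⟩ := E4O.exists_of_mem_irreducibleComponents_fiber f hZ
    rw [hd, h _ hz]
  · intro h z hz
    obtain ⟨Z, hZ, hd⟩ := E4O.exists_component_of_isFibreMax f rfl hz
    rw [h _ Z hZ] at hd
    exact_mod_cast hd.symm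

theorem t14403 (k : Type u) [Field k]
    {X Y : Scheme.{u}} (qX : X ⟶ Spec (CommRingCat.of k)) (qY : Y ⟶ Spec (CommRingCat.of k))
    [LocallyOfFiniteType qX] [LocallyOfFiniteType qY]
    (f : X ⟶ Y) (hf : f ≫ qY = qX) [Flat f] (d n : ℕ)
    (hY : ∀ Z ∈ irreducibleComponents (Y : Type u), topologicalKrullDim Z = (d : WithBot ℕ∞)) :
    (∀ Z ∈ irreducibleComponents (X : Type u), topologicalKrullDim Z = ((d + n : ℕ) : WithBot ℕ∞)) ↔
      ∀ (y : Y), ∀ Z ∈ irreducibleComponents (f.fiber y : Type u),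
        topologicalKrullDim Z = (n : WithBot ℕ∞) := by
  haveI : LocallyOfFiniteType (f ≫ qY) := hf ▸ ‹LocallyOfFiniteType qX›
  haveI : LocallyOfFiniteType f := locallyOfFiniteType_of_comp f qY
  rw [← fdeg_iff, ← equidim_iff qX, equidim_iff_fdeg qX qY f hf d n ((equidim_iff qY d).2 hY)]

theorem t11322 (k : Type u) [Field k]
    {X Y : Scheme.{u}} (qX : X ⟶ Spec (CommRingCat.of k)) (qY : Y ⟶ Spec (CommRingCat.of k))
    [LocallyOfFiniteType qX] [LocallyOfFiniteType qY]
    [IrreducibleSpace ↥Y] (f : X ⟶ Y) (hf : f ≫ qY = qX) [Flat f] (n : ℕ) :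
    (∀ Z : Set ↥X, Z ∈ irreducibleComponents ↥X → topologicalKrullDim ↥Z = topologicalKrullDim ↥Y + (n : WithBot ℕ∞)) ↔
      ∀ (y : Y) (Z : Set ↥(f.fiber y)), Z ∈ irreducibleComponents ↥(f.fiber y) →
        topologicalKrullDim ↥Z = (n : WithBot ℕ∞) := by
  rw [dim_eq_generic qY, ← Nat.cast_add]
  exact t14403 k qX qY f hf _ n ((equidim_iff qY _).1 (equidim_of_irreducible qY))

theorem t14404 (k : Type u) [Field k]
    {X Y : Scheme.{u}} (qX : X ⟶ Spec (CommRingCat.of k)) (qY : Y ⟶ Spec (CommRingCat.of k))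
    [LocallyOfFiniteType qX] [LocallyOfFiniteType qY]
    [IrreducibleSpace X] [IrreducibleSpace Y] (f : X ⟶ Y) (hf : f ≫ qY = qX) [Flat f] :
    topologicalKrullDim Y ≤ topologicalKrullDim X ∧
      ∀ (y : Y), ∀ Z ∈ irreducibleComponents (f.fiber y : Type u),
        topologicalKrullDim Z + topologicalKrullDim Y = topologicalKrullDim X := by
  haveI : LocallyOfFiniteType (f ≫ qY) := hf ▸ ‹LocallyOfFiniteType qX›
  haveI : LocallyOfFiniteType f := locallyOfFiniteType_of_comp f qY
  have hgen : ∀ w : X, w ⤳ genericPoint X → w = genericPoint X := fun w hw =>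
    (hw.antisymm ((genericPoint_spec X).specializes trivial)).eq
  have h1 := (maximal_apply f hgen).1
  have hY : f.base (genericPoint X) = genericPoint Y :=
    (h1 _ ((genericPoint_spec Y).specializes trivial)).symm
  have e := Var76.FibreBound.tdegN_eq_add (qX := qX) (qY := qY) f hf (genericPoint X)
  rw [show f (genericPoint X) = genericPoint Y from hY] at e
  have hE : Equidim qX (tdegN qY (genericPoint Y) + fdeg f (genericPoint X)) := e ▸ equidim_of_irreducible qX
  rw [dim_eq_generic qX, dim_eq_generic qY, e]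
  refine ⟨Nat.cast_le.2 (Nat.le_add_right _ _), fun y Z hZ => ?_⟩
  rw [(fdeg_iff f _).1 ((equidim_iff_fdeg qX qY f hf _ _ (equidim_of_irreducible qY)).1 hE) y Z hZ,
    ← Nat.cast_add, add_comm]

end Groth.Agent.FlatMor68.FlatDimField
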