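import Groth.Agent.FlatMor67.FlatAssFibreScheme
import Groth.Agent.FlatMor68.FlatDimFun
import Groth.Agent.QCPull72.Sections
import Groth.Agent.S9780

/-!
# Flatness is detected at the associated points of the fibres; the functor `F_n` of an étale neighbourhood
containing the relative assassin (S9028)
-/

set_option autoImplicit false
set_option backward.isDefEq.respectTransparency.types false
set_option linter.style.haveILetI false

universe u

open CategoryTheory CategoryTheory.Limits AlgebraicGeometry TopologicalSpace IsLocalRing Opposite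

namespace Groth.Agent.FlatMor68.RelAssFlatAt

open QC70 FlatMor68.FlatSections

/-- A finite type module is flat at a point as soon as it is flat at the associated points of the fibre
specializing to it. -/
theorem isFlatOverAt_of_relAss {X S : Scheme.{u}} (f : X ⟶ S) [LocallyOfFiniteType f] (F : X.Modules)
    [F.IsQuasicoherent] [F.IsFiniteType] (x : X)
    (h : ∀ y ∈ MoreMor.relAss f F, y ⤳ x → f y = f x → FlatMod.IsFlatOverAt f F y) :
    FlatMod.IsFlatOverAt f F x := by
  obtain ⟨_, ⟨V, hV, rfl⟩, hxV, -⟩ :=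
    S.isBasis_affineOpens.exists_subset_of_mem_open (Set.mem_univ (f x)) isOpen_univ
  obtain ⟨_, ⟨U, hU, rfl⟩, hxU, e⟩ :=
    X.isBasis_affineOpens.exists_subset_of_mem_open hxV (V.2.preimage f.continuous)
  have hftU := f.finiteType_appLE hV hU e
  have hloc := isLocAt_of_isQuasicoherent F hU
  letI : Algebra Γ(S, V) Γ(X, U) := (f.appLE V U e).hom.toAlgebra
  letI : Module Γ(S, V) Γ(F, U) := Module.compHom _ (f.appLE V U e).hom
  haveI : IsScalarTower Γ(S, V) Γ(X, U) Γ(F, U) :=
    IsScalarTower.of_algebraMap_smul fun r s => rfl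
  haveI : Algebra.FiniteType Γ(S, V) Γ(X, U) := hftU
  haveI : Module.Finite Γ(X, U) Γ(F, U) := finite_sections_of_isFiniteType F hU
  refine (Open62.isFlatOverAt_iff_localized f e hU hV hloc hxU).2
    (FlatMor67.flat_localizedModule_of_flat_at_fibre_ass _ fun r _ hrq hrp hz => ?_)
  obtain ⟨z, hz₁, hz₂⟩ := hz
  rw [← hrp] at hz₁ hz₂
  let y : X := hU.fromSpec ⟨r, inferInstance⟩
  have hy : y ∈ U := hU.range_fromSpec.subset ⟨_, rfl⟩
  have hprime : hU.primeIdealOf ⟨y, hy⟩ = ⟨r, inferInstance⟩ :=
    hU.fromSpec.isOpenEmbedding.injective (hU.fromSpec_primeIdealOf ⟨y, hy⟩)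
  have hass : y ∈ MoreMor.relAss f F := by
    letI := stalkModule F hy
    letI : Algebra Γ(X, U) (X.presheaf.stalk y) := (X.presheaf.germ U y hy).hom.toAlgebra
    haveI : IsScalarTower Γ(X, U) (X.presheaf.stalk y) (F.presheaf.stalk y) :=
      IsScalarTower.of_algebraMap_smul fun r s => rfl
    have hl := isLocalizedModule_germ hloc hU hy
    have hlr := hU.isLocalization_stalk ⟨y, hy⟩
    have hJ := FlatMor67.map_maximalIdeal_base f e hU hV hy
    rw [hprime] at hl hlr hJ
    haveI : IsLocalizedModule r.primeCompl (germLinear F hy) := hl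
    haveI : IsLocalization.AtPrime (X.presheaf.stalk y) r := hlr
    let eq := IsLocalizedModule.iso r.primeCompl (germLinear F hy)
    let I : Ideal Γ(X, U) := (r.comap (algebraMap Γ(S, V) Γ(X, U))).map
      (algebraMap Γ(S, V) Γ(X, U))
    let K := ((maximalIdeal (S.presheaf.stalk (f y))).map (f.stalkMap y).hom •
      (⊤ : Submodule (X.presheaf.stalk y) (F.presheaf.stalk y)))
    have hK : ∀ w, w ∈ K ↔ eq.symm w ∈ (I • ⊤ : Submodule Γ(X, U) (LocalizedModule r.primeCompl Γ(F, U))) := by
      intro w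
      have hKI : K.restrictScalars Γ(X, U) = (I • ⊤ : Submodule Γ(X, U) (F.presheaf.stalk y)) := by
        have h1 : K = (I.map (algebraMap Γ(X, U) (X.presheaf.stalk y)) •
            (⊤ : Submodule (X.presheaf.stalk y) (F.presheaf.stalk y))) := by
          show _ • _ = _
          rw [hJ]
          rfl
        rw [h1, Ideal.smul_restrictScalars, Submodule.restrictScalars_top]
      rw [← Submodule.restrictScalars_mem Γ(X, U) K w, hKI]
      constructor
      · intro h
        have h' := Submodule.mem_map_of_mem (f := eq.symm.toLinearMap) h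
        rw [Submodule.map_smul''] at h'
        exact Submodule.smul_mono le_rfl le_top h'
      · intro h
        have h' := Submodule.mem_map_of_mem (f := eq.toLinearMap) h
        rw [Submodule.map_smul'', LinearEquiv.coe_toLinearMap, eq.apply_symm_apply] at h'
        exact Submodule.smul_mono le_rfl le_top h'
    refine ⟨inferInstance, K.mkQ (eq z), ?_⟩
    have hcol : (⊥ : Submodule (X.presheaf.stalk y) (F.presheaf.stalk y ⧸ K)).colon {K.mkQ (eq z)} =
        maximalIdeal (X.presheaf.stalk y) := by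
      refine ((maximalIdeal.isMaximal _).eq_of_le ?_ ?_).symm
      · intro hT
        have h1 := (Ideal.eq_top_iff_one _).1 hT
        rw [Submodule.mem_colon_singleton, one_smul, Submodule.mem_bot, Submodule.mkQ_apply,
          Submodule.Quotient.mk_eq_zero, hK, eq.symm_apply_apply] at h1
        exact hz₁ h1
      · rw [← IsLocalization.AtPrime.map_eq_maximalIdeal r (X.presheaf.stalk y), Ideal.map_le_iff_le_comap]
        intro b hb
        rw [Ideal.mem_comap, Submodule.mem_colon_singleton, Submodule.mem_bot, ← map_smul, Submodule.mkQ_apply,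
          Submodule.Quotient.mk_eq_zero, hK, algebraMap_smul, ← map_smul eq, eq.symm_apply_apply]
        exact hz₂ b hb
    exact (congrArg Ideal.radical hcol).trans (maximalIdeal.isMaximal _).isPrime.radical |>.symm
  have hx0 : hU.fromSpec (hU.primeIdealOf ⟨x, hxU⟩) = x := hU.fromSpec_primeIdealOf ⟨x, hxU⟩
  have hyx : y ⤳ x := by
    rw [← hx0]
    exact ((PrimeSpectrum.le_iff_specializes ⟨r, inferInstance⟩ (hU.primeIdealOf ⟨x, hxU⟩)).1 hrq).map
      hU.fromSpec.continuous
  have hfyx : f y = f x := by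
    rw [← hx0, ← Scheme.Hom.comp_apply, ← Scheme.Hom.comp_apply,
      ← IsAffineOpen.SpecMap_appLE_fromSpec f hV hU e, Scheme.Hom.comp_apply, Scheme.Hom.comp_apply]
    congr 1
    exact PrimeSpectrum.ext hrp
  have h3 := (Open62.isFlatOverAt_iff_localized f e hU hV hloc hy).1 (h y hass hyx hfyx)
  rw [hprime] at h3
  exact h3

/-- Residual transcendence degrees do not change along an étale morphism. -/
theorem fdeg_comp_eq {A B S : Scheme.{u}} (k : A ⟶ B) [LocallyOfFiniteType k] [LocallyQuasiFinite k]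
    (g : B ⟶ S) [LocallyOfFiniteType g] (x : A) : E4O.fdeg (k ≫ g) x = E4O.fdeg g (k x) := by
  have h1 := Cyc90.trdeg_residueField_eq_fdeg k x
  have h2 := Cyc90.trdeg_residueField_eq_fdeg g (k x)
  have h3 := Cyc90.trdeg_residueField_eq_fdeg (k ≫ g) x
  rw [VarGal.fdeg_eq_zero_of_quasiFiniteAt k (k.quasiFiniteAt x)] at h1
  let K := S.residueField (g (k x)); let L := B.residueField (k x); let M := A.residueField x
  letI aKL : Algebra K L := (g.residueFieldMap (k x)).hom.toAlgebra
  letI aLM : Algebra L M := (k.residueFieldMap x).hom.toAlgebra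
  letI aKM : Algebra K M := ((k ≫ g).residueFieldMap x).hom.toAlgebra
  have : IsScalarTower K L M := IsScalarTower.of_algebraMap_eq' (by
    change ((k ≫ g).residueFieldMap x).hom = _
    rw [Scheme.residueFieldMap_comp]
    rfl)
  have h : Algebra.trdeg K L + Algebra.trdeg L M = Algebra.trdeg K M := trdeg_add_eq K L (A := M)
  rw [h1, h2, Nat.cast_zero, add_zero] at h
  exact (Nat.cast_injective (h.trans h3)).symm

theorem t9028 {X X' S : Scheme.{u}} (f : X ⟶ S) [LocallyOfFiniteType f] (F : X.Modules) [Coh.IsQCoh F]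
    (hF : CohB1.IsFT F) (h : X' ⟶ X) [Etale h] (hAss : MoreMor.relAss f F ⊆ Set.range h.base) (n : ℕ) (T : Over S)
    (hT : FlatFun.DimFibresLT n (PicF.XTproj (h ≫ f) T)
        {x | ¬ FlatMod.IsFlatOverAt (PicF.XTproj (h ≫ f) T) (FGA.ET (h ≫ f) ((Scheme.Modules.pullback h).obj F) T) x}) :
    FlatFun.DimFibresLT n (PicF.XTproj f T)
        {x | ¬ FlatMod.IsFlatOverAt (PicF.XTproj f T) (FGA.ET f F T) x} := by
  let hT' : pullback (h ≫ f) T.hom ⟶ pullback f T.hom :=
    pullback.lift (pullback.fst (h ≫ f) T.hom ≫ h) (pullback.snd (h ≫ f) T.hom)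
      (by rw [Category.assoc]; exact pullback.condition)
  have hsnd : hT' ≫ pullback.snd f T.hom = pullback.snd (h ≫ f) T.hom := pullback.lift_snd _ _ _
  have hfst : hT' ≫ pullback.fst f T.hom = pullback.fst (h ≫ f) T.hom ≫ h := pullback.lift_fst _ _ _
  have hsq : IsPullback hT' (pullback.fst (h ≫ f) T.hom) (pullback.fst f T.hom) h := by
    refine IsPullback.of_right ?_ hfst (IsPullback.of_hasPullback f T.hom).flip
    rw [hsnd]
    exact (IsPullback.of_hasPullback (h ≫ f) T.hom).flip
  haveI : Etale hT' := MorphismProperty.of_isPullback hsq.flip inferInstance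
  haveI := Hensel20.locallyQuasiFinite_of_etale hT'
  have e : (Scheme.Modules.pullback hT').obj (FGA.ET f F T) ≅
      FGA.ET (h ≫ f) ((Scheme.Modules.pullback h).obj F) T :=
    (Scheme.Modules.pullbackComp hT' (pullback.fst f T.hom)).app F ≪≫
      (Scheme.Modules.pullbackCongr hfst).app F ≪≫
      ((Scheme.Modules.pullbackComp (pullback.fst (h ≫ f) T.hom) h).app F).symm
  rw [FlatDimFun.dimFibresLT_iff] at hT ⊢
  intro x hx
  by_contra hdeg
  refine hx ?_
  haveI hq : F.IsQuasicoherent := ‹Coh.IsQCoh F›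
  haveI : F.IsFiniteType := hF
  haveI : (FGA.ET f F T).IsQuasicoherent := FlatDimFun.qcohET f F T
  haveI : (FGA.ET f F T).IsFiniteType := QCPull72.isFiniteType_pullback (pullback.fst f T.hom) F
  refine isFlatOverAt_of_relAss (pullback.snd f T.hom) (FGA.ET f F T) x fun y hy hyx hfy => ?_
  let U : X.Opens := ⟨Set.range h, h.isOpenMap.isOpen_range⟩
  have hU : y ∈ (pullback.fst f T.hom ⁻¹ᵁ U : Set _) :=
    (Groth.Agent.S9780.result f F hF U T.hom (pullback.snd f T.hom) (pullback.fst f T.hom)
      (IsPullback.of_hasPullback f T.hom) (pullback.snd f T.hom y)).1 (fun a ha => hAss ha.1) ⟨hy, rfl⟩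
  obtain ⟨x₁, hx₁⟩ : pullback.fst f T.hom y ∈ Set.range h := hU
  obtain ⟨x', hx', -⟩ := Scheme.Pullback.exists_preimage_pullback y x₁ hx₁.symm
  let x'' := hsq.isoPullback.inv x'
  have hx'' : hT' x'' = y := by
    rw [← hx', ← Scheme.Hom.comp_apply, hsq.isoPullback_inv_fst]
  have hfl : FlatMod.IsFlatOverAt (pullback.snd (h ≫ f) T.hom) (FGA.ET (h ≫ f) ((Scheme.Modules.pullback h).obj F) T) x'' := by
    by_contra hn
    have h1 : E4O.fdeg (pullback.snd (h ≫ f) T.hom) x'' < n := hT x'' hn
    rw [← hsnd, fdeg_comp_eq hT' (pullback.snd f T.hom), hx''] at h1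
    exact hdeg (lt_of_le_of_lt (E4O.fdeg_le hyx hfy) h1)
  rw [← hx'']
  refine (Groth.Agent.S9350.result hT' (pullback.snd f T.hom) (FGA.ET f F T) (FlatDimFun.qcohET f F T) x''
    (Flat.stalkMap hT' x'')).2 ?_
  have := FlatDimFun.isFlatOverAt_of_iso _ e.symm x'' hfl
  rwa [hsnd]

end Groth.Agent.FlatMor68.RelAssFlatAt
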