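import Groth.Agent.FlatMor68.DimLT
import Groth.Agent.FlatMor68.RelAssFlatAt
import Groth.Agent.FlatMor67.FlatAtDesc
import Groth.Agent.FlatCrit65.Purity.Cover
import Groth.Agent.FlatCrit65.Assassin.FlatAssoc
import Groth.Agent.FlatMor68.TopDimRing
import Mathlib

/-!
# Flatness in dimensions `≥ n` under base change, flat descent and étale localisation
-/

set_option autoImplicit false
set_option backward.isDefEq.respectTransparency.types false
set_option linter.style.haveILetI false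
set_option linter.unusedVariables false

universe u

open CategoryTheory CategoryTheory.Limits AlgebraicGeometry TensorProduct

namespace Groth.Agent.FlatMor68.FlatInDimBC

section chart

variable {A B : Type u} [CommRing A] [CommRing B] [Algebra A B]

/-- The structure morphism of an affine algebra. -/
noncomputable abbrev str (A B : Type u) [CommRing A] [CommRing B] [Algebra A B] :
    Spec (CommRingCat.of B) ⟶ Spec (CommRingCat.of A) :=
  Spec.map (CommRingCat.ofHom (algebraMap A B))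

instance lft_str [Algebra.FiniteType A B] : LocallyOfFiniteType (str A B) :=
  (HasRingHomProperty.Spec_iff (P := @LocallyOfFiniteType)).2 (RingHom.finiteType_algebraMap.2 ‹_›)

/-- The transcendence degree of a residue algebra is the fibre degree at the point. -/
theorem trdeg_eq_fdeg [Algebra.FiniteType A B] (t : Ideal A) [t.IsPrime] (Q : Ideal B) [Q.IsPrime] [hQ : Q.LiesOver t] :
    Algebra.trdeg (A ⧸ t) (B ⧸ Q) = (E4O.fdeg (str A B) (⟨Q, ‹_›⟩ : PrimeSpectrum B) : Cardinal.{u}) := by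
  obtain rfl : t = Q.under A := hQ.over
  let C : E4O.Chart (str A B) :=
    { A := A, B := B, e := 𝟙 _, j := 𝟙 _, comm := (Category.id_comp _).trans (Category.comp_id _).symm }
  exact C.trdeg_eq_fdeg ⟨Q, ‹_›⟩

/-- Flatness in dimensions `≥ n` in terms of fibre degrees. -/
theorem iff_fdeg [Algebra.FiniteType A B] (n : ℕ) (N : Type u) [AddCommGroup N] [Module B N] [Module A N]
    [IsScalarTower A B N] :
    FlatCA.FlatInDimGE n A B N ↔
      ∀ Q : PrimeSpectrum B, ¬ FlatCA.FlatAt A Q.asIdeal N → E4O.fdeg (str A B) Q < n := by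
  rw [DimLT.flatInDimGE_iff]
  constructor
  · intro h Q hQ
    haveI : Q.asIdeal.LiesOver (Q.asIdeal.under A) := ⟨rfl⟩
    have := h (Q.asIdeal.under A) Q.asIdeal hQ
    rw [trdeg_eq_fdeg (Q.asIdeal.under A) Q.asIdeal] at this
    exact_mod_cast this
  · intro h t _ Q _ _ hQ
    rw [trdeg_eq_fdeg t Q]
    exact_mod_cast h ⟨Q, ‹_›⟩ hQ

end chart

section models

variable {A B N : Type u} [CommRing A] [CommRing B] [Algebra A B] [AddCommGroup N] [Module B N]
  {A₁ B₁ N₁ : Type u} [CommRing A₁] [CommRing B₁] [Algebra A A₁] [Algebra B B₁] [Algebra A₁ B₁] [Algebra A B₁]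
  [IsScalarTower A B B₁] [IsScalarTower A A₁ B₁] [Algebra.IsPushout A B A₁ B₁]
  [AddCommGroup N₁] [Module B₁ N₁] [Module B N₁] [IsScalarTower B B₁ N₁] {f₁ : N →ₗ[B] N₁}
  {A₂ B₂ N₂ : Type u} [CommRing A₂] [CommRing B₂] [Algebra A A₂] [Algebra B B₂] [Algebra A₂ B₂] [Algebra A B₂]
  [IsScalarTower A B B₂] [IsScalarTower A A₂ B₂] [Algebra.IsPushout A B A₂ B₂]
  [AddCommGroup N₂] [Module B₂ N₂] [Module B N₂] [IsScalarTower B B₂ N₂] {f₂ : N →ₗ[B] N₂}
  [Algebra A₁ A₂] [IsScalarTower A A₁ A₂]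

include A

variable (A B N A₁ B₁ N₁ A₂ B₂ N₂) in
/-- Two models over a tower of bases form a base change square. -/
theorem exists_compat (hf₁ : IsBaseChange B₁ f₁) (hf₂ : IsBaseChange B₂ f₂) :
    ∃ (a₁ : Algebra A₁ B₂) (a₂ : Algebra B₁ B₂) (_ : IsScalarTower A₁ A₂ B₂) (_ : IsScalarTower A₁ B₁ B₂)
      (_ : IsScalarTower B B₁ B₂) (_ : Algebra.IsPushout A₁ B₁ A₂ B₂)
      (m : Module B₁ N₂) (_ : IsScalarTower B₁ B₂ N₂) (g : N₁ →ₗ[B₁] N₂), IsBaseChange B₂ g := by
  letI a₁ : Algebra A₁ B₂ := ((algebraMap A₂ B₂).comp (algebraMap A₁ A₂)).toAlgebra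
  haveI t₁ : IsScalarTower A₁ A₂ B₂ := .of_algebraMap_eq fun _ => rfl
  haveI : IsScalarTower A A₁ B₂ := .of_algebraMap_eq fun a => by
    rw [IsScalarTower.algebraMap_apply A A₂ B₂, IsScalarTower.algebraMap_apply A A₁ A₂]
    rfl
  let ψ : B₁ →ₐ[A] B₂ := Algebra.pushoutDesc (R := A) (S := B) (R' := A₁) B₁ (IsScalarTower.toAlgHom A B B₂)
    (IsScalarTower.toAlgHom A A₁ B₂) fun x y => mul_comm _ _
  letI a₂ : Algebra B₁ B₂ := ψ.toRingHom.toAlgebra
  haveI : IsScalarTower A B₁ B₂ := .of_algebraMap_eq fun a => (ψ.commutes a).symm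
  haveI t₂ : IsScalarTower A₁ B₁ B₂ := .of_algebraMap_eq fun a =>
    (Algebra.pushoutDesc_right (R := A) (S := B) (R' := A₁) B₁ (IsScalarTower.toAlgHom A B B₂)
      (IsScalarTower.toAlgHom A A₁ B₂) (fun x y => mul_comm _ _) a).symm
  haveI t₃ : IsScalarTower B B₁ B₂ := .of_algebraMap_eq fun b =>
    (Algebra.pushoutDesc_left (R := A) (S := B) (R' := A₁) B₁ (IsScalarTower.toAlgHom A B B₂)
      (IsScalarTower.toAlgHom A A₁ B₂) (fun x y => mul_comm _ _) b).symm
  haveI h1 : Algebra.IsPushout A A₁ B B₁ := .symm inferInstance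
  haveI h2 : Algebra.IsPushout A A₂ B B₂ := .symm inferInstance
  haveI hpo : Algebra.IsPushout A₁ A₂ B₁ B₂ := (Algebra.IsPushout.comp_iff A A₁ B B₁ (T := A₂) (T' := B₂)).1 h2
  haveI hpo' : Algebra.IsPushout A₁ B₁ A₂ B₂ := .symm inferInstance
  letI m : Module B₁ N₂ := Module.compHom N₂ (algebraMap B₁ B₂)
  haveI t₄ : IsScalarTower B₁ B₂ N₂ := IsScalarTower.of_algebraMap_smul fun _ _ => rfl
  haveI : IsScalarTower B B₁ N₂ := IsScalarTower.of_algebraMap_smul fun b x => by
    show algebraMap B₁ B₂ (algebraMap B B₁ b) • x = b • x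
    rw [← IsScalarTower.algebraMap_apply, algebraMap_smul]
  exact ⟨a₁, a₂, t₁, t₂, t₃, hpo', m, t₄, hf₁.lift f₂,
    IsBaseChange.of_comp hf₁ (by rw [IsBaseChange.lift_comp]; exact hf₂)⟩

variable [Module A₁ N₁] [IsScalarTower A₁ B₁ N₁] [Module A₂ N₂] [IsScalarTower A₂ B₂ N₂] [Algebra.FiniteType A B]

/-- Flatness in dimensions `≥ n` is stable under base change. -/
theorem mono (n : ℕ) (hf₁ : IsBaseChange B₁ f₁) (hf₂ : IsBaseChange B₂ f₂)
    (h : FlatCA.FlatInDimGE n A₁ B₁ N₁) : FlatCA.FlatInDimGE n A₂ B₂ N₂ := by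
  haveI : Algebra.FiniteType A₁ B₁ := Algebra.FiniteType.equiv inferInstance
    (Algebra.IsPushout.equiv A A₁ B B₁ (h := Algebra.IsPushout.symm inferInstance))
  obtain ⟨a₁, a₂, t₁, t₂, t₃, hpo, m, t₄, g, hg⟩ := exists_compat A B N A₁ B₁ N₁ A₂ B₂ N₂ hf₁ hf₂
  haveI : Algebra.FiniteType A₂ B₂ := Algebra.FiniteType.equiv inferInstance
    (Algebra.IsPushout.equiv A A₂ B B₂ (h := Algebra.IsPushout.symm inferInstance))
  rw [iff_fdeg] at h ⊢
  intro Q hQ
  have hsq := TopDimRing.isPullback_pushout (A := A₁) (D := B₁) (A' := A₂) (D' := B₂)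
  refine lt_of_le_of_lt (E4O.fdeg_le_of_isPullback hsq.flip Q) (h _ fun hfl => hQ ?_)
  exact FlatMor67.FlatAtBC.flatAt_baseChange (R := A₁) (R' := A₂) g hg Q.asIdeal hfl

/-- Descent of flatness in dimensions `≥ n` over a point covered by a flat algebra. -/
theorem descend_point (n : ℕ) (hf₁ : IsBaseChange B₁ f₁) (hf₂ : IsBaseChange B₂ f₂) [Module.Flat A₁ A₂]
    (h : FlatCA.FlatInDimGE n A₂ B₂ N₂) (Q : PrimeSpectrum B₁) (hQ : ¬ FlatCA.FlatAt A₁ Q.asIdeal N₁)
    (t : PrimeSpectrum A₂) (ht : t.asIdeal.comap (algebraMap A₁ A₂) = Q.asIdeal.comap (algebraMap A₁ B₁)) :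
    E4O.fdeg (str A₁ B₁) Q < n := by
  haveI : Algebra.FiniteType A₁ B₁ := Algebra.FiniteType.equiv inferInstance
    (Algebra.IsPushout.equiv A A₁ B B₁ (h := Algebra.IsPushout.symm inferInstance))
  obtain ⟨a₁, a₂, t₁, t₂, t₃, hpo, m, t₄, g, hg⟩ := exists_compat A B N A₁ B₁ N₁ A₂ B₂ N₂ hf₁ hf₂
  haveI : Algebra.FiniteType A₂ B₂ := Algebra.FiniteType.equiv inferInstance
    (Algebra.IsPushout.equiv A A₂ B B₂ (h := Algebra.IsPushout.symm inferInstance))
  rw [iff_fdeg] at h
  have hsq := TopDimRing.isPullback_pushout (A := A₁) (D := B₁) (A' := A₂) (D' := B₂)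
  obtain ⟨a, ha₁, ha₂, hd⟩ := E4O.exists_fdeg_eq_of_isPullback hsq.flip Q t (PrimeSpectrum.ext ht.symm)
  refine hd ▸ h a fun hfl => hQ ?_
  exact FlatMor67.FlatAtDesc.flatAt_descent (R := A₁) (R' := A₂) g hg Q.asIdeal t.asIdeal a.asIdeal
    (congrArg PrimeSpectrum.asIdeal ha₁) (congrArg PrimeSpectrum.asIdeal ha₂)
    (Module.Flat.trans A₁ A₂ _) hfl

end models

section etale

/-- Flatness over the base descends along a flat map of the source. -/
theorem flatAt_of_flat_source {R S S' : Type u} [CommRing R] [CommRing S] [CommRing S'] [Algebra R S] [Algebra R S']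
    [Algebra S S'] [IsScalarTower R S S'] [Module.Flat S S'] {N M : Type u} [AddCommGroup N] [Module S N] [Module R N]
    [IsScalarTower R S N] [AddCommGroup M] [Module S' M] [Module S M] [IsScalarTower S S' M] [Module R M]
    [IsScalarTower R S' M] {g : N →ₗ[S] M} (hg : IsBaseChange S' g) (Q : Ideal S') [Q.IsPrime]
    (h : FlatCA.FlatAt R Q M) : FlatCA.FlatAt R (Q.comap (algebraMap S S')) N := by
  haveI : IsScalarTower R S M := IsScalarTower.of_algebraMap_smul fun r m => by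
    rw [← algebraMap_smul S' (algebraMap R S r) m, ← IsScalarTower.algebraMap_apply, algebraMap_smul]
  unfold FlatCA.FlatAt at h ⊢
  rw [RG29.flat_localized_iff] at h ⊢
  intro I z hz
  let e := RG29.bcTensorEquiv (R := R) hg I
  have h0 : I.subtype.lTensor M (e ((1 : S') ⊗ₜ[S] z)) = 0 := by
    rw [← RG29.bcTensorEquiv_natural]
    simp [hz]
  obtain ⟨c, hc, hcz⟩ := h I _ h0
  rw [← map_smul, LinearEquiv.map_eq_zero_iff, smul_tmul', smul_eq_mul, mul_one] at hcz
  by_contra hne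
  push Not at hne
  let J := (Submodule.span S {z}).annihilator
  have hJ : J ≤ Q.comap (algebraMap S S') := fun s hs => by
    by_contra hsQ
    exact hne s hsQ ((Submodule.mem_annihilator_span_singleton _ _).1 hs)
  let l : S ⧸ J →ₗ[S] _ := J.liftQ (LinearMap.toSpanSingleton S (N ⊗[R] I) z) fun s hs =>
    (Submodule.mem_annihilator_span_singleton _ _).1 hs
  have hl : Function.Injective l := LinearMap.ker_eq_bot.1 (Submodule.ker_liftQ_eq_bot _ _ _ fun s hs =>
    (Submodule.mem_annihilator_span_singleton _ _).2 hs)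
  have hc0 : c ⊗ₜ[S] (Submodule.Quotient.mk 1 : S ⧸ J) = 0 := by
    refine Module.Flat.lTensor_preserves_injective_linearMap (M := S') l hl ?_
    rw [map_zero, LinearMap.lTensor_tmul]
    show c ⊗ₜ[S] (LinearMap.toSpanSingleton S (N ⊗[R] I) z 1) = 0
    rw [LinearMap.toSpanSingleton_apply, one_smul]
    exact hcz
  have hmem := congrArg ((TensorProduct.quotTensorEquivQuotSMul S' J).toLinearMap ∘ₗ (TensorProduct.comm S S' (S ⧸ J)).toLinearMap) hc0
  refine hc ?_
  have hle : (J • ⊤ : Submodule S S') ≤ Q.restrictScalars S := by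
    rw [Submodule.smul_le]
    intro s hs x _
    rw [Algebra.smul_def]
    exact Q.mul_mem_right _ (hJ hs)
  refine hle ((Submodule.Quotient.mk_eq_zero _).1 ?_)
  simpa using hmem

variable {A B : Type u} [CommRing A] [CommRing B] [Algebra A B] [Algebra.FiniteType A B]
  {N : Type u} [AddCommGroup N] [Module B N] [Module A N] [IsScalarTower A B N]

variable {C M : Type u} [CommRing C] [Algebra B C] [Algebra A C] [IsScalarTower A B C] [Algebra.Etale B C]
  [AddCommGroup M] [Module C M] [Module B M] [IsScalarTower B C M] [Module A M] [IsScalarTower A C M]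
  {g : N →ₗ[B] M}

omit [AddCommGroup M] [Module C M] [Module B M] [IsScalarTower B C M] [Module A M] [IsScalarTower A C M] in
theorem fdeg_etale (Q : PrimeSpectrum C) :
    E4O.fdeg (str A C) Q = E4O.fdeg (str A B) (PrimeSpectrum.comap (algebraMap B C) Q) := by
  haveI : Etale (str B C) := (HasRingHomProperty.Spec_iff (P := @Etale)).2 (RingHom.etale_algebraMap.2 ‹_›)
  haveI := Hensel20.locallyQuasiFinite_of_etale (str B C)
  have h : str A C = str B C ≫ str A B := by
    rw [← Spec.map_comp, ← CommRingCat.ofHom_comp, ← IsScalarTower.algebraMap_eq]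
  rw [h]
  exact RelAssFlatAt.fdeg_comp_eq (str B C) (str A B) Q

/-- An étale localisation of the source preserves flatness in dimensions `≥ n`. -/
theorem etale_source (n : ℕ) (hg : IsBaseChange C g) (h : FlatCA.FlatInDimGE n A B N) :
    FlatCA.FlatInDimGE n A C M := by
  haveI : Algebra.FiniteType A C := Algebra.FiniteType.trans (R := A) (S := B) (A := C) inferInstance inferInstance
  rw [iff_fdeg] at h ⊢
  intro Q hQ
  rw [fdeg_etale (A := A) (B := B)]
  exact h _ fun hfl => hQ (FlatCrit65.Purity.flatAt_ascend hg Q.asIdeal hfl)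

end etale

section cover

/-- A family of étale localisations containing the associated points of the fibres detects flatness in
dimensions `≥ n`. -/
theorem of_cover {A B N : Type u} [CommRing A] [CommRing B] [Algebra A B] [Algebra.FiniteType A B]
    [AddCommGroup N] [Module B N] [Module A N] [IsScalarTower A B N] [Module.Finite B N] (n : ℕ)
    {ι : Type*} (C : ι → Type u) [∀ i, CommRing (C i)] [∀ i, Algebra B (C i)] [∀ i, Algebra A (C i)]
    [∀ i, IsScalarTower A B (C i)] [∀ i, Algebra.Etale B (C i)] (M : ι → Type u) [∀ i, AddCommGroup (M i)]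
    [∀ i, Module (C i) (M i)] [∀ i, Module B (M i)] [∀ i, IsScalarTower B (C i) (M i)] [∀ i, Module A (M i)]
    [∀ i, IsScalarTower A (C i) (M i)] (g : ∀ i, N →ₗ[B] M i) (hg : ∀ i, IsBaseChange (C i) (g i))
    (hass : ∀ (t : Ideal A) [t.IsPrime] (Q : Ideal B) [Q.IsPrime], Q.LiesOver t →
      FlatCA.fiberIdeal t Q ∈ associatedPrimes (t.Fiber B) (FlatCA.fiberMod t B N) →
      ∃ (i : ι) (Q' : Ideal (C i)), Q'.IsPrime ∧ Q'.comap (algebraMap B (C i)) = Q)
    (h : ∀ i, FlatCA.FlatInDimGE n A (C i) (M i)) : FlatCA.FlatInDimGE n A B N := by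
  rw [iff_fdeg]
  intro Q hQ
  by_contra hdeg
  refine hQ (FlatCrit65.flat_localized_of_assoc (Q.asIdeal.comap (algebraMap A B)) Q.asIdeal rfl
    fun r _ hrQ hro hw => ?_)
  haveI := hro
  obtain ⟨i, Q', hQ'p, hQ'⟩ := hass (Q.asIdeal.comap (algebraMap A B)) r hro (FlatCrit65.fiberIdeal_mem_ass hw)
  haveI := hQ'p
  haveI : Algebra.FiniteType A (C i) :=
    Algebra.FiniteType.trans (R := A) (S := B) (A := C i) inferInstance inferInstance
  by_contra hnf
  have hnf' : ¬ FlatCA.FlatAt A Q' (M i) := fun hfl => hnf (by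
    have := flatAt_of_flat_source (hg i) Q' hfl
    simp only [hQ'] at this
    exact this)
  have hlt := (iff_fdeg n (M i)).1 (h i) ⟨Q', hQ'p⟩ hnf'
  rw [fdeg_etale (A := A) (B := B)] at hlt
  have hr : PrimeSpectrum.comap (algebraMap B (C i)) ⟨Q', hQ'p⟩ = ⟨r, inferInstance⟩ := PrimeSpectrum.ext hQ'
  rw [hr] at hlt
  refine hdeg (lt_of_le_of_lt (E4O.fdeg_le (f := str A B) ?_ ?_) hlt)
  · exact (PrimeSpectrum.le_iff_specializes (⟨r, inferInstance⟩ : PrimeSpectrum B) Q).1 hrQ
  · exact PrimeSpectrum.ext hro.over.symm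

end cover

end Groth.Agent.FlatMor68.FlatInDimBC
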