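import Mathlib

set_option backward.isDefEq.respectTransparency.types false
set_option linter.style.haveILetI false
set_option autoImplicit false
universe u

open CategoryTheory CategoryTheory.Limits AlgebraicGeometry

namespace Groth.Agent.FlatMor68.GraphClosure

theorem isIso_of_ker {Y P : Scheme.{u}} (Γ : Y ⟶ P) [IsClosedImmersion Γ] (p : P ⟶ Y) (hp : Γ ≫ p = 𝟙 Y)
    (I : P.IdealSheafData) (hI : I = Γ.ker) : IsIso (I.subschemeι ≫ p) := by
  subst hI
  haveI : IsIso Γ.toImage := inferInstance
  have h : Γ.toImage ≫ Γ.imageι ≫ p = 𝟙 Y := by rw [Scheme.Hom.toImage_imageι_assoc, hp]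
  exact IsIso.of_isIso_fac_left h

instance quasiCompact_generic {T : Scheme.{u}} [IsIntegral T] :
    QuasiCompact (T.fromSpecStalk (genericPoint T)) := by
  refine ⟨fun U _ _ => ?_⟩
  haveI : Subsingleton (Spec (T.presheaf.stalk (genericPoint T))) :=
    inferInstanceAs (Subsingleton (PrimeSpectrum T.functionField))
  exact (Set.toFinite _).isCompact

theorem schDom_generic {T : Scheme.{u}} [IsIntegral T] :
    IsSchemeTheoreticallyDominant (T.fromSpecStalk (genericPoint T)) := by
  rw [isSchemeTheoreticallyDominant_iff_isDominant]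
  refine ⟨dense_iff_closure_eq.2 (Set.eq_univ_of_univ_subset ?_)⟩
  rw [← genericPoint_closure (α := T)]
  exact closure_mono (Set.singleton_subset_iff.2 ⟨_, Scheme.fromSpecStalk_closedPoint⟩)

theorem schDom_fst {T Y : Scheme.{u}} [IsIntegral T] (pY : Y ⟶ T) [Flat pY] :
    IsSchemeTheoreticallyDominant (pullback.fst pY (T.fromSpecStalk (genericPoint T))) := by
  haveI := schDom_generic (T := T)
  exact IsSchemeTheoreticallyDominant.of_isPullback (IsPullback.of_hasPullback pY (T.fromSpecStalk (genericPoint T))).flip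

theorem t14188 (T Y Z : Scheme.{u}) [IsIntegral T]
    (pY : Y ⟶ T) (pZ : Z ⟶ T) [Flat pY] [IsSeparated pZ]
    (ψ : pullback pY (T.fromSpecStalk (genericPoint T)) ⟶ Z)
    (gr : pullback pY (T.fromSpecStalk (genericPoint T)) ⟶ pullback pY pZ)
    (hgr₁ : gr ≫ pullback.fst pY pZ = pullback.fst pY (T.fromSpecStalk (genericPoint T)))
    (hgr₂ : gr ≫ pullback.snd pY pZ = ψ) :
    (∃ φ : Y ⟶ Z, φ ≫ pZ = pY ∧ pullback.fst pY (T.fromSpecStalk (genericPoint T)) ≫ φ = ψ) ↔
      IsIso (gr.imageι ≫ pullback.fst pY pZ) := by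
  set j := pullback.fst pY (T.fromSpecStalk (genericPoint T))
  constructor
  · rintro ⟨φ, hφ, hjφ⟩
    let Γ : Y ⟶ pullback pY pZ := pullback.lift (𝟙 Y) φ (by simp [hφ])
    haveI : IsClosedImmersion Γ := by
      haveI : IsClosedImmersion (Γ ≫ pullback.fst pY pZ) := by
        rw [show Γ ≫ pullback.fst pY pZ = 𝟙 Y from pullback.lift_fst _ _ _]; infer_instance
      exact IsClosedImmersion.of_comp Γ (pullback.fst pY pZ)
    have hgr : gr = j ≫ Γ := by
      apply pullback.hom_ext
      · rw [Category.assoc, show Γ ≫ pullback.fst pY pZ = 𝟙 Y from pullback.lift_fst _ _ _, hgr₁, Category.comp_id]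
      · rw [Category.assoc, show Γ ≫ pullback.snd pY pZ = φ from pullback.lift_snd _ _ _, hgr₂, hjφ]
    refine isIso_of_ker Γ (pullback.fst pY pZ) (pullback.lift_fst _ _ _) _ ?_
    haveI := schDom_fst pY
    rw [hgr, Scheme.Hom.ker_comp, IsSchemeTheoreticallyDominant.ker_eq_bot (f := j), Scheme.IdealSheafData.map_bot]
  · intro h
    refine ⟨inv (gr.imageι ≫ pullback.fst pY pZ) ≫ gr.imageι ≫ pullback.snd pY pZ, ?_, ?_⟩
    · rw [Category.assoc, IsIso.inv_comp_eq, Category.assoc, Category.assoc, pullback.condition]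
    · have hj : j = gr.toImage ≫ (gr.imageι ≫ pullback.fst pY pZ) := by rw [Scheme.Hom.toImage_imageι_assoc, hgr₁]
      rw [hj, Category.assoc, IsIso.hom_inv_id_assoc, Scheme.Hom.toImage_imageι_assoc, hgr₂]

/-- Morphisms into a separated scheme agreeing on a scheme-theoretically dominant subscheme agree. -/
theorem ext_of_schDom {V W Z T : Scheme.{u}} (j : V ⟶ W) [IsSchemeTheoreticallyDominant j] (pZ : Z ⟶ T) [IsSeparated pZ]
    (a b : W ⟶ Z) (hab : a ≫ pZ = b ≫ pZ) (h : j ≫ a = j ≫ b) : a = b := by
  let D := pullback.diagonal pZ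
  let L : W ⟶ pullback pZ pZ := pullback.lift a b hab
  have hLa : L ≫ pullback.fst pZ pZ = a := pullback.lift_fst _ _ _
  have hLb : L ≫ pullback.snd pZ pZ = b := pullback.lift_snd _ _ _
  have hDa : D ≫ pullback.fst pZ pZ = 𝟙 Z := pullback.diagonal_fst pZ
  have hDb : D ≫ pullback.snd pZ pZ = 𝟙 Z := pullback.diagonal_snd pZ
  let l : V ⟶ pullback D L := pullback.lift (j ≫ a) j (by
    apply pullback.hom_ext
    · rw [Category.assoc, Category.assoc, Category.assoc, hLa, hDa, Category.comp_id]
    · rw [Category.assoc, Category.assoc, Category.assoc, hLb, hDb, Category.comp_id, h])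
  have hl : l ≫ pullback.snd D L = j := pullback.lift_snd _ _ _
  have hker : (pullback.snd D L).ker = ⊥ := by
    have := Scheme.Hom.le_ker_comp l (pullback.snd D L)
    rw [hl, IsSchemeTheoreticallyDominant.ker_eq_bot (f := j)] at this
    exact le_bot_iff.mp this
  haveI : IsIso (pullback.snd D L) := by
    have h0 : IsIso (pullback.snd D L).imageι := by
      show IsIso (Scheme.IdealSheafData.subschemeι _)
      rw [hker]; infer_instance
    rw [← (pullback.snd D L).toImage_imageι]
    infer_instance
  have hc := pullback.condition (f := D) (g := L)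
  have ha : pullback.fst D L = pullback.snd D L ≫ a := by
    have := congrArg (· ≫ pullback.fst pZ pZ) hc
    simpa only [Category.assoc, hLa, hDa, Category.comp_id] using this
  have hb : pullback.fst D L = pullback.snd D L ≫ b := by
    have := congrArg (· ≫ pullback.snd pZ pZ) hc
    simpa only [Category.assoc, hLb, hDb, Category.comp_id] using this
  exact (cancel_epi (pullback.snd D L)).1 (ha.symm.trans hb)

theorem t14189 (T Y Z T' : Scheme.{u}) [IsIntegral T]
    (pY : Y ⟶ T) (pZ : Z ⟶ T) [Flat pY] [IsSeparated pZ]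
    (ψ : pullback pY (T.fromSpecStalk (genericPoint T)) ⟶ Z)
    (g : T' ⟶ T) [Flat g] [Surjective g] [QuasiCompact g]
    (φ' : pullback pY g ⟶ pullback pZ g) (hφ' : φ' ≫ pullback.snd pZ g = pullback.snd pY g)
    (hagree : pullback.fst (pullback.fst pY g) (pullback.fst pY (T.fromSpecStalk (genericPoint T))) ≫ φ' ≫ pullback.fst pZ g =
      pullback.snd (pullback.fst pY g) (pullback.fst pY (T.fromSpecStalk (genericPoint T))) ≫ ψ) :
    ∃ φ : Y ⟶ Z, φ ≫ pZ = pY ∧ pullback.fst pY (T.fromSpecStalk (genericPoint T)) ≫ φ = ψ := by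
  set j := pullback.fst pY (T.fromSpecStalk (genericPoint T))
  set p := pullback.fst pY g
  set h := φ' ≫ pullback.fst pZ g
  have hh : h ≫ pZ = p ≫ pY := by
    rw [Category.assoc, pullback.condition, ← Category.assoc, hφ', pullback.condition]
  haveI := schDom_fst pY
  have hsec : ∀ {W : Scheme.{u}} (g₁ g₂ : W ⟶ pullback pY g), g₁ ≫ p = g₂ ≫ p → g₁ ≫ h = g₂ ≫ h := by
    intro W g₁ g₂ hg
    have key : pullback.fst p p ≫ h = pullback.snd p p ≫ h := by
      haveI : IsSchemeTheoreticallyDominant (pullback.fst (pullback.fst p p ≫ p) j) := by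
        exact IsSchemeTheoreticallyDominant.of_isPullback (IsPullback.of_hasPullback (pullback.fst p p ≫ p) j).flip
      refine ext_of_schDom (pullback.fst (pullback.fst p p ≫ p) j) pZ _ _ (by rw [Category.assoc, Category.assoc (pullback.snd p p), hh, pullback.condition_assoc]) ?_
      let k₁ : pullback (pullback.fst p p ≫ p) j ⟶ pullback p j :=
        pullback.lift (pullback.fst (pullback.fst p p ≫ p) j ≫ pullback.fst p p) (pullback.snd (pullback.fst p p ≫ p) j)
          (by rw [Category.assoc]; exact pullback.condition)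
      let k₂ : pullback (pullback.fst p p ≫ p) j ⟶ pullback p j :=
        pullback.lift (pullback.fst (pullback.fst p p ≫ p) j ≫ pullback.snd p p) (pullback.snd (pullback.fst p p ≫ p) j)
          (by rw [Category.assoc, ← pullback.condition (f := p) (g := p)]; exact pullback.condition)
      have e1 := congrArg (k₁ ≫ ·) hagree
      have e2 := congrArg (k₂ ≫ ·) hagree
      simp only [k₁, k₂, pullback.lift_fst_assoc, pullback.lift_snd_assoc, Category.assoc] at e1 e2
      exact e1.trans e2.symm
    have := congrArg (pullback.lift g₁ g₂ hg ≫ ·) key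
    simpa only [← Category.assoc, pullback.lift_fst, pullback.lift_snd] using this
  haveI : EffectiveEpi p := inferInstance
  refine ⟨EffectiveEpi.desc p h hsec, ?_, ?_⟩
  · rw [← cancel_epi p, EffectiveEpi.fac_assoc, hh]
  · rw [← cancel_epi (pullback.snd p j), ← hagree, ← pullback.condition_assoc, EffectiveEpi.fac]

end Groth.Agent.FlatMor68.GraphClosure
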