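import Groth.Statements.S11321
import Groth.Agent.FlatMor68.DedekindFlat
import Groth.Agent.FlatMor68.GraphClosure

/-! Flat limits over a regular curve: the scheme-theoretic image of a flat scheme is flat. -/

set_option autoImplicit false
set_option backward.isDefEq.respectTransparency.types false
set_option linter.style.haveILetI false

universe u

open CategoryTheory CategoryTheory.Limits AlgebraicGeometry TopologicalSpace

namespace Groth.Agent.FlatMor68.FlatLimit

theorem schDom_toImage {X Y : Scheme.{u}} (f : X ⟶ Y) [QuasiCompact f] :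
    IsSchemeTheoreticallyDominant f.toImage := by
  refine ⟨Scheme.IdealSheafData.ext_of_iSup_eq_top (fun U : Y.affineOpens ↦ ⟨f.imageι ⁻¹ᵁ U.1, U.2.preimage f.imageι⟩) ?_ fun U => ?_⟩
  · exact Y.isBasis_affineOpens.isOpenCover.comap f.imageι.base.hom
  · rw [Scheme.Hom.ker_apply, Scheme.IdealSheafData.ideal_bot, Pi.bot_apply, ← RingHom.injective_iff_ker_eq_bot]
    exact f.toImage_app_injective U

theorem nzd_flat {X Y : Scheme.{u}} [IsIntegral Y] (p : X ⟶ Y) [Flat p] {W : Y.Opens} (b : Γ(Y, W)) (hb : b ≠ 0)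
    {V : X.Opens} (hV : V ≤ p ⁻¹ᵁ W) (t : Γ(X, V)) (h : (p.appLE W V hV).hom b * t = 0) : t = 0 := by
  refine TopCat.Presheaf.section_ext X.sheaf V t 0 fun x hx => ?_
  show X.presheaf.germ V x hx t = X.presheaf.germ V x hx 0
  have hg : X.presheaf.germ V x hx ((p.appLE W V hV).hom b) = (p.stalkMap x).hom (Y.presheaf.germ W (p x) (hV hx) b) := by
    rw [Scheme.Hom.germ_stalkMap_apply, Scheme.Hom.appLE]
    simp
  algebraize [(p.stalkMap x).hom]
  haveI : Module.Flat (Y.presheaf.stalk (p x)) (X.presheaf.stalk x) := Flat.stalkMap p x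
  haveI : IsDomain (Y.presheaf.stalk (p x)) := inferInstance
  have hne : Y.presheaf.germ W (p x) (hV hx) b ≠ 0 := fun h0 => hb <| germ_injective_of_isIntegral Y (p x) (hV hx) (by rw [map_zero]; exact h0)
  have hr : IsSMulRegular (X.presheaf.stalk x) (Y.presheaf.germ W (p x) (hV hx) b) :=
    Module.Flat.isSMulRegular_of_nonZeroDivisors (mem_nonZeroDivisors_of_ne_zero hne)
  rw [map_zero]
  refine hr ?_
  simp only [Algebra.smul_def, RingHom.algebraMap_toAlgebra, mul_zero]
  rw [← hg, ← map_mul, h, map_zero]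

/-- The scheme-theoretic image of a flat scheme over an integral base whose local rings are principal is flat. -/
theorem flat_imageι {X Z Y : Scheme.{u}} [IsIntegral Y] (hY : ∀ y : Y, IsPrincipalIdealRing (Y.presheaf.stalk y))
    (g : X ⟶ Z) [QuasiCompact g] (q : Z ⟶ Y) [Flat (g ≫ q)] : Flat (g.imageι ≫ q) := by
  haveI := schDom_toImage g
  haveI : QuasiCompact g.toImage := inferInstance
  rw [DedekindFlat.flat_iff_nzd _ fun y => ⟨inferInstance, hY y⟩]
  intro x a ha s hs
  obtain ⟨W, hxW, b, rfl⟩ := Y.presheaf.exists_germ_eq a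
  obtain ⟨V, hxV, t, rfl⟩ := g.image.presheaf.exists_germ_eq s
  set p := g.imageι ≫ q
  have hxWV : x ∈ p ⁻¹ᵁ W ⊓ V := ⟨hxW, hxV⟩
  rw [Scheme.Hom.germ_stalkMap_apply, ← g.image.presheaf.germ_res_apply (homOfLE (inf_le_left : p ⁻¹ᵁ W ⊓ V ≤ _)) x ⟨hxW, hxV⟩,
    ← g.image.presheaf.germ_res_apply (homOfLE (inf_le_right : p ⁻¹ᵁ W ⊓ V ≤ _)) x ⟨hxW, hxV⟩ t, ← map_mul] at hs
  obtain ⟨V', hxV', i₁, i₂, he⟩ := g.image.presheaf.germ_eq x hxWV hxWV _ 0 (hs.trans (map_zero _).symm)
  rw [map_mul, map_zero] at he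
  have h1 : (p.appLE W V' (i₁.le.trans inf_le_left)).hom b * (g.image.presheaf.map (homOfLE (i₁.le.trans inf_le_right)).op).hom t = 0 := by
    rw [← he]
    simp only [Scheme.Hom.appLE, ← ConcreteCategory.comp_apply, ← Functor.map_comp, Category.assoc, ← op_comp]
    rfl
  have hb : b ≠ 0 := fun h0 => ha (by rw [h0, map_zero])
  have h2 := congrArg (g.toImage.app V').hom h1
  rw [map_mul, map_zero] at h2
  haveI : Flat (g.toImage ≫ p) := by
    rw [show g.toImage ≫ p = g ≫ q from Scheme.Hom.toImage_imageι_assoc _ _]; infer_instance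
  have h3 : (g.toImage.app V').hom ((g.image.presheaf.map (homOfLE (i₁.le.trans inf_le_right)).op).hom t) = 0 := by
    refine nzd_flat (g.toImage ≫ p) b hb (g.toImage.preimage_mono (i₁.le.trans inf_le_left)) _ (Eq.trans ?_ h2)
    congr 1
    rw [← Scheme.Hom.appLE_comp_appLE g.toImage p W V' (g.toImage ⁻¹ᵁ V') (i₁.le.trans inf_le_left) le_rfl,
      ← Scheme.Hom.app_eq_appLE]
    rfl
  have h4 := g.toImage.app_injective V' (h3.trans (map_zero _).symm)
  rw [← g.image.presheaf.germ_res_apply (homOfLE (i₁.le.trans inf_le_right)) x hxV' t, h4, map_zero]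

theorem isPullback_imageι {X Z : Scheme.{u}} (V : Z.Opens) (i : X ⟶ ↑V) [IsClosedImmersion i] [QuasiCompact V.ι] :
    IsPullback (i ≫ V.ι).toImage i (i ≫ V.ι).imageι V.ι := by
  set g := i ≫ V.ι
  haveI := schDom_toImage g
  let k : X ⟶ pullback g.imageι V.ι := pullback.lift g.toImage i (Scheme.Hom.toImage_imageι g)
  haveI : IsClosedImmersion k := by
    haveI : IsClosedImmersion (k ≫ pullback.snd g.imageι V.ι) := by
      rw [show k ≫ pullback.snd g.imageι V.ι = i from pullback.lift_snd _ _ _]; infer_instance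
    exact IsClosedImmersion.of_comp k (pullback.snd g.imageι V.ι)
  have hk : k ≫ pullback.fst g.imageι V.ι = g.toImage := pullback.lift_fst _ _ _
  have hpb : IsPullback (𝟙 X) k g.toImage (pullback.fst g.imageι V.ι) := by
    refine ⟨⟨by simp [hk]⟩, ⟨PullbackCone.IsLimit.mk _ (fun s => s.fst) (fun s => Category.comp_id _) (fun s => ?_) fun s m h _ => by simpa using h⟩⟩
    rw [← cancel_mono (pullback.fst g.imageι V.ι), Category.assoc, hk, s.condition]
  haveI : IsSchemeTheoreticallyDominant k := .of_isPullback hpb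
  haveI : IsIso k := IsClosedImmersion.isIso_iff_ker_eq_bot.2 k.ker_eq_bot
  exact (IsPullback.of_hasPullback g.imageι V.ι).of_iso (asIso k).symm (Iso.refl _) (Iso.refl _) (Iso.refl _)
    (by simp [hk]) (by simp [show k ≫ pullback.snd g.imageι V.ι = i from pullback.lift_snd _ _ _]) (by simp) (by simp)

theorem ker_eq_of_lift {A B X'' Z : Scheme.{u}} (j : A ⟶ X'') (i'' : X'' ⟶ Z) (g : A ⟶ Z) (hg : j ≫ i'' = g)
    (gen : B ⟶ X'') [IsSchemeTheoreticallyDominant gen] (l : B ⟶ A) (hl : l ≫ j = gen) : g.ker = i''.ker := by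
  haveI : IsSchemeTheoreticallyDominant j := by
    exact ⟨le_bot_iff.1 (((l.le_ker_comp j).trans (congrArg Scheme.Hom.ker hl).le).trans gen.ker_eq_bot.le)⟩
  rw [← hg, Scheme.Hom.ker_comp, j.ker_eq_bot, Scheme.IdealSheafData.map_bot]

theorem exists_image_iso {X X'' Z : Scheme.{u}} (g : X ⟶ Z) (i'' : X'' ⟶ Z) [IsClosedImmersion i''] (h : g.ker = i''.ker) :
    ∃ e : g.image ≅ X'', e.hom ≫ i'' = g.imageι := by
  haveI : IsIso i''.toImage := inferInstance
  have key : ∀ (I J : Z.IdealSheafData) (h : I = J), (eqToHom (by rw [h]) : I.subscheme ⟶ J.subscheme) ≫ J.subschemeι = I.subschemeι := by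
    rintro I _ rfl; simp
  refine ⟨(eqToIso (by rw [h]) : g.ker.subscheme ≅ i''.ker.subscheme) ≪≫ (asIso i''.toImage).symm, ?_⟩
  rw [Iso.trans_hom, Category.assoc]
  show _ ≫ inv i''.toImage ≫ i'' = _
  rw [show inv i''.toImage ≫ i'' = i''.imageι by rw [IsIso.inv_comp_eq, Scheme.Hom.toImage_imageι]]
  exact key _ _ h

theorem main {Y : Scheme.{u}} [IsIntegral Y] [IsLocallyNoetherian Y] (hreg : ∀ y : Y, IsRegularLocalRing (Y.presheaf.stalk y))
    (hY : topologicalKrullDim ↥Y = 1) (P : Y) (U : Y.Opens) (hU : (U : Set ↥Y) = {P}ᶜ) (n : ℕ)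
    (X : Scheme.{u}) (i : X ⟶ ↑(CohB1.ProjSpaceOver.toBase n Y ⁻¹ᵁ U)) [IsClosedImmersion i]
    [Flat (i ≫ (CohB1.ProjSpaceOver.toBase n Y ⁻¹ᵁ U).ι ≫ CohB1.ProjSpaceOver.toBase n Y)] :
    ∃ (X' : Scheme.{u}) (i' : X' ⟶ CohB1.ProjSpaceOver n Y) (j : X ⟶ X'),
      IsClosedImmersion i' ∧ Flat (i' ≫ CohB1.ProjSpaceOver.toBase n Y) ∧
      IsPullback j i i' (CohB1.ProjSpaceOver.toBase n Y ⁻¹ᵁ U).ι ∧
      ∀ (X'' : Scheme.{u}) (i'' : X'' ⟶ CohB1.ProjSpaceOver n Y) (j'' : X ⟶ X''),
        IsClosedImmersion i'' → Flat (i'' ≫ CohB1.ProjSpaceOver.toBase n Y) →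
        IsPullback j'' i i'' (CohB1.ProjSpaceOver.toBase n Y ⁻¹ᵁ U).ι →
        ∃ e : X' ≅ X'', e.hom ≫ i'' = i' := by
  let q := CohB1.ProjSpaceOver.toBase n Y
  let V := q ⁻¹ᵁ U
  haveI : QuasiCompact V.ι :=
    MorphismProperty.of_isPullback (P := @QuasiCompact) (isPullback_morphismRestrict q U) inferInstance
  let g := i ≫ V.ι
  haveI : QuasiCompact g := inferInstance
  haveI : Flat (g ≫ q) := by rw [Category.assoc]; infer_instance
  have hstalk : ∀ y : Y, IsPrincipalIdealRing (Y.presheaf.stalk y) := fun y => by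
    haveI := hreg y
    exact DedekindFlat.isPrincipalIdealRing_of_regular _ ((DedekindFlat.stalk_dim_le y).trans hY.le)
  refine ⟨g.image, g.imageι, g.toImage, inferInstance, flat_imageι hstalk g q, isPullback_imageι V i, ?_⟩
  intro X'' i'' j'' _ _ hpb
  have hη : genericPoint Y ∈ U := by
    show genericPoint Y ∈ (U : Set Y)
    rw [hU]
    intro hP
    have hne : (U : Set Y).Nonempty := by
      rw [hU, Set.nonempty_compl]
      intro h
      haveI : Subsingleton ↥Y := ⟨fun a b => ((h ▸ Set.mem_univ a : a ∈ ({P} : Set Y))).trans ((h ▸ Set.mem_univ b : b ∈ ({P} : Set Y))).symm⟩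
      rw [topologicalKrullDim, ← Order.krullDim_eq_of_orderIso (irreducibleSetEquivPoints (α := Y)).symm, Order.krullDim_eq_zero] at hY
      exact zero_ne_one hY
    obtain ⟨z, hz⟩ := hne
    have hz' : genericPoint Y ∈ (U : Set Y) := (genericPoint_specializes z).mem_open U.isOpen hz
    rw [hU] at hz'
    exact hz' hP
  haveI := GraphClosure.schDom_fst (i'' ≫ q)
  let gen := pullback.fst (i'' ≫ q) (Y.fromSpecStalk (genericPoint Y))
  have hrange : Set.range (gen ≫ i'') ⊆ Set.range V.ι := by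
    rintro _ ⟨w, rfl⟩
    rw [Scheme.Opens.range_ι]
    show q ((gen ≫ i'') w) ∈ U
    rw [← Scheme.Hom.comp_apply, Category.assoc, show gen ≫ i'' ≫ q = _ from pullback.condition, Scheme.Hom.comp_apply]
    haveI : Subsingleton (Spec (Y.presheaf.stalk (genericPoint Y))) :=
      inferInstanceAs (Subsingleton (PrimeSpectrum Y.functionField))
    rw [Subsingleton.elim (pullback.snd (i'' ≫ q) (Y.fromSpecStalk (genericPoint Y)) w) (IsLocalRing.closedPoint _), Scheme.fromSpecStalk_closedPoint]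
    exact hη
  have hker : g.ker = i''.ker := ker_eq_of_lift j'' i'' g hpb.w gen
    (hpb.lift gen (IsOpenImmersion.lift V.ι (gen ≫ i'') hrange) (IsOpenImmersion.lift_fac _ _ _).symm)
    (hpb.lift_fst _ _ _)
  exact exists_image_iso g i'' hker

end Groth.Agent.FlatMor68.FlatLimit
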