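import Groth.Agent.FlatMor68.FlatInDimBC
import Mathlib

/-!
# The functor of flatness in dimensions `≥ n` of a module over an affine scheme
-/

set_option autoImplicit false
set_option backward.isDefEq.respectTransparency.types false
set_option linter.style.haveILetI false
set_option linter.unusedVariables false

universe u

open CategoryTheory CategoryTheory.Limits AlgebraicGeometry TensorProduct

namespace Groth.Agent.FlatMor68.FnFunctor

/-- All base changes of `N` to `A'` are flat over `A'` in dimensions `≥ n`. -/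
def PR (n : ℕ) (A B N A' : Type u) [CommRing A] [CommRing B] [Algebra A B] [AddCommGroup N] [Module B N]
    [CommRing A'] [Algebra A A'] : Prop :=
  ∀ (B' N' : Type u) [CommRing B'] [Algebra B B'] [Algebra A' B'] [Algebra A B'] [IsScalarTower A B B']
    [IsScalarTower A A' B'] [Algebra.IsPushout A B A' B'] [AddCommGroup N'] [Module B' N'] [Module B N']
    [IsScalarTower B B' N'] [Module A' N'] [IsScalarTower A' B' N'] (f : N →ₗ[B] N'), IsBaseChange B' f →
    FlatCA.FlatInDimGE n A' B' N'

section

variable {n : ℕ} {A B N : Type u} [CommRing A] [CommRing B] [Algebra A B] [AddCommGroup N] [Module B N]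

/-- Every base has a model. -/
theorem exists_model (A B N : Type u) [CommRing A] [CommRing B] [Algebra A B] [AddCommGroup N] [Module B N]
    (A' : Type u) [CommRing A'] [Algebra A A'] :
    ∃ (B' N' : Type u) (_ : CommRing B') (_ : Algebra B B') (_ : Algebra A' B') (_ : Algebra A B')
      (_ : IsScalarTower A B B') (_ : IsScalarTower A A' B') (_ : Algebra.IsPushout A B A' B') (_ : AddCommGroup N')
      (_ : Module B' N') (_ : Module B N') (_ : IsScalarTower B B' N') (_ : Module A' N')
      (_ : IsScalarTower A' B' N') (f : N →ₗ[B] N'), IsBaseChange B' f := by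
  let B' := A' ⊗[A] B
  letI : Algebra B B' := Algebra.TensorProduct.rightAlgebra
  haveI : IsScalarTower A B B' := IsScalarTower.of_algebraMap_eq (R := A) (S := B) (A := B') fun a =>
    ((Algebra.TensorProduct.includeRight : B →ₐ[A] B').commutes a).symm
  haveI : Algebra.IsPushout A B A' B' := TensorProduct.isPushout'
  let N' := B' ⊗[B] N
  exact ⟨B', N', inferInstance, inferInstance, inferInstance, inferInstance, inferInstance, inferInstance,
    inferInstance, inferInstance, inferInstance, inferInstance, inferInstance, inferInstance, inferInstance,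
    TensorProduct.mk B B' N 1, TensorProduct.isBaseChange B N B'⟩

variable [Algebra.FiniteType A B]

theorem of_model {A' B' N' : Type u} [CommRing A'] [Algebra A A'] [CommRing B'] [Algebra B B'] [Algebra A' B']
    [Algebra A B'] [IsScalarTower A B B'] [IsScalarTower A A' B'] [Algebra.IsPushout A B A' B'] [AddCommGroup N']
    [Module B' N'] [Module B N'] [IsScalarTower B B' N'] [Module A' N'] [IsScalarTower A' B' N'] {f : N →ₗ[B] N'}
    (hf : IsBaseChange B' f) (h : FlatCA.FlatInDimGE n A' B' N') : PR n A B N A' := by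
  intro B'' N'' _ _ _ _ _ _ _ _ _ _ _ _ _ f'' hf''
  exact FlatInDimBC.mono (A := A) n hf hf'' h

theorem iff_model {A' B' N' : Type u} [CommRing A'] [Algebra A A'] [CommRing B'] [Algebra B B'] [Algebra A' B']
    [Algebra A B'] [IsScalarTower A B B'] [IsScalarTower A A' B'] [Algebra.IsPushout A B A' B'] [AddCommGroup N']
    [Module B' N'] [Module B N'] [IsScalarTower B B' N'] [Module A' N'] [IsScalarTower A' B' N'] {f : N →ₗ[B] N'}
    (hf : IsBaseChange B' f) : FlatCA.FlatInDimGE n A' B' N' ↔ PR n A B N A' :=
  ⟨of_model hf, fun h => h B' N' f hf⟩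

theorem mono_base {A' A'' : Type u} [CommRing A'] [Algebra A A'] [CommRing A''] [Algebra A A''] [Algebra A' A'']
    [IsScalarTower A A' A''] (h : PR n A B N A') : PR n A B N A'' := by
  intro B'' N'' _ _ _ _ _ _ _ _ _ _ _ _ _ f'' hf''
  obtain ⟨B', N', _, _, _, _, _, _, _, _, _, _, _, _, _, f, hf⟩ := exists_model A B N A'
  exact FlatInDimBC.mono (A := A) n hf hf'' (h B' N' f hf)

/-- Passing to a base change of the data. -/
theorem restrict {A₁ BA NA : Type u} [CommRing A₁] [Algebra A A₁] [CommRing BA] [Algebra B BA] [Algebra A₁ BA]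
    [Algebra A BA] [IsScalarTower A B BA] [IsScalarTower A A₁ BA] [Algebra.IsPushout A B A₁ BA] [AddCommGroup NA]
    [Module BA NA] [Module B NA] [IsScalarTower B BA NA] {fA : N →ₗ[B] NA} (hfA : IsBaseChange BA fA)
    (A' : Type u) [CommRing A'] [Algebra A₁ A'] [Algebra A A'] [IsScalarTower A A₁ A'] :
    PR n A B N A' ↔ PR n A₁ BA NA A' := by
  haveI : Algebra.FiniteType A₁ BA := Algebra.FiniteType.equiv inferInstance
    (Algebra.IsPushout.equiv A A₁ B BA (h := Algebra.IsPushout.symm inferInstance))
  obtain ⟨B', N', _, _, _, _, _, _, _, _, _, _, _, _, _, f, hf⟩ := exists_model A₁ BA NA A'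
  letI : Algebra A B' := ((algebraMap A' B').comp (algebraMap A A')).toAlgebra
  haveI : IsScalarTower A A' B' := .of_algebraMap_eq fun _ => rfl
  haveI : IsScalarTower A A₁ B' := .of_algebraMap_eq fun a => by
    rw [IsScalarTower.algebraMap_apply A A' B', IsScalarTower.algebraMap_apply A A₁ A',
      ← IsScalarTower.algebraMap_apply A₁ A' B']
  letI : Algebra B B' := ((algebraMap BA B').comp (algebraMap B BA)).toAlgebra
  haveI : IsScalarTower B BA B' := .of_algebraMap_eq fun _ => rfl
  haveI : IsScalarTower A BA B' := .of_algebraMap_eq fun a => by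
    rw [IsScalarTower.algebraMap_apply A A₁ BA, ← IsScalarTower.algebraMap_apply A₁ BA B',
      ← IsScalarTower.algebraMap_apply A A₁ B']
  haveI : IsScalarTower A B B' := .of_algebraMap_eq fun a => by
    rw [IsScalarTower.algebraMap_apply B BA B', ← IsScalarTower.algebraMap_apply A B BA,
      ← IsScalarTower.algebraMap_apply A BA B']
  haveI h1 : Algebra.IsPushout A A₁ B BA := .symm inferInstance
  haveI h2 : Algebra.IsPushout A₁ A' BA B' := .symm inferInstance
  haveI h3 : Algebra.IsPushout A A' B B' := (Algebra.IsPushout.comp_iff A A₁ B BA (T := A') (T' := B')).2 h2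
  haveI : Algebra.IsPushout A B A' B' := .symm inferInstance
  letI : Module B N' := Module.compHom N' (algebraMap B B')
  haveI : IsScalarTower B B' N' := IsScalarTower.of_algebraMap_smul fun _ _ => rfl
  haveI : IsScalarTower B BA N' := IsScalarTower.of_algebraMap_smul fun b x => by
    show algebraMap B BA b • x = algebraMap B B' b • x
    rw [IsScalarTower.algebraMap_apply B BA B', algebraMap_smul B' (algebraMap B BA b) x]
  rw [← iff_model (A := A) (hfA.comp hf), iff_model (A := A₁) hf]

/-- Beyond the number of generators the condition is empty. -/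
theorem exists_bound (A B : Type u) [CommRing A] [CommRing B] [Algebra A B] [Algebra.FiniteType A B] :
    ∃ K : ℕ, ∀ n, K < n → ∀ (N : Type u) [AddCommGroup N] [Module B N] (A' : Type u) [CommRing A'] [Algebra A A'],
      PR n A B N A' := by
  let C : E4O.Chart (FlatInDimBC.str A B) :=
    { A := A, B := B, e := 𝟙 _, j := 𝟙 _, comm := (Category.id_comp _).trans (Category.comp_id _).symm }
  obtain ⟨K, hK⟩ := C.bddAbove_deg
  refine ⟨K, fun n hn N _ _ A' _ _ => ?_⟩
  intro B' N' _ _ _ _ _ _ _ _ _ _ _ _ _ f hf
  haveI : Algebra.FiniteType A' B' := Algebra.FiniteType.equiv inferInstance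
    (Algebra.IsPushout.equiv A A' B B' (h := Algebra.IsPushout.symm inferInstance))
  rw [FlatInDimBC.iff_fdeg]
  intro Q _
  have hsq := TopDimRing.isPullback_pushout (A := A) (D := B) (A' := A') (D' := B')
  refine lt_of_le_of_lt ((E4O.fdeg_le_of_isPullback hsq.flip Q).trans ?_) hn
  exact (C.deg_eq_fdeg _).symm.le.trans (hK _)

theorem mono_n {A' : Type u} [CommRing A'] [Algebra A A'] (h : PR n A B N A') : PR (n + 1) A B N A' := by
  intro B' N' _ _ _ _ _ _ _ _ _ _ _ _ _ f hf
  haveI : Algebra.FiniteType A' B' := Algebra.FiniteType.equiv inferInstance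
    (Algebra.IsPushout.equiv A A' B B' (h := Algebra.IsPushout.symm inferInstance))
  have h1 := (FlatInDimBC.iff_fdeg n N').1 (h B' N' f hf)
  rw [FlatInDimBC.iff_fdeg]
  exact fun Q hQ => Nat.lt_succ_of_lt (h1 Q hQ)

end

section Scheme

variable (n : ℕ) (A B N : Type u) [CommRing A] [CommRing B] [Algebra A B] [AddCommGroup N] [Module B N]

/-- The condition attached to a ring map out of the base. -/
def PRhom {R : Type u} [CommRing R] (φ : A →+* R) : Prop :=
  letI := φ.toAlgebra
  PR n A B N R

/-- The condition on schemes over the base. -/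
def P ⦃T : Scheme.{u}⦄ (g : T ⟶ Spec (CommRingCat.of A)) : Prop :=
  ∀ (R : CommRingCat.{u}) (h : Spec R ⟶ T), PRhom n A B N (Spec.preimage (h ≫ g)).hom

theorem P_comp {T T' : Scheme.{u}} (h : T' ⟶ T) (g : T ⟶ Spec (CommRingCat.of A)) (hg : P n A B N g) :
    P n A B N (h ≫ g) := fun R k => by
  rw [← Category.assoc]
  exact hg R (k ≫ h)

theorem PRhom_algebraMap (R : Type u) [CommRing R] [Algebra A R] :
    PRhom n A B N (algebraMap A R) ↔ PR n A B N R := by
  unfold PRhom
  have key : ∀ (i j : Algebra A R), i = j →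
      ((letI := i; PR n A B N R) ↔ (letI := j; PR n A B N R)) := by
    rintro i j rfl; rfl
  exact key _ _ (Algebra.algebra_ext _ _ fun _ => rfl)

variable [Algebra.FiniteType A B]

theorem PRhom_comp {R R' : Type u} [CommRing R] [CommRing R'] (φ : A →+* R) (ψ : R →+* R')
    (h : PRhom n A B N φ) : PRhom n A B N (ψ.comp φ) := by
  letI := φ.toAlgebra
  letI := ψ.toAlgebra
  letI := (ψ.comp φ).toAlgebra
  haveI : IsScalarTower A R R' := .of_algebraMap_eq fun _ => rfl
  exact mono_base (A' := R) h

theorem P_Spec (R : Type u) [CommRing R] [Algebra A R] :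
    P n A B N (Spec.map (CommRingCat.ofHom (algebraMap A R))) ↔ PR n A B N R := by
  constructor
  · intro h
    have := h (CommRingCat.of R) (𝟙 _)
    rw [Category.id_comp, Spec.preimage_map] at this
    exact (PRhom_algebraMap n A B N R).1 this
  · intro h R' k
    have e : Spec.preimage (k ≫ Spec.map (CommRingCat.ofHom (algebraMap A R))) =
        CommRingCat.ofHom (algebraMap A R) ≫ Spec.preimage k :=
      Spec.map_injective (by rw [Spec.map_preimage, Spec.map_comp, Spec.map_preimage])
    rw [e]
    exact PRhom_comp n A B N _ _ ((PRhom_algebraMap n A B N R).2 h)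

/-- The condition descends along flat coverings. -/
theorem P_local {T : Scheme.{u}} (g : T ⟶ Spec (CommRingCat.of A))
    (hloc : ∀ t : T, ∃ (T' : Scheme.{u}) (h : T' ⟶ T), Flat h ∧ LocallyOfFinitePresentation h ∧ t ∈ Set.range h ∧
      P n A B N (h ≫ g)) : P n A B N g := by
  intro R k
  let φ := Spec.preimage (k ≫ g)
  letI : Algebra A R := φ.hom.toAlgebra
  show PR n A B N R
  obtain ⟨B₁, N₁, _, _, _, _, _, _, _, _, _, _, _, _, _, f₁, hf₁⟩ := exists_model A B N R
  refine of_model hf₁ ?_
  haveI : Algebra.FiniteType R B₁ := Algebra.FiniteType.equiv inferInstance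
    (Algebra.IsPushout.equiv A R B B₁ (h := Algebra.IsPushout.symm inferInstance))
  rw [FlatInDimBC.iff_fdeg]
  intro Q hQ
  let t₀ : Spec R := PrimeSpectrum.comap (algebraMap R B₁) Q
  obtain ⟨T', h, hfl, -, ⟨x, hx⟩, hP⟩ := hloc (k t₀)
  obtain ⟨w, -, hw⟩ := Scheme.Pullback.exists_preimage_pullback (f := h) (g := k) x t₀ hx
  let c := pullback.snd h k
  obtain ⟨i, y, hy⟩ := (pullback h k).affineCover.exists_eq w
  obtain ⟨ψ, hψ⟩ := Spec.map_surjective ((pullback h k).affineCover.f i ≫ c)
  let R' := (pullback h k).affineOpenCover.X i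
  haveI : Flat ((pullback h k).affineCover.f i ≫ c) := inferInstance
  letI aR : Algebra R R' := ψ.hom.toAlgebra
  haveI : Module.Flat R R' := by
    have : Flat (Spec.map ψ) := hψ ▸ ‹Flat ((pullback h k).affineCover.f i ≫ c)›
    exact (HasRingHomProperty.Spec_iff (P := @Flat)).1 this
  letI : Algebra A R' := (ψ.hom.comp φ.hom).toAlgebra
  haveI : IsScalarTower A R R' := .of_algebraMap_eq fun _ => rfl
  have hP' : PR n A B N R' := by
    have := hP R' ((pullback h k).affineCover.f i ≫ pullback.fst h k)
    have e : Spec.preimage (((pullback h k).affineCover.f i ≫ pullback.fst h k) ≫ h ≫ g) = φ ≫ ψ :=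
      Spec.map_injective (by
        rw [Spec.map_preimage, Spec.map_comp, hψ, Spec.map_preimage]
        simp only [Category.assoc, c]
        rw [pullback.condition_assoc])
    exact (PRhom_algebraMap n A B N R').1
      ((congrArg (fun x : CommRingCat.of A ⟶ R' => PRhom n A B N x.hom) e).mp this)
  obtain ⟨B₂, N₂, _, _, _, _, _, _, _, _, _, _, _, _, _, f₂, hf₂⟩ := exists_model A B N R'
  refine FlatInDimBC.descend_point (A := A) n hf₁ hf₂ (hP' B₂ N₂ f₂ hf₂) Q hQ y ?_
  have hyt : ((pullback h k).affineCover.f i ≫ c) y = t₀ := by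
    rw [Scheme.Hom.comp_apply, hy]; exact hw
  exact congrArg PrimeSpectrum.asIdeal ((congrArg (fun m : Spec R' ⟶ Spec R => m y) hψ).trans hyt)

end Scheme

end Groth.Agent.FlatMor68.FnFunctor
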