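import Groth.Agent.FlatMor68.LimitPres
import Groth.Agent.FlatMor68.FlatDimFun
import Groth.Agent.FlatMor67.FlatFunLimit
import Groth.Agent.Open62.FlatLocus
import Groth.Agent.E4O.Subscheme
import Groth.Agent.E4O.SectionCompGen
import Groth.Agent.E4O.BaseChangeDim
import Groth.Agent.E4O.OpenMapDims
import Mathlib

/-!
# The functor of flatness in dimensions `≥ n` is limit preserving
-/

set_option autoImplicit false
set_option backward.isDefEq.respectTransparency.types false
set_option linter.style.haveILetI false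
set_option linter.unusedVariables false

universe u

open CategoryTheory CategoryTheory.Limits AlgebraicGeometry TopologicalSpace

namespace Groth.Agent.FlatMor68.FnLimit

/-- The points of a closed set above which the trace of that set on the fibre has dimension `≥ n`. -/
def bigLocus {X Y : Scheme.{u}} (f : X ⟶ Y) (Z : Set X) (n : ℕ) : Set X :=
  {x | ∃ z ∈ Z, z ⤳ x ∧ f z = f x ∧ n ≤ E4O.fdeg f z}

theorem isClosed_bigLocus {X Y : Scheme.{u}} (f : X ⟶ Y) [LocallyOfFiniteType f] {Z : Set X} (hZ : IsClosed Z)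
    (n : ℕ) : IsClosed (bigLocus f Z n) := by
  let i := (Scheme.IdealSheafData.vanishingIdeal (⟨Z, hZ⟩ : Closeds X)).subschemeι
  have hr : Set.range i = Z := SchBasics.range_vanishingIdeal_subschemeι _
  have e : bigLocus f Z n = i '' {w | FlatMor.fibreDimAt (i ≫ f) w < (n : ℕ)}ᶜ := by
    ext x
    constructor
    · rintro ⟨z, hz, hzx, hfz, hn⟩
      obtain ⟨v, rfl⟩ := hr.ge hz
      obtain ⟨w, rfl⟩ := hr.ge (hzx.mem_closed hZ hz)
      refine ⟨w, fun hlt => ?_, rfl⟩
      have h := E4O.fdeg_le_fibreDimAt (f := i ≫ f) (i.isClosedEmbedding.isInducing.specializes_iff.1 hzx) hfz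
      rw [E4O.fdeg_comp_closedImmersion] at h
      have h2 := lt_of_le_of_lt h hlt
      norm_cast at h2
      omega
    · rintro ⟨w, hw, rfl⟩
      obtain ⟨v, hv, hfv, hd, -, -⟩ := E4O.exists_fibreDimAt_eq (i ≫ f) w
      refine ⟨i v, hr.le ⟨v, rfl⟩, hv.map i.continuous, hfv, ?_⟩
      rw [← E4O.fdeg_comp_closedImmersion]
      by_contra h
      refine hw ?_
      show FlatMor.fibreDimAt (i ≫ f) w < _
      rw [hd]
      exact_mod_cast not_le.1 h
  rw [e]
  exact i.isClosedEmbedding.isClosedMap _ (E4O.isOpen_fibreDimAt_lt (i ≫ f) _).isClosed_compl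

variable {X S : Scheme.{u}} (f : X ⟶ S)

theorem bc_comp {T T' T'' : Over S} (g : T'' ⟶ T') (h : T' ⟶ T) :
    PullbackDescent.bc f (g ≫ h) = PullbackDescent.bc f g ≫ PullbackDescent.bc f h := by
  apply pullback.hom_ext <;> simp only [PullbackDescent.bc, Category.assoc, pullback.lift_fst, pullback.lift_snd,
    pullback.lift_snd_assoc, Over.comp_left]

theorem bc_id (T : Over S) : PullbackDescent.bc f (𝟙 T) = 𝟙 _ := by
  apply pullback.hom_ext <;> simp [PullbackDescent.bc]

/-- The base change of a diagram over `S`. -/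
noncomputable def xDiag {I : Type u} [SmallCategory I] (D : I ⥤ Over S) : I ⥤ Scheme.{u} where
  obj i := pullback f (D.obj i).hom
  map a := PullbackDescent.bc f (D.map a)
  map_id i := by rw [D.map_id, bc_id]
  map_comp a b := by rw [D.map_comp, bc_comp]

/-- The projection of the base-changed diagram. -/
noncomputable def xProj {I : Type u} [SmallCategory I] (D : I ⥤ Over S) : xDiag f D ⟶ D ⋙ Over.forget S where
  app i := pullback.snd f (D.obj i).hom
  naturality _ _ a := (PullbackDescent.bc_isPullback f (D.map a)).w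

/-- The base-changed cone. -/
noncomputable def xCone {I : Type u} [SmallCategory I] {D : I ⥤ Over S} (c : Cone D) : Cone (xDiag f D) where
  pt := pullback f c.pt.hom
  π :=
  { app i := PullbackDescent.bc f (c.π.app i)
    naturality i j a := by
      show 𝟙 _ ≫ _ = PullbackDescent.bc f (c.π.app i) ≫ PullbackDescent.bc f (D.map a)
      rw [Category.id_comp, ← bc_comp, c.w] }

/-- The base-changed cone is a limit. -/
noncomputable def isLimitXCone {I : Type u} [SmallCategory I] [IsCofiltered I] {D : I ⥤ Over S} (c : Cone D)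
    (hc : IsLimit ((Over.forget S).mapCone c)) : IsLimit (xCone f c) :=
  haveI : IsConnected I := IsCofiltered.isConnected I
  isLimitOfIsPullbackOfIsConnected (xProj f D) (xCone f c) ((Over.forget S).mapCone c)
    { hom := pullback.snd f c.pt.hom
      w := fun i => ((PullbackDescent.bc_isPullback f (c.π.app i)).w).symm }
    (fun i => PullbackDescent.bc_isPullback f (c.π.app i)) hc

set_option maxHeartbeats 1600000 in
theorem desc [QuasiCompact f] [LocallyOfFinitePresentation f] (F : X.Modules) [Coh.IsQCoh F]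
    (hF : CohB1.IsFP F) (n : ℕ) ⦃I : Type u⦄ [SmallCategory I] [IsCofiltered I] (D : I ⥤ Over S) (c : Cone D)
    (hc : IsLimit ((Over.forget S).mapCone c)) (hD : ∀ i, IsAffine (D.obj i).left)
    (h : FlatFun.DimFibresLT n (PicF.XTproj f c.pt)
      {x | ¬ FlatMod.IsFlatOverAt (PicF.XTproj f c.pt) (FGA.ET f F c.pt) x}) :
    ∃ i, FlatFun.DimFibresLT n (PicF.XTproj f (D.obj i))
      {x | ¬ FlatMod.IsFlatOverAt (PicF.XTproj f (D.obj i)) (FGA.ET f F (D.obj i)) x} := by
  classical
  haveI : F.IsQuasicoherent := ‹Coh.IsQCoh F›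
  haveI : CohB1.IsFP F := hF
  have hq : ∀ T : Over S, (FGA.ET f F T).IsQuasicoherent := fun T => FlatDimFun.qcohET f F T
  have hfp : ∀ T : Over S, CohB1.IsFP (FGA.ET f F T) := fun T => LimTop61.isFP_pullback (pullback.fst f T.hom) F
  let q : ∀ T : Over S, pullback f T.hom ⟶ T.left := fun T => pullback.snd f T.hom
  haveI hlfp : ∀ T : Over S, LocallyOfFinitePresentation (q T) := fun T =>
    inferInstanceAs (LocallyOfFinitePresentation (pullback.snd f T.hom))
  haveI hlft : ∀ T : Over S, LocallyOfFiniteType (q T) := fun T =>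
    inferInstanceAs (LocallyOfFiniteType (pullback.snd f T.hom))
  let W : ∀ T : Over S, Set (pullback f T.hom : Scheme.{u}) := fun T =>
    {x | FlatMod.IsFlatOverAt (q T) (FGA.ET f F T) x}
  have hW : ∀ T, IsOpen (W T) := fun T => Open62.isOpen_flatLocus _ _ (hq T) (hfp T)
  have hmap : ∀ {T T' : Over S} (g : T' ⟶ T) (x : (pullback f T'.hom : Scheme.{u})),
      PullbackDescent.bc f g x ∈ W T → x ∈ W T' := fun g x hx =>
    FlatDimFun.isFlatOverAt_of_iso _ (FlatDimFun.etIso f F g) x
      (FlatMor66.isFlatOverAt_baseChange (PullbackDescent.bc_isPullback f g) _ (hq _) x hx)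
  replace h : ∀ x ∉ W c.pt, E4O.fdeg (q c.pt) x < n := (FlatDimFun.dimFibresLT_iff n _ _).1 h
  by_contra hne
  push Not at hne
  let E := xDiag f D
  haveI hA : ∀ i, IsAffine ((D ⋙ Over.forget S).obj i) := hD
  haveI haff : ∀ (i j : I) (a : i ⟶ j), IsAffineHom ((D ⋙ Over.forget S).map a) :=
    fun i j a => isAffineHom_of_isAffine _
  haveI hEaff : ∀ {i j : I} (a : i ⟶ j), IsAffineHom (E.map a) := fun {i j} a =>
    MorphismProperty.of_isPullback (P := @IsAffineHom) (PullbackDescent.bc_isPullback f (D.map a)).flip (haff i j a)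
  have hEc := isLimitXCone f c hc
  -- the closed sets of big fibre dimension are nonempty at every stage
  obtain ⟨x, hx⟩ := exists_mem_of_isClosed_of_nonempty E (xCone f c) hEc
    (fun i => bigLocus (q (D.obj i)) (W (D.obj i))ᶜ n)
    (fun i => isClosed_bigLocus _ (hW _).isClosed_compl n)
    (fun i => by
      obtain ⟨z, hz, hzn⟩ : ∃ z ∉ W (D.obj i), n ≤ E4O.fdeg (q (D.obj i)) z := by
        by_contra h'
        push Not at h'
        exact hne i ((FlatDimFun.dimFibresLT_iff n _ _).2 h')
      exact ⟨z, z, hz, specializes_rfl, rfl, hzn⟩)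
    (fun i => by
      haveI : CompactSpace (D.obj i).left := by haveI := hD i; infer_instance
      haveI : CompactSpace (pullback f (D.obj i).hom : Scheme.{u}) :=
        QuasiCompact.compactSpace_of_compactSpace (pullback.snd f (D.obj i).hom)
      exact (isClosed_bigLocus _ (hW _).isClosed_compl n).isCompact)
    (fun {i j} a x => by
      rintro ⟨z, hz, hzx, hfz, hzn⟩
      have hsq := PullbackDescent.bc_isPullback f (D.map a)
      refine ⟨PullbackDescent.bc f (D.map a) z, fun hh => hz (hmap _ z hh),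
        hzx.map (PullbackDescent.bc f (D.map a)).continuous, ?_,
        hzn.trans (E4O.fdeg_le_of_isPullback hsq z)⟩
      show (PullbackDescent.bc f (D.map a) ≫ q _) z = (PullbackDescent.bc f (D.map a) ≫ q _) x
      rw [show PullbackDescent.bc f (D.map a) ≫ q _ = q _ ≫ (D.map a).left from hsq.w,
        Scheme.Hom.comp_apply, Scheme.Hom.comp_apply]
      exact congrArg _ hfz)
  let t := q c.pt x
  -- the fibre over `t` is noetherian
  let Φ : Set (pullback f c.pt.hom : Scheme.{u}) := q c.pt ⁻¹' {t}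
  haveI : QuasiCompact (q c.pt) := inferInstanceAs (QuasiCompact (pullback.snd f c.pt.hom))
  haveI : NoetherianSpace ↥Φ :=
    haveI := E4O.noetherianSpace_fiber (q c.pt) t
    Topology.IsInducing.noetherianSpace ((q c.pt).fiberHomeo t).symm.isInducing
  let p : ∀ i, ↥(pullback f c.pt.hom : Scheme.{u}) → ↥(pullback f (D.obj i).hom : Scheme.{u}) :=
    fun i z => PullbackDescent.bc f (c.π.app i) z
  let C : I → Closeds ↥Φ := fun i =>
    ⟨(fun z : Φ => p i z.1) ⁻¹' (W (D.obj i))ᶜ, (hW _).isClosed_compl.preimage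
      ((PullbackDescent.bc f (c.π.app i)).continuous.comp continuous_subtype_val)⟩
  have hmono : ∀ {k i : I} (a : k ⟶ i), C k ≤ C i := fun {k i} a z hz hzi => hz (hmap (D.map a) _ (by
    have : p i z.1 = PullbackDescent.bc f (D.map a) (p k z.1) := by
      show _ = (PullbackDescent.bc f (c.π.app k) ≫ PullbackDescent.bc f (D.map a)) z.1
      rw [← bc_comp, c.w]
    rw [← this]
    exact hzi))
  haveI : Nonempty I := IsCofiltered.nonempty
  obtain ⟨_, ⟨i₀, rfl⟩, hmin⟩ := (wellFounded_lt (α := Closeds ↥Φ)).has_min (Set.range C) (Set.range_nonempty C)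
  obtain ⟨z, hz, -, hqz, hzn⟩ := hx i₀
  have hsq₀ := PullbackDescent.bc_isPullback f (c.π.app i₀)
  obtain ⟨a, ha, hat, hd⟩ := E4O.exists_fdeg_eq_of_isPullback hsq₀ z t (by
    refine hqz.trans ?_
    show (PullbackDescent.bc f (c.π.app i₀) ≫ pullback.snd f (D.obj i₀).hom) x = _
    rw [hsq₀.w]
    rfl)
  have haW : a ∈ W c.pt := by
    by_contra haW
    have := h a haW
    exact absurd (lt_of_le_of_lt (hzn.trans hd.ge) this) (lt_irrefl n)
  have ha₀ : (⟨a, hat⟩ : Φ) ∈ C i₀ := by
    show p i₀ a ∉ W _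
    rw [show p i₀ a = z from ha]
    exact hz
  -- flatness at `a` is attained at a finite stage
  obtain ⟨_, ⟨_, ⟨i, V, hV, rfl⟩, rfl⟩, haV, hVW⟩ :=
    (isBasis_preimage_isAffineOpen E (xCone f c) hEc).exists_subset_of_mem_open haW (hW c.pt)
  haveI := hD i
  haveI : (FGA.ET f F (D.obj i)).IsQuasicoherent := hq _
  haveI : CohB1.IsFP (FGA.ET f F (D.obj i)) := hfp _
  haveI : IsAffine ((D ⋙ Over.forget S).obj i) := hD i
  let f₀ : (pullback f (D.obj i).hom : Scheme.{u}) ⟶ (D ⋙ Over.forget S).obj i := q (D.obj i)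
  haveI : LocallyOfFinitePresentation f₀ := hlfp (D.obj i)
  obtain ⟨l, φ, hl⟩ := Stage62.exists_stage_flatOn (D ⋙ Over.forget S) ((Over.forget S).mapCone c) hc i
    f₀ (FGA.ET f F (D.obj i)) (q c.pt) (PullbackDescent.bc f (c.π.app i))
    (PullbackDescent.bc_isPullback f (c.π.app i)) hV
    (fun x' hx' => Stage62.isFlatOverAt_of_iso _ (FlatDimFun.etIso f F (c.π.app i)).symm x' (hVW hx'))
  have hflat : p l a ∈ W (D.obj l) := by
    refine FlatMor67.flat_transport f F (D.map φ) (p l a) fun w hw => ?_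
    have hmem : pullback.fst f₀ ((D ⋙ Over.forget S).map φ) w ∈ V := by
      show pullback.fst (pullback.snd f (D.obj i).hom) (D.map φ).left w ∈ V
      rw [hw]
      show (PullbackDescent.bc f (c.π.app l) ≫ PullbackDescent.bc f (D.map φ)) a ∈ V
      rw [← bc_comp, c.w]
      exact haV
    have := hl l (𝟙 l)
    rw [Category.id_comp] at this
    exact this w hmem
  obtain ⟨k, ψ₁, ψ₂, -⟩ := IsCofilteredOrEmpty.cone_objs l i₀
  have hk : C k = C i₀ := (hmono ψ₂).eq_or_lt.resolve_right (hmin _ ⟨k, rfl⟩)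
  exact (hmono ψ₁ (hk ▸ ha₀)) hflat

theorem main [QuasiCompact f] [LocallyOfFinitePresentation f] (F : X.Modules) [Coh.IsQCoh F]
    (hF : CohB1.IsFP F) (n : ℕ) :
    AlgSp.IsLimitPreserving (FlatFun.genPSp S (fun T => FlatFun.DimFibresLT n (PicF.XTproj f T)
        {x | ¬ FlatMod.IsFlatOverAt (PicF.XTproj f T) (FGA.ET f F T) x})) := by
  refine LimitPres.isLimitPreserving_genPSp _ ?_ fun I _ _ D c hc hD _ h => desc f F hF n D c hc hD h
  intro T T₀ g h
  rw [FlatDimFun.dimFibresLT_iff] at h ⊢
  intro x' hx'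
  refine lt_of_le_of_lt (E4O.fdeg_le_of_isPullback (PullbackDescent.bc_isPullback f g) x') (h _ fun hf => hx' ?_)
  exact FlatDimFun.isFlatOverAt_of_iso _ (FlatDimFun.etIso f F g) x'
    (FlatMor66.isFlatOverAt_baseChange (PullbackDescent.bc_isPullback f g) _ (FlatDimFun.qcohET f F T₀) x' hf)

end Groth.Agent.FlatMor68.FnLimit
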