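import Groth.Agent.FlatMor68.CoverIff
import Groth.Agent.FlatMor68.CompleteDevBC
import Groth.Agent.FlatMor68.DimDevissage
import Mathlib

/-!
# Representability of flatness in dimensions `≥ n` near a point over which flatness in dimensions `≥ n + 1` holds
-/

set_option autoImplicit false
set_option backward.isDefEq.respectTransparency.types false
set_option linter.style.haveILetI false
set_option linter.unusedVariables false

universe u

open CategoryTheory CategoryTheory.Limits AlgebraicGeometry TensorProduct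

namespace Groth.Agent.FlatMor68.FnLocalStep

open Groth.Agent.FlatMor68.FnFunctor

/-- Finitely many monomorphisms into a scheme have an intersection. -/
theorem exists_inter {S : Scheme.{u}} : ∀ {k : ℕ} (Z : Fin k → Scheme.{u}) (j : ∀ i, Z i ⟶ S),
    (∀ i, Mono (j i) ∧ LocallyOfFinitePresentation (j i) ∧ QuasiCompact (j i)) →
    ∃ (W : Scheme.{u}) (w : W ⟶ S), Mono w ∧ LocallyOfFinitePresentation w ∧ QuasiCompact w ∧
      ∀ {T : Scheme.{u}} (b : T ⟶ S), (∃ l, l ≫ w = b) ↔ ∀ i, ∃ l, l ≫ j i = b := by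
  intro k
  induction k with
  | zero =>
    exact fun Z j _ => ⟨S, 𝟙 _, inferInstance, inferInstance, inferInstance,
      fun b => iff_of_true ⟨b, Category.comp_id b⟩ fun i => i.elim0⟩
  | succ k ih =>
    intro Z j hj
    obtain ⟨W, w, hw1, hw2, hw3, hw⟩ := ih (fun i => Z i.succ) (fun i => j i.succ) fun i => hj i.succ
    obtain ⟨h1, h2, h3⟩ := hj 0
    refine ⟨pullback (j 0) w, pullback.snd (j 0) w ≫ w, mono_comp _ _, inferInstance, inferInstance,
      fun {T} b => ⟨?_, ?_⟩⟩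
    · rintro ⟨l, rfl⟩ i
      refine Fin.cases ?_ (fun i => ?_) i
      · exact ⟨l ≫ pullback.fst _ _, by rw [Category.assoc, pullback.condition]⟩
      · exact (hw _).1 ⟨l ≫ pullback.snd _ _, Category.assoc _ _ _⟩ i
    · intro h
      obtain ⟨l₀, hl₀⟩ := h 0
      obtain ⟨l, hl⟩ := (hw b).2 fun i => h i.succ
      exact ⟨pullback.lift l₀ l (hl₀.trans hl.symm), by rw [pullback.lift_snd_assoc, hl]⟩

/-- The step at one point. -/
theorem main {A₁ BA NA : Type u} [CommRing A₁] [CommRing BA] [Algebra A₁ BA] [Algebra.FinitePresentation A₁ BA]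
    [AddCommGroup NA] [Module BA NA] [Module A₁ NA] [IsScalarTower A₁ BA NA] [Module.FinitePresentation BA NA] (n : ℕ)
    {k : ℕ} (C : Fin k → Type u) [∀ i, CommRing (C i)] [∀ i, Algebra BA (C i)] [∀ i, Algebra A₁ (C i)]
    [∀ i, IsScalarTower A₁ BA (C i)] [∀ i, Algebra.Etale BA (C i)] (M : Fin k → Type u) [∀ i, AddCommGroup (M i)]
    [∀ i, Module (C i) (M i)] [∀ i, Module BA (M i)] [∀ i, IsScalarTower BA (C i) (M i)]
    (g : ∀ i, NA →ₗ[BA] M i) (hg : ∀ i, IsBaseChange (C i) (g i)) (p₁ : Ideal A₁) [p₁.IsPrime]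
    (D : ∀ i, FlatCA.CompleteDevissage A₁ (C i) (M i) p₁) (g₁ : A₁)
    (hass : ∀ (t : Ideal A₁) [t.IsPrime], g₁ ∉ t → ∀ (Q : Ideal BA) [Q.IsPrime], Q.LiesOver t →
      FlatCA.fiberIdeal t Q ∈ associatedPrimes (t.Fiber BA) (FlatCA.fiberMod t BA NA) →
      ∃ (i : Fin k) (Q' : Ideal (C i)), Q'.IsPrime ∧ Q'.comap (algebraMap BA (C i)) = Q)
    (hdim : ∀ i, ∀ j, j < (D i).n → ∃ e : ℕ, ∀ (A' D' : Type u) [CommRing A'] [CommRing D'] [Algebra A₁ A']
      [Algebra ((D i).B j) D'] [Algebra A' D'] [Algebra A₁ D'] [IsScalarTower A₁ ((D i).B j) D']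
      [IsScalarTower A₁ A' D'] [Algebra.IsPushout A₁ ((D i).B j) A' D'],
      IsUnit (algebraMap A₁ A' g₁) → FlatCA.SmoothRelDim e A' D')
    (R₂ : Type u) [CommRing R₂] [Algebra A₁ R₂] (hu : IsUnit (algebraMap A₁ R₂ g₁))
    (q₂ : Ideal R₂) [q₂.IsPrime] [q₂.LiesOver p₁] (hF : PR (n + 1) A₁ BA NA R₂) :
    ∃ h : R₂, h ∉ q₂ ∧ ∃ (Z : Scheme.{u}) (j : Z ⟶ Spec (CommRingCat.of R₂)),
      Mono j ∧ LocallyOfFinitePresentation j ∧ QuasiCompact j ∧
      ∀ (A' : Type u) [CommRing A'] [Algebra R₂ A'] [Algebra A₁ A'] [IsScalarTower A₁ R₂ A'],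
        IsUnit (algebraMap R₂ A' h) →
        (PR n A₁ BA NA A' ↔ ∃ l, l ≫ j = Spec.map (CommRingCat.ofHom (algebraMap R₂ A'))) := by
  classical
  haveI : ∀ i, Algebra.FinitePresentation A₁ (C i) := fun i => Algebra.FinitePresentation.trans A₁ BA (C i)
  haveI : ∀ i, Module.FinitePresentation (C i) (M i) := fun i => Module.FinitePresentation.of_equiv (hg i).equiv
  have hcov := (CoverIff.main (n + 1) C M g hg g₁ hass R₂ hu).1 hF
  have key : ∀ i, ∃ h : R₂, h ∉ q₂ ∧ ∃ (Z : Scheme.{u}) (j : Z ⟶ Spec (CommRingCat.of R₂)),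
      Mono j ∧ LocallyOfFinitePresentation j ∧ QuasiCompact j ∧
      ∀ (A' : Type u) [CommRing A'] [Algebra R₂ A'] [Algebra A₁ A'] [IsScalarTower A₁ R₂ A'],
        IsUnit (algebraMap R₂ A' h) →
        (PR n A₁ (C i) (M i) A' ↔ ∃ l, l ≫ j = Spec.map (CommRingCat.ofHom (algebraMap R₂ A'))) := by
    intro i
    obtain ⟨C₂, M₂, _, _, _, _, _, _, _, _, _, _, _, _, _, f, hf⟩ := exists_model A₁ (C i) (M i) R₂
    haveI : Algebra.IsPushout A₁ R₂ (C i) C₂ := .symm inferInstance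
    haveI : Algebra.FinitePresentation R₂ C₂ :=
      Algebra.FinitePresentation.equiv (Algebra.IsPushout.equiv A₁ R₂ (C i) C₂)
    haveI : Module.FinitePresentation C₂ M₂ := Module.FinitePresentation.of_equiv hf.equiv
    have hflat := hcov i C₂ M₂ f hf
    obtain ⟨D', _, _, _, _, aB, rB, t3, t4, _, _, _, _, _, _, _, _, _, _, hn, -, -, -, -, hi⟩ :=
      CompleteDevBC.main A₁ (C i) (M i) p₁ (D i) R₂ q₂ C₂ M₂ f hf
    have hd : ∀ j, j < D'.n → ∃ e : ℕ, FlatCA.SmoothRelDim e R₂ (D'.B j) := fun j hj => by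
      have hj' : j < (D i).n := hn ▸ hj
      obtain ⟨e, he⟩ := hdim i j hj'
      letI := aB ⟨j, hj'⟩; letI := rB ⟨j, hj'⟩; haveI := t3 ⟨j, hj'⟩; haveI := t4 ⟨j, hj'⟩
      haveI : Algebra.IsPushout A₁ R₂ ((D i).B j) (D'.B j) := (hi ⟨j, hj'⟩).2.1
      haveI : Algebra.IsPushout A₁ ((D i).B j) R₂ (D'.B j) := .symm inferInstance
      exact ⟨e, he R₂ (D'.B j) hu⟩
    obtain ⟨h, hh, Z, j, hj1, hj2, hj3, -, hZ⟩ := DimDevissage.main' D' n hd hflat
    refine ⟨h, hh, Z, j, hj1, hj2, hj3, ?_⟩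
    intro A' _ _ _ _ hA'
    rw [restrict (A := A₁) (A₁ := R₂) hf A']
    obtain ⟨C', M', _, _, _, _, _, _, _, _, _, _, _, _, _, f', hf'⟩ := exists_model R₂ C₂ M₂ A'
    rw [← iff_model (A := R₂) hf']
    exact hZ A' C' M' f' hf' hA'
  choose h hh Z j hj1 hj2 hj3 hcrit using key
  obtain ⟨W, w, hw1, hw2, hw3, hw⟩ := exists_inter Z j fun i => ⟨hj1 i, hj2 i, hj3 i⟩
  refine ⟨∏ i, h i, fun hmem => ?_, W, w, hw1, hw2, hw3, ?_⟩
  · obtain ⟨i, -, hi⟩ := (Ideal.IsPrime.prod_mem_iff (p := q₂)).1 hmem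
    exact hh i hi
  intro A' _ _ _ _ hA'
  rw [map_prod, IsUnit.prod_iff] at hA'
  rw [CoverIff.main n C M g hg g₁ hass A' (by
    rw [IsScalarTower.algebraMap_apply A₁ R₂ A']; exact hu.map _), hw]
  exact forall_congr' fun i => hcrit i A' (hA' i (Finset.mem_univ i))

end Groth.Agent.FlatMor68.FnLocalStep
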