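import Groth.Agent.SpPts86.EffDescent
import Groth.Agent.SGA3a.ContainTools
import Groth.Agent.Desc59.DDFamEff
import Mathlib

/-!
# Representability by a monomorphism descends along étale coverings
-/

set_option autoImplicit false
set_option backward.isDefEq.respectTransparency.types false
set_option linter.style.haveILetI false

universe u

open CategoryTheory CategoryTheory.Limits AlgebraicGeometry

namespace Groth.Agent.FlatMor68.MonoDescent

open Groth.Agent.Desc59

/-- Lifts into a monomorphism glue along open covers. -/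
theorem exists_lift_of_cover {X Y T : Scheme.{u}} (j : Y ⟶ X) [Mono j] (b : T ⟶ X) (𝒰 : T.OpenCover)
    (h : ∀ i, ∃ l : 𝒰.X i ⟶ Y, l ≫ j = 𝒰.f i ≫ b) : ∃ l : T ⟶ Y, l ≫ j = b := by
  choose l hl using h
  refine ⟨𝒰.glueMorphisms l fun i k => ?_, 𝒰.hom_ext _ _ fun i => ?_⟩
  · rw [← cancel_mono j, Category.assoc, Category.assoc, hl, hl, pullback.condition_assoc]
  · rw [Scheme.Cover.ι_glueMorphisms_assoc, hl]

variable {S : Scheme.{u}} (P : ∀ ⦃T : Scheme.{u}⦄, (T ⟶ S) → Prop)
  (hst : ∀ ⦃T T' : Scheme.{u}⦄ (h : T' ⟶ T) (g : T ⟶ S), P g → P (h ≫ g))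
  (hloc : ∀ ⦃T : Scheme.{u}⦄ (g : T ⟶ S), (∀ t : T, ∃ (T' : Scheme.{u}) (h : T' ⟶ T),
    Flat h ∧ LocallyOfFinitePresentation h ∧ t ∈ Set.range h ∧ P (h ≫ g)) → P g)

include hst hloc in
theorem iff_of_cover {T : Scheme.{u}} (g : T ⟶ S) (𝒰 : T.OpenCover) : P g ↔ ∀ i, P (𝒰.f i ≫ g) :=
  ⟨fun h i => hst _ g h, fun h => hloc g fun t => by
    obtain ⟨i, y, hy⟩ := 𝒰.exists_eq t
    exact ⟨_, 𝒰.f i, inferInstance, inferInstance, ⟨y, hy⟩, h i⟩⟩

include hst hloc in
theorem criterion_of_affine {Y Z' : Scheme.{u}} (a : Y ⟶ S) (j : Z' ⟶ Y) [Mono j]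
    (h : ∀ (R : CommRingCat.{u}) (b : Spec R ⟶ Y), P (b ≫ a) ↔ ∃ l, l ≫ j = b)
    {T : Scheme.{u}} (b : T ⟶ Y) : P (b ≫ a) ↔ ∃ l, l ≫ j = b := by
  constructor
  · intro hb
    exact exists_lift_of_cover j b T.affineCover fun i =>
      (h _ (T.affineCover.f i ≫ b)).1 (by rw [Category.assoc]; exact hst _ _ hb)
  · rintro ⟨l, rfl⟩
    refine (iff_of_cover P hst hloc _ T.affineCover).2 fun i => ?_
    rw [← Category.assoc]
    exact (h _ _).2 ⟨T.affineCover.f i ≫ l, Category.assoc _ _ _⟩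

include hst hloc in
/-- A property descending along flat coverings which is representable by a monomorphism étale locally on the base is
representable by a monomorphism. -/
theorem exists_mono
    (cov : ∀ z : S, ∃ (Y : Scheme.{u}) (a : Y ⟶ S) (Z' : Scheme.{u}) (j : Z' ⟶ Y), Etale a ∧ z ∈ Set.range a ∧
      Mono j ∧ LocallyOfFinitePresentation j ∧ QuasiCompact j ∧
      ∀ (R : CommRingCat.{u}) (b : Spec R ⟶ Y), P (b ≫ a) ↔ ∃ l, l ≫ j = b) :
    ∃ (Z : Scheme.{u}) (i : Z ⟶ S), Mono i ∧ LocallyOfFinitePresentation i ∧ QuasiCompact i ∧ QuasiSeparated i ∧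
      ∀ {T : Scheme.{u}} (g : T ⟶ S), P g ↔ ∃ l, l ≫ i = g := by
  choose Y a Z' j ha hz hmono hlfp hqc hcrit using cov
  let p : (∐ Y) ⟶ S := Sigma.desc a
  let J : (∐ Z') ⟶ ∐ Y := Limits.Sigma.map j
  -- the properties of the disjoint union
  have hsum : ∀ (Q : MorphismProperty Scheme.{u}) [IsZariskiLocalAtTarget Q], (∀ z, Q (j z)) → Q J := by
    intro Q _ hQ
    refine (IsZariskiLocalAtTarget.iff_of_openCover (P := Q) (sigmaOpenCover Y)).2 fun z => ?_
    have hp : IsPullback (Sigma.ι Z' z) (j z) J (Sigma.ι Y z) := Sigma'.isPullback_map j z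
    show Q (pullback.snd J (Sigma.ι Y z))
    rw [← hp.isoPullback_inv_snd, Q.cancel_left_of_respectsIso]
    exact hQ z
  haveI : Mono J := hsum (MorphismProperty.monomorphisms Scheme.{u}) hmono
  haveI : LocallyOfFinitePresentation J := hsum @LocallyOfFinitePresentation hlfp
  haveI : QuasiCompact J := hsum @QuasiCompact hqc
  -- the criterion on the disjoint union
  have hJ : ∀ {T : Scheme.{u}} (b : T ⟶ ∐ Y), P (b ≫ p) ↔ ∃ l, l ≫ J = b := by
    intro T b
    let 𝒰 := (sigmaOpenCover Y).pullback₁ b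
    have piece : ∀ z : S, P (pullback.fst b (Sigma.ι Y z) ≫ b ≫ p) ↔
        ∃ l : pullback b (Sigma.ι Y z) ⟶ ∐ Z', l ≫ J = pullback.fst b (Sigma.ι Y z) ≫ b := by
      intro z
      have hzp : pullback.fst b (Sigma.ι Y z) ≫ b ≫ p = pullback.snd b (Sigma.ι Y z) ≫ a z := by
        rw [pullback.condition_assoc, Sigma.ι_desc]
      rw [hzp, pullback.condition]
      haveI := hmono z
      refine (criterion_of_affine P hst hloc (a z) (j z) (hcrit z) _).trans ?_
      constructor
      · rintro ⟨l, hl⟩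
        exact ⟨l ≫ Sigma.ι Z' z, by rw [Category.assoc, Limits.Sigma.ι_map, ← Category.assoc, hl]⟩
      · rintro ⟨l, hl⟩
        exact ⟨(Sigma'.isPullback_map j z).lift l _ hl, (Sigma'.isPullback_map j z).lift_snd _ _ _⟩
    rw [iff_of_cover P hst hloc _ 𝒰]
    constructor
    · exact fun h => exists_lift_of_cover J b 𝒰 fun z => (piece z).1 (h z)
    · rintro ⟨l, rfl⟩ z
      exact (piece z).2 ⟨𝒰.f z ≫ l, Category.assoc _ _ _⟩
  -- the covering
  haveI hpe : Etale p := (IsZariskiLocalAtSource.iff_of_openCover (P := @Etale) (sigmaOpenCover Y)).2 fun z => by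
    show Etale (Sigma.ι Y z ≫ Sigma.desc a)
    rw [Sigma.ι_desc]; exact ha z
  haveI : Surjective p := ⟨fun z => by
    obtain ⟨y, hy⟩ := hz z
    exact ⟨Sigma.ι Y z y, by rw [← Scheme.Hom.comp_apply, Sigma.ι_desc]; exact hy⟩⟩
  -- the descent datum
  have hsub : ∀ {T : Scheme.{u}} (x : T ⟶ ∐ Y), Subsingleton (Desc.Lifts (Over.mk J) x) := fun x =>
    ⟨fun v w => Subtype.ext ((cancel_mono J).1 (v.2.trans w.2.symm))⟩
  have hswap : ∀ {T : Scheme.{u}} (x₀ x₁ : T ⟶ ∐ Y), x₀ ≫ p = x₁ ≫ p →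
      Desc.Lifts (Over.mk J) x₀ → Desc.Lifts (Over.mk J) x₁ := fun {T} x₀ x₁ h v => by
    have hex : ∃ l, l ≫ J = x₁ := (hJ x₁).1 (h ▸ (hJ x₀).2 ⟨v.1, v.2⟩)
    exact ⟨hex.choose, hex.choose_spec⟩
  let D : Desc.SchDD p :=
    { obj := Over.mk J
      φ := fun T x₀ x₁ h =>
        { toFun := hswap x₀ x₁ h
          invFun := hswap x₁ x₀ h.symm
          left_inv := fun v => @Subsingleton.elim _ (hsub x₀) _ _
          right_inv := fun v => @Subsingleton.elim _ (hsub x₁) _ _ }
      φ_natural := fun T T' g x₀ x₁ h h' v v' _ => by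
        have key : ∀ (l : T ⟶ ∐ Z') (m : T' ⟶ ∐ Z'), l ≫ J = x₁ → m ≫ J = g ≫ x₁ → m = g ≫ l :=
          fun l m hl hm => (cancel_mono J).1 (by rw [Category.assoc, hl, hm])
        exact key _ _ (hswap x₀ x₁ h v).2 (hswap (g ≫ x₀) (g ≫ x₁) h' v').2
      φ_self := fun T x v => @Subsingleton.elim _ (hsub x) _ _
      φ_comp := fun T x₀ x₁ x₂ h₀₁ h₁₂ v => @Subsingleton.elim _ (hsub x₂) _ _ }
  obtain ⟨U, ⟨eU⟩⟩ := SpPts86.hasEffDescent_sepLQF p inferInstance inferInstance inferInstance D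
    (SpPts86.mono_inf_lft_le_sepLQF _ ⟨inferInstanceAs (Mono J), inferInstanceAs (LocallyOfFiniteType J)⟩)
  -- the base change of the descended scheme
  let e' : pullback p U.hom ≅ ∐ Z' :=
    { hom := eU.hom.hom.left
      inv := eU.inv.hom.left
      hom_inv_id := by
        have := congrArg (fun q => q.hom.left) eU.hom_inv_id
        exact this
      inv_hom_id := by
        have := congrArg (fun q => q.hom.left) eU.inv_hom_id
        exact this }
  have he' : e'.hom ≫ J = pullback.fst p U.hom := Over.w eU.hom.hom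
  have hQ : ∀ (Q : MorphismProperty Scheme.{u}) [Q.RespectsIso], Q J → Q (pullback.fst p U.hom) := fun Q _ hQJ => by
    rw [← he']
    haveI := e'.isIso_hom
    exact (MorphismProperty.cancel_left_of_respectsIso Q e'.hom J).2 hQJ
  haveI : Mono (pullback.fst p U.hom) := hQ (MorphismProperty.monomorphisms Scheme.{u}) ‹Mono J›
  haveI : Mono U.hom := ⟨fun {T} v₁ v₂ hv => by
    let q := pullback.snd p (v₁ ≫ U.hom)
    haveI : Epi q := inferInstance
    let l₁ : pullback p (v₁ ≫ U.hom) ⟶ pullback p U.hom :=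
      pullback.lift (pullback.fst _ _) (q ≫ v₁) (by rw [Category.assoc]; exact pullback.condition)
    let l₂ : pullback p (v₁ ≫ U.hom) ⟶ pullback p U.hom :=
      pullback.lift (pullback.fst _ _) (q ≫ v₂) (by rw [Category.assoc, ← hv]; exact pullback.condition)
    have h12 : l₁ = l₂ := (cancel_mono (pullback.fst p U.hom)).1 (by simp only [l₁, l₂]; rw [pullback.lift_fst, pullback.lift_fst])
    have := congrArg (· ≫ pullback.snd p U.hom) h12
    simp only [l₁, l₂, pullback.lift_snd] at this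
    exact (cancel_epi q).1 this⟩
  have hp : SpFP87.fppfSurj p := ⟨⟨inferInstance, inferInstance⟩, inferInstance⟩
  haveI : LocallyOfFinitePresentation U.hom := by
    haveI := SpPts86.lfp_descends.{u}
    exact MorphismProperty.of_pullback_fst_of_descendsAlong (P := @LocallyOfFinitePresentation)
      (Q := SpFP87.fppfSurj) hp (hQ @LocallyOfFinitePresentation ‹_›)
  haveI : QuasiCompact U.hom := by
    haveI := SpPts86.descends_fppf_of_fpqc _ Unr55.quasiCompact.{u}
    exact MorphismProperty.of_pullback_fst_of_descendsAlong (P := @QuasiCompact)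
      (Q := SpFP87.fppfSurj) hp (hQ @QuasiCompact ‹_›)
  refine ⟨U.left, U.hom, inferInstance, inferInstance, inferInstance, inferInstance, fun {T} g => ?_⟩
  let q := pullback.snd p g
  have h1 : P g ↔ P (pullback.fst p g ≫ p) := by
    rw [pullback.condition]
    exact ⟨hst _ g, fun h => hloc g fun t => ⟨_, q, inferInstance, inferInstance,
      (Scheme.Hom.surjective q) t, h⟩⟩
  rw [h1, hJ]
  constructor
  · rintro ⟨l, hl⟩
    refine SGA3a.exists_lift_of_fppf U.hom g q ⟨l ≫ e'.inv ≫ pullback.snd p U.hom, ?_⟩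
    rw [Category.assoc, Category.assoc, ← pullback.condition, ← he', Category.assoc, Iso.inv_hom_id_assoc,
      ← Category.assoc, hl, pullback.condition]
  · rintro ⟨l, hl⟩
    refine ⟨pullback.lift (pullback.fst p g) (q ≫ l) (by rw [Category.assoc, hl]; exact pullback.condition) ≫ e'.hom, ?_⟩
    rw [Category.assoc, he', pullback.lift_fst]

end Groth.Agent.FlatMor68.MonoDescent
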