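import Groth.Agent.FlatMor66.RelAssLocus
import Groth.Agent.FlatMor67.PurePush
import Groth.Agent.E4O.GenOpen
import Mathlib

/-!
# Near a point along which a module is pure the associated points of the fibres lie in an étale covering of the fibre
-/

set_option autoImplicit false
set_option backward.isDefEq.respectTransparency.types false
set_option linter.style.haveILetI false

universe u

open AlgebraicGeometry TopologicalSpace Topology

namespace Groth.Agent.FlatMor68.PureCoverNhd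

open Groth.Agent.FlatMor66.RelAssLocus Groth.Agent.FlatMor66.RelAssAlg

theorem main {A B : Type u} [CommRing A] [CommRing B] [Algebra A B] [Algebra.FinitePresentation A B]
    {N : Type u} [AddCommGroup N] [Module B N] [Module.FinitePresentation B N] {p : Ideal A} [p.IsPrime]
    (hpure : FlatCA.IsPureAlong A B N p)
    {A₁ BA NA : Type u} [CommRing A₁] [Algebra A A₁] {p₁ : Ideal A₁} [p₁.IsPrime] (hn : FlatCA.IsEtaleNhd A A₁ p p₁)
    [CommRing BA] [Algebra B BA] [Algebra A₁ BA] [Algebra A BA] [IsScalarTower A B BA] [IsScalarTower A A₁ BA]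
    [Algebra.IsPushout A B A₁ BA] [AddCommGroup NA] [Module BA NA] [Module B NA] [IsScalarTower B BA NA]
    [Module A₁ NA] [IsScalarTower A₁ BA NA] {fA : N →ₗ[B] NA} (hfA : IsBaseChange BA fA)
    {k : ℕ} (C : Fin k → Type u) [∀ i, CommRing (C i)] [∀ i, Algebra BA (C i)] [∀ i, Algebra.Etale BA (C i)]
    (hcov : ∀ (Q : Ideal BA) [Q.IsPrime], Q.LiesOver p₁ →
      ∃ (i : Fin k) (Q' : Ideal (C i)), Q'.IsPrime ∧ Q'.comap (algebraMap BA (C i)) = Q) :
    ∃ g : A₁, g ∉ p₁ ∧ ∀ (t : Ideal A₁) [t.IsPrime], g ∉ t → ∀ (Q : Ideal BA) [Q.IsPrime], Q.LiesOver t →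
      FlatCA.fiberIdeal t Q ∈ associatedPrimes (t.Fiber BA) (FlatCA.fiberMod t BA NA) →
      ∃ (i : Fin k) (Q' : Ideal (C i)), Q'.IsPrime ∧ Q'.comap (algebraMap BA (C i)) = Q := by
  classical
  haveI : Algebra.FinitePresentation A₁ BA := Algebra.FinitePresentation.equiv
    (Algebra.IsPushout.equiv A A₁ B BA (h := Algebra.IsPushout.symm inferInstance))
  haveI : Module.FinitePresentation BA NA := Module.FinitePresentation.of_equiv hfA.equiv
  let W : Set (PrimeSpectrum BA) := ⋃ i, Set.range (PrimeSpectrum.comap (algebraMap BA (C i)))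
  have hWo : IsOpen W := isOpen_iUnion fun i =>
    (PrimeSpectrum.isOpenMap_comap_of_hasGoingDown_of_finitePresentation (R := BA) (S := C i)).isOpen_range
  have hWc : IsCompact W := isCompact_iUnion fun i =>
    isCompact_range (PrimeSpectrum.continuous_comap _)
  obtain ⟨s, hs, hs'⟩ := (isCompact_open_iff_eq_finite_iUnion_of_isTopologicalBasis
    (fun g : BA => (PrimeSpectrum.basicOpen g : Set (PrimeSpectrum BA)))
    PrimeSpectrum.isTopologicalBasis_basic_opens (fun g => PrimeSpectrum.isCompact_basicOpen g) _).1 ⟨hWc, hWo⟩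
  let γ : ULift.{u} hs.toFinset → BA := fun i => (i.down : BA)
  have hW : ∀ Q : PrimeSpectrum BA, Q ∈ W ↔ ¬ ∀ i, γ i ∈ Q.asIdeal := by
    intro Q
    rw [hs', Set.mem_iUnion₂]
    constructor
    · rintro ⟨g, hg, hQ⟩ hall
      exact hQ (hall ⟨⟨g, hs.mem_toFinset.2 hg⟩⟩)
    · intro h
      push Not at h
      obtain ⟨⟨g, hg⟩, hQ⟩ := h
      exact ⟨g, hs.mem_toFinset.1 hg, hQ⟩
  let E := injLocus (fam (A := A₁) γ NA)
  have hE : ∀ t : PrimeSpectrum A₁, t ∈ E ↔ ∀ (Q : Ideal BA) [Q.IsPrime], Q.LiesOver t.asIdeal →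
      FlatCA.fiberIdeal t.asIdeal Q ∈ associatedPrimes (t.asIdeal.Fiber BA) (FlatCA.fiberMod t.asIdeal BA NA) →
      (⟨Q, ‹_›⟩ : PrimeSpectrum BA) ∈ W := by
    intro t
    rw [mem_injLocus_fam_iff]
    constructor
    · intro h Q hQp hQ hass
      haveI := hQ
      rw [hW]
      intro hall
      refine h _ hass fun i => ?_
      exact Ideal.mem_map_of_mem _ (hall i)
    · intro h P hP hall
      haveI := hP.1
      let Q : Ideal BA := P.comap (inc t.asIdeal)
      haveI : Q.LiesOver t.asIdeal := ⟨by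
        rw [Ideal.under_def, Ideal.comap_comap, show (inc t.asIdeal).comp (algebraMap A₁ BA) =
          algebraMap A₁ (t.asIdeal.Fiber BA) from RingHom.ext fun r =>
            (Algebra.TensorProduct.includeRight : BA →ₐ[A₁] t.asIdeal.Fiber BA).commutes r]
        exact (P.over_def t.asIdeal)⟩
      have hQ := h Q inferInstance (by rw [FlatMor67.PurePush.fiberIdeal_comap t.asIdeal P]; exact hP)
      rw [hW] at hQ
      exact hQ hall
  have hgen : ∀ z : Spec (CommRingCat.of A₁), z ⤳ (⟨p₁, ‹_›⟩ : PrimeSpectrum A₁) → z ∈ E := by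
    intro z hz
    have hle : (show PrimeSpectrum A₁ from z).asIdeal ≤ p₁ :=
      (PrimeSpectrum.le_iff_specializes (show PrimeSpectrum A₁ from z) ⟨p₁, ‹_›⟩).2 hz
    refine (hE z).2 ?_
    intro Q hQp hQ hass
    haveI := hQ
    have hspec : ∃ P : Ideal BA, P.IsPrime ∧ Q ≤ P ∧ P.LiesOver p₁ := by
      by_contra hne
      push Not at hne
      exact hpure A₁ BA NA fA (show PrimeSpectrum A₁ from z).asIdeal p₁ Q hn
        ⟨inferInstance, hfA, hle, hn.2.1, hQ, hass, fun P _ hP hPo => hne P inferInstance hP hPo⟩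
    obtain ⟨P, hPp, hQP, hPo⟩ := hspec
    obtain ⟨i, Q', hQ', hcm⟩ := hcov P hPo
    have hPW : (⟨P, hPp⟩ : PrimeSpectrum BA) ∈ W :=
      Set.mem_iUnion.2 ⟨i, ⟨Q', hQ'⟩, PrimeSpectrum.ext hcm⟩
    exact ((PrimeSpectrum.le_iff_specializes (⟨Q, hQp⟩ : PrimeSpectrum BA) ⟨P, hPp⟩).1 hQP).mem_open hWo hPW
  have hnhds := E4O.mem_nhds_of_forall_generization (Y := Spec (CommRingCat.of A₁)) (E := E)
    (isConstructible_injLocus γ).isLocallyConstructible hgen
  obtain ⟨U, hUE, hUo, hpU⟩ := mem_nhds_iff.1 hnhds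
  obtain ⟨_, ⟨_, ⟨g, rfl⟩, rfl⟩, hg, hgU⟩ :=
    PrimeSpectrum.isBasis_basic_opens.exists_subset_of_mem_open hpU hUo
  refine ⟨g, hg, fun t ht htg Q hQp hQ hass => ?_⟩
  have hmem := (hE ⟨t, ht⟩).1 (hUE (hgU htg)) Q hQ hass
  obtain ⟨i, q, hq⟩ := Set.mem_iUnion.1 hmem
  exact ⟨i, q.asIdeal, q.2, congrArg PrimeSpectrum.asIdeal hq⟩

end Groth.Agent.FlatMor68.PureCoverNhd
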