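import Groth.Agent.FlatMor68.TopDimRing
import Groth.Agent.RedPts82.SmoothDim
import Mathlib

/-!
# A smooth algebra with geometrically irreducible fibres has constant relative dimension near a prime
-/

set_option autoImplicit false
set_option backward.isDefEq.respectTransparency.types false
set_option linter.style.haveILetI false

universe u

open CategoryTheory CategoryTheory.Limits AlgebraicGeometry

namespace Groth.Agent.FlatMor68.RelDimNhd

theorem main {A D : Type u} [CommRing A] [CommRing D] [Algebra A D] [Algebra.Smooth A D]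
    (hirr : FlatCA.GeomIrredFibres A D) (p : Ideal A) [hp : p.IsPrime] :
    ∃ g : A, g ∉ p ∧ ∃ e : ℕ, ∀ (A' D' : Type u) [CommRing A'] [CommRing D'] [Algebra A A'] [Algebra D D']
      [Algebra A' D'] [Algebra A D'] [IsScalarTower A D D'] [IsScalarTower A A' D'] [Algebra.IsPushout A D A' D'],
      IsUnit (algebraMap A A' g) → FlatCA.SmoothRelDim e A' D' := by
  let f := Spec.map (CommRingCat.ofHom (algebraMap A D))
  haveI : Smooth f := (HasRingHomProperty.Spec_iff (P := @Smooth)).2 (RingHom.smooth_algebraMap.2 ‹_›)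
  haveI := RG29.isPrime_map p hirr
  haveI := RG29.liesOver_map p hirr
  let x₀ : ↥(Spec (CommRingCat.of D)) := (⟨p.map (algebraMap A D), inferInstance⟩ : PrimeSpectrum D)
  obtain ⟨e, V₀, -, hx₀, hV₀, -⟩ := RedPts82.exists_ι_relDim f x₀
  have hopen : IsOpen (f '' (V₀ : Set _)) := f.isOpenMap _ V₀.2
  have hmem : (⟨p, hp⟩ : PrimeSpectrum A) ∈ f '' (V₀ : Set _) :=
    ⟨x₀, hx₀, PrimeSpectrum.ext (Ideal.over_def (p.map (algebraMap A D)) p).symm⟩
  obtain ⟨_, ⟨_, ⟨g, rfl⟩, rfl⟩, hg, hsub⟩ :=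
    PrimeSpectrum.isBasis_basic_opens.exists_subset_of_mem_open hmem hopen
  refine ⟨g, hg, e, ?_⟩
  intro A' D' _ _ _ _ _ _ _ _ _ hu
  let f' := Spec.map (CommRingCat.ofHom (algebraMap A' D'))
  have sq := (TopDimRing.isPullback_pushout (A := A) (D := D) (A' := A') (D' := D')).flip
  haveI : Smooth f' := MorphismProperty.of_isPullback sq inferInstance
  refine ⟨fun x => ?_⟩
  obtain ⟨m, V, hV, hx, hm, U, hU, he, hstd⟩ := RedPts82.exists_ι_relDim f' x
  let t := f' x
  let y := (Spec (CommRingCat.of A')).fromSpecResidueField t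
  let F := pullback f' y
  have sqF : IsPullback (pullback.fst f' y ≫ Spec.map (CommRingCat.ofHom (algebraMap D D'))) (pullback.snd f' y) f
      (y ≫ Spec.map (CommRingCat.ofHom (algebraMap A A'))) :=
    (IsPullback.of_hasPullback f' y).paste_horiz sq
  haveI : IrreducibleSpace F :=
    hirr.geometrically_irreducibleSpace (K := (Spec (CommRingCat.of A')).residueField t)
      (y ≫ Spec.map (CommRingCat.ofHom (algebraMap A A'))) _ _ sqF
  have ht : (Spec.map (CommRingCat.ofHom (algebraMap A A')) t : PrimeSpectrum A) ∈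
      (PrimeSpectrum.basicOpen g : Set (PrimeSpectrum A)) := fun hgt =>
    (show PrimeSpectrum A' from t).2.ne_top (Ideal.eq_top_of_isUnit_mem _ hgt hu)
  obtain ⟨v, hv, hvt⟩ := hsub ht
  let c : ↥(Spec ((Spec (CommRingCat.of A')).residueField t)) := default
  have hyc : y c = t := Scheme.fromSpecResidueField_apply _ c
  obtain ⟨z₀, hz₀, -⟩ : ∃ z : F, (pullback.fst f' y ≫ Spec.map (CommRingCat.ofHom (algebraMap D D'))) z = v ∧
      pullback.snd f' y z = c := by
    obtain ⟨w, hw₁, hw₂⟩ := Scheme.Pullback.exists_preimage_pullback (f := f)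
      (g := y ≫ Spec.map (CommRingCat.ofHom (algebraMap A A'))) v c
      (by rw [Scheme.Hom.comp_apply, hyc]; exact hvt)
    refine ⟨sqF.isoPullback.inv w, ?_, ?_⟩
    · rw [← Scheme.Hom.comp_apply, sqF.isoPullback_inv_fst, hw₁]
    · rw [← Scheme.Hom.comp_apply, sqF.isoPullback_inv_snd, hw₂]
  obtain ⟨z₁, hz₁, -⟩ := Scheme.Pullback.exists_preimage_pullback (f := f') (g := y) x c hyc.symm
  let P₀ := (pullback.fst f' y ≫ Spec.map (CommRingCat.ofHom (algebraMap D D'))) ⁻¹ᵁ V₀
  let P₁ := pullback.fst f' y ⁻¹ᵁ V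
  obtain ⟨z, hz⟩ := nonempty_preirreducible_inter P₀.2 P₁.2
    ⟨z₀, show _ ∈ V₀ by rw [hz₀]; exact hv⟩ ⟨z₁, show _ ∈ V by rw [hz₁]; exact hx⟩
  let W := P₀ ⊓ P₁
  haveI : Nonempty W := ⟨⟨z, hz⟩⟩
  have a₀ : SmoothOfRelativeDimension e (P₀.ι ≫ pullback.snd f' y) :=
    (smoothOfRelativeDimension_isStableUnderBaseChange e).of_isPullback
      ((isPullback_morphismRestrict _ V₀).paste_vert sqF) hV₀
  have a₁ : SmoothOfRelativeDimension m (P₁.ι ≫ pullback.snd f' y) :=
    (smoothOfRelativeDimension_isStableUnderBaseChange m).of_isPullback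
      ((isPullback_morphismRestrict _ V).paste_vert (IsPullback.of_hasPullback f' y)) hm
  haveI := a₀; haveI := a₁
  have b₀ : SmoothOfRelativeDimension (0 + e) (W.ι ≫ pullback.snd f' y) := by
    rw [← Scheme.homOfLE_ι F (inf_le_left : W ≤ P₀), Category.assoc]
    exact @smoothOfRelativeDimension_comp 0 e _ _ _ _ (P₀.ι ≫ pullback.snd f' y) inferInstance a₀
  have b₁ : SmoothOfRelativeDimension (0 + m) (W.ι ≫ pullback.snd f' y) := by
    rw [← Scheme.homOfLE_ι F (inf_le_right : W ≤ P₁), Category.assoc]; infer_instance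
  rw [zero_add] at b₀ b₁
  obtain rfl : e = m :=
    RedPts82.relDim_unique (W.ι ≫ pullback.snd f' y) (h1 := b₀) (h2 := b₁)
  exact ⟨U, hU, V, hV, hx, he, hstd⟩

end Groth.Agent.FlatMor68.RelDimNhd
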