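import Groth.Agent.FlatMor68.FnLocalStep
import Groth.Agent.FlatMor68.PureCoverNhd
import Groth.Agent.FlatMor68.RelDimNhd
import Groth.Agent.FlatMor68.MonoDescent
import Groth.Agent.RG29.DevCover
import Mathlib

/-!
# Flatness in dimensions `≥ n` of a pure module is representable by a monomorphism
-/

set_option autoImplicit false
set_option backward.isDefEq.respectTransparency.types false
set_option linter.style.haveILetI false
set_option linter.unusedVariables false

universe u

open CategoryTheory CategoryTheory.Limits AlgebraicGeometry TensorProduct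

namespace Groth.Agent.FlatMor68.FnRep

open Groth.Agent.FlatMor68.FnFunctor

variable {A B : Type u} [CommRing A] [CommRing B] [Algebra A B] [Algebra.FinitePresentation A B]
  {N : Type u} [AddCommGroup N] [Module B N] [Module.FinitePresentation B N]

/-- Representability at one level. -/
def Rep (n : ℕ) (A B N : Type u) [CommRing A] [CommRing B] [Algebra A B] [AddCommGroup N] [Module B N] : Prop :=
  ∃ (Z : Scheme.{u}) (i : Z ⟶ Spec (CommRingCat.of A)), Mono i ∧ LocallyOfFinitePresentation i ∧ QuasiCompact i ∧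
    QuasiSeparated i ∧ ∀ {T : Scheme.{u}} (g : T ⟶ Spec (CommRingCat.of A)), P n A B N g ↔ ∃ l, l ≫ i = g

set_option maxHeartbeats 1000000 in
theorem step (hpure : ∀ (p : Ideal A) [p.IsPrime], FlatCA.IsPureAlong A B N p) (n : ℕ)
    (ih : Rep (n + 1) A B N) : Rep n A B N := by
  classical
  obtain ⟨Z₁, i₁, hi1, hi2, hi3, hi4, hZ₁⟩ := ih
  have cov : ∀ z : Z₁, ∃ (Y : Scheme.{u}) (a : Y ⟶ Z₁) (Z' : Scheme.{u}) (j : Z' ⟶ Y), Etale a ∧ z ∈ Set.range a ∧
      Mono j ∧ LocallyOfFinitePresentation j ∧ QuasiCompact j ∧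
      ∀ (R : CommRingCat.{u}) (b : Spec R ⟶ Y), P n A B N ((b ≫ a) ≫ i₁) ↔ ∃ l, l ≫ j = b := by
    intro z
    obtain ⟨idx, q, hq⟩ := Z₁.affineCover.exists_eq z
    let R := Z₁.affineOpenCover.X idx
    let f₀ : Spec R ⟶ Z₁ := Z₁.affineCover.f idx
    letI aAR : Algebra A R := (Spec.preimage (f₀ ≫ i₁)).hom.toAlgebra
    have hmap : Spec.map (CommRingCat.ofHom (algebraMap A R)) = f₀ ≫ i₁ := by
      exact Spec.map_preimage _
    have hPR : PR (n + 1) A B N R := by
      refine (P_Spec (n + 1) A B N R).1 ?_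
      rw [hmap]
      exact (hZ₁ _).2 ⟨f₀, rfl⟩
    let qI : Ideal R := (show PrimeSpectrum R from q).asIdeal
    let p : Ideal A := qI.comap (algebraMap A R)
    obtain ⟨A₁, _, _, p₁, _, hn, hcovs⟩ := RG29.exists_etale_cover (B := B) (p := p) N
    have hn' := hn
    obtain ⟨het, hover, -⟩ := hn'
    haveI := het
    haveI := hover
    obtain ⟨BA, NA, _, _, _, _, _, _, _, _, _, _, _, _, _, fA, hfA⟩ := exists_model A B N A₁
    obtain ⟨k, C, _, _, _, _, M, _, _, _, _, gM, hC, hcov⟩ := hcovs BA NA fA hfA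
    haveI : ∀ i, Algebra.Etale BA (C i) := fun i => (hC i).1
    have hgM : ∀ i, IsBaseChange (C i) (gM i) := fun i => (hC i).2.1
    let D : ∀ i, FlatCA.CompleteDevissage A₁ (C i) (M i) p₁ := fun i => (hC i).2.2.some
    haveI : Algebra.FinitePresentation A₁ BA := Algebra.FinitePresentation.equiv
      (Algebra.IsPushout.equiv A A₁ B BA (h := Algebra.IsPushout.symm inferInstance))
    haveI : Module.FinitePresentation BA NA := Module.FinitePresentation.of_equiv hfA.equiv
    obtain ⟨g₀, hg₀, hass⟩ := PureCoverNhd.main (hpure p) hn hfA C hcov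
    let ι := Σ i : Fin k, Fin (D i).n
    have hrd : ∀ x : ι, ∃ g : A₁, g ∉ p₁ ∧ ∃ e : ℕ, ∀ (A' D' : Type u) [CommRing A'] [CommRing D'] [Algebra A₁ A']
        [Algebra ((D x.1).B x.2) D'] [Algebra A' D'] [Algebra A₁ D'] [IsScalarTower A₁ ((D x.1).B x.2) D']
        [IsScalarTower A₁ A' D'] [Algebra.IsPushout A₁ ((D x.1).B x.2) A' D'],
        IsUnit (algebraMap A₁ A' g) → FlatCA.SmoothRelDim e A' D' := fun x => by
      haveI := (D x.1).smooth x.2 x.2.2
      exact RelDimNhd.main ((D x.1).geomIrred x.2 x.2.2) p₁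
    choose gd hgd e he using hrd
    let g₁ : A₁ := g₀ * ∏ x : ι, gd x
    have hg₁ : g₁ ∉ p₁ := fun h => by
      rcases ‹p₁.IsPrime›.mem_or_mem h with h | h
      · exact hg₀ h
      · obtain ⟨x, -, hx⟩ := (Ideal.IsPrime.prod_mem_iff (p := p₁)).1 h
        exact hgd x hx
    -- the base change to the étale neighbourhood
    let R₂ := (R : Type u) ⊗[A] A₁
    letI : Algebra A₁ R₂ := Algebra.TensorProduct.rightAlgebra
    haveI : IsScalarTower A A₁ R₂ := IsScalarTower.of_algebraMap_eq (R := A) (S := A₁) (A := R₂) fun a =>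
      ((Algebra.TensorProduct.includeRight : A₁ →ₐ[A] R₂).commutes a).symm
    haveI : Algebra.IsPushout A (R : Type u) A₁ R₂ := TensorProduct.isPushout
    obtain ⟨q₂, hq₂p, hq₂R, hq₂A⟩ := FlatMor67.FlatAtDesc.exists_prime_pushout (R := A) (S := (R : Type u)) (R' := A₁)
      (S' := R₂) qI p₁ hover.over
    haveI := hq₂p
    haveI : Algebra.Etale R R₂ := Algebra.Etale.baseChange _ _ _
    let g₂ : R₂ := algebraMap A₁ R₂ g₁
    have hg₂ : g₂ ∉ q₂ := fun h => hg₁ (by rw [← hq₂A]; exact h)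
    let R₃ := Localization.Away g₂
    let q₃ : Ideal R₃ := q₂.map (algebraMap R₂ R₃)
    have hdisj : Disjoint (Submonoid.powers g₂ : Set R₂) q₂ :=
      Set.disjoint_left.2 fun x ⟨m, hm⟩ hx => hg₂ (hq₂p.mem_of_pow_mem m ((show g₂ ^ m = x from hm).symm ▸ hx))
    haveI : q₃.IsPrime := IsLocalization.isPrime_of_isPrime_disjoint (Submonoid.powers g₂) R₃ q₂ hq₂p hdisj
    have hq₃ : q₃.comap (algebraMap R₂ R₃) = q₂ :=
      IsLocalization.under_map_of_isPrime_disjoint (Submonoid.powers g₂) R₃ hq₂p hdisj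
    haveI : q₃.LiesOver p₁ := ⟨by
      rw [Ideal.under_def, IsScalarTower.algebraMap_eq A₁ R₂ R₃, ← Ideal.comap_comap, hq₃, hq₂A]⟩
    have hu₃ : IsUnit (algebraMap A₁ R₃ g₁) := IsLocalization.Away.algebraMap_isUnit g₂
    obtain ⟨h, hh, W, w, hw1, hw2, hw3, hcrit⟩ := FnLocalStep.main n C M gM hgM p₁ D g₁
      (fun t _ ht => hass t fun hm => ht (t.mul_mem_right _ hm))
      (fun i j hj => ⟨e ⟨i, j, hj⟩, fun A' D' _ _ _ _ _ _ _ _ _ hu => he ⟨i, j, hj⟩ A' D' (by
        rw [map_mul, IsUnit.mul_iff, map_prod, IsUnit.prod_iff] at hu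
        exact hu.2 ⟨i, j, hj⟩ (Finset.mem_univ _))⟩)
      R₃ hu₃ q₃ ((restrict hfA R₃).1 (mono_base (A' := (R : Type u)) hPR))
    let R₄ := Localization.Away h
    haveI : Algebra.Etale R₂ R₃ := Algebra.Etale.of_isLocalizationAway g₂
    haveI : Algebra.Etale R₃ R₄ := Algebra.Etale.of_isLocalizationAway h
    haveI : Algebra.Etale R R₃ := Algebra.Etale.comp R R₂ R₃
    haveI : Algebra.Etale R R₄ := Algebra.Etale.comp R R₃ R₄
    let a : Spec (CommRingCat.of R₄) ⟶ Z₁ := Spec.map (CommRingCat.ofHom (algebraMap R R₄)) ≫ f₀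
    let s₄ : Spec (CommRingCat.of R₄) ⟶ Spec (CommRingCat.of R₃) :=
      Spec.map (CommRingCat.ofHom (algebraMap R₃ R₄))
    refine ⟨_, a, _, pullback.snd w s₄, ?_, ?_, inferInstance, inferInstance, inferInstance, ?_⟩
    · haveI : Etale (Spec.map (CommRingCat.ofHom (algebraMap R R₄))) :=
        (HasRingHomProperty.Spec_iff (P := @Etale)).2 (RingHom.etale_algebraMap.2 inferInstance)
      haveI : IsOpenImmersion f₀ := Z₁.affineOpenCover.map_prop idx
      exact inferInstanceAs (Etale (_ ≫ f₀))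
    · have hd4 : Disjoint (Submonoid.powers h : Set R₃) q₃ :=
        Set.disjoint_left.2 fun x ⟨m, hm⟩ hx => hh (Ideal.IsPrime.mem_of_pow_mem inferInstance m ((show h ^ m = x from hm).symm ▸ hx))
      haveI : (q₃.map (algebraMap R₃ R₄)).IsPrime :=
        IsLocalization.isPrime_of_isPrime_disjoint (Submonoid.powers h) R₄ q₃ inferInstance hd4
      refine ⟨(⟨q₃.map (algebraMap R₃ R₄), inferInstance⟩ : PrimeSpectrum R₄), ?_⟩
      show f₀ _ = z
      rw [← hq]
      congr 1
      refine PrimeSpectrum.ext ?_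
      show (q₃.map (algebraMap R₃ R₄)).comap (algebraMap R R₄) = qI
      rw [IsScalarTower.algebraMap_eq R R₃ R₄, ← Ideal.comap_comap,
        show (q₃.map (algebraMap R₃ R₄)).comap (algebraMap R₃ R₄) = q₃ from
          IsLocalization.under_map_of_isPrime_disjoint (Submonoid.powers h) R₄ inferInstance hd4,
        IsScalarTower.algebraMap_eq R R₂ R₃, ← Ideal.comap_comap, hq₃, hq₂R]
    intro S b
    obtain ⟨χ, rfl⟩ := Spec.map_surjective b
    letI : Algebra R₄ S := χ.hom.toAlgebra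
    letI : Algebra R₃ S := ((algebraMap R₄ S).comp (algebraMap R₃ R₄)).toAlgebra
    haveI : IsScalarTower R₃ R₄ S := IsScalarTower.of_algebraMap_eq (R := R₃) (S := R₄) (A := S) fun _ => rfl
    letI : Algebra A₁ S := ((algebraMap R₃ S).comp (algebraMap A₁ R₃)).toAlgebra
    haveI : IsScalarTower A₁ R₃ S := .of_algebraMap_eq fun _ => rfl
    letI : Algebra A S := ((algebraMap A₁ S).comp (algebraMap A A₁)).toAlgebra
    haveI : IsScalarTower A A₁ S := .of_algebraMap_eq fun _ => rfl
    have hbai : (Spec.map χ ≫ a) ≫ i₁ = Spec.map (CommRingCat.ofHom (algebraMap A S)) := by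
      have : (Spec.map χ ≫ a) ≫ i₁ = Spec.map χ ≫ Spec.map (CommRingCat.ofHom (algebraMap R R₄)) ≫
          Spec.map (CommRingCat.ofHom (algebraMap A R)) := by
        rw [hmap]; simp only [a, Category.assoc]
      rw [this, ← Spec.map_comp, ← Spec.map_comp]
      congr 1
      ext x
      show algebraMap R₄ S (algebraMap R₃ R₄ (algebraMap R R₃ (algebraMap A R x))) =
        algebraMap R₄ S (algebraMap R₃ R₄ (algebraMap A₁ R₃ (algebraMap A A₁ x)))
      rw [← IsScalarTower.algebraMap_apply A R R₃, ← IsScalarTower.algebraMap_apply A A₁ R₃]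
    rw [hbai, P_Spec, restrict (A₁ := A₁) hfA S, hcrit S (by
      rw [IsScalarTower.algebraMap_apply R₃ R₄ S]
      exact (IsLocalization.Away.algebraMap_isUnit h).map _)]
    have hs4 : Spec.map (CommRingCat.ofHom (algebraMap R₃ S)) = Spec.map χ ≫ s₄ := by
      rw [← Spec.map_comp]; rfl
    rw [hs4]
    constructor
    · rintro ⟨l, hl⟩
      exact ⟨pullback.lift l (Spec.map χ) hl, pullback.lift_snd _ _ _⟩
    · rintro ⟨l, hl⟩
      exact ⟨l ≫ pullback.fst w s₄, by rw [Category.assoc, pullback.condition, ← Category.assoc, hl]⟩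
  obtain ⟨Z, i, hm1, hm2, hm3, hm4, hZ⟩ := MonoDescent.exists_mono (S := Z₁)
    (fun T g => P n A B N (g ≫ i₁))
    (fun T T' h g hg => by rw [Category.assoc]; exact P_comp n A B N h _ hg)
    (fun T g hg => P_local n A B N _ fun t => by
      obtain ⟨T', h, h1, h2, h3, h4⟩ := hg t
      exact ⟨T', h, h1, h2, h3, by rw [← Category.assoc]; exact h4⟩) cov
  refine ⟨Z, i ≫ i₁, mono_comp _ _, inferInstance, inferInstance, inferInstance, fun {T} g => ⟨fun hg => ?_, ?_⟩⟩
  · obtain ⟨g₁, rfl⟩ := (hZ₁ g).1 fun R h => by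
      letI := (Spec.preimage (h ≫ g)).hom.toAlgebra
      exact mono_n (hg R h)
    obtain ⟨l, hl⟩ := (hZ g₁).1 hg
    exact ⟨l, by rw [← Category.assoc, hl]⟩
  · rintro ⟨l, rfl⟩
    rw [← Category.assoc]
    exact (hZ _).2 ⟨l, rfl⟩

theorem main (hpure : ∀ (p : Ideal A) [p.IsPrime], FlatCA.IsPureAlong A B N p) (n : ℕ) : Rep n A B N := by
  obtain ⟨K, hK⟩ := exists_bound A B
  suffices h : ∀ d n, K < n + d → Rep n A B N from h (K + 1) n (by omega)
  intro d
  induction d with
  | zero =>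
    intro n hn
    exact ⟨_, 𝟙 _, inferInstance, inferInstance, inferInstance, inferInstance,
      fun g => iff_of_true (fun R h => by
        letI := (Spec.preimage (h ≫ g)).hom.toAlgebra
        exact hK n hn N R) ⟨g, Category.comp_id g⟩⟩
  | succ d ih => exact fun n hn => step hpure n (ih (n + 1) (by omega))

end Groth.Agent.FlatMor68.FnRep

namespace Groth.Agent.FlatMor68.FnRep

open Groth.Agent.FlatMor68.FnFunctor

/-- The ring form with arbitrary models of the base changes. -/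
theorem main_models {A B : Type u} [CommRing A] [CommRing B] [Algebra A B] [Algebra.FinitePresentation A B]
    (N : Type u) [AddCommGroup N] [Module B N] [Module A N] [IsScalarTower A B N] [Module.FinitePresentation B N]
    (hpure : FlatCA.IsPure A B N) (n : ℕ) :
    ∃ (Z : Scheme.{u}) (i : Z ⟶ Spec (CommRingCat.of A)), Mono i ∧ LocallyOfFinitePresentation i ∧ QuasiCompact i ∧
      QuasiSeparated i ∧
      ∀ (A' B' N' : Type u) [CommRing A'] [CommRing B'] [Algebra A A'] [Algebra B B'] [Algebra A' B'] [Algebra A B']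
        [IsScalarTower A B B'] [IsScalarTower A A' B'] [Algebra.IsPushout A B A' B']
        [AddCommGroup N'] [Module B' N'] [Module B N'] [IsScalarTower B B' N'] [Module A' N'] [IsScalarTower A' B' N']
        (f : N →ₗ[B] N'), IsBaseChange B' f →
        (FlatCA.FlatInDimGE n A' B' N' ↔
          ∃ g : Spec (CommRingCat.of A') ⟶ Z, g ≫ i = Spec.map (CommRingCat.ofHom (algebraMap A A'))) := by
  obtain ⟨Z, i, h1, h2, h3, h4, hZ⟩ := main (A := A) (B := B) (N := N) (fun p _ => hpure p) n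
  refine ⟨Z, i, h1, h2, h3, h4, ?_⟩
  intro A' B' N' _ _ _ _ _ _ _ _ _ _ _ _ _ _ _ f hf
  rw [iff_model (A := A) hf, ← P_Spec n A B N A']
  exact hZ _

end Groth.Agent.FlatMor68.FnRep
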