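import Groth.Prelude.Def_MoreMor
import Groth.Agent.Om3.UnivExists
import Groth.Agent.Om3.Chart
import Groth.Agent.Lift3.LinExt

/-!
Formally étale morphisms via universal first order thickenings.
-/

set_option autoImplicit false
set_option linter.style.haveILetI false
set_option backward.isDefEq.respectTransparency.types false

universe u

open CategoryTheory CategoryTheory.Limits AlgebraicGeometry MoreMor

namespace Groth.Agent.FlatMor68.FormallyEtaleThick

variable {X S : Scheme.{u}} {f : X ⟶ S}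

theorem formallyUnramified_of (hf : IsFormallyEtaleHom f) : FormallyUnramified f := by
  refine FormallyUnramified.of_hom_ext f fun R S' φ hφ hk g₁ g₂ h₁ h₂ => ?_
  let I := RingHom.ker φ.hom
  let e : CommRingCat.of (R ⧸ I) ≅ S' := (RingHom.quotientKerEquivOfSurjective hφ).toCommRingCatIso
  have he : CommRingCat.ofHom (Ideal.Quotient.mk I) ≫ e.hom = φ := by ext x; rfl
  let q := Spec.map (CommRingCat.ofHom (Ideal.Quotient.mk I))
  have key : q ≫ g₁ = q ≫ g₂ := by
    rw [← cancel_epi (Spec.map e.hom), ← Spec.map_comp_assoc, ← Spec.map_comp_assoc, he, h₁]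
  exact (hf R I hk (q ≫ g₁) (g₁ ≫ f) (Category.assoc _ _ _).symm).unique ⟨rfl, rfl⟩ ⟨key.symm, h₂.symm⟩

theorem fot_id : IsFirstOrderThickening (𝟙 X) :=
  ⟨⟨inferInstance, inferInstance⟩, by simp [Scheme.Hom.ker_eq_bot]⟩

theorem univ_self_of (hf : IsFormallyEtaleHom f) : OmegaSh.IsUnivThickening f (𝟙 X) f := by
  refine Om3.univ_of_affine_tests fot_id (Category.id_comp f) fun T T' hT' j b a hj hab => ?_
  obtain ⟨hT, hs, hk⟩ := (Om3.fot_affine_iff j).1 hj
  let I := RingHom.ker j.appTop.hom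
  let q := Spec.map (CommRingCat.ofHom (Ideal.Quotient.mk I))
  let e : CommRingCat.of (Γ(T', ⊤) ⧸ I) ≅ Γ(T, ⊤) := (RingHom.quotientKerEquivOfSurjective hs).toCommRingCatIso
  have he : CommRingCat.ofHom (Ideal.Quotient.mk I) ≫ e.hom = j.appTop := by ext x; rfl
  let θ : T ⟶ Spec (CommRingCat.of (Γ(T', ⊤) ⧸ I)) := T.isoSpec.hom ≫ Spec.map e.hom
  have hθ : θ ≫ q = j ≫ T'.isoSpec.hom := by
    rw [← Scheme.isoSpec_hom_naturality, ← he]
    simp [θ, q]
  obtain ⟨l, ⟨hl, hl'⟩, hu⟩ := hf Γ(T', ⊤) I hk (inv θ ≫ a) (T'.isoSpec.inv ≫ b) (by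
    rw [← cancel_epi θ]
    exact ((reassoc_of% hθ) (T'.isoSpec.inv ≫ b)).trans (by simp [hab]))
  have hθ' : inv θ ≫ j = q ≫ T'.isoSpec.inv := by
    rw [IsIso.inv_comp_eq, reassoc_of% hθ, Iso.hom_inv_id, Category.comp_id]
  refine ⟨T'.isoSpec.hom ≫ l, ⟨?_, by rw [Category.assoc, hl', Iso.hom_inv_id_assoc]⟩, fun c hc => ?_⟩
  · rw [Category.comp_id, ← Category.assoc, ← hθ, Category.assoc, hl, IsIso.hom_inv_id_assoc]
  · rw [← hu (T'.isoSpec.inv ≫ c) ⟨?_, by rw [Category.assoc, hc.2]⟩, Iso.hom_inv_id_assoc]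
    rw [← reassoc_of% hθ', hc.1, Category.comp_id]

theorem formallyEtale_of (h : OmegaSh.IsUnivThickening f (𝟙 X) f) : IsFormallyEtaleHom f := by
  intro A _ I hI a b hab
  let φ := CommRingCat.ofHom (Ideal.Quotient.mk I)
  have happ : (Spec.map φ).appTop =
      (Scheme.ΓSpecIso (CommRingCat.of A)).hom ≫ φ ≫ (Scheme.ΓSpecIso (CommRingCat.of (A ⧸ I))).inv := by
    rw [← Scheme.ΓSpecIso_naturality_assoc, Iso.hom_inv_id, Category.comp_id]
  have hj : IsFirstOrderThickening (Spec.map φ) := by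
    refine (Om3.fot_affine_iff _).2 ⟨inferInstance, ?_, ?_⟩
    · rw [happ]
      exact ((ConcreteCategory.bijective_of_isIso (Scheme.ΓSpecIso (CommRingCat.of (A ⧸ I))).inv).surjective.comp
        Ideal.Quotient.mk_surjective).comp (ConcreteCategory.bijective_of_isIso (Scheme.ΓSpecIso (CommRingCat.of A)).hom).surjective
    · let e := (Scheme.ΓSpecIso (CommRingCat.of A)).commRingCatIsoToRingEquiv
      have : RingHom.ker (Spec.map φ).appTop.hom = I.map e.symm.toRingHom := by
        ext x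
        rw [RingHom.mem_ker, happ]
        show (Scheme.ΓSpecIso (CommRingCat.of (A ⧸ I))).inv (Ideal.Quotient.mk I (e x)) = 0 ↔ _
        rw [map_eq_zero_iff _ (ConcreteCategory.bijective_of_isIso (Scheme.ΓSpecIso (CommRingCat.of (A ⧸ I))).inv).injective,
          Ideal.Quotient.eq_zero_iff_mem]
        exact ⟨fun hx => e.symm_apply_apply x ▸ Ideal.mem_map_of_mem e.symm.toRingHom hx,
          fun hx => ((Ideal.mem_map_iff_of_surjective _ e.symm.surjective).1 hx).elim fun y hy => by rw [← hy.2]; show e (e.symm y) ∈ I; rw [e.apply_symm_apply]; exact hy.1⟩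
      rw [this, ← Ideal.map_pow, hI, Ideal.map_bot]
  obtain ⟨l, ⟨h₁, h₂⟩, hu⟩ := h.2.2 _ _ (Spec.map φ) b a hj hab
  exact ⟨l, ⟨by rw [h₁, Category.comp_id], h₂⟩, fun c hc => hu c ⟨by rw [hc.1, Category.comp_id], hc.2⟩⟩

theorem isZero_modules_of_sections {Z : Scheme.{u}} (M : Z.Modules)
    (h : ∀ U : Z.Opens, ∀ s : Γ(M, U), s = 0) : IsZero M := by
  rw [IsZero.iff_id_eq_zero]
  refine Scheme.Modules.hom_ext _ _ fun U => ?_
  ext s
  simp [h U s]

theorem isZero_conormal_of_isIso {Z Z' : Scheme.{u}} (i : Z ⟶ Z') [IsIso i] : IsZero (Omega.conormal i) := by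
  refine (Scheme.Modules.pullback i).map_isZero (isZero_modules_of_sections _ fun U s => ?_)
  apply Omega57.idealSect_injective i.ker U
  rw [map_zero]
  exact (ConcreteCategory.bijective_of_isIso (i.app U)).injective
    ((Lift3.LinExt.app_idealSect i U s).trans (map_zero _).symm)

theorem isIso_of_isZero_conormal {Z Z' : Scheme.{u}} (i : Z ⟶ Z') (hi : IsFirstOrderThickening i)
    [QuasiCompact i] (h : IsZero (Omega.conormal i)) : IsIso i := by
  haveI := hi.1.1
  have hker : i.ker = ⊥ := by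
    refine Scheme.IdealSheafData.ext_of_iSup_eq_top (fun W : Z'.affineOpens => W) (iSup_affineOpens_eq_top Z') fun W => ?_
    rw [Scheme.Hom.ker_apply, Scheme.IdealSheafData.ideal_bot]
    simp only [Pi.bot_apply, eq_bot_iff]
    intro x hx
    have hsq : RingHom.ker (i.app W.1).hom * RingHom.ker (i.app W.1).hom = ⊥ := by
      have := congr($(hi.2).ideal W)
      simpa [Scheme.IdealSheafData.ideal_mul, Scheme.Hom.ker_apply, Scheme.IdealSheafData.ideal_bot] using this
    obtain ⟨s, hs⟩ := Om3.exists_sect_of_app_eq_zero i x (RingHom.mem_ker.1 hx)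
    have hz : OmegaSh.conormalSect i W.1 s = 0 := by
      have := congr($(congrArg (fun φ => Scheme.Modules.Hom.app φ (i ⁻¹ᵁ W.1)) ((IsZero.iff_id_eq_zero _).1 h)) (OmegaSh.conormalSect i W.1 s))
      simpa using this
    have := (Om3.conormalSect_eq_zero_iff i W.2 (W.2.preimage i) (i.app_surjective _ W.2) s).1 hz
    rwa [pow_two, hsq, hs] at this
  exact IsClosedImmersion.isIso_of_ker_eq i (𝟙 Z') i (Category.comp_id i) (by rw [hker, Scheme.Hom.ker_eq_bot])

theorem main (f : X ⟶ S) :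
    (IsFormallyEtaleHom f ↔ FormallyUnramified f ∧ OmegaSh.IsUnivThickening f (𝟙 X) f) ∧
    (∀ {X' : Scheme.{u}} (i : X ⟶ X') (h' : X' ⟶ S) [QuasiCompact i], FormallyUnramified f →
      OmegaSh.IsUnivThickening f i h' → (IsFormallyEtaleHom f ↔ IsZero (Omega.conormal i))) := by
  refine ⟨⟨fun hf => ⟨formallyUnramified_of hf, univ_self_of hf⟩, fun h => formallyEtale_of h.2⟩, ?_⟩
  intro X' i h' _ _ hu
  refine ⟨fun hf => ?_, fun hz => ?_⟩
  · obtain ⟨φ, hφ, -⟩ := Om3.univ_iso (univ_self_of hf) hu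
    rw [Category.id_comp] at hφ
    have : IsIso i := hφ ▸ inferInstance
    exact isZero_conormal_of_isIso i
  · have := isIso_of_isZero_conormal i hu.1 hz
    refine formallyEtale_of ⟨fot_id, Category.id_comp f, fun T T' j b a hj hab => ?_⟩
    obtain ⟨l, ⟨h₁, h₂⟩, hl⟩ := hu.2.2 T T' j b a hj hab
    refine ⟨l ≫ inv i, ⟨?_, ?_⟩, fun c hc => ?_⟩
    · rw [← Category.assoc, h₁, Category.assoc, IsIso.hom_inv_id]
    · rw [Category.assoc, ← h₂]; congr 1; rw [IsIso.inv_comp_eq, hu.2.1]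
    · rw [IsIso.eq_comp_inv]
      exact hl _ ⟨by rw [← Category.assoc, hc.1, Category.comp_id], by rw [Category.assoc, hu.2.1, hc.2]⟩

end Groth.Agent.FlatMor68.FormallyEtaleThick
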