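import Groth.Agent.FlatMor68.FlatDimFun
import Groth.Agent.SGA3a.FibreDense
import Groth.Agent.DCK91.PullStalk
import Groth.Agent.Props58.LocFree.Criteria
import Groth.Agent.QCPull72.Sections
import Mathlib

set_option backward.isDefEq.respectTransparency.types false
set_option linter.style.haveILetI false
set_option autoImplicit false
universe u

open CategoryTheory CategoryTheory.Limits AlgebraicGeometry Opposite TensorProduct

noncomputable section

namespace Groth.Agent.FlatMor68.FreeGenFun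

open Groth.Agent.QC70 Groth.Agent.Props58.LocFree

theorem free_descent {R R' M N : Type u} [CommRing R] [IsLocalRing R] [CommRing R'] [IsLocalRing R']
    [Algebra R R'] [IsLocalHom (algebraMap R R')] [Module.Flat R R']
    [AddCommGroup M] [Module R M] [Module.Finite R M]
    [AddCommGroup N] [Module R N] [Module R' N] [IsScalarTower R R' N]
    {η : M →ₗ[R] N} (hη : IsBaseChange R' η) (p : ℕ) (hN : Nonempty ((Fin p → R') ≃ₗ[R'] N)) :
    Nonempty ((Fin p → R) ≃ₗ[R] M) := by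
  haveI : Module.FaithfullyFlat R R' := Module.FaithfullyFlat.of_flat_of_isLocalHom
  obtain ⟨e⟩ := hN
  haveI : Module.Free R' (R' ⊗[R] M) := Module.Free.of_equiv (e.trans hη.equiv.symm)
  haveI : Module.Flat R M := Module.Flat.of_flat_tensorProduct R M R'
  haveI : Module.Free R M := Module.free_of_flat_of_isLocalRing
  have h : Module.finrank R M = p := by
    rw [← Module.finrank_baseChange (R := R') (S := R), (hη.equiv.trans e.symm).finrank_eq, Module.finrank_fin_fun]
  exact ⟨((Module.finBasisOfFinrankEq R M h).equivFun).symm⟩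

theorem basis_baseChange {R R' M N : Type u} [CommRing R] [CommRing R'] [Algebra R R']
    [AddCommGroup M] [Module R M] [AddCommGroup N] [Module R N] [Module R' N] [IsScalarTower R R' N]
    {η : M →ₗ[R] N} (hη : IsBaseChange R' η) {p : ℕ} (m : Fin p → M)
    (hm : Function.Bijective fun c : Fin p → R => ∑ i, c i • m i) :
    Function.Bijective fun c : Fin p → R' => ∑ i, c i • η (m i) := by
  let e : (Fin p → R) ≃ₗ[R] M := LinearEquiv.ofBijective (Fintype.linearCombination R m) hm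
  let b := Module.Basis.ofEquivFun e.symm
  let b' := (b.baseChange R').map hη.equiv
  have hb : ∀ i, b' i = η (m i) := fun i => by
    simp [b', b, e, Module.Basis.baseChange_apply, hη.equiv_tmul]
  have heq : (fun c : Fin p → R' => ∑ i, c i • η (m i)) = b'.equivFun.symm := by
    funext c
    simp [Module.Basis.equivFun_symm_apply, hb]
  rw [heq]
  exact b'.equivFun.symm.bijective

theorem isFreeOfRankNear_iff {X : Scheme.{u}} {M : X.Modules} {p : ℕ} {x : X} :
    FlatFun.IsFreeOfRankNear M p x ↔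
      ∃ (U : X.Opens) (s : Fin p → Γ(M, U)), x ∈ U ∧ StalkBasis s :=
  ⟨fun ⟨U, hx, ⟨e⟩⟩ => ⟨U, (exists_stalkBasis_of_iso e).choose, hx, (exists_stalkBasis_of_iso e).choose_spec⟩,
    fun ⟨U, _, hx, hs⟩ => ⟨U, hx, nonempty_iso_of_stalkBasis hs⟩⟩

theorem isFreeOfRankNear_of_iso {X : Scheme.{u}} {M N : X.Modules} (e : M ≅ N) {p : ℕ} {x : X}
    (h : FlatFun.IsFreeOfRankNear M p x) : FlatFun.IsFreeOfRankNear N p x := by
  obtain ⟨U, hx, ⟨i⟩⟩ := h
  exact ⟨U, hx, ⟨((Scheme.Modules.restrictFunctor U.ι).mapIso e).symm ≪≫ i⟩⟩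

theorem isFreeOfRankNear_pullback {X Y : Scheme.{u}} (f : X ⟶ Y) {M : Y.Modules} {p : ℕ} (x : X)
    (h : FlatFun.IsFreeOfRankNear M p (f x)) :
    FlatFun.IsFreeOfRankNear ((Scheme.Modules.pullback f).obj M) p x := by
  rw [isFreeOfRankNear_iff] at h ⊢
  obtain ⟨U, s, hx, hs⟩ := h
  let N := (Scheme.Modules.pullback f).obj M
  refine ⟨f ⁻¹ᵁ U, fun i => ((Scheme.Modules.pullbackPushforwardAdjunction f).unit.app M).app U (s i), hx,
    fun y hy => ?_⟩
  letI := (f.stalkMap y).hom.toAlgebra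
  letI := Module.compHom (N.presheaf.stalk y) (f.stalkMap y).hom
  haveI : IsScalarTower (Y.presheaf.stalk (f y)) (X.presheaf.stalk y) (N.presheaf.stalk y) :=
    IsScalarTower.of_algebraMap_smul fun r e => rfl
  have := basis_baseChange (DCK91.isBaseChange_pullη f M y) (fun i => germM M U (f y) hy (s i)) (hs (f y) hy)
  convert this using 1
  funext c
  simp only [germComb]
  exact Finset.sum_congr rfl fun i _ => by rw [DCK91.pullη_germ]

theorem stalk_free_descent {X Y : Scheme.{u}} (f : X ⟶ Y) [Flat f] {M : Y.Modules} [M.IsFiniteType] {p : ℕ} (x : X)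
    (h : FlatFun.IsFreeOfRankNear ((Scheme.Modules.pullback f).obj M) p x) :
    Nonempty ((Fin p → Y.presheaf.stalk (f x)) ≃ₗ[Y.presheaf.stalk (f x)] M.presheaf.stalk (f x)) := by
  obtain ⟨U, s, hx, hs⟩ := isFreeOfRankNear_iff.1 h
  haveI := finite_stalk_of_isFiniteType (M := M) (f x)
  letI := (f.stalkMap x).hom.toAlgebra
  letI := Module.compHom (((Scheme.Modules.pullback f).obj M).presheaf.stalk x) (f.stalkMap x).hom
  haveI : IsScalarTower (Y.presheaf.stalk (f x)) (X.presheaf.stalk x)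
      (((Scheme.Modules.pullback f).obj M).presheaf.stalk x) :=
    IsScalarTower.of_algebraMap_smul fun r e => rfl
  haveI : IsLocalHom (algebraMap (Y.presheaf.stalk (f x)) (X.presheaf.stalk x)) :=
    inferInstanceAs (IsLocalHom (f.stalkMap x).hom)
  haveI : Module.Flat (Y.presheaf.stalk (f x)) (X.presheaf.stalk x) := Flat.stalkMap f x
  exact free_descent (DCK91.isBaseChange_pullη f M x) p ⟨hs.stalkEquiv x hx⟩

theorem exists_generic {X T : Scheme.{u}} (q : X ⟶ T) [GeometricallyIrreducible q] (t : T) :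
    ∃ x : X, q x = t ∧ FlatFun.IsGenericPtOfFibre q x := by
  let η := genericPoint (q.fiber t)
  have hq : q (q.fiberι t η) = t := by
    have : q.fiberι t η ∈ Set.range (q.fiberι t) := ⟨η, rfl⟩
    rw [Scheme.Hom.range_fiberι] at this
    exact this
  refine ⟨q.fiberι t η, hq, fun x' hx' => ?_⟩
  obtain ⟨z, rfl⟩ : x' ∈ Set.range (q.fiberι t) := by
    rw [Scheme.Hom.range_fiberι]; exact hx'.trans hq
  exact (genericPoint_specializes z).map (q.fiberι t).continuous

theorem isGeneric_map {X T X' T' : Scheme.{u}} {b : X' ⟶ X} {q' : X' ⟶ T'} {q : X ⟶ T} {g : T' ⟶ T}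
    (hc : IsPullback b q' q g) {x : X} (hx : FlatFun.IsGenericPtOfFibre q x) {x' : X'}
    (hx' : FlatFun.IsGenericPtOfFibre q' x') (h : q x = g (q' x')) : b x' = x := by
  obtain ⟨a, ha1, ha2⟩ := Scheme.Pullback.exists_preimage_pullback (f := q) (g := g) x (q' x') h
  have h1 : b (hc.isoPullback.inv a) = x := by
    rw [← Scheme.Hom.comp_apply, hc.isoPullback_inv_fst]; exact ha1
  have h2 : q' (hc.isoPullback.inv a) = q' x' := by
    rw [← Scheme.Hom.comp_apply, hc.isoPullback_inv_snd]; exact ha2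
  have h3 : b x' ⤳ x := h1 ▸ (hx' _ h2).map b.continuous
  have h4 : q (b x') = q x := by
    rw [← Scheme.Hom.comp_apply, hc.w, Scheme.Hom.comp_apply, h]
  exact (h3.antisymm (hx _ h4)).eq

theorem eq_zero_of_generic {X T : Scheme.{u}} (q : X ⟶ T) [Smooth q] [GeometricallyIrreducible q]
    {V : X.Opens} (hV : IsAffineOpen V) {W : T.Opens} (hW : IsAffineOpen W) (e : V ≤ q ⁻¹ᵁ W) (k : Γ(X, V))
    (hk : ∀ ξ (hξ : ξ ∈ V), FlatFun.IsGenericPtOfFibre q ξ → X.presheaf.germ V ξ hξ k = 0) : k = 0 := by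
  letI := (q.appLE W V e).hom.toAlgebra
  haveI : Algebra.Smooth Γ(T, W) Γ(X, V) := HasRingHomProperty.appLE @Smooth q inferInstance ⟨W, hW⟩ ⟨V, hV⟩ e
  have hcomm : ∀ Q : PrimeSpectrum Γ(X, V),
      hW.fromSpec (PrimeSpectrum.comap (algebraMap Γ(T, W) Γ(X, V)) Q) = q (hV.fromSpec Q) := fun Q => by
    rw [← Scheme.Hom.comp_apply, ← hW.SpecMap_appLE_fromSpec q hV e]
    rfl
  have hgen : ∀ Q : PrimeSpectrum Γ(X, V), ∃ Q' : PrimeSpectrum Γ(X, V),
      FlatFun.IsGenericPtOfFibre q (hV.fromSpec Q') ∧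
      PrimeSpectrum.comap (algebraMap Γ(T, W) Γ(X, V)) Q' = PrimeSpectrum.comap (algebraMap Γ(T, W) Γ(X, V)) Q := by
    intro Q
    obtain ⟨ξ, hξ, hgen⟩ := exists_generic q (q (hV.fromSpec Q))
    have hQV : hV.fromSpec Q ∈ (V : Set X) := by rw [← hV.range_fromSpec]; exact ⟨Q, rfl⟩
    obtain ⟨Q', hQ'⟩ : ξ ∈ Set.range hV.fromSpec := by
      rw [hV.range_fromSpec]; exact (hgen _ hξ.symm).mem_open V.isOpen hQV
    refine ⟨Q', by rw [hQ']; exact hgen, hW.fromSpec.isOpenEmbedding.injective ?_⟩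
    rw [hcomm, hcomm, hQ']; exact hξ
  refine SGA3a.FibreDense.eq_zero_of_dense (R := Γ(T, W)) ?_ k fun Q => ?_
  · rintro P U₁ U₂ hU₁ hU₂ ⟨Q₁, hQ₁, h1⟩ ⟨Q₂, hQ₂, h2⟩
    obtain ⟨Q', hg, he⟩ := hgen Q₁
    have hsp : ∀ Q₂ : PrimeSpectrum Γ(X, V), PrimeSpectrum.comap (algebraMap Γ(T, W) Γ(X, V)) Q₂ = P → Q' ⤳ Q₂ := by
      intro Q₂ hP
      refine hV.fromSpec.isEmbedding.specializes_iff.1 (hg _ ?_)
      rw [← hcomm, ← hcomm, he, hP]
      exact congrArg _ hQ₁.symm
    exact ⟨Q', he.trans hQ₁, (hsp Q₁ hQ₁).mem_open hU₁ h1, (hsp Q₂ hQ₂).mem_open hU₂ h2⟩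
  · obtain ⟨Q', hg, he⟩ := hgen Q
    have hξ : hV.fromSpec Q' ∈ V := by
      show hV.fromSpec Q' ∈ (V : Set X)
      rw [← hV.range_fromSpec]; exact ⟨Q', rfl⟩
    have h0 := hk _ hξ hg
    letI : Algebra Γ(X, V) (X.presheaf.stalk (hV.fromSpec Q')) := X.presheaf.algebra_section_stalk ⟨_, hξ⟩
    haveI := hV.isLocalization_stalk ⟨_, hξ⟩
    obtain ⟨⟨m, hm⟩, hm0⟩ := (IsLocalization.map_eq_zero_iff (hV.primeIdealOf ⟨_, hξ⟩).asIdeal.primeCompl
      (X.presheaf.stalk (hV.fromSpec Q')) k).1 h0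
    have hQQ : hV.primeIdealOf ⟨_, hξ⟩ = Q' :=
      hV.fromSpec.isOpenEmbedding.injective (hV.fromSpec_primeIdealOf ⟨_, hξ⟩)
    exact ⟨Q', m, he, by rw [← hQQ]; exact hm, hm0⟩

theorem isFreeOfRankNear_of_stalks {X T : Scheme.{u}} (q : X ⟶ T) [Smooth q] [GeometricallyIrreducible q]
    {M : X.Modules} [M.IsFiniteType] {p : ℕ}
    (h : ∀ ξ, FlatFun.IsGenericPtOfFibre q ξ →
      Nonempty ((Fin p → X.presheaf.stalk ξ) ≃ₗ[X.presheaf.stalk ξ] M.presheaf.stalk ξ))
    (x : X) (hx : FlatFun.IsGenericPtOfFibre q x) : FlatFun.IsFreeOfRankNear M p x := by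
  obtain ⟨e⟩ := h x hx
  obtain ⟨U, hxU, s, hs⟩ := exists_lift_family x (fun i => e (Pi.single i 1))
  have hsurj : Function.Surjective (germComb s x hxU) := fun m => ⟨e.symm m, by
    simp only [germComb, hs, ← map_smul, ← map_sum]
    rw [← pi_eq_sum_univ', e.apply_symm_apply]⟩
  obtain ⟨U', hU', hxU', hsj⟩ := exists_nhd_surjective s hxU hsurj
  rw [isFreeOfRankNear_iff]
  refine ⟨U', fun i => res M hU' (s i), hxU', fun y hy => ?_⟩
  rw [funext (germComb_res s hU' y hy)]
  refine ⟨fun c₁ c₂ hc => ?_, hsj y hy⟩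
  obtain ⟨A, hA, hyA, a, ha⟩ := exists_common_lift hy (fun i => c₁ i - c₂ i)
  obtain ⟨B, hB, hyB, hBz⟩ := exists_comb_eq (s := s) (hA.trans hU') a 0 hyA (by
    rw [funext ha, germM_zero]
    simp only [germComb, sub_smul, Finset.sum_sub_distrib]
    exact sub_eq_zero.2 hc)
  obtain ⟨_, ⟨W, hW, rfl⟩, hyW, -⟩ :=
    T.isBasis_affineOpens.exists_subset_of_mem_open (Set.mem_univ (q y)) isOpen_univ
  obtain ⟨_, ⟨V, hV, rfl⟩, hyV, hVB⟩ :=
    X.isBasis_affineOpens.exists_subset_of_mem_open (show y ∈ B ⊓ q ⁻¹ᵁ W from ⟨hyB, hyW⟩) (B ⊓ q ⁻¹ᵁ W).isOpen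
  replace hVB : V ≤ B ⊓ q ⁻¹ᵁ W := hVB
  have key : ∀ i, resO X ((hVB.trans inf_le_left).trans hB) (a i) = 0 := by
    intro i
    refine eq_zero_of_generic q hV hW (hVB.trans inf_le_right) _ fun ξ hξ hg => ?_
    have hξU : ξ ∈ U' := hA (hB ((hVB hξ).1))
    obtain ⟨eξ⟩ := h ξ hg
    have hinj : Function.Injective (germComb s ξ (hU' hξU)) := by
      let φ := Fintype.linearCombination (X.presheaf.stalk ξ) fun i => germM M U ξ (hU' hξU) (s i)
      have hφ : (φ : _ → _) = germComb s ξ (hU' hξU) := funext fun c => by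
        simp [φ, Fintype.linearCombination_apply, germComb]
      have hs2 : Function.Surjective (eξ.symm.toLinearMap ∘ₗ φ) :=
        eξ.symm.surjective.comp (hφ ▸ hsj ξ hξU)
      have hi2 := OrzechProperty.injective_of_surjective_endomorphism _ hs2
      exact hφ ▸ Function.Injective.of_comp hi2
    have hz : germComb s ξ (hU' hξU) (fun i => X.presheaf.germ A ξ (hB (hVB hξ).1) (a i)) =
        germComb s ξ (hU' hξU) 0 := by
      have e1 := congrArg (germM M B ξ (hVB hξ).1) hBz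
      rw [germM_res, germM_zero, germ_comb] at e1
      simp only [germ_resO] at e1
      rw [e1]
      simp [germComb]
    rw [germ_resO]
    exact congrFun (hinj hz) i
  funext i
  have e1 := congrArg (X.presheaf.germ V y hyV) (key i)
  rw [germ_resO, map_zero, ha] at e1
  exact sub_eq_zero.1 e1

theorem t9021 {X S : Scheme.{u}} (f : X ⟶ S) [Smooth f] [GeometricallyIrreducible f] (F : X.Modules) [Coh.IsQCoh F]
    (hF : CohB1.IsFT F) (p : ℕ) :
    Presheaf.IsSheaf (QuotSh.J Scheme.fpqcPrecoverage S)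
      (FlatFun.genPSp S (fun T => FlatFun.FreeAtGenericPts (PicF.XTproj f T) (FGA.ET f F T) p)) := by
  refine PullbackDescent.isSheaf_genPSp _ ?_ ?_
  · intro T T₀ g h t'
    obtain ⟨x', hx', hgen'⟩ := exists_generic (pullback.snd f T.hom) t'
    obtain ⟨x, hx, hgen, hfree⟩ := h (g.left t')
    have hb := isGeneric_map (PullbackDescent.bc_isPullback f g) hgen hgen' (by rw [hx']; exact hx)
    exact ⟨x', hx', hgen', isFreeOfRankNear_of_iso (FlatDimFun.etIso f F g)
      (isFreeOfRankNear_pullback _ x' (hb ▸ hfree))⟩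
  · intro T ι Ti g hfl hs h t
    haveI : (FGA.ET f F T).IsFiniteType := by
      haveI : F.IsFiniteType := hF
      haveI : F.IsQuasicoherent := ‹Coh.IsQCoh F›
      exact QCPull72.isFiniteType_pullback _ F
    obtain ⟨x, hx, hgen⟩ := exists_generic (pullback.snd f T.hom) t
    refine ⟨x, hx, hgen, isFreeOfRankNear_of_stalks _ (fun ξ hξ => ?_) x hgen⟩
    obtain ⟨i, y, hy⟩ := hs (pullback.snd f T.hom ξ)
    haveI := hfl i
    have hc := PullbackDescent.bc_isPullback f (g i)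
    haveI : Flat (PullbackDescent.bc f (g i)) := MorphismProperty.of_isPullback hc.flip inferInstance
    obtain ⟨x', hx', hgen', hfree⟩ := h i y
    have hb := isGeneric_map hc hξ hgen' (by rw [show pullback.snd f (Ti i).hom x' = y from hx']; exact hy.symm)
    rw [← hb]
    exact stalk_free_descent _ x' (isFreeOfRankNear_of_iso (FlatDimFun.etIso f F (g i)).symm hfree)

end Groth.Agent.FlatMor68.FreeGenFun
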