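import Groth.Agent.SGA3a.WeilRes
import Groth.Agent.SpPts86.LocPMore
import Groth.Agent.FlatCrit65.Purity.ProjOpen
import Groth.Prelude.Def_FlatFun
import Groth.Prelude.Def_FlatCA

/-!
# Weil restriction of a closed subscheme along a pure flat morphism of finite presentation
-/

set_option autoImplicit false
set_option backward.isDefEq.respectTransparency.types false
set_option linter.style.haveILetI false

universe u

open CategoryTheory CategoryTheory.Limits AlgebraicGeometry Opposite

namespace Groth.Agent.FlatMor68.WeilPure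

/-- A presheaf generated by a condition stable under pullback and represented by a monomorphism. -/
theorem nonempty_representableBy {S : Scheme.{u}} (P : Over S → Prop) (Z : Over S) [Mono Z.hom]
    (h : ∀ T : Over S, P T ↔ ∃ k : T.left ⟶ Z.left, k ≫ Z.hom = T.hom) :
    Nonempty ((FlatFun.genPSp S P).RepresentableBy Z) := by
  have hstab : ∀ ⦃T T₀ : Over S⦄ (_ : T ⟶ T₀), P T₀ → P T := fun T T₀ q h0 => by
    obtain ⟨k, hk⟩ := (h T₀).1 h0
    exact (h T).2 ⟨q.left ≫ k, by rw [Category.assoc, hk, Over.w q]⟩
  have hne : ∀ T : Over S, Nonempty ((FlatFun.genPSp S P).obj (op T)) ↔ Nonempty (T ⟶ Z) := fun T => by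
    rw [FlatFun.genPSp_nonempty_iff_of_stable P hstab, h]
    exact ⟨fun ⟨k, hk⟩ => ⟨Over.homMk k hk⟩, fun ⟨q⟩ => ⟨q.left, Over.w q⟩⟩
  have hsub : ∀ T : Over S, Subsingleton (T ⟶ Z) := fun T => ⟨fun a b => Over.OverMorphism.ext
    (by rw [← cancel_mono Z.hom, Over.w a, Over.w b])⟩
  refine ⟨{ homEquiv := fun {T} => ?_, homEquiv_comp := fun _ _ => Subsingleton.elim _ _ }⟩
  haveI := hsub T
  exact equivOfSubsingletonOfSubsingleton (fun q => ((hne T).2 ⟨q⟩).some) (fun x => ((hne T).1 ⟨x⟩).some)

/-- The closed Weil restriction along a pure flat algebra of finite presentation. -/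
theorem exists_weilRestriction {A B : Type u} [CommRing A] [CommRing B] [Algebra A B]
    [Algebra.FinitePresentation A B] [Module.Flat A B] (hpure : FlatCA.IsPure A B B) {Y : Scheme.{u}}
    (i : Y ⟶ Spec (CommRingCat.of B)) [IsClosedImmersion i] :
    ∃ Z : Over (Spec (CommRingCat.of A)), IsClosedImmersion Z.hom ∧
      Nonempty ((FlatFun.genPSp (Spec (CommRingCat.of A)) (fun T =>
        IsIso (pullback.snd i (pullback.fst (Spec.map (CommRingCat.ofHom (algebraMap A B))) T.hom)))).RepresentableBy Z) ∧
      (LocallyOfFinitePresentation (i ≫ Spec.map (CommRingCat.ofHom (algebraMap A B))) →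
        LocallyOfFinitePresentation Z.hom) := by
  haveI : Module.Projective A B := FlatCrit65.Purity.projective_of_isPure B hpure
  let f := Spec.map (CommRingCat.ofHom (algebraMap A B))
  let c : SGA3a.ProjChart f (𝟙 (Spec (CommRingCat.of A))) :=
    { A := CommRingCat.of B
      α := CommRingCat.ofHom (algebraMap A B)
      v := inv (pullback.fst f (𝟙 _))
      open_v := inferInstance
      comm := by
        rw [IsIso.inv_comp_eq]
        exact ((Category.comp_id _).symm.trans pullback.condition.symm).trans rfl
      proj := by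
        show @Module.Projective A _ B _ (algebraMap A B).toAlgebra.toModule
        rw [show (algebraMap A B).toAlgebra = ‹Algebra A B› from Algebra.algebra_ext _ _ fun _ => rfl]
        infer_instance }
  obtain ⟨J, hJ, hfg⟩ := SGA3a.affRep_fg (j := i) (𝟙 (Spec (CommRingCat.of A))) fun x =>
    ⟨c, ⟨pullback.fst f (𝟙 _) x, by
      show (pullback.fst f (𝟙 _) ≫ inv (pullback.fst f (𝟙 _))) x = x
      rw [IsIso.hom_inv_id]
      rfl⟩⟩
  let q := Spec.map (CommRingCat.ofHom (Ideal.Quotient.mk J))
  haveI : IsClosedImmersion q := IsClosedImmersion.spec_of_surjective _ Ideal.Quotient.mk_surjective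
  refine ⟨Over.mk q, ‹IsClosedImmersion q›, ?_, fun hY => ?_⟩
  · haveI : Mono (Over.mk q).hom := inferInstanceAs (Mono q)
    refine nonempty_representableBy _ (Over.mk q) fun T => ?_
    rw [← SGA3a.factors_iff_isIso T.hom]
    constructor
    · intro hT
      refine SGA3a.exists_lift_of_openCover q T.hom T.left.affineCover fun t => ?_
      obtain ⟨ψ, hψ⟩ : ∃ ψ, Spec.map ψ = T.left.affineCover.f t ≫ T.hom := ⟨_, Spec.map_preimage _⟩
      have := (hJ _ ψ).1 (by rw [Category.comp_id, hψ]; exact hT.comp _)
      obtain ⟨l, hl⟩ := (SGA3a.lift_quotient_iff J ψ).2 this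
      exact ⟨l, hl.trans hψ⟩
    · rintro ⟨k, hk⟩
      rw [← hk]
      have := (hJ (CommRingCat.of (A ⧸ J)) (CommRingCat.ofHom (Ideal.Quotient.mk J))).2 (by
        show J ≤ RingHom.ker (Ideal.Quotient.mk J)
        rw [Ideal.mk_ker])
      rw [Category.comp_id] at this
      exact this.comp k
  · haveI : LocallyOfFinitePresentation i := by
      haveI : LocallyOfFinitePresentation f := by
        rw [HasRingHomProperty.Spec_iff (P := @LocallyOfFinitePresentation)]
        exact RingHom.finitePresentation_algebraMap.2 inferInstance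
      exact @SpPts86.lfp_of_comp _ _ _ i f hY inferInstance
    show LocallyOfFinitePresentation q
    rw [HasRingHomProperty.Spec_iff (P := @LocallyOfFinitePresentation)]
    exact RingHom.FinitePresentation.of_surjective _ Ideal.Quotient.mk_surjective
      (by show (RingHom.ker (Ideal.Quotient.mk J)).FG; rw [Ideal.mk_ker]; exact hfg inferInstance inferInstance)

end Groth.Agent.FlatMor68.WeilPure
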