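import Groth.Agent.FlatMor68.FreeGenFun
import Groth.Agent.FlatMor68.WeilPure
import Groth.Agent.SGA3a.SmoothWeil
import Groth.Agent.Div89.Fitting
import Groth.Agent.Div89.CartierImm
import Groth.Agent.FGA29.RankStratum

/-!
# The functor "free of rank p at the generic points of the fibres" is representable by an immersion
-/

set_option autoImplicit false
set_option backward.isDefEq.respectTransparency.types false
set_option linter.style.haveILetI false
set_option maxHeartbeats 800000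

universe u

open CategoryTheory CategoryTheory.Limits AlgebraicGeometry Opposite TopologicalSpace
open Groth.Agent.QC70 Groth.Agent.Props58.LocFree

namespace Groth.Agent.FlatMor68.FreeGenRep

/-- An ideal sheaf vanishing at the generic points of the fibres vanishes. -/
theorem eq_bot_of_generic {X T : Scheme.{u}} (q : X ⟶ T) [Smooth q] [GeometricallyIrreducible q]
    (J : X.IdealSheafData) (h : ∀ ξ, FlatFun.IsGenericPtOfFibre q ξ → Div89.stalkIdeal J ξ = ⊥) : J = ⊥ := by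
  refine le_bot_iff.1 ((Div89.le_iff_stalkIdeal J ⊥).2 fun x => ?_)
  obtain ⟨_, ⟨W, hW, rfl⟩, hxW, -⟩ :=
    T.isBasis_affineOpens.exists_subset_of_mem_open (Set.mem_univ (q x)) isOpen_univ
  obtain ⟨_, ⟨V, hV, rfl⟩, hxV, hVW⟩ :=
    X.isBasis_affineOpens.exists_subset_of_mem_open (show x ∈ q ⁻¹ᵁ W from hxW) (q ⁻¹ᵁ W).isOpen
  rw [Div89.stalkIdeal_eq J ⟨V, hV⟩ x hxV]
  have h0 : J.ideal ⟨V, hV⟩ = ⊥ := by
    rw [eq_bot_iff]
    intro k hk
    refine Ideal.mem_bot.2 (FreeGenFun.eq_zero_of_generic q hV hW hVW k fun ξ hξ hgen => ?_)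
    have := Ideal.mem_map_of_mem (X.presheaf.germ V ξ hξ).hom hk
    rw [← Div89.stalkIdeal_eq J ⟨V, hV⟩ ξ hξ, h ξ hgen, Ideal.mem_bot] at this
    exact this
  rw [h0, Ideal.map_bot]
  exact bot_le

/-- The stalk of a module free of rank `p` near a point has a basis. -/
theorem exists_basis {X : Scheme.{u}} {M : X.Modules} {p : ℕ} {x : X}
    (h : FlatFun.IsFreeOfRankNear M p x) :
    Nonempty (Module.Basis (Fin p) (X.presheaf.stalk x) (M.presheaf.stalk x)) := by
  obtain ⟨U, s, hx, hs⟩ := FreeGenFun.isFreeOfRankNear_iff.1 h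
  let φ := Fintype.linearCombination (X.presheaf.stalk x) fun i => germM M U x hx (s i)
  have hφ : (φ : _ → _) = germComb s x hx := funext fun c => by
    simp [φ, Fintype.linearCombination_apply, germComb]
  exact ⟨Module.Basis.ofEquivFun (LinearEquiv.ofBijective φ (hφ ▸ hs x hx)).symm⟩

variable {X S : Scheme.{u}} (f : X ⟶ S) [Smooth f] [GeometricallyIrreducible f] (F : X.Modules) [Coh.IsQCoh F]

/-- The condition in terms of Fitting ideals. -/
theorem freeAtGenericPts_iff (hF : CohB1.IsFT F) (p : ℕ) (T : Over S) :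
    FlatFun.FreeAtGenericPts (PicF.XTproj f T) (FGA.ET f F T) p ↔
      (∀ t : T.left, ∃ x : X, f x = T.hom t ∧ x ∉ (Fitt.sheafIdeal F p).support) ∧
        (⨆ k : Fin p, Fitt.sheafIdeal F k).comap (pullback.fst f T.hom) = ⊥ := by
  haveI : F.IsQuasicoherent := ‹Coh.IsQCoh F›
  haveI : F.IsFiniteType := hF
  let a := pullback.fst f T.hom
  let q := pullback.snd f T.hom
  let M := (Scheme.Modules.pullback a).obj F
  have hqc : Coh.IsQCoh M := QCPull72.isQuasicoherent_pullback a F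
  have hft : CohB1.IsFT M := QCPull72.isFiniteType_pullback a F
  haveI : M.IsFiniteType := hft
  have hbot : (⨆ k : Fin p, Fitt.sheafIdeal F k).comap a = ⊥ ↔ ∀ k, k < p → Fitt.sheafIdeal M k = ⊥ := by
    rw [(Scheme.IdealSheafData.map_gc a).l_iSup, iSup_eq_bot]
    simp only [Div89.fitting_comap a F ‹Coh.IsQCoh F› hF]
    exact ⟨fun h k hk => h ⟨k, hk⟩, fun h k => h k k.2⟩
  have hsupp : ∀ z, z ∉ (Fitt.sheafIdeal M p).support ↔ a z ∉ (Fitt.sheafIdeal F p).support := fun z => by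
    rw [← Div89.fitting_comap a F ‹Coh.IsQCoh F› hF, Scheme.IdealSheafData.support_comap]
    rfl
  rw [hbot]
  constructor
  · intro h
    refine ⟨fun t => ?_, fun k hk => eq_bot_of_generic q _ fun ξ hξ => ?_⟩
    · obtain ⟨x, hxt, -, hfree⟩ := h t
      obtain ⟨b⟩ := exists_basis hfree
      refine ⟨a x, ?_, (hsupp x).1 ((Div89.notMem_support_fitting_iff M hqc hft p x).2 ⟨b, b.span_eq⟩)⟩
      rw [← hxt]
      exact congrArg (fun g : _ ⟶ S => g x) pullback.condition
    · obtain ⟨x, hxt, hx, hfree⟩ := h (q ξ)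
      obtain ⟨b⟩ := exists_basis hfree
      have hxξ : x = ξ := (((hx ξ hxt.symm).antisymm (hξ x hxt)).eq)
      subst hxξ
      rw [Div89.fitting_stalkIdeal M hqc hft, Fit14.ideal_of_basis b, if_neg (by omega)]
  · rintro ⟨hU, hI⟩ t
    obtain ⟨x, hxt, hx⟩ := FreeGenFun.exists_generic q t
    refine ⟨x, hxt, hx, FreeGenFun.isFreeOfRankNear_of_stalks q (M := M) (fun ξ hξ => ?_) x hx⟩
    obtain ⟨x', hx', hnot⟩ := hU (q ξ)
    obtain ⟨z, hz1, hz2⟩ := Scheme.Pullback.exists_preimage_pullback (f := f) (g := T.hom) x' (q ξ) hx'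
    have hξs : ξ ∉ (Fitt.sheafIdeal M p).support := fun hmem =>
      (hsupp z).2 (by rw [show a z = x' from hz1]; exact hnot)
        ((hξ z hz2).mem_closed (Fitt.sheafIdeal M p).support.isClosed hmem)
    obtain ⟨y, hy⟩ := (Div89.notMem_support_fitting_iff M hqc hft p ξ).1 hξs
    obtain ⟨b⟩ := Fit14.free_of_gens_of_ideal_eq_bot y hy fun k hk => by
      rw [← Div89.fitting_stalkIdeal M hqc hft, hI k hk, Div89.stalkIdeal_bot]
    exact ⟨b.equivFun.symm⟩

/-- The functor `H_p` is representable by an immersion. -/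
theorem representable (hF : CohB1.IsFT F) (p : ℕ) :
    ∃ Z : Over S, IsImmersion Z.hom ∧
      Nonempty ((FlatFun.genPSp S (fun T => FlatFun.FreeAtGenericPts (PicF.XTproj f T) (FGA.ET f F T) p)).RepresentableBy Z) ∧
      (CohB1.IsFP F → LocallyOfFinitePresentation Z.hom ∧ QuasiCompact Z.hom ∧ QuasiSeparated Z.hom) := by
  let I : X.IdealSheafData := ⨆ k : Fin p, Fitt.sheafIdeal F k
  let K := (Fitt.sheafIdeal F p).support
  let U : S.Opens := ⟨f '' ((K : Set X)ᶜ), f.isOpenMap _ K.isClosed.isOpen_compl⟩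
  obtain ⟨W, w, hwc, hwrep, hwfp⟩ := SGA3a.exists_smoothWeil (f := f) I.subschemeι
  haveI := hwc
  refine ⟨Over.mk ((w ⁻¹ᵁ U).ι ≫ w), inferInstanceAs (IsImmersion ((w ⁻¹ᵁ U).ι ≫ w)), ?_, fun hFP => ?_⟩
  · haveI : Mono (Over.mk ((w ⁻¹ᵁ U).ι ≫ w)).hom := inferInstanceAs (Mono ((w ⁻¹ᵁ U).ι ≫ w))
    refine WeilPure.nonempty_representableBy _ (Over.mk ((w ⁻¹ᵁ U).ι ≫ w)) fun T => ?_
    rw [freeAtGenericPts_iff f F hF p T]
    have hbot : I.comap (pullback.fst f T.hom) = ⊥ ↔ SGA3a.Factors f I.subschemeι T.left T.hom := by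
      rw [FGA29.comap_eq_bot_iff]
      constructor
      · rintro ⟨l, hl⟩ W' a b hab
        exact ⟨pullback.lift a b hab ≫ l, by rw [Category.assoc, hl, pullback.lift_fst]⟩
      · exact fun h => h _ (pullback.fst f T.hom) (pullback.snd f T.hom) pullback.condition
    rw [hbot, ← hwrep]
    constructor
    · rintro ⟨hU, g, hg⟩
      refine ⟨IsOpenImmersion.lift (w ⁻¹ᵁ U).ι g ?_, ?_⟩
      · rw [Scheme.Opens.range_ι]
        rintro _ ⟨t, rfl⟩
        obtain ⟨x, hx, hxK⟩ := hU t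
        show w (g t) ∈ U
        rw [← Scheme.Hom.comp_apply, hg, ← hx]
        exact ⟨x, hxK, rfl⟩
      · show IsOpenImmersion.lift (w ⁻¹ᵁ U).ι g _ ≫ (w ⁻¹ᵁ U).ι ≫ w = T.hom
        rw [IsOpenImmersion.lift_fac_assoc, hg]
    · rintro ⟨k, hk⟩
      refine ⟨fun t => ?_, ⟨k ≫ (w ⁻¹ᵁ U).ι, by rw [Category.assoc]; exact hk⟩⟩
      obtain ⟨x, hx, hxt⟩ := ((k t).2 : w ((w ⁻¹ᵁ U).ι (k t)) ∈ U)
      refine ⟨x, hxt.trans ?_, hx⟩
      rw [← hk]
      rfl
  · have hIfg : ∀ V : X.affineOpens, (I.ideal V).FG := fun V => by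
      rw [show I.ideal V = ⨆ k : Fin p, (Fitt.sheafIdeal F k).ideal V by
        simp only [I, Scheme.IdealSheafData.ideal_iSup, iSup_apply]]
      exact Submodule.fg_iSup _ fun k => Div89.fitting_fg F hFP k V
    haveI : LocallyOfFinitePresentation w := hwfp (Div89.lfp_subschemeι I fun x _ => by
      obtain ⟨V, hx⟩ := Div89.exists_affine_mem x
      exact ⟨V, hx, hIfg V⟩)
    haveI : QuasiCompact U.ι := by
      have hloc : ∀ s : S, ∃ D : S.Opens, s ∈ D ∧ IsAffineOpen D ∧ IsCompact ((U : Set S) ∩ D) := fun s => by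
        obtain ⟨x, hx⟩ := (inferInstance : Surjective f).surj s
        obtain ⟨_, ⟨V₀, hV₀, rfl⟩, hsV₀, -⟩ :=
          S.isBasis_affineOpens.exists_subset_of_mem_open (Set.mem_univ s) isOpen_univ
        obtain ⟨_, ⟨V, hV, rfl⟩, hxV, hVle⟩ := X.isBasis_affineOpens.exists_subset_of_mem_open
          (show x ∈ f ⁻¹ᵁ V₀ by show f x ∈ V₀; rw [hx]; exact hsV₀) (f ⁻¹ᵁ V₀).isOpen
        obtain ⟨_, ⟨D, hD, rfl⟩, hsD, hDle⟩ := S.isBasis_affineOpens.exists_subset_of_mem_open
          (show s ∈ f '' (V : Set X) ∩ (V₀ : Set S) from ⟨⟨x, hxV, hx⟩, hsV₀⟩)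
          ((f.isOpenMap _ V.isOpen).inter V₀.isOpen)
        refine ⟨D, hsD, hD, ?_⟩
        have heq : (U : Set S) ∩ D = f '' ((V : Set X) ∩ (K : Set X)ᶜ) ∩ D := by
          refine Set.Subset.antisymm ?_ ?_
          · rintro _ ⟨⟨x', hx', rfl⟩, hD'⟩
            obtain ⟨ξ, hξ, hgen⟩ := FreeGenFun.exists_generic f (f x')
            obtain ⟨y, hy, hyx⟩ := (hDle hD').1
            exact ⟨⟨ξ, ⟨(hgen y (hyx.trans hξ.symm)).mem_open V.isOpen hy,
              fun h => hx' ((hgen x' hξ.symm).mem_closed K.isClosed h)⟩, hξ⟩, hD'⟩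
          · rintro _ ⟨⟨y, ⟨-, hy⟩, rfl⟩, hD'⟩
            exact ⟨⟨y, hy, rfl⟩, hD'⟩
        rw [heq]
        have hKV : IsCompact ((V : Set X) ∩ (K : Set X)ᶜ) := by
          obtain ⟨T, hT⟩ := Div89.fitting_fg F hFP p ⟨V, hV⟩
          have e1 : (V : Set X) ∩ (K : Set X)ᶜ = ⋃ g ∈ T, (X.basicOpen g : Set X) := by
            have h1 := (Fitt.sheafIdeal F p).coe_support_inter ⟨V, hV⟩
            rw [← hT, Scheme.zeroLocus_span] at h1
            have h2 : (V : Set X) ∩ (K : Set X)ᶜ = (V : Set X) ∩ (X.zeroLocus (U := V) (T : Set Γ(X, V)))ᶜ := by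
              ext z
              constructor
              · rintro ⟨hz, hzK⟩
                exact ⟨hz, fun hzT => hzK (h1.ge ⟨hzT, hz⟩).1⟩
              · rintro ⟨hz, hzT⟩
                exact ⟨hz, fun hzK => hzT (h1.le ⟨hzK, hz⟩).1⟩
            rw [h2]
            ext z
            simp only [Scheme.zeroLocus_def, Set.mem_inter_iff, Set.mem_compl_iff, Set.mem_iInter, Set.mem_iUnion,
              SetLike.mem_coe, exists_prop, not_forall, not_not]
            exact ⟨fun ⟨_, g, hg, hzg⟩ => ⟨g, hg, hzg⟩, fun ⟨g, hg, hzg⟩ => ⟨X.basicOpen_le g hzg, g, hg, hzg⟩⟩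
          rw [e1]
          exact T.isCompact_biUnion fun g _ => (hV.basicOpen g).isCompact
        exact hV₀.isQuasiSeparated _ _ (Set.image_subset_iff.2 (Set.inter_subset_left.trans hVle))
          (f.isOpenMap _ (V.isOpen.inter K.isClosed.isOpen_compl)) (hKV.image f.continuous)
          (fun z hz => (hDle hz).2) D.isOpen hD.isCompact
      choose D hsD hDaff hDc using hloc
      refine IsZariskiLocalAtTarget.of_iSup_eq_top (P := @QuasiCompact) D
        (top_unique fun x _ => Opens.mem_iSup.mpr ⟨x, hsD x⟩) fun s => ?_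
      haveI : IsAffine (D s).toScheme := hDaff s
      rw [quasiCompact_iff_compactSpace, ← isCompact_univ_iff,
        ((Scheme.Opens.ι _).isOpenEmbedding.isInducing.isCompact_iff),
        U.ι.isOpenEmbedding.isInducing.isCompact_iff, Set.image_univ, Scheme.Opens.range_ι]
      convert hDc s using 1
      show U.ι '' (U.ι ⁻¹' (D s : Set S)) = _
      rw [Set.image_preimage_eq_inter_range, Scheme.Opens.range_ι, Set.inter_comm]
    haveI : QuasiCompact (w ⁻¹ᵁ U).ι :=
      MorphismProperty.of_isPullback (P := @QuasiCompact) (isPullback_morphismRestrict w U) inferInstance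
    exact ⟨inferInstanceAs (LocallyOfFinitePresentation ((w ⁻¹ᵁ U).ι ≫ w)),
      inferInstanceAs (QuasiCompact ((w ⁻¹ᵁ U).ι ≫ w)), inferInstanceAs (QuasiSeparated ((w ⁻¹ᵁ U).ι ≫ w))⟩

end Groth.Agent.FlatMor68.FreeGenRep
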