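import Groth.Agent.Sk62.GeomRedFibre
import Groth.Agent.EGA4H10.IntClosApp
import Groth.Agent.Desc59.FppfModel
import Groth.Agent.E4O.FibreDim

/-! A flat algebra of finite presentation with geometrically reduced fibres comes from a Noetherian stage
with geometrically reduced fibres; it is integrally closed in its generic fibre over a normal domain. -/

set_option autoImplicit false
set_option backward.isDefEq.respectTransparency.types false
set_option linter.style.haveILetI false

universe u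

open CategoryTheory CategoryTheory.Limits AlgebraicGeometry TensorProduct

namespace Groth.Agent.FlatMor68.GRStage

/-- All base changes to fields are reduced. -/
def RedFibres (R A : Type u) [CommRing R] [CommRing A] [Algebra R A] : Prop :=
  ∀ (K : Type u) [Field K] [Algebra R K], _root_.IsReduced (K ⊗[R] A)

theorem geomReduced_fiber {R A : Type u} [CommRing R] [CommRing A] [Algebra R A] (h : RedFibres R A)
    (p : Ideal R) [p.IsPrime] : Algebra.IsGeometricallyReduced p.ResidueField (p.Fiber A) := by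
  rw [Algebra.isGeometricallyReduced_field_iff]
  let Ω := AlgebraicClosure p.ResidueField
  haveI := h Ω
  exact isReduced_of_injective (Algebra.TensorProduct.cancelBaseChange R p.ResidueField p.ResidueField Ω A)
    (AlgEquiv.injective _)

theorem isReduced_pullback_iff (R A : Type u) [CommRing R] [CommRing A] [Algebra R A] (K : Type u) [CommRing K] [Algebra R K] :
    IsReduced (pullback (Spec.map (CommRingCat.ofHom (algebraMap R A))) (Spec.map (CommRingCat.ofHom (algebraMap R K)))) ↔
      _root_.IsReduced (K ⊗[R] A) := by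
  let e := pullbackSpecIso R A K
  have hc : (K ⊗[R] A) ≃ₐ[R] A ⊗[R] K := Algebra.TensorProduct.comm R K A
  constructor
  · intro h
    haveI : IsReduced (Spec (.of (A ⊗[R] K))) := isReduced_of_isOpenImmersion e.inv
    haveI : _root_.IsReduced (A ⊗[R] K) := (affine_isReduced_iff (CommRingCat.of (A ⊗[R] K))).1 inferInstance
    exact isReduced_of_injective hc hc.injective
  · intro h
    haveI : _root_.IsReduced (A ⊗[R] K) := isReduced_of_injective hc.symm hc.symm.injective
    haveI : IsReduced (Spec (CommRingCat.of (A ⊗[R] K))) := (affine_isReduced_iff _).2 ‹_›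
    exact isReduced_of_isOpenImmersion e.hom

section

variable {X Y : Scheme.{u}} (f : X ⟶ Y)

/-- The fibre through the point is geometrically reduced there. -/
def GoodAt (x : X) : Prop := FBase.IsGeomReducedAt (f.fiberToSpecResidueField (f x)) (f.asFiber x)

theorem isGeomReducedAt_of_goodAt {y : Y} (z : f.fiber y) (h : GoodAt f (f.fiberι y z)) :
    FBase.IsGeomReducedAt (f.fiberToSpecResidueField y) z := by
  have key : ∀ (x : X), GoodAt f x → ∀ (y' : Y) (z' : f.fiber y'), f.fiberι y' z' = x →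
      FBase.IsGeomReducedAt (f.fiberToSpecResidueField y') z' := by
    intro x hx y' z' hz
    have hy : f x = y' := hz ▸ E4O.apply_fiberι f y' z'
    subst hy
    rwa [(f.fiberι (f x)).isEmbedding.injective (hz.trans (f.fiberι_asFiber x).symm)]
  exact key _ h y z rfl

/-- A base change to a field is reduced at points over good points. -/
theorem reduced_stalk_of_goodAt {K : Type u} [Field K] (g : Spec (.of K) ⟶ Y) (x' : ↥(pullback f g))
    (h : GoodAt f (pullback.fst f g x')) : _root_.IsReduced ((pullback f g).presheaf.stalk x') := by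
  obtain ⟨⟨y, φ⟩, rfl⟩ := (Scheme.SpecToEquivOfField K Y).symm.surjective g
  letI alg : Algebra (IsLocalRing.ResidueField (Y.presheaf.stalk y)) K := φ.hom.toAlgebra
  let e : FBase.bc (f.fiberToSpecResidueField y) K ≅ pullback f (Spec.map φ ≫ Y.fromSpecResidueField y) :=
    pullbackLeftPullbackSndIso f (Y.fromSpecResidueField y) (Spec.map φ)
  have h' : GoodAt f (f.fiberι y (FBase.bcπ (f.fiberToSpecResidueField y) K (e.inv x'))) := by
    have : e.inv ≫ FBase.bcπ (f.fiberToSpecResidueField y) K ≫ f.fiberι y = pullback.fst _ _ :=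
      pullbackLeftPullbackSndIso_inv_fst _ _ _
    show GoodAt f ((e.inv ≫ FBase.bcπ (f.fiberToSpecResidueField y) K ≫ f.fiberι y) x')
    rw [this]; exact h
  haveI := isGeomReducedAt_of_goodAt f _ h' K (e.inv x') rfl
  exact isReduced_of_injective (asIso (e.inv.stalkMap x')).symm.commRingCatIsoToRingEquiv
    (RingEquiv.injective _)

theorem goodAt_of_isReduced (x : X)
    (h : ∀ (K : Type u) [Field K] (g : Spec (.of K) ⟶ Y) (t : Spec (.of K)), g t = f x → IsReduced (pullback f g)) :
    GoodAt f x := by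
  intro K _ alg x' _
  haveI := h K (Spec.map (CommRingCat.ofHom (algebraMap (IsLocalRing.ResidueField (Y.presheaf.stalk (f x))) K)) ≫ Y.fromSpecResidueField (f x))
    default ((Scheme.Hom.comp_apply _ _ _).trans (Scheme.fromSpecResidueField_apply _ _))
  let e : FBase.bc (f.fiberToSpecResidueField (f x)) K ≅
      pullback f (Spec.map (CommRingCat.ofHom (algebraMap (IsLocalRing.ResidueField (Y.presheaf.stalk (f x))) K)) ≫ Y.fromSpecResidueField (f x)) :=
    pullbackLeftPullbackSndIso _ _ _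
  haveI : IsReduced (FBase.bc (f.fiberToSpecResidueField (f x)) K) := isReduced_of_isOpenImmersion e.hom
  infer_instance

end

set_option synthInstance.maxHeartbeats 200000 in
set_option maxHeartbeats 1000000 in
theorem exists_stage_aux {R R₀ A₀ : Type u} [CommRing R] [CommRing R₀] [CommRing A₀] [Algebra R₀ R] [Algebra R₀ A₀]
    [IsNoetherianRing R₀] [Algebra.FinitePresentation R₀ A₀] [Module.Flat R₀ A₀]
    (hB : RedFibres R (R ⊗[R₀] A₀)) :
    ∃ (R₁ : Type u) (_ : CommRing R₁) (_ : IsNoetherianRing R₁) (_ : Algebra R₁ R) (A₁ : Type u) (_ : CommRing A₁)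
      (_ : Algebra R₁ A₁), IsNoetherianRing A₁ ∧ Module.Flat R₁ A₁ ∧ Function.Injective (algebraMap R₁ R) ∧
      RedFibres R₁ A₁ ∧ Nonempty (R ⊗[R₀] A₀ ≃ₐ[R] R ⊗[R₁] A₁) := by
  classical
  haveI : IsNoetherianRing A₀ := Algebra.FiniteType.isNoetherianRing R₀ A₀
  let f := Spec.map (CommRingCat.ofHom (algebraMap R₀ A₀))
  haveI : Flat f := by
    rw [HasRingHomProperty.Spec_iff (P := @Flat)]; exact RingHom.flat_algebraMap_iff.2 inferInstance
  haveI : LocallyOfFinitePresentation f := by
    rw [HasRingHomProperty.Spec_iff (P := @LocallyOfFinitePresentation)]; exact RingHom.finitePresentation_algebraMap.2 inferInstance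
  have hopen : IsOpen {x | GoodAt f x} := Sk62.isOpen_isGeomReducedAt_fibre f
  obtain ⟨J, hJ⟩ := (PrimeSpectrum.isClosed_iff_zeroLocus_ideal _).1 hopen.isClosed_compl
  let B := R ⊗[R₀] A₀
  -- every point coming from `A` is good
  have hgood : ∀ P : PrimeSpectrum B, GoodAt f (PrimeSpectrum.comap
      (Algebra.TensorProduct.includeRight : A₀ →ₐ[R₀] B).toRingHom P) := by
    intro P
    refine goodAt_of_isReduced f _ fun K _ g t ht => ?_
    obtain ⟨ψ, rfl⟩ := Spec.map_surjective g
    letI algK : Algebra R₀ K := ψ.hom.toAlgebra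
    refine (isReduced_pullback_iff R₀ A₀ K).2 ?_
    let h := Spec.map (CommRingCat.ofHom (algebraMap R₀ R))
    let p : Spec (CommRingCat.of R) := PrimeSpectrum.comap (algebraMap R B) P
    have hp : Spec.map ψ t = h p := by
      rw [ht]
      show PrimeSpectrum.comap (algebraMap R₀ A₀) _ = PrimeSpectrum.comap (algebraMap R₀ R) _
      simp only [p, ← PrimeSpectrum.comap_comp_apply]
      congr 1
      exact RingHom.ext fun r => ((Algebra.TensorProduct.includeRight : A₀ →ₐ[R₀] B).commutes r).trans (IsScalarTower.algebraMap_apply R₀ R B r)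
    obtain ⟨w, -, -⟩ := Scheme.Pullback.exists_preimage_pullback (f := Spec.map ψ) (g := h) t p hp
    let L := (pullback (Spec.map ψ) h).residueField w
    obtain ⟨φK, hφK⟩ := Spec.map_surjective ((pullback (Spec.map ψ) h).fromSpecResidueField w ≫ pullback.fst _ _)
    obtain ⟨φR, hφR⟩ := Spec.map_surjective ((pullback (Spec.map ψ) h).fromSpecResidueField w ≫ pullback.snd _ _)
    have hcomp : ψ ≫ φK = CommRingCat.ofHom (algebraMap R₀ R) ≫ φR := Spec.map_injective (by
      rw [Spec.map_comp, Spec.map_comp, hφK, hφR, Category.assoc, Category.assoc, pullback.condition])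
    letI : Algebra K L := φK.hom.toAlgebra
    letI : Algebra R L := φR.hom.toAlgebra
    letI : Algebra R₀ L := ((algebraMap K L).comp (algebraMap R₀ K)).toAlgebra
    haveI : IsScalarTower R₀ K L := .of_algebraMap_eq fun _ => rfl
    haveI : IsScalarTower R₀ R L := .of_algebraMap_eq fun r => congr(CommRingCat.Hom.hom $hcomp r)
    haveI := hB L
    haveI : _root_.IsReduced (L ⊗[R₀] A₀) := isReduced_of_injective
      (Algebra.TensorProduct.cancelBaseChange R₀ R R L A₀).symm (AlgEquiv.injective _)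
    exact isReduced_of_injective
      (Algebra.TensorProduct.map (IsScalarTower.toAlgHom R₀ K L) (AlgHom.id R₀ A₀))
      (Module.Flat.rTensor_preserves_injective_linearMap (M := A₀) (IsScalarTower.toAlgHom R₀ K L).toLinearMap
        (algebraMap K L).injective)
  have htop : J.map (Algebra.TensorProduct.includeRight : A₀ →ₐ[R₀] B).toRingHom = ⊤ := by
    by_contra hne
    obtain ⟨P, hP, hJP⟩ := Ideal.exists_le_maximal _ hne
    have hmem : PrimeSpectrum.comap (Algebra.TensorProduct.includeRight : A₀ →ₐ[R₀] B).toRingHom ⟨P, hP.isPrime⟩ ∈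
        PrimeSpectrum.zeroLocus (J : Set A₀) := Ideal.map_le_iff_le_comap.1 hJP
    rw [← hJ] at hmem
    exact hmem (hgood _)
  -- enlarge the stage
  have hone : (1 : B) ∈ J.map (Algebra.TensorProduct.includeRight : A₀ →ₐ[R₀] B).toRingHom := htop ▸ Submodule.mem_top
  obtain ⟨T, hTJ, hT⟩ : ∃ T : Finset A₀, Ideal.span (T : Set A₀) = J ∧ True :=
    ⟨_, (IsNoetherian.noetherian J).choose_spec, trivial⟩
  rw [← hTJ, Ideal.map_span, ← Finset.coe_image, Ideal.span, Submodule.mem_span_finset] at hone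
  obtain ⟨w, -, hw⟩ := hone
  choose S hS using fun b : B => TensorProduct.exists_finset b
  let s : Finset R := ((T.image (Algebra.TensorProduct.includeRight : A₀ →ₐ[R₀] B)).biUnion fun b => (S (w b)).image Prod.fst)
  let R₁ := Algebra.adjoin R₀ (s : Set R)
  haveI : Algebra.FiniteType R₀ R₁ := Algebra.FiniteType.adjoin_of_finite s.finite_toSet
  haveI : IsNoetherianRing R₁ := Algebra.FiniteType.isNoetherianRing R₀ R₁
  let A₁ := R₁ ⊗[R₀] A₀
  haveI : IsNoetherianRing A₁ := Algebra.FiniteType.isNoetherianRing R₁ A₁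
  let ι : A₁ →ₐ[R₀] B := Algebra.TensorProduct.map R₁.val (AlgHom.id R₀ A₀)
  have hι : Function.Injective ι :=
    Module.Flat.rTensor_preserves_injective_linearMap (M := A₀) R₁.val.toLinearMap Subtype.val_injective
  have h1 : (1 : A₁) ∈ J.map (Algebra.TensorProduct.includeRight : A₀ →ₐ[R₀] A₁).toRingHom := by
    have hmem : ∀ b : B, b ∈ T.image (Algebra.TensorProduct.includeRight : A₀ →ₐ[R₀] B) → ∀ i ∈ S (w b), i.1 ∈ R₁ := fun b hb i hi =>
      Algebra.subset_adjoin (Finset.mem_coe.2 (Finset.mem_biUnion.2 ⟨b, hb, Finset.mem_image_of_mem _ hi⟩))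
    have key : ∀ a ∈ T, ∃ v : A₁, ι v = w ((Algebra.TensorProduct.includeRight : A₀ →ₐ[R₀] B) a) := fun a ha => by
      refine ⟨∑ i : {i // i ∈ S (w ((Algebra.TensorProduct.includeRight : A₀ →ₐ[R₀] B) a))},
        (⟨i.1.1, hmem _ (Finset.mem_image_of_mem _ ha) _ i.2⟩ : R₁) ⊗ₜ i.1.2, ?_⟩
      rw [map_sum]
      exact ((Finset.sum_coe_sort _ fun i : R × A₀ => i.1 ⊗ₜ[R₀] i.2)).trans (hS _).symm
    choose! v hv using key
    let T' := T.image (Algebra.TensorProduct.includeRight : A₀ →ₐ[R₀] B)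
    have hpre : ∀ b ∈ T', ∃ a ∈ T, (Algebra.TensorProduct.includeRight : A₀ →ₐ[R₀] B) a = b := fun b hb => Finset.mem_image.1 hb
    choose! pre hpre1 hpre2 using hpre
    have : (∑ b ∈ T', v (pre b) * (Algebra.TensorProduct.includeRight : A₀ →ₐ[R₀] A₁) (pre b)) = 1 := by
      refine hι ?_
      rw [map_one, map_sum, ← hw]
      refine Finset.sum_congr rfl fun b hb => ?_
      rw [map_mul, hv _ (hpre1 b hb), hpre2 b hb, smul_eq_mul]
      congr 1
      conv_rhs => rw [← hpre2 b hb]
      show (Algebra.TensorProduct.map R₁.val (AlgHom.id R₀ A₀)) ((1 : R₁) ⊗ₜ[R₀] pre b) = (1 : R) ⊗ₜ[R₀] pre b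
      rw [Algebra.TensorProduct.map_tmul, map_one]
      rfl
    rw [← this]
    refine Ideal.sum_mem _ fun b hb => Ideal.mul_mem_left _ _ (Ideal.mem_map_of_mem _ ?_)
    rw [← hTJ]
    exact Ideal.subset_span (hpre1 b hb)
  refine ⟨R₁, inferInstance, inferInstance, inferInstance, A₁, inferInstance, inferInstance, inferInstance, inferInstance,
    Subtype.val_injective, ?_, ⟨(Algebra.TensorProduct.cancelBaseChange R₀ R₁ R R A₀).symm⟩⟩
  intro K _ _
  letI : Algebra R₀ K := ((algebraMap R₁ K).comp (algebraMap R₀ R₁)).toAlgebra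
  haveI : IsScalarTower R₀ R₁ K := .of_algebraMap_eq fun _ => rfl
  suffices _root_.IsReduced (K ⊗[R₀] A₀) from
    isReduced_of_injective (Algebra.TensorProduct.cancelBaseChange R₀ R₁ K K A₀) (AlgEquiv.injective _)
  refine (isReduced_pullback_iff R₀ A₀ K).1 ?_
  refine @isReduced_of_isReduced_stalk _ fun x' => reduced_stalk_of_goodAt f _ x' ?_
  by_contra hbad
  let P : PrimeSpectrum (A₀ ⊗[R₀] K) := (pullbackSpecIso R₀ A₀ K).hom x'
  have hx : pullback.fst f (Spec.map (CommRingCat.ofHom (algebraMap R₀ K))) x' =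
      PrimeSpectrum.comap (Algebra.TensorProduct.includeLeftRingHom : A₀ →+* A₀ ⊗[R₀] K) P := by
    have := congr($((Iso.inv_comp_eq _).1 (pullbackSpecIso_inv_fst R₀ A₀ K)) x')
    exact this
  have hmem : pullback.fst f (Spec.map (CommRingCat.ofHom (algebraMap R₀ K))) x' ∈ PrimeSpectrum.zeroLocus (J : Set A₀) :=
    hJ ▸ hbad
  rw [hx] at hmem
  let χ : A₁ →ₐ[R₀] A₀ ⊗[R₀] K :=
    (Algebra.TensorProduct.comm R₀ K A₀).toAlgHom.comp (Algebra.TensorProduct.map (IsScalarTower.toAlgHom R₀ R₁ K) (AlgHom.id R₀ A₀))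
  have hle : J.map (Algebra.TensorProduct.includeRight : A₀ →ₐ[R₀] A₁).toRingHom ≤ P.asIdeal.comap χ.toRingHom := by
    refine Ideal.map_le_iff_le_comap.2 fun j hj => ?_
    show χ ((1 : R₁) ⊗ₜ j) ∈ P.asIdeal
    have hχ : χ ((1 : R₁) ⊗ₜ j) = j ⊗ₜ[R₀] (1 : K) := by
      show (Algebra.TensorProduct.comm R₀ K A₀) (Algebra.TensorProduct.map (IsScalarTower.toAlgHom R₀ R₁ K) (AlgHom.id R₀ A₀) ((1 : R₁) ⊗ₜ j)) = _
      rw [Algebra.TensorProduct.map_tmul, map_one, Algebra.TensorProduct.comm_tmul]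
      rfl
    rw [hχ]
    exact hmem hj
  exact P.isPrime.ne_top ((Ideal.eq_top_iff_one _).2 (by simpa using hle h1))

set_option synthInstance.maxHeartbeats 200000 in
/-- A Noetherian stage with geometrically reduced fibres. -/
theorem exists_stage {R A : Type u} [CommRing R] [CommRing A] [Algebra R A] [Algebra.FinitePresentation R A]
    [Module.Flat R A] (hA : RedFibres R A) :
    ∃ (R₁ : Type u) (_ : CommRing R₁) (_ : IsNoetherianRing R₁) (_ : Algebra R₁ R) (A₁ : Type u) (_ : CommRing A₁)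
      (_ : Algebra R₁ A₁), IsNoetherianRing A₁ ∧ Module.Flat R₁ A₁ ∧ Function.Injective (algebraMap R₁ R) ∧
      RedFibres R₁ A₁ ∧ Nonempty (A ≃ₐ[R] R ⊗[R₁] A₁) := by
  letI : Algebra (ULift.{u} ℤ) R := ((Int.castRingHom R).comp ULift.ringEquiv.toRingHom).toAlgebra
  obtain ⟨R₀, A₀, _, _, hfg, hfp, hfl, ⟨e⟩⟩ := Desc59.exists_subalgebra_fg_flat (ULift.{u} ℤ) R A
  haveI := hfp; haveI := hfl
  haveI : IsNoetherianRing (ULift.{u} ℤ) := isNoetherianRing_of_ringEquiv ℤ ULift.ringEquiv.symm
  haveI : Algebra.FiniteType (ULift.{u} ℤ) R₀ := (Subalgebra.fg_iff_finiteType R₀).1 hfg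
  haveI : IsNoetherianRing R₀ := Algebra.FiniteType.isNoetherianRing (ULift.{u} ℤ) R₀
  have hB : RedFibres R (R ⊗[R₀] A₀) := fun K _ _ => by
    haveI := hA K
    exact isReduced_of_injective (Algebra.TensorProduct.congr (AlgEquiv.refl (R := R) (A₁ := K)) e.symm)
      (AlgEquiv.injective _)
  obtain ⟨R₁, i1, i2, i3, A₁, i4, i5, h1, h2, h3, h4, ⟨e'⟩⟩ :=
    exists_stage_aux (R := R) (R₀ := R₀) (A₀ := A₀) hB
  exact ⟨R₁, i1, i2, i3, A₁, i4, i5, h1, h2, h3, h4, ⟨e.trans e'⟩⟩

/-- Over a normal domain such an algebra is integrally closed in its generic fibre. -/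
theorem exists_eq_of_isIntegral {R A K : Type u} [CommRing R] [IsDomain R] [IsIntegrallyClosed R] [CommRing A] [Algebra R A]
    [Algebra.FinitePresentation R A] [Module.Flat R A] [Field K] [Algebra R K] [IsFractionRing R K]
    (hA : RedFibres R A) (x : A ⊗[R] K) (hx : IsIntegral A x) : x ∈ (algebraMap A (A ⊗[R] K)).range := by
  obtain ⟨R₁, _, _, _, A₁, _, _, hN, hfl, hinj, hred, ⟨e⟩⟩ := exists_stage hA
  haveI := hfl; haveI := hN
  letI : Algebra R₁ K := ((algebraMap R K).comp (algebraMap R₁ R)).toAlgebra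
  haveI : IsScalarTower R₁ R K := .of_algebraMap_eq fun _ => rfl
  let eB : A ≃+* A₁ ⊗[R₁] R := e.toRingEquiv.trans (Algebra.TensorProduct.comm R₁ R A₁).toRingEquiv
  let eC : A ⊗[R] K ≃+* A₁ ⊗[R₁] K :=
    (((Algebra.TensorProduct.comm R A K).trans
      (Algebra.TensorProduct.congr (AlgEquiv.refl (R := R) (A₁ := K)) e)).toRingEquiv.trans
      (Algebra.TensorProduct.cancelBaseChange R₁ R K K A₁).toRingEquiv).trans
      (Algebra.TensorProduct.comm R₁ K A₁).toRingEquiv
  let φ := Algebra.TensorProduct.map (AlgHom.id A₁ A₁) (IsScalarTower.toAlgHom R₁ R K)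
  have hcomm : φ.toRingHom.comp eB.toRingHom = eC.toRingHom.comp (algebraMap A (A ⊗[R] K)) := by
    refine RingHom.ext fun a => ?_
    show φ (eB a) = eC (a ⊗ₜ (1 : K))
    show φ ((Algebra.TensorProduct.comm R₁ R A₁) (e a)) = (Algebra.TensorProduct.comm R₁ K A₁) ((Algebra.TensorProduct.cancelBaseChange R₁ R K K A₁) ((1 : K) ⊗ₜ[R] e a))
    generalize e a = w
    induction w with
    | zero => simp
    | tmul r b =>
      simp [φ, Algebra.smul_def]
    | add u v hu hv => simp only [map_add, tmul_add, hu, hv]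
  have hint : φ.toRingHom.IsIntegralElem (eC x) := by
    obtain ⟨P, hP, hPx⟩ := hx
    refine ⟨P.map eB.toRingHom, hP.map _, ?_⟩
    rw [Polynomial.eval₂_map, hcomm, ← show eC.toRingHom x = eC x from rfl, ← Polynomial.hom_eval₂, hPx, map_zero]
  obtain ⟨y, hy⟩ := EGA4H10.IntClosApp.mem_range_of_isIntegralElem (fun p _ => geomReduced_fiber hred p) R K _ hint
  suffices hsuf : ∃ b : A, φ (eB b) = eC x by
    obtain ⟨b, hb⟩ := hsuf
    exact ⟨b, eC.injective ((congr($hcomm b)).symm.trans hb)⟩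
  suffices hsuf : ∃ z : A₁ ⊗[R₁] R, φ z = eC x by
    obtain ⟨z, hz⟩ := hsuf
    exact ⟨eB.symm z, by rw [eB.apply_symm_apply]; exact hz⟩
  rw [← hy]
  clear hy
  induction y with
  | zero => exact ⟨0, by simp⟩
  | tmul a c =>
    obtain ⟨r, hr⟩ := IsIntegrallyClosed.isIntegral_iff.1 c.2
    exact ⟨a ⊗ₜ r, by simp [φ, hr]⟩
  | add u v hu hv =>
    obtain ⟨z, hz⟩ := hu
    obtain ⟨z', hz'⟩ := hv
    exact ⟨z + z', by simp [hz, hz']⟩

end Groth.Agent.FlatMor68.GRStage
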