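import Groth.Agent.FlatMor67.GenericFibre
import Groth.Agent.Cyc90.Gen
import Mathlib.AlgebraicGeometry.Morphisms.UniversallyOpen
import Mathlib.AlgebraicGeometry.FunctionField
import Mathlib.RingTheory.Flat.TorsionFree
import Mathlib.AlgebraicGeometry.Morphisms.ClosedImmersion
import Mathlib.AlgebraicGeometry.Morphisms.IsIso
import Mathlib.AlgebraicGeometry.Noetherian

set_option autoImplicit false
set_option backward.isDefEq.respectTransparency.types false
set_option linter.style.haveILetI false

universe u

open CategoryTheory Limits AlgebraicGeometry TopologicalSpace IsLocalRing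
open Groth.Agent.Cyc90

namespace Groth.Agent.FlatMor68.GenericIso

/-- A closed immersion into a scheme flat over an integral base which is an isomorphism on stalks over
the generic point is an isomorphism. -/
theorem isIso_of_generic {P' P C : Scheme.{u}} (φ : P' ⟶ P) [IsClosedImmersion φ] (π : P ⟶ C) [Flat π]
    [IsIntegral C]
    (h : ∀ ζ : P, π.base ζ = genericPoint C → ∃ w, φ.base w = ζ ∧ Function.Injective (φ.stalkMap w)) :
    IsIso φ := by
  have hsurj : Function.Surjective φ.base := by
    intro z
    obtain ⟨ζ, hζ, hζη⟩ := (Flat.generalizingMap π) (genericPoint_specializes (π.base z))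
    obtain ⟨w, hw, -⟩ := h ζ hζη
    exact φ.isClosedEmbedding.isClosed_range.stableUnderSpecialization hζ ⟨w, hw⟩
  haveI : Surjective φ := ⟨hsurj⟩
  have hhom : Topology.IsOpenEmbedding φ.base :=
    (Equiv.toHomeomorphOfIsInducing (Equiv.ofBijective _ ⟨φ.isClosedEmbedding.injective, hsurj⟩)
      φ.isClosedEmbedding.isInducing).isOpenEmbedding
  refine (isIso_iff_isOpenImmersion_and_surjective φ).mpr
    ⟨IsOpenImmersion.iff_isIso_stalkMap.mpr ⟨hhom, fun x => ?_⟩, inferInstance⟩
  rw [ConcreteCategory.isIso_iff_bijective]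
  refine ⟨?_, φ.stalkMap_surjective x⟩
  refine (injective_iff_map_eq_zero (φ.stalkMap x).hom).mpr fun a ha => ?_
  let z := φ.base x
  algebraize [(π.stalkMap z).hom]
  haveI : Module.Flat (C.presheaf.stalk (π.base z)) (P.presheaf.stalk z) := Flat.stalkMap π z
  let S : Submonoid (P.presheaf.stalk z) := (nonZeroDivisors (C.presheaf.stalk (π.base z))).map (π.stalkMap z).hom
  let I : Ideal (P.presheaf.stalk z) := (⊥ : Ideal (P.presheaf.stalk z)).colon {a}
  by_contra ha0
  by_cases hd : Disjoint (I : Set (P.presheaf.stalk z)) S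
  · obtain ⟨q, hq, hIq, hqS⟩ := Ideal.exists_le_prime_disjoint I S hd
    let p : PrimeSpectrum (P.presheaf.stalk z) := ⟨q, hq⟩
    let ζ := (P.fromSpecStalk z).base p
    have hζz : ζ ⤳ z := fromSpecStalk_specializes p
    have hζη : π.base ζ = genericPoint C := by
      refine ((genericPoint_specializes _).antisymm ?_).eq.symm
      have hg : genericPoint C ⤳ π.base z := genericPoint_specializes _
      refine (genPrime_le_iff (hζz.map π.continuous) hg).mp fun c hc => ?_
      by_contra hc'
      have hc0 : c ≠ 0 := by rintro rfl; exact hc' (zero_mem _)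
      have hmem : (π.stalkMap z).hom c ∈ q := by
        have h1 : (π.stalkMap z).hom c ∈ (genPrime hζz).asIdeal := by
          show (P.presheaf.stalkSpecializes hζz).hom ((π.stalkMap z).hom c) ∈ maximalIdeal (P.presheaf.stalk ζ)
          intro hu
          have e := Scheme.Hom.stalkSpecializes_stalkMap_apply π ζ z hζz c
          have hu' : IsUnit ((π.stalkMap ζ).hom ((C.presheaf.stalkSpecializes (hζz.map π.continuous)).hom c)) := by
            rw [e]; exact hu
          exact hc (isUnit_of_map_unit (π.stalkMap ζ).hom _ hu')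
        rwa [genPrime_fromSpecStalk p] at h1
      exact Set.disjoint_left.mp hqS hmem ⟨c, mem_nonZeroDivisors_of_ne_zero hc0, rfl⟩
    obtain ⟨w, hw, hinj⟩ := h ζ hζη
    have hwx : w ⤳ x := φ.isClosedEmbedding.isInducing.specializes_iff.mp (hw ▸ hζz)
    have h0 : (P.presheaf.stalkSpecializes (hwx.map φ.continuous)).hom a = 0 := by
      have e := Scheme.Hom.stalkSpecializes_stalkMap_apply φ w x hwx a
      refine hinj ?_
      rw [map_zero]
      rw [e, ha, map_zero]
    have hz' : φ.base w ⤳ z := hwx.map φ.continuous
    letI := (P.presheaf.stalkSpecializes hz').hom.toAlgebra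
    haveI := isLocalization_genPrime hz'
    obtain ⟨⟨s, hs⟩, hsa⟩ := (IsLocalization.map_eq_zero_iff (genPrime hz').asIdeal.primeCompl
      (P.presheaf.stalk (φ.base w)) a).mp h0
    refine hs ?_
    have h3 : genPrime hz' = p := by
      rw [← genPrime_fromSpecStalk p]; exact (genPrime_eq_iff _ _).mpr hw
    show s ∈ (genPrime hz').asIdeal
    rw [h3]
    exact hIq (Submodule.mem_colon_singleton.mpr (by simpa [smul_eq_mul] using hsa))
  · obtain ⟨_, hsI, ⟨c, hc, rfl⟩⟩ := Set.not_disjoint_iff.mp hd
    have h1 := Submodule.mem_colon_singleton.mp hsI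
    rw [Submodule.mem_bot, smul_eq_mul] at h1
    exact ha0 (Module.Flat.isSMulRegular_of_nonZeroDivisors (M := P.presheaf.stalk z) hc
      (show c • a = c • (0 : P.presheaf.stalk z) from (Algebra.smul_def c a).trans (h1.trans (smul_zero c).symm)))

theorem t19967
    {S S' C C' : Scheme.{u}} [IsLocallyNoetherian S] [IsLocallyNoetherian S']
    (f : S' ⟶ S) [Flat f] (i : C ⟶ S) [IsClosedImmersion i] [IsIntegral C]
    (i' : C' ⟶ S') [IsClosedImmersion i'] [IsIntegral C']
    (g : C' ⟶ C) (hsq : g ≫ i = i' ≫ f)
    (hgen : IsIso (pullback.snd (pullback.lift g i' hsq)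
      (pullback.fst (pullback.fst i f ≫ i) (S.fromSpecStalk (i.base (genericPoint C)))))) :
    IsIso (pullback.lift g i' hsq) := by
  haveI : IsClosedImmersion (pullback.lift g i' hsq) := by
    haveI : IsClosedImmersion (pullback.lift g i' hsq ≫ pullback.snd i f) := by
      rw [pullback.lift_snd]; infer_instance
    exact IsClosedImmersion.of_comp _ (pullback.snd i f)
  refine isIso_of_generic _ (pullback.fst i f) fun ζ hζ => ?_
  let j := pullback.fst (pullback.fst i f ≫ i) (S.fromSpecStalk (i.base (genericPoint C)))
  haveI : Flat j := MorphismProperty.pullback_fst _ _ inferInstance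
  haveI : IsPreimmersion j := MorphismProperty.pullback_fst _ _ inferInstance
  have hmem : ζ ∈ Set.range j.base := by
    rw [Scheme.Pullback.range_fst, Set.mem_preimage, Scheme.range_fromSpecStalk]
    show (pullback.fst i f ≫ i).base ζ ⤳ i.base (genericPoint C)
    rw [Scheme.Hom.comp_apply, hζ]
  obtain ⟨w, rfl⟩ := hmem
  let φ := pullback.lift g i' hsq
  let sn := pullback.snd φ j
  haveI : IsIso sn := hgen
  obtain ⟨v, rfl⟩ := sn.surjective w
  have hj : Function.Injective (j.stalkMap (sn.base v)) := by
    algebraize [(j.stalkMap (sn.base v)).hom]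
    haveI : Module.Flat ((pullback i f).presheaf.stalk (j.base (sn.base v))) ((pullback (pullback.fst i f ≫ i) (S.fromSpecStalk (i.base (genericPoint C)))).presheaf.stalk (sn.base v)) := Flat.stalkMap j (sn.base v)
    haveI : IsLocalHom (algebraMap ((pullback i f).presheaf.stalk (j.base (sn.base v))) ((pullback (pullback.fst i f ≫ i) (S.fromSpecStalk (i.base (genericPoint C)))).presheaf.stalk (sn.base v))) := inferInstanceAs (IsLocalHom (j.stalkMap (sn.base v)).hom)
    haveI := Module.FaithfullyFlat.of_flat_of_isLocalHom (A := (pullback i f).presheaf.stalk (j.base (sn.base v)))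
      (B := (pullback (pullback.fst i f ≫ i) (S.fromSpecStalk (i.base (genericPoint C)))).presheaf.stalk (sn.base v))
    exact FaithfulSMul.algebraMap_injective _ _
  have hcond : pullback.fst φ j ≫ φ = sn ≫ j := pullback.condition
  have h3 : Function.Injective ((sn ≫ j).stalkMap v) := by
    rw [Scheme.Hom.stalkMap_comp]
    exact (ConcreteCategory.bijective_of_isIso (sn.stalkMap v)).1.comp hj
  refine ⟨(pullback.fst φ j).base v, congrArg (fun m => m.base v) hcond, ?_⟩
  have h4 : Function.Injective ((pullback.fst φ j ≫ φ).stalkMap v) := by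
    rw [Scheme.Hom.stalkMap_congr_hom _ _ hcond]
    exact h3.comp (ConcreteCategory.bijective_of_isIso _).1
  rw [Scheme.Hom.stalkMap_comp] at h4
  intro a b hab
  exact h4 (congrArg ((pullback.fst φ j).stalkMap v).hom hab)

end Groth.Agent.FlatMor68.GenericIso
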