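import Groth.Statements.S11561
import Mathlib.AlgebraicGeometry.ZariskisMainTheorem

set_option autoImplicit false
universe u
open CategoryTheory CategoryTheory.Limits AlgebraicGeometry TopologicalSpace

namespace Groth.Agent.FlatMor68.GenericQF

theorem quasiFiniteAt_of_finite_fiber {X Y : Scheme.{u}} (f : X ⟶ Y) [LocallyOfFiniteType f]
    (x : X) [Finite ↥(f.fiber (f x))] : f.QuasiFiniteAt x :=
  Scheme.Hom.quasiFiniteAt_iff_isOpen_singleton_asFiber.mpr (isOpen_discrete _)

theorem subsingleton_fiber_of_generic_quasiFinite {X Y : Scheme.{u}} (f : X ⟶ Y)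
    [LocallyOfFiniteType f] (ξ : X) (hξ : ∀ z : X, ξ ⤳ z) (hq : f.QuasiFiniteAt ξ)
    (η : Y) (hη : f ξ ⤳ η → f ξ = η) : Subsingleton ↥(f.fiber η) := by
  refine ⟨fun a b => ?_⟩
  suffices h : ∀ a : f.fiber η, f.fiberι η a = ξ from
    (f.fiberι η).isEmbedding.injective ((h a).trans (h b).symm)
  intro a
  have ha : f (f.fiberι η a) = η :=
    (Set.ext_iff.1 (Scheme.Hom.range_fiberι f η) (f.fiberι η a)).1 ⟨a, rfl⟩
  obtain rfl : f ξ = η := hη (ha ▸ (hξ _).map f.continuous)
  have hcl := hq.isClopen_singleton_asFiber.isClosed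
  have hs : f.asFiber ξ ⤳ a := by
    rw [← (f.fiberι (f ξ)).isEmbedding.isInducing.specializes_iff, Scheme.Hom.fiberι_asFiber]
    exact hξ _
  have := hs.mem_closed hcl rfl
  rw [Set.mem_singleton_iff.1 this, Scheme.Hom.fiberι_asFiber]

end Groth.Agent.FlatMor68.GenericQF
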