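import Groth.Agent.FlatMor68.DvrCompCount
import Groth.Agent.GeomCount24.Basic
import Groth.Agent.S1334
import Groth.Agent.S1336
import Groth.Agent.S1338
import Groth.Agent.NearGen2.CompCount
import Groth.Agent.E4O.DvrDom
import Groth.Agent.VarGal.Residue
import Groth.Agent.FBase64.Splitting
import Groth.Agent.ConstrTop58.Basic

/-!
The number of geometric components of the fibres of a flat proper morphism grows under
specialisation to geometrically reduced fibres.
-/

set_option autoImplicit false
set_option linter.style.haveILetI false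
set_option backward.isDefEq.respectTransparency.types false

universe u

open CategoryTheory CategoryTheory.Limits AlgebraicGeometry TopologicalSpace Topology

namespace Groth.Agent.FlatMor68.GeomCompSemicont

open DvrCompCount

theorem encard_components_congr {A B : Scheme.{u}} (e : A ≅ B) :
    (irreducibleComponents ↥A).encard = (irreducibleComponents ↥B).encard := by
  let h := Scheme.homeoOfIso e
  rw [encard_irreducibleComponents_eq_max, encard_irreducibleComponents_eq_max]
  have him : h '' {x | ∀ y, y ⤳ x → y = x} = {x | ∀ y, y ⤳ x → y = x} := by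
    ext b
    constructor
    · rintro ⟨x, hx, rfl⟩ y hy
      obtain ⟨y, rfl⟩ := h.surjective y
      rw [hx y (h.isInducing.specializes_iff.1 hy)]
    · intro hb
      obtain ⟨x, rfl⟩ := h.surjective b
      exact ⟨x, fun y hy => h.injective (hb _ (h.isInducing.specializes_iff.2 hy)), rfl⟩
  rw [← him, h.injective.encard_image]

theorem encard_components_le_of_surjective {A B : Type u} [TopologicalSpace A] [TopologicalSpace B] {p : A → B}
    (hp : Continuous p) (hsurj : Function.Surjective p) (hfin : (irreducibleComponents A).Finite) :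
    (irreducibleComponents B).encard ≤ (irreducibleComponents A).encard := by
  classical
  refine (Set.encard_le_encard ?_).trans (Set.encard_image_le (fun D => closure (p '' D)) _)
  intro C hC
  have hcov : C ⊆ ⋃₀ ↑(hfin.toFinset.image fun D => closure (p '' D)) := by
    intro b _
    obtain ⟨a, rfl⟩ := hsurj b
    refine ⟨closure (p '' irreducibleComponent a), ?_, subset_closure ⟨a, mem_irreducibleComponent, rfl⟩⟩
    rw [Finset.coe_image]
    exact ⟨irreducibleComponent a, hfin.mem_toFinset.2 (irreducibleComponent_mem_irreducibleComponents a), rfl⟩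
  obtain ⟨T, hT, hCT⟩ := isIrreducible_iff_sUnion_isClosed.1 hC.1 _ (fun T hT => by
    obtain ⟨D, -, rfl⟩ := Finset.mem_image.1 hT
    exact isClosed_closure) hcov
  obtain ⟨D, hD, rfl⟩ := Finset.mem_image.1 hT
  exact ⟨D, hfin.mem_toFinset.1 hD,
    le_antisymm (hC.2 ((hfin.mem_toFinset.1 hD).1.image p hp.continuousOn).closure hCT) hCT⟩

theorem finite_components_pullback {X Y : Scheme.{u}} (f : X ⟶ Y) [LocallyOfFiniteType f] [QuasiCompact f]
    {K : Type u} [Field K] (a : Spec (CommRingCat.of K) ⟶ Y) :
    (irreducibleComponents ↥(pullback f a)).Finite := by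
  haveI : IsLocallyNoetherian (pullback f a) := LocallyOfFiniteType.isLocallyNoetherian (pullback.snd f a)
  haveI : CompactSpace ↥(pullback f a) := QuasiCompact.compactSpace_of_compactSpace (pullback.snd f a)
  haveI : IsNoetherian (pullback f a) := { }
  exact NoetherianSpace.finite_irreducibleComponents

theorem nGeomIrredComp_eq_encard {Z : Scheme.{u}} {K : Type u} [Field K] [IsSepClosed K]
    (g : Z ⟶ Spec (CommRingCat.of K)) (t : ↥(Spec (CommRingCat.of K))) :
    MoreMor.nGeomIrredComp g t = (irreducibleComponents ↥Z).encard := by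
  let a := Spec.map (CommRingCat.ofHom
    (algebraMap ((Spec (CommRingCat.of K)).residueField t)
      (SeparableClosure ((Spec (CommRingCat.of K)).residueField t))))
  let σ := Spec.preimage (a ≫ (Spec (CommRingCat.of K)).fromSpecResidueField t)
  have hσ : Spec.map σ = a ≫ (Spec (CommRingCat.of K)).fromSpecResidueField t := Spec.map_preimage _
  have A : IsPullback (pullback.fst (g.fiberToSpecResidueField t) a ≫ g.fiberι t)
      (pullback.snd (g.fiberToSpecResidueField t) a) g (Spec.map σ) := by
    rw [hσ]
    exact (IsPullback.of_hasPullback (g.fiberToSpecResidueField t) a).paste_horiz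
      (IsPullback.of_hasPullback g ((Spec (CommRingCat.of K)).fromSpecResidueField t))
  show (irreducibleComponents ↥(MoreMor.geomFiber g t)).encard = _
  refine (encard_components_congr (A.isoIsPullback _ _ (IsPullback.of_hasPullback g (Spec.map σ)))).trans ?_
  exact GeomCount24.encard_irreducibleComponents_pullback g σ.hom

/-- The number of geometric components through any separably closed field valued point. -/
theorem encard_components_eq_nGeom {X Y : Scheme.{u}} (f : X ⟶ Y) {K : Type u} [Field K] [IsSepClosed K]
    (a : Spec (CommRingCat.of K) ⟶ Y) {y : Y} (t : ↥(Spec (CommRingCat.of K))) (hy : a t = y) :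
    (irreducibleComponents ↥(pullback f a)).encard = MoreMor.nGeomIrredComp f y := by
  rw [← nGeomIrredComp_eq_encard (pullback.snd f a) t,
    S1334.result f (pullback.snd f a) (pullback.fst f a) a (IsPullback.of_hasPullback f a) t, hy]

theorem isReduced_pullback_of_fiber {X Y : Scheme.{u}} (f : X ⟶ Y) {K : Type u} [Field K]
    (c : Spec (CommRingCat.of K) ⟶ Y) {y : Y} (hc : c (IsLocalRing.closedPoint K) = y)
    (h : GeometricallyReduced (f.fiberToSpecResidueField y)) : IsReduced (pullback f c) := by
  subst hc
  let d := Spec.map (Y.descResidueField (Scheme.stalkClosedPointTo c))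
  have hd : d ≫ Y.fromSpecResidueField (c (IsLocalRing.closedPoint K)) = c :=
    Scheme.descResidueField_stalkClosedPointTo_fromSpecResidueField K Y c
  let fst' : pullback f c ⟶ f.fiber (c (IsLocalRing.closedPoint K)) :=
    pullback.lift (pullback.fst f c) (pullback.snd f c ≫ d) (by rw [Category.assoc, hd, pullback.condition])
  refine h.geometrically_isReduced d fst' (pullback.snd f c) (IsPullback.of_right ?_ ?_
    (IsPullback.of_hasPullback f (Y.fromSpecResidueField (c (IsLocalRing.closedPoint K)))))
  · rw [show fst' ≫ pullback.fst f _ = pullback.fst f c from pullback.lift_fst _ _ _, hd]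
    exact IsPullback.of_hasPullback f c
  · exact pullback.lift_snd _ _ _

variable {X Y : Scheme.{u}} (f : X ⟶ Y) [IsProper f] [Flat f] [IsLocallyNoetherian Y]

theorem nGeomIrredComp_le_of_specializes {y y₀ : Y} (hy : y ⤳ y₀)
    (hred : GeometricallyReduced (f.fiberToSpecResidueField y₀)) :
    MoreMor.nGeomIrredComp f y ≤ MoreMor.nGeomIrredComp f y₀ := by
  by_cases hyy : y = y₀
  · rw [hyy]
  obtain ⟨Py, hPy⟩ : y ∈ Set.range (Y.fromSpecStalk y₀) := by
    rw [Scheme.range_fromSpecStalk]
    exact hy
  let A₀ := Y.presheaf.stalk y₀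
  let P : Ideal A₀ := Py.asIdeal
  haveI : P.IsPrime := Py.isPrime
  let R : Type u := A₀ ⧸ P
  haveI : IsLocalRing R := IsLocalRing.of_surjective' (Ideal.Quotient.mk P) Ideal.Quotient.mk_surjective
  have hR : ¬ IsField R := fun h => hyy (by
    have hmax : P.IsMaximal := Ideal.Quotient.maximal_of_isField P h
    have : Py = IsLocalRing.closedPoint A₀ := PrimeSpectrum.ext (IsLocalRing.eq_maximalIdeal hmax)
    rw [← hPy, this, Scheme.fromSpecStalk_closedPoint])
  let b₀ : Spec (CommRingCat.of R) ⟶ Y :=
    Spec.map (CommRingCat.ofHom (Ideal.Quotient.mk P)) ≫ Y.fromSpecStalk y₀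
  let K₀ := FractionRing R
  let yK : Spec (CommRingCat.of K₀) ⟶ Y := Spec.map (CommRingCat.ofHom (algebraMap R K₀)) ≫ b₀
  let gK := pullback.snd f yK
  haveI : Finite ↥(irreducibleComponents ↥(pullback f yK)) := (finite_components_pullback f yK).to_subtype
  obtain ⟨L, _, _, hfd, -, hL⟩ := FBase64.exists_finite_separable_irreducibleComponents gK
    fun Z _ => VarGal.residueFieldProp_finite_separableClosure _ _
  letI : Algebra R L := ((algebraMap K₀ L).comp (algebraMap R K₀)).toAlgebra
  haveI : IsScalarTower R K₀ L := IsScalarTower.of_algebraMap_eq fun _ => rfl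
  haveI := hfd
  obtain ⟨V, hV, hVmem, hVlt⟩ := E4O.exists_dvr_dominating hR K₀ L (IntermediateField.fg_top K₀ L)
  haveI := hV
  let ψ : R →+* V := (algebraMap R L).codRestrict V.toSubring hVmem
  let φ : Spec (CommRingCat.of V) ⟶ Y := Spec.map (CommRingCat.ofHom ψ) ≫ b₀
  have hψ : PrimeSpectrum.comap ψ (IsLocalRing.closedPoint V) = IsLocalRing.closedPoint R := by
    refine PrimeSpectrum.ext ((IsLocalRing.maximalIdeal.isMaximal R).eq_of_le
      (PrimeSpectrum.comap ψ (IsLocalRing.closedPoint V)).isPrime.ne_top fun r hr => ?_).symm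
    show ψ r ∈ IsLocalRing.maximalIdeal V
    exact (ValuationSubring.valuation_lt_one_iff V (ψ r)).2 (hVlt r hr)
  have hφs : φ (IsLocalRing.closedPoint V) = y₀ := by
    show Y.fromSpecStalk y₀ (PrimeSpectrum.comap (Ideal.Quotient.mk P)
      (PrimeSpectrum.comap ψ (IsLocalRing.closedPoint V))) = y₀
    rw [hψ]
    have : PrimeSpectrum.comap (Ideal.Quotient.mk P) (IsLocalRing.closedPoint R) =
        IsLocalRing.closedPoint A₀ := by
      haveI : (IsLocalRing.closedPoint R).asIdeal.IsMaximal := IsLocalRing.maximalIdeal.isMaximal R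
      refine PrimeSpectrum.ext (IsLocalRing.eq_maximalIdeal ?_)
      exact Ideal.comap_isMaximal_of_surjective _ Ideal.Quotient.mk_surjective
    rw [this, Scheme.fromSpecStalk_closedPoint]
  let g := pullback.snd f φ
  haveI : LocallyOfFiniteType g := inferInstance
  haveI : Flat g := inferInstance
  let as := Spec.map (CommRingCat.ofHom (algebraMap V (V ⧸ IsLocalRing.maximalIdeal V)))
  let aη : Spec (CommRingCat.of L) ⟶ Spec (CommRingCat.of V) := Spec.map (CommRingCat.ofHom (algebraMap V L))
  haveI : IsPreimmersion aη := IsPreimmersion.of_isLocalization (nonZeroDivisors V)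
  haveI : IsClosedImmersion as := IsClosedImmersion.spec_of_surjective _ Ideal.Quotient.mk_surjective
  letI : Field (V ⧸ IsLocalRing.maximalIdeal V) := Ideal.Quotient.field _
  have hras : Set.range as = {IsLocalRing.closedPoint V} := by
    refine Set.eq_singleton_iff_unique_mem.2 ⟨⟨IsLocalRing.closedPoint _, ?_⟩, ?_⟩
    · refine PrimeSpectrum.ext (IsLocalRing.eq_maximalIdeal ?_)
      exact Ideal.comap_isMaximal_of_surjective _ Ideal.Quotient.mk_surjective
    · rintro _ ⟨q, rfl⟩
      refine PrimeSpectrum.ext (IsLocalRing.eq_maximalIdeal ?_)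
      haveI : (q : PrimeSpectrum (V ⧸ IsLocalRing.maximalIdeal V)).asIdeal.IsMaximal := inferInstance
      exact Ideal.comap_isMaximal_of_surjective _ Ideal.Quotient.mk_surjective
  have hraη : Set.range aη = {(⊥ : PrimeSpectrum V)} := by
    refine Set.eq_singleton_iff_unique_mem.2 ⟨⟨IsLocalRing.closedPoint _, ?_⟩, ?_⟩
    all_goals first
      | rintro _ ⟨q, rfl⟩
        refine PrimeSpectrum.ext (Ideal.ext fun v => ?_)
        show algebraMap V L v ∈ (q : PrimeSpectrum L).asIdeal ↔ v ∈ (⊥ : Ideal V)
        rw [Ideal.eq_bot_of_prime (q : PrimeSpectrum L).asIdeal, Ideal.mem_bot, Ideal.mem_bot,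
          map_eq_zero_iff _ (IsFractionRing.injective V L)]
      | refine PrimeSpectrum.ext (Ideal.ext fun v => ?_)
        show algebraMap V L v ∈ IsLocalRing.maximalIdeal L ↔ v ∈ (⊥ : Ideal V)
        rw [IsLocalRing.maximalIdeal_eq_bot, Ideal.mem_bot, Ideal.mem_bot,
          map_eq_zero_iff _ (IsFractionRing.injective V L)]
  let es : pullback g as ≅ pullback f (as ≫ φ) :=
    ((IsPullback.of_hasPullback g as).paste_horiz (IsPullback.of_hasPullback f φ)).isoPullback
  let eη : pullback g aη ≅ pullback f (aη ≫ φ) :=
    ((IsPullback.of_hasPullback g aη).paste_horiz (IsPullback.of_hasPullback f φ)).isoPullback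
  have hcs : (as ≫ φ) (IsLocalRing.closedPoint _) = y₀ := by
    rw [Scheme.Hom.comp_apply, show as (IsLocalRing.closedPoint _) = IsLocalRing.closedPoint V from
      hras.le ⟨_, rfl⟩, hφs]
  haveI : IsReduced (pullback f (as ≫ φ)) := isReduced_pullback_of_fiber f _ hcs hred
  haveI : IsReduced (pullback g as) := isReduced_of_isOpenImmersion es.hom
  have hgen : (irreducibleComponents ↥(pullback f (aη ≫ φ))).encard ≤
      (irreducibleComponents ↥(pullback f (as ≫ φ))).encard := by
    rw [← encard_components_congr eη, ← encard_components_congr es, encard_components_pullback g aη hraη,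
      encard_components_pullback g as hras]
    exact encard_fibreMax_le g g.isClosedMap
  have hspecial : (irreducibleComponents ↥(pullback f (as ≫ φ))).encard ≤ MoreMor.nGeomIrredComp f y₀ := by
    let k := V ⧸ IsLocalRing.maximalIdeal V
    let ab : Spec (CommRingCat.of (AlgebraicClosure k)) ⟶ Spec (CommRingCat.of k) :=
      Spec.map (CommRingCat.ofHom (algebraMap k (AlgebraicClosure k)))
    haveI : Surjective ab := ⟨fun q => ⟨IsLocalRing.closedPoint _, Subsingleton.elim (α := PrimeSpectrum k) _ _⟩⟩
    let p := pullback.fst (pullback.snd f (as ≫ φ)) ab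
    haveI : Surjective p := MorphismProperty.pullback_fst _ _ inferInstance
    let e : pullback (pullback.snd f (as ≫ φ)) ab ≅ pullback f (ab ≫ as ≫ φ) :=
      ((IsPullback.of_hasPullback (pullback.snd f (as ≫ φ)) ab).paste_horiz
        (IsPullback.of_hasPullback f (as ≫ φ))).isoPullback
    have hfinb : (irreducibleComponents ↥(pullback (pullback.snd f (as ≫ φ)) ab)).Finite :=
      finite_components_pullback _ _
    refine (encard_components_le_of_surjective p.continuous p.surjective hfinb).trans ?_
    rw [encard_components_congr e, encard_components_eq_nGeom f _ (IsLocalRing.closedPoint _)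
      (y := y₀) ?_]
    rw [Scheme.Hom.comp_apply, show ab (IsLocalRing.closedPoint _) = IsLocalRing.closedPoint k from
      Subsingleton.elim (α := PrimeSpectrum k) _ _]
    exact hcs
  have hgeneric : MoreMor.nGeomIrredComp f y = (irreducibleComponents ↥(pullback f (aη ≫ φ))).encard := by
    let aL : Spec (CommRingCat.of L) ⟶ Spec (CommRingCat.of K₀) := Spec.map (CommRingCat.ofHom (algebraMap K₀ L))
    have heq : aη ≫ φ = aL ≫ yK := by
      simp only [aη, φ, aL, yK, b₀, ← Spec.map_comp_assoc, ← CommRingCat.ofHom_comp]
      rfl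
    let Q := FBase.bc gK L
    let eQ : Q ≅ pullback f (aL ≫ yK) :=
      ((IsPullback.of_hasPullback gK aL).paste_horiz (IsPullback.of_hasPullback f yK)).isoPullback
    let E := AlgebraicClosure L
    let aE : Spec (CommRingCat.of E) ⟶ Spec (CommRingCat.of L) := Spec.map (CommRingCat.ofHom (algebraMap L E))
    let π := FBase.bcπ (FBase.bcStr gK L) E
    let eE : FBase.bc (FBase.bcStr gK L) E ≅ pullback f (aE ≫ aL ≫ yK) :=
      ((IsPullback.of_hasPullback (FBase.bcStr gK L) aE).paste_horiz
        ((IsPullback.of_hasPullback gK aL).paste_horiz (IsPullback.of_hasPullback f yK))).isoPullback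
    have hfinQ : (irreducibleComponents ↥Q).Finite := finite_components_pullback gK aL
    haveI : Finite ↥(irreducibleComponents ↥Q) := hfinQ.to_subtype
    haveI : Surjective aE := ⟨fun q => ⟨IsLocalRing.closedPoint _, Subsingleton.elim (α := PrimeSpectrum L) _ _⟩⟩
    haveI : Surjective π := MorphismProperty.pullback_fst _ _ inferInstance
    have hcount : (irreducibleComponents ↥(FBase.bc (FBase.bcStr gK L) E)).encard =
        (irreducibleComponents ↥Q).encard := by
      rw [NearGen2.encard_irreducibleComponents (s := fun C : irreducibleComponents ↥Q => π ⁻¹' C.1)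
        (fun C => hL E C.1 C.2) (fun C => (isClosed_of_mem_irreducibleComponents _ C.2).preimage π.continuous)
        ?_ ?_]
      · rfl
      · rw [← Set.preimage_iUnion, ← Set.sUnion_eq_iUnion, sUnion_irreducibleComponents, Set.preimage_univ]
      · intro C D h
        have h' : C.1 ⊆ D.1 := (Set.preimage_subset_preimage_iff (fun x _ => π.surjective x)).1 h
        exact Subtype.ext (le_antisymm h' (C.2.2 D.2.1 h'))
    rw [heq, ← encard_components_congr eQ, ← hcount, encard_components_congr eE,
      encard_components_eq_nGeom f (K := E) (aE ≫ aL ≫ yK) (IsLocalRing.closedPoint E) (y := y) ?_]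
    show Y.fromSpecStalk y₀ (PrimeSpectrum.comap (Ideal.Quotient.mk P) (PrimeSpectrum.comap (algebraMap R K₀)
      (PrimeSpectrum.comap (algebraMap K₀ L) (PrimeSpectrum.comap (algebraMap L E)
        (IsLocalRing.closedPoint E))))) = y
    rw [← hPy]
    congr 1
    refine PrimeSpectrum.ext (Ideal.ext fun a => ?_)
    show algebraMap L E (algebraMap K₀ L (algebraMap R K₀ (Ideal.Quotient.mk P a))) ∈ IsLocalRing.maximalIdeal E ↔ a ∈ P
    rw [IsLocalRing.maximalIdeal_eq_bot, Ideal.mem_bot,
      map_eq_zero_iff _ (algebraMap L E).injective, map_eq_zero_iff _ (algebraMap K₀ L).injective,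
      map_eq_zero_iff _ (IsFractionRing.injective R K₀), Ideal.Quotient.eq_zero_iff_mem]
  rw [hgeneric]
  exact hgen.trans hspecial

omit [IsLocallyNoetherian Y] [IsProper f] [Flat f] in
theorem natCard_components_eq (y : Y) :
    Nat.card ↥(irreducibleComponents (↥(pullback f
      (Spec.map (CommRingCat.ofHom (algebraMap (Y.residueField y) (AlgebraicClosure (Y.residueField y)))) ≫
        Y.fromSpecResidueField y)) : Type u)) = (MoreMor.nGeomIrredComp f y).toNat := by
  rw [← encard_components_eq_nGeom f
    (Spec.map (CommRingCat.ofHom (algebraMap (Y.residueField y) (AlgebraicClosure (Y.residueField y)))) ≫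
      Y.fromSpecResidueField y) (y := y) (IsLocalRing.closedPoint (AlgebraicClosure (Y.residueField y))) ?_]
  · rw [Nat.card_coe_set_eq, Set.ncard]
  · rw [Scheme.Hom.comp_apply, Scheme.fromSpecResidueField_apply]

/-- Upper semicontinuity of the number of geometric components. -/
theorem isClosed_le [JacobsonSpace Y] [CompactSpace Y]
    (hred : ∀ y : Y, IsClosed ({y} : Set Y) → GeometricallyReduced (f.fiberToSpecResidueField y)) (n : ℕ) :
    IsClosed {y : Y | (n : ℕ∞) ≤ MoreMor.nGeomIrredComp f y} := by
  haveI : IsNoetherian Y := { }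
  haveI : LocallyOfFinitePresentation f := inferInstance
  have hcons : IsConstructible {y : Y | (n : ℕ∞) ≤ MoreMor.nGeomIrredComp f y} := by
    have : {y : Y | (n : ℕ∞) ≤ MoreMor.nGeomIrredComp f y} =
        (⋃ m ∈ Finset.range n, {y : Y | MoreMor.nGeomIrredComp f y = (m : ℕ∞)})ᶜ := by
      ext y
      simp only [Set.mem_ofPred_eq, Set.mem_compl_iff, Set.mem_iUnion, Finset.mem_range, exists_prop, not_exists,
        not_and]
      generalize MoreMor.nGeomIrredComp f y = a
      induction a using ENat.recTopCoe with
      | top => simp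
      | coe a =>
        simp only [Nat.cast_le, Nat.cast_inj]
        exact ⟨fun h m hm e => absurd (e ▸ h) (by omega), fun h => le_of_not_gt fun hlt => h a hlt rfl⟩
    rw [this]
    exact (IsConstructible.biUnion (t := ((Finset.range n : Finset ℕ) : Set ℕ)) (Finset.finite_toSet _) fun (m : ℕ) _ =>
      (S1338.result f (m : ℕ∞)).isConstructible).compl
  refine ConstrTop58.isClosed_of_stableUnderSpecialization hcons fun y y' hyy' hy => ?_
  obtain ⟨W, hWsub, hy'W, hWopen, hWconst⟩ := S1336.result f y'
  have hlc : IsLocallyClosed W := by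
    obtain ⟨O, hO, hOW⟩ := isOpen_induced_iff.1 hWopen
    refine ⟨O, closure {y'}, hO, isClosed_closure, ?_⟩
    ext w
    constructor
    · intro hw
      exact ⟨(Set.ext_iff.1 hOW ⟨w, hWsub hw⟩).2 hw, hWsub hw⟩
    · rintro ⟨hwO, hw⟩
      exact (Set.ext_iff.1 hOW ⟨w, hw⟩).1 hwO
  obtain ⟨y₀, hy₀W, hy₀⟩ := nonempty_inter_closedPoints ⟨y', hy'W⟩ hlc
  show (n : ℕ∞) ≤ _
  rw [← hWconst y₀ hy₀W]
  exact le_trans hy (nGeomIrredComp_le_of_specializes f
    (hyy'.trans (specializes_iff_mem_closure.2 (hWsub hy₀W))) (hred y₀ hy₀))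

/-- The counting function of the statement is upper semicontinuous. -/
theorem upperSemicontinuous [JacobsonSpace Y] [CompactSpace Y]
    (hred : ∀ y : Y, IsClosed ({y} : Set Y) → GeometricallyReduced (f.fiberToSpecResidueField y)) :
    UpperSemicontinuous (fun y : Y =>
      Nat.card ↥(irreducibleComponents (↥(pullback f
        (Spec.map (CommRingCat.ofHom (algebraMap (Y.residueField y) (AlgebraicClosure (Y.residueField y)))) ≫
          Y.fromSpecResidueField y)) : Type u))) := by
  refine upperSemicontinuous_iff_isClosed_preimage.2 fun n => ?_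
  convert isClosed_le f hred n using 1
  ext y
  simp only [Set.mem_preimage, Set.mem_Ici, Set.mem_ofPred_eq, natCard_components_eq]
  have hfin : MoreMor.nGeomIrredComp f y ≠ ⊤ := by
    rw [← encard_components_eq_nGeom f
      (Spec.map (CommRingCat.ofHom (algebraMap (Y.residueField y) (AlgebraicClosure (Y.residueField y)))) ≫
        Y.fromSpecResidueField y) (y := y) (IsLocalRing.closedPoint (AlgebraicClosure (Y.residueField y)))
      (by rw [Scheme.Hom.comp_apply, Scheme.fromSpecResidueField_apply])]
    exact (finite_components_pullback f _).encard_lt_top.ne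
  conv_rhs => rw [← ENat.natCast_toNat hfin, Nat.cast_le]

end Groth.Agent.FlatMor68.GeomCompSemicont
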