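import Groth.Agent.FlatCrit65.Blow.GluePair
import Groth.Agent.Div89.BlowUp
import Mathlib

/-!
Gluing finitely many separated schemes containing a common dense open after admissible blow-ups.
-/

set_option autoImplicit false
set_option linter.style.haveILetI false
set_option backward.isDefEq.respectTransparency.types false

universe u

open CategoryTheory CategoryTheory.Limits AlgebraicGeometry TopologicalSpace

noncomputable section

namespace Groth.Agent.FlatMor68.GlueMany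

open Groth.Agent.FlatCrit65.Blow

/-- The lift of an open immersion avoiding the centre to the blow-up is an open immersion. -/
theorem isOpenImmersion_lift {T X' X : Scheme.{u}} {b : X' ⟶ X} {𝓘 : X.IdealSheafData} (hb : BlowUp.IsBlowUp b 𝓘)
    (j : T ⟶ X) [IsOpenImmersion j] (hj : ∀ t : T, j t ∉ 𝓘.support) (u : T ⟶ X') (hu : u ≫ b = j) :
    IsOpenImmersion u := by
  haveI := Div89.isIso_off_center hb
  let O : X.Opens := 𝓘.support.compl
  have hr : Set.range j ⊆ Set.range O.ι := by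
    rintro _ ⟨t, rfl⟩
    rw [Scheme.Opens.range_ι]
    exact hj t
  let l : T ⟶ O.toScheme := IsOpenImmersion.lift O.ι j hr
  have hl : l ≫ O.ι = j := IsOpenImmersion.lift_fac _ _ _
  haveI : IsOpenImmersion l := by
    haveI : IsOpenImmersion (l ≫ O.ι) := hl.symm ▸ inferInstance
    exact IsOpenImmersion.of_comp l O.ι
  rw [lift_unique hb j hj u (l ≫ inv (b ∣_ O) ≫ (b ⁻¹ᵁ O).ι) hu ?_]
  · infer_instance
  · rw [Category.assoc, Category.assoc, ← morphismRestrict_ι b O, IsIso.inv_hom_id_assoc, hl]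

/-- A point over an open avoiding the centre comes from a given lift of that open. -/
theorem exists_eq_lift {T X' X : Scheme.{u}} {b : X' ⟶ X} {𝓘 : X.IdealSheafData} (hb : BlowUp.IsBlowUp b 𝓘)
    {j : T ⟶ X} (hj : ∀ t : T, j t ∉ 𝓘.support) {u : T ⟶ X'} (hu : u ≫ b = j) {x : X'} {t : T} (h : b x = j t) :
    u t = x := by
  haveI := Div89.isIso_off_center hb
  let O : X.Opens := 𝓘.support.compl
  have hx : x ∈ b ⁻¹ᵁ O := by
    show b x ∈ O
    rw [h]; exact hj t
  have hb' : b (u t) = j t := by rw [← Scheme.Hom.comp_apply, hu]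
  have hut : u t ∈ b ⁻¹ᵁ O := by
    show b (u t) ∈ O
    rw [hb']; exact hj t
  have hinj : Function.Injective (b ∣_ O) := (b ∣_ O).homeomorph.injective
  refine congrArg Subtype.val (hinj (a₁ := ⟨u t, hut⟩) (a₂ := ⟨x, hx⟩) (Subtype.ext ?_))
  have e : ∀ z, O.ι ((b ∣_ O) z) = b ((b ⁻¹ᵁ O).ι z) := fun z => by
    rw [← Scheme.Hom.comp_apply, morphismRestrict_ι, Scheme.Hom.comp_apply]
  show O.ι ((b ∣_ O) _) = O.ι ((b ∣_ O) _)
  rw [e, e]
  exact hb'.trans h.symm

/-- Gluing, with the common open kept as an open of the glued scheme. -/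
theorem exists_glue {S U : Scheme.{u}} [CompactSpace S] [QuasiSeparatedSpace S]
    (gU : U ⟶ S) [IsSeparated gU] [QuasiCompact gU] [LocallyOfFiniteType gU] :
    ∀ (n : ℕ) (X : Fin n → Scheme.{u}) (g : ∀ i, X i ⟶ S)
    [∀ i, IsSeparated (g i)] [∀ i, QuasiCompact (g i)] [∀ i, LocallyOfFiniteType (g i)]
    (j : ∀ i, U ⟶ X i) [∀ i, IsOpenImmersion (j i)] (_ : ∀ i, j i ≫ g i = gU),
    ∃ (Xc : Scheme.{u}) (q : Xc ⟶ S) (_ : IsSeparated q) (_ : LocallyOfFiniteType q) (_ : QuasiCompact q)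
      (uc : U ⟶ Xc) (_ : IsOpenImmersion uc) (_ : uc ≫ q = gU),
      ∀ i, ∃ (𝓘 : (X i).IdealSheafData) (X' : Scheme.{u}) (b : X' ⟶ X i) (o : X' ⟶ Xc) (u : U ⟶ X'),
        BlowUp.IsBlowUp b 𝓘 ∧ BlowUp.IsAdmissibleFor (j i).opensRange 𝓘 ∧
        IsOpenImmersion o ∧ o ≫ q = b ≫ g i ∧ u ≫ b = j i ∧ u ≫ o = uc := by
  intro n
  induction n with
  | zero =>
    intro X g _ _ _ j _ _
    exact ⟨U, gU, inferInstance, inferInstance, inferInstance, 𝟙 U, inferInstance, Category.id_comp _,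
      fun i => i.elim0⟩
  | succ n ih =>
    intro X g _ _ _ j _ hj
    obtain ⟨Xc, q, hs, hl, hq, uc, huc, hucq, hI⟩ :=
      ih (fun i => X i.castSucc) (fun i => g i.castSucc) (fun i => j i.castSucc) fun i => hj _
    haveI := hs; haveI := hl; haveI := hq; haveI := huc
    obtain ⟨Xn, qn, hsn, hln, hqn, 𝓘₁, 𝓘₂, X₁', X₂', b₁, b₂, o₁, o₂, u₁, u₂, hb₁, ha₁, hb₂, ha₂, ho₁, ho₂,
      hc₁, hc₂, hu₁, hu₂, hu⟩ := exists_glue_pair gU q (g (Fin.last n)) uc (j (Fin.last n)) hucq (hj _)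
    haveI := ho₁; haveI := ho₂
    have hoff : ∀ y : U, uc y ∉ 𝓘₁.support := fun y hy => Set.disjoint_left.1 ha₁.2 hy ⟨y, rfl⟩
    haveI : IsOpenImmersion u₁ := isOpenImmersion_lift hb₁ uc hoff u₁ hu₁
    refine ⟨Xn, qn, hsn, hln, hqn, u₁ ≫ o₁, inferInstance, by rw [Category.assoc, hc₁, ← Category.assoc, hu₁, hucq],
      fun i => ?_⟩
    induction i using Fin.lastCases with
    | last => exact ⟨𝓘₂, X₂', b₂, o₂, u₂, hb₂, ha₂, ho₂, hc₂, hu₂, hu.symm⟩
    | cast i =>
      obtain ⟨𝓘, X', b, o, u, hb, ha, ho, hc, hub, huo⟩ := hI i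
      haveI := ho
      let p := pullback.fst o b₁
      have hp : BlowUp.IsBlowUp p (𝓘₁.comap o) := Div89.isBlowUp_flat_baseChange o hb₁
      have hJ : BlowUp.IsAdmissibleFor (b ⁻¹ᵁ (j i.castSucc).opensRange) (𝓘₁.comap o) := by
        refine ⟨Div89.isFiniteTypeIdeal_comap o ha₁.1, ?_⟩
        rw [Scheme.IdealSheafData.support_comap, Set.disjoint_left]
        rintro x hx ⟨y, hy⟩
        have hy' : u y = x := exists_eq_lift hb (fun t ht => Set.disjoint_left.1 ha.2 ht ⟨t, rfl⟩) hub hy.symm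
        refine hoff y ?_
        rw [← huo, Scheme.Hom.comp_apply, hy']
        exact hx
      haveI : CompactSpace (X i.castSucc) := QuasiCompact.compactSpace_of_compactSpace (g i.castSucc)
      haveI : QuasiSeparatedSpace (X i.castSucc) :=
        AlgebraicGeometry.quasiSeparatedSpace_of_quasiSeparated (g i.castSucc)
      obtain ⟨K, hK, hKa⟩ := exists_admissible_comp ha hb (𝓘₁.comap o) hJ hp
      haveI : IsOpenImmersion (pullback.snd o b₁) := inferInstance
      refine ⟨K, pullback o b₁, p ≫ b, pullback.snd o b₁ ≫ o₁, pullback.lift u u₁ (huo.trans hu₁.symm), hK, hKa,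
        inferInstance, ?_, ?_, ?_⟩
      · rw [Category.assoc, hc₁, ← Category.assoc, ← pullback.condition, Category.assoc, hc, ← Category.assoc]
      · rw [← Category.assoc, pullback.lift_fst, hub]
      · rw [← Category.assoc, pullback.lift_snd]

theorem main {S U : Scheme.{u}} [CompactSpace S] [QuasiSeparatedSpace S] {n : ℕ}
    (gU : U ⟶ S) [IsSeparated gU] [QuasiCompact gU] [LocallyOfFiniteType gU]
    (X : Fin n → Scheme.{u}) (g : ∀ i, X i ⟶ S)
    [∀ i, IsSeparated (g i)] [∀ i, QuasiCompact (g i)] [∀ i, LocallyOfFiniteType (g i)]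
    (j : ∀ i, U ⟶ X i) [∀ i, IsOpenImmersion (j i)] (hj : ∀ i, j i ≫ g i = gU) :
    ∃ (Xc : Scheme.{u}) (q : Xc ⟶ S) (_ : IsSeparated q) (_ : QuasiCompact q) (_ : LocallyOfFiniteType q)
      (𝓘 : ∀ i, (X i).IdealSheafData) (X' : Fin n → Scheme.{u}) (b : ∀ i, X' i ⟶ X i)
      (o : ∀ i, X' i ⟶ Xc) (u : ∀ i, U ⟶ X' i),
      (∀ i, BlowUp.IsBlowUp (b i) (𝓘 i) ∧ BlowUp.IsAdmissibleFor (j i).opensRange (𝓘 i) ∧
        IsOpenImmersion (o i) ∧ o i ≫ q = b i ≫ g i ∧ u i ≫ b i = j i) ∧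
      (⋃ i, Set.range (fun x => o i x)) = Set.univ ∧ (∀ i i', u i ≫ o i = u i' ≫ o i') := by
  obtain ⟨Xc, q, hs, hl, hq, uc, -, -, hI⟩ := exists_glue gU n X g j hj
  haveI := hs; haveI := hl; haveI := hq
  choose 𝓘 X' b o u hb ha ho hc hub huo using hI
  haveI := ho
  let O : Xc.Opens := ⨆ i, (o i).opensRange
  have hX' : ∀ i, CompactSpace (X' i) := fun i => by
    haveI : CompactSpace (X i) := QuasiCompact.compactSpace_of_compactSpace (g i)
    haveI := RegImm10.BlowModel.isProper_of_isBlowUp (ha i).1 (hb i)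
    exact QuasiCompact.compactSpace_of_compactSpace (b i)
  haveI : CompactSpace O.toScheme := isCompact_iff_compactSpace.1 (by
    rw [TopologicalSpace.Opens.coe_iSup]
    exact isCompact_iUnion fun i => by
      haveI := hX' i
      exact isCompact_range (o i).continuous)
  have hr : ∀ i, Set.range (o i) ⊆ Set.range O.ι := fun i => by
    rw [Scheme.Opens.range_ι, TopologicalSpace.Opens.coe_iSup]
    exact Set.subset_iUnion (fun i => ((o i).opensRange : Set Xc)) i
  let o' : ∀ i, X' i ⟶ O.toScheme := fun i => IsOpenImmersion.lift O.ι (o i) (hr i)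
  have ho' : ∀ i, o' i ≫ O.ι = o i := fun i => IsOpenImmersion.lift_fac _ _ _
  haveI : QuasiCompact (O.ι ≫ q) := quasiCompact_of_compactSpace _
  refine ⟨O.toScheme, O.ι ≫ q, inferInstance, inferInstance, inferInstance, 𝓘, X', b, o', u,
    fun i => ⟨hb i, ha i, ?_, by rw [← Category.assoc, ho', hc], hub i⟩, ?_, fun i i' => ?_⟩
  · haveI : IsOpenImmersion (o' i ≫ O.ι) := (ho' i).symm ▸ inferInstance
    exact IsOpenImmersion.of_comp (o' i) O.ι
  · refine Set.eq_univ_of_forall fun z => ?_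
    obtain ⟨i, x, hx⟩ := TopologicalSpace.Opens.mem_iSup.1 (show z.1 ∈ ⨆ i, (o i).opensRange from z.2)
    refine Set.mem_iUnion.2 ⟨i, x, O.ι.isOpenEmbedding.injective ?_⟩
    rw [← Scheme.Hom.comp_apply, ho']
    exact hx
  · rw [← cancel_mono O.ι, Category.assoc, Category.assoc, ho', ho', huo, huo]

end Groth.Agent.FlatMor68.GlueMany
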