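import Groth.Prelude.Def_Hens2
import Groth.Agent.Grpd80.EtaleFinitePart

/-!
Splitting off the isolated points of a fibre in an elementary étale neighbourhood.
-/

set_option autoImplicit false
set_option linter.style.haveILetI false
set_option backward.isDefEq.respectTransparency.types false

universe u

open CategoryTheory CategoryTheory.Limits AlgebraicGeometry

namespace Groth.Agent.FlatMor68.IsolatedSplit

/-- The fibre of a base change at a point with trivial residue extension. -/
theorem exists_fiber_iso {X S U : Scheme.{u}} (f : X ⟶ S) (g : U ⟶ S) (u : U) {s : S} (hgu : g u = s)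
    (hi : IsIso (g.residueFieldMap u)) :
    ∃ e : (pullback.snd f g).fiber u ≅ f.fiber s,
      e.hom ≫ f.fiberι s = (pullback.snd f g).fiberι u ≫ pullback.fst f g := by
  subst hgu
  have hbig : IsPullback ((pullback.snd f g).fiberι u ≫ pullback.fst f g)
      ((pullback.snd f g).fiberToSpecResidueField u) f (U.fromSpecResidueField u ≫ g) :=
    (IsPullback.of_hasPullback (pullback.snd f g) (U.fromSpecResidueField u)).flip.paste_vert
      (IsPullback.of_hasPullback f g).flip |>.flip
  have hsm : IsPullback (f.fiberι (g u)) (f.fiberToSpecResidueField (g u) ≫ inv (Spec.map (g.residueFieldMap u)))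
      f (U.fromSpecResidueField u ≫ g) := by
    refine IsPullback.of_iso (IsPullback.of_hasPullback f (S.fromSpecResidueField (g u)))
      (Iso.refl _) (Iso.refl _) (asIso (Spec.map (g.residueFieldMap u))).symm (Iso.refl _) ?_ ?_ ?_ ?_
    · simp [Scheme.Hom.fiberι]; exact (Category.id_comp _).symm
    · simp [Scheme.Hom.fiberToSpecResidueField]; exact (Category.id_comp _).symm
    · simp
    · simp
  exact ⟨hbig.isoIsPullback _ _ hsm, hbig.isoIsPullback_hom_fst _ _ hsm⟩

theorem exists_split {X S : Scheme.{u}} (f : X ⟶ S) [LocallyOfFiniteType f] [IsSeparated f] (s : S)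
    (hfin : {x : ↑(f.fiber s) | IsOpen ({x} : Set ↑(f.fiber s))}.Finite) :
    ∃ (U : Scheme.{u}) (g : U ⟶ S) (u : U), Hens2.IsEtaleNbhd g u s ∧
      ∃ V : (pullback f g).Opens, IsClopen (V : Set ↑(pullback f g)) ∧ IsFinite (V.ι ≫ pullback.snd f g) ∧
        ∀ w : ↑((pullback.snd f g).fiber u), (pullback.snd f g).fiberι u w ∉ V →
          ¬ IsOpen ({w} : Set ↑((pullback.snd f g).fiber u)) := by
  let F : Set X := f.fiberι s '' {x : ↑(f.fiber s) | IsOpen ({x} : Set ↑(f.fiber s))}
  have hFp : ∀ x ∈ F, f x = s := by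
    rintro _ ⟨w, -, rfl⟩
    have : f.fiberι s w ∈ Set.range (f.fiberι s) := ⟨w, rfl⟩
    rwa [f.range_fiberι] at this
  obtain ⟨U, g, u, V, hg, hgu, hgi, hV⟩ := Grpd80.exists_finitePart f s F (hfin.image _) hFp (by
    rintro _ ⟨w, hw, rfl⟩
    obtain ⟨O, hO, hOw⟩ := (f.fiberι s).isEmbedding.isInducing.isOpen_iff.1 hw
    refine ⟨⟨O, hO⟩, show w ∈ f.fiberι s ⁻¹' O by rw [hOw]; rfl, fun z hz hzs => ?_⟩
    obtain ⟨v, rfl⟩ : z ∈ Set.range (f.fiberι s) := by rw [f.range_fiberι]; exact hzs
    have hv : v ∈ f.fiberι s ⁻¹' O := hz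
    rw [hOw] at hv
    rw [Set.mem_singleton_iff.1 hv])
  refine ⟨U, g, u, ⟨hg, hgu, ConcreteCategory.bijective_of_isIso _⟩, V, ⟨hV.closed, V.2⟩, hV.finite,
    fun w hw hopen => hw ?_⟩
  have hsnd : pullback.snd f g ((pullback.snd f g).fiberι u w) = u := by
    have : (pullback.snd f g).fiberι u w ∈ Set.range ((pullback.snd f g).fiberι u) := ⟨w, rfl⟩
    rwa [(pullback.snd f g).range_fiberι] at this
  obtain ⟨e, he⟩ := exists_fiber_iso f g u hgu hgi
  refine (hV.fibre _ hsnd).2 ⟨e.hom w, ?_, ?_⟩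
  · show IsOpen _
    convert e.hom.homeomorph.isOpenMap _ hopen
    rw [Set.image_singleton]; rfl
  · rw [← Scheme.Hom.comp_apply, he, Scheme.Hom.comp_apply]

end Groth.Agent.FlatMor68.IsolatedSplit
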