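import Groth.Agent.FlatMor67.KoszulAppend
import Groth.Agent.LCI19.Descent
import Groth.Agent.Koszul19.Conormal
import Mathlib

set_option backward.isDefEq.respectTransparency.types false
set_option linter.style.haveILetI false
set_option autoImplicit false
universe u

open IsLocalRing

namespace Groth.Agent.FlatMor68.KoszulCancel

open Koszul19 LCI19 FlatMor67

/-- A reduction also transports exactness downwards. -/
theorem reduction_ex {A B : Type u} [CommRing A] [CommRing B] [Algebra A B]
    {K : CochainComplex (ModuleCat.{u} A) ℤ} {L : CochainComplex (ModuleCat.{u} B) ℤ}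
    (r : Reduction K L) {q : ℤ} (h : Ex K q) : Ex L q := by
  intro p j hp hj z' hz'
  obtain ⟨z, rfl⟩ := r.surj q z'
  obtain ⟨w, hw0, hw⟩ := r.ker q j (j + 1) hj rfl (dd K q j z) (by rw [r.comm q j hj, hz']) (dd_dd K _ _ _ z)
  obtain ⟨v, hv⟩ := h p j hp hj (z - w) (by rw [map_sub, hw, sub_self])
  exact ⟨r.φ p v, by rw [← r.comm p q hp, hv, map_sub, hw0, sub_zero]⟩

theorem kR_map_of_append {A B : Type u} [CommRing A] [CommRing B] [Algebra A B]
    (hs : Function.Surjective (algebraMap A B)) {f g : List A}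
    (hker : RingHom.ker (algebraMap A B) = Ideal.ofList f) (hf : KR f) (h : KR (g ++ f)) :
    KR (g.map (algebraMap A B)) :=
  fun q hq => reduction_ex (reduction f hs hker hf g) (h q hq)

variable {L : Type u} [CommRing L] [IsLocalRing L]

theorem kr_indep {pre post : List L} {g : L} (h : KR (pre ++ g :: post))
    (hm : ∀ x ∈ pre ++ g :: post, x ∈ maximalIdeal L) :
    g ∉ maximalIdeal L * Ideal.ofList (pre ++ g :: post) ⊔ Ideal.ofList post := by
  intro hg
  have h' : KR (g :: (pre ++ post)) := h.perm List.perm_middle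
  have hall : Ideal.ofList (pre ++ g :: post) = Ideal.span {g} ⊔ Ideal.ofList (pre ++ post) := by
    simp only [Ideal.ofList_append, Ideal.ofList_cons]; ac_rfl
  have hle : maximalIdeal L * Ideal.ofList (pre ++ g :: post) ⊔ Ideal.ofList post ≤
      maximalIdeal L * Ideal.span {g} ⊔ Ideal.ofList (pre ++ post) := by
    rw [hall, Ideal.mul_sup]
    have a1 : maximalIdeal L * Ideal.ofList (pre ++ post) ≤ Ideal.ofList (pre ++ post) := Ideal.mul_le_right
    have a2 : Ideal.ofList post ≤ Ideal.ofList (pre ++ post) := Ideal.span_mono fun x hx => List.mem_append_right pre hx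
    exact sup_le (sup_le_sup_left a1 _) (a2.trans le_sup_right)
  obtain ⟨y, hy, z, hz, hyz⟩ := Submodule.mem_sup.1 (hle hg)
  obtain ⟨m, hm', rfl⟩ := Ideal.mem_mul_span_singleton.1 hy
  have h1 : g * (1 - m) ∈ Ideal.ofList (pre ++ post) := by
    rw [show g * (1 - m) = z by linear_combination (-1 : L) * hyz]; exact hz
  have h2 := coeff_mem_of_kR h' h1
  have h3 : Ideal.ofList (pre ++ post) ≤ maximalIdeal L :=
    Ideal.span_le.2 fun x hx => hm x (by
      rcases List.mem_append.1 hx with h | h <;> simp [h])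
  exact (maximalIdeal L).ne_top_iff_one.1 (maximalIdeal.isMaximal L).ne_top
    (by simpa using Ideal.add_mem _ (h3 h2) hm')

variable {α : Type u} (φ : α → L)

theorem exch (K : Ideal L) (g : L) (P0 : Ideal L) (hP0 : maximalIdeal L * K ≤ P0) (hg : g ∉ P0) :
    ∀ rest : List α, (∀ x ∈ rest, φ x ∈ K) → g ∈ P0 ⊔ Ideal.ofList (rest.map φ) →
    ∃ rest' : List α, rest' ⊆ rest ∧ rest'.length + 1 = rest.length ∧
      Ideal.ofList (rest.map φ) ≤ P0 ⊔ Ideal.span {g} ⊔ Ideal.ofList (rest'.map φ) := by
  intro rest
  induction rest with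
  | nil => intro _ h; exact absurd (by simpa using h) hg
  | cons x t ih =>
    intro hK h
    rw [List.map_cons, Ideal.ofList_cons] at h
    obtain ⟨p, hp, s, hs, rfl⟩ := Submodule.mem_sup.1 h
    obtain ⟨y, hy, w, hw, rfl⟩ := Submodule.mem_sup.1 hs
    obtain ⟨a, rfl⟩ := Ideal.mem_span_singleton'.1 hy
    by_cases ha : IsUnit a
    · refine ⟨t, List.subset_cons_self x t, rfl, ?_⟩
      rw [List.map_cons, Ideal.ofList_cons]
      refine sup_le ((Ideal.span_singleton_le_iff_mem _).2 ?_) le_sup_right
      refine (Ideal.unit_mul_mem_iff_mem _ ha).1 ?_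
      have h2 : p + (a * φ x + w) - p - w ∈ P0 ⊔ Ideal.span {p + (a * φ x + w)} ⊔ Ideal.ofList (t.map φ) :=
        sub_mem (sub_mem (le_sup_left (a := P0 ⊔ _) (le_sup_right (a := P0) (Ideal.mem_span_singleton_self _)))
          (le_sup_left (a := P0 ⊔ _) (le_sup_left (a := P0) hp))) (le_sup_right (a := P0 ⊔ _) hw)
      convert h2 using 1
      ring
    · have hax : a * φ x ∈ P0 := hP0 (Ideal.mul_mem_mul ((mem_maximalIdeal _).2 ha) (hK x List.mem_cons_self))
      obtain ⟨t', ht', hlen, hle⟩ := ih (fun z hz => hK z (List.mem_cons_of_mem _ hz))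
        (Submodule.mem_sup.2 ⟨p + a * φ x, add_mem hp hax, w, hw, by ring⟩)
      refine ⟨x :: t', List.cons_subset_cons x ht', by simp [hlen], ?_⟩
      rw [List.map_cons, Ideal.ofList_cons, List.map_cons, Ideal.ofList_cons]
      exact sup_le (le_sup_of_le_right le_sup_left) (hle.trans (sup_le_sup_left le_sup_right _))

theorem exists_complete (K : Ideal L) (l : List α) (hlK : ∀ x ∈ l, φ x ∈ K)
    (hl : K ≤ Ideal.ofList (l.map φ)) : ∀ G : List L, (∀ x ∈ G, x ∈ K) →
    (∀ pre g post, G = pre ++ g :: post → g ∉ maximalIdeal L * K ⊔ Ideal.ofList post) →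
    ∃ l' : List α, l' ⊆ l ∧ l'.length + G.length ≤ l.length ∧
      K ≤ maximalIdeal L * K ⊔ Ideal.ofList G ⊔ Ideal.ofList (l'.map φ) := by
  intro G
  induction G with
  | nil => exact fun _ _ => ⟨l, List.Subset.refl l, by simp, hl.trans le_sup_right⟩
  | cons g G ih =>
    intro hGK hind
    obtain ⟨l₁, hsub, hlen, hle⟩ := ih (fun x hx => hGK x (List.mem_cons_of_mem _ hx))
      fun pre g' post h => hind (g :: pre) g' post (by simp [h])
    obtain ⟨l₂, hsub', hlen', hle'⟩ := exch φ K g (maximalIdeal L * K ⊔ Ideal.ofList G) le_sup_left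
      (hind [] g G rfl) l₁ (fun x hx => hlK x (hsub hx)) (hle (hGK g List.mem_cons_self))
    refine ⟨l₂, fun x hx => hsub (hsub' hx), by simp; omega, hle.trans (sup_le ?_ (hle'.trans ?_))⟩
    · rw [Ideal.ofList_cons]
      exact sup_le (le_sup_of_le_left le_sup_left) (le_sup_of_le_left (le_sup_of_le_right le_sup_right))
    · rw [Ideal.ofList_cons]
      refine sup_le (sup_le (sup_le ?_ ?_) ?_) le_sup_right
      · exact le_sup_of_le_left le_sup_left
      · exact le_sup_of_le_left (le_sup_of_le_right le_sup_right)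
      · exact le_sup_of_le_left (le_sup_of_le_right le_sup_left)

/-- Cancel a Koszul-regular sequence `G` from a Koszul-regular ideal in which it is part of a minimal system
of generators, as witnessed by a quotient where it is Koszul-regular and generates everything. -/
theorem isKoszulRegularIdeal_map_of_cancel {R S R' : Type u} [CommRing R] [CommRing S] [CommRing R']
    [Algebra R S] (hs : Function.Surjective (algebraMap R S)) (G : List R)
    (hker : RingHom.ker (algebraMap R S) = Ideal.ofList G) (hG : KR G)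
    (φ : R →+* R') (hφ : Function.Surjective φ) (hG' : KR (G.map φ))
    (hK : LCI.IsKoszulRegularIdeal ((Ideal.ofList (G.map φ)).comap φ)) :
    LCI.IsKoszulRegularIdeal (((Ideal.ofList (G.map φ)).comap φ).map (algebraMap R S)) := by
  classical
  set K : Ideal R := (Ideal.ofList (G.map φ)).comap φ with hKdef
  have hGK : ∀ x ∈ G, x ∈ K := fun x hx => Ideal.subset_span (List.mem_map_of_mem hx)
  have hfg : K.FG := fg_of_isKoszulRegularIdeal hK
  rw [isKoszulRegularIdeal_iff] at hK ⊢
  intro q hq
  let p : PrimeSpectrum R := PrimeSpectrum.comap (algebraMap R S) q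
  have hKp : K ≤ p.asIdeal := Ideal.map_le_iff_le_comap.1 hq
  obtain ⟨s, hsp, hgen⟩ := hK p hKp
  obtain ⟨l, hlK, hlkr, hlI⟩ := hgen
  have hkφ : RingHom.ker φ ≤ p.asIdeal := fun x hx => hKp (by
    show φ x ∈ Ideal.ofList (G.map φ)
    rw [RingHom.mem_ker.1 hx]; exact zero_mem _)
  let p' : Ideal R' := p.asIdeal.map φ
  haveI : p'.IsPrime := Ideal.map_isPrime_of_surjective hφ hkφ
  have hp' : p'.comap φ = p.asIdeal := by
    rw [Ideal.comap_map_of_surjective _ hφ, ← RingHom.ker_eq_comap_bot, sup_eq_left.2 hkφ]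
  let L := Localization.AtPrime p.asIdeal
  let L' := Localization.AtPrime p'
  let ψ : L →+* L' := Localization.localRingHom p.asIdeal p' φ hp'.symm
  have hψ : ∀ x, ψ (algebraMap R L x) = algebraMap R' L' (φ x) :=
    fun x => Localization.localRingHom_to_map _ _ _ _ x
  haveI : IsLocalHom ψ := Localization.isLocalHom_localRingHom _ _ _ _
  have hsu : IsUnit (algebraMap R L s) := IsLocalization.map_units L (⟨s, hsp⟩ : p.asIdeal.primeCompl)
  let KL : Ideal L := K.map (algebraMap R L)
  have hKL : KL ≤ Ideal.ofList (l.map (algebraMap R L)) := by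
    let := (IsLocalization.Away.lift (S := Localization.Away s) s hsu).toAlgebra
    haveI : IsScalarTower R (Localization.Away s) L :=
      IsScalarTower.of_algebraMap_eq fun a => (IsLocalization.Away.lift_eq s hsu a).symm
    show K.map (algebraMap R L) ≤ _
    rw [IsScalarTower.algebraMap_eq R (Localization.Away s) L, ← Ideal.map_map, hlI, map_ofList,
      List.map_map, RingHom.coe_comp]
  have hψK : KL.map ψ ≤ Ideal.ofList ((G.map φ).map (algebraMap R' L')) := by
    rw [Ideal.map_map, show ψ.comp (algebraMap R L) = (algebraMap R' L').comp φ from RingHom.ext hψ,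
      ← Ideal.map_map, ← map_ofList]
    exact Ideal.map_mono Ideal.map_comap_le
  have hmem : ∀ x ∈ G.map (algebraMap R L), x ∈ KL := by
    intro x hx
    obtain ⟨a, ha, rfl⟩ := List.mem_map.1 hx
    exact Ideal.mem_map_of_mem _ (hGK a ha)
  have hind : ∀ pre g post, G.map (algebraMap R L) = pre ++ g :: post →
      g ∉ maximalIdeal L * KL ⊔ Ideal.ofList post := by
    intro pre g post heq hg
    have heq' : (G.map φ).map (algebraMap R' L') = pre.map ψ ++ ψ g :: post.map ψ := by
      rw [← List.map_cons, ← List.map_append, ← heq, List.map_map, List.map_map]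
      exact List.map_congr_left fun x _ => (hψ x).symm
    have hkr : KR (pre.map ψ ++ ψ g :: post.map ψ) := heq' ▸ hG'.map
    refine kr_indep hkr (fun x hx => ?_) ?_
    · rw [← heq'] at hx
      obtain ⟨a, ha, rfl⟩ := List.mem_map.1 hx
      obtain ⟨b, hb, rfl⟩ := List.mem_map.1 ha
      exact (IsLocalization.AtPrime.to_map_mem_maximal_iff L' p' _).2 (Ideal.mem_map_of_mem φ (hKp (hGK b hb)))
    · rw [← heq']
      refine (?_ : (maximalIdeal L * KL ⊔ Ideal.ofList post).map ψ ≤ _) (Ideal.mem_map_of_mem ψ hg)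
      rw [Ideal.map_sup, Ideal.map_mul, map_ofList]
      exact sup_le_sup_right (Ideal.mul_mono (Ideal.map_le_iff_le_comap.2 fun x hx => by
        rw [mem_maximalIdeal] at hx; exact (mem_maximalIdeal _).2 (map_nonunit ψ x hx)) hψK) _
  obtain ⟨l', hsub, hlen, hle⟩ := exists_complete (algebraMap R L) KL l
    (fun x hx => Ideal.mem_map_of_mem _ (hlK x hx)) hKL (G.map (algebraMap R L)) hmem hind
  rw [List.length_map] at hlen
  let J : Ideal R := Ideal.ofList (l' ++ G)
  have hJK : J ≤ K := Ideal.span_le.2 fun x hx => by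
    rcases List.mem_append.1 hx with h | h
    · exact hlK x (hsub h)
    · exact hGK x h
  have hKJ : KL ≤ J.map (algebraMap R L) := by
    refine Submodule.le_of_le_smul_of_le_jacobson_bot (hfg.map _) (IsLocalRing.maximalIdeal_le_jacobson ⊥) ?_
    rw [smul_eq_mul]
    refine hle.trans (sup_le (sup_le le_sup_right ?_) ?_) <;>
      (rw [map_ofList, List.map_append, Ideal.ofList_append])
    · exact le_sup_of_le_left le_sup_right
    · exact le_sup_of_le_left le_sup_left
  obtain ⟨t, htp, ht⟩ : ∃ t, t ∉ p.asIdeal ∧ ∀ k ∈ K, t * k ∈ J := by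
    obtain ⟨T, hT⟩ := hfg
    have h1 : ∀ k ∈ T, ∃ m ∈ p.asIdeal.primeCompl, m * k ∈ J := fun k hk =>
      (IsLocalization.algebraMap_mem_map_algebraMap_iff p.asIdeal.primeCompl L J k).1
        (hKJ (Ideal.mem_map_of_mem _ (hT ▸ Ideal.subset_span hk)))
    choose m hm hmk using h1
    let t : R := ∏ k ∈ T.attach, m k.1 k.2
    refine ⟨t, (prod_mem fun k _ => hm k.1 k.2 : t ∈ p.asIdeal.primeCompl), fun k hk => ?_⟩
    suffices K ≤ Submodule.comap (LinearMap.mulLeft R t) J from this hk
    rw [← hT]
    refine Submodule.span_le.2 fun x hx => ?_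
    obtain ⟨c, hc⟩ := Finset.dvd_prod_of_mem (fun k : T => m k.1 k.2) (Finset.mem_attach T ⟨x, hx⟩)
    show t * x ∈ J
    rw [show t * x = c * (m x hx * x) by rw [show t = m x hx * c from hc]; ring]
    exact Ideal.mul_mem_left _ _ (hmk x hx)
  let d := s * t
  have hd : d ∉ p.asIdeal := fun h => (p.2.mem_or_mem h).elim hsp htp
  let C := Localization.Away d
  have hdu : IsUnit (algebraMap R C d) := IsLocalization.Away.algebraMap_isUnit d
  replace hdu : IsUnit (algebraMap R C s) ∧ IsUnit (algebraMap R C t) :=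
    IsUnit.mul_iff.1 (by rw [← map_mul]; exact hdu)
  let := (IsLocalization.Away.lift (S := Localization.Away s) s hdu.1).toAlgebra
  haveI : IsScalarTower R (Localization.Away s) C :=
    IsScalarTower.of_algebraMap_eq fun a => (IsLocalization.Away.lift_eq s hdu.1 a).symm
  haveI := flat_over_localization (Submonoid.powers s) (Localization.Away s) C
  have hCkr : KR (l.map (algebraMap R C)) := by
    have := KR.map (B := C) hlkr
    rwa [List.map_map, ← RingHom.coe_comp, ← IsScalarTower.algebraMap_eq] at this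
  have hCI : K.map (algebraMap R C) = Ideal.ofList (l.map (algebraMap R C)) := by
    rw [IsScalarTower.algebraMap_eq R (Localization.Away s) C, ← Ideal.map_map, hlI, map_ofList,
      List.map_map, ← RingHom.coe_comp, ← IsScalarTower.algebraMap_eq]
  have hCJ : K.map (algebraMap R C) = J.map (algebraMap R C) := by
    refine le_antisymm (Ideal.map_le_iff_le_comap.2 fun k hk => ?_) (Ideal.map_mono hJK)
    rw [Ideal.mem_comap]
    refine (Ideal.unit_mul_mem_iff_mem _ hdu.2).1 ?_
    rw [← map_mul]
    exact Ideal.mem_map_of_mem _ (ht k hk)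
  have hJkr : KR (l'.map (algebraMap R C) ++ G.map (algebraMap R C)) := by
    refine kR_of_length_le hCkr ?_ (by simp; omega)
    rw [← List.map_append, ← map_ofList, ← hCI, hCJ]
  refine ⟨algebraMap R S d, hd, l'.map (algebraMap R S), fun x hx => ?_, ?_⟩
  · obtain ⟨a, ha, rfl⟩ := List.mem_map.1 hx
    exact Ideal.mem_map_of_mem _ (hlK a (hsub ha))
  let P' := Localization.Away (algebraMap R S d)
  let π : C →+* P' := IsLocalization.Away.map C P' (algebraMap R S) d
  let : Algebra C P' := π.toAlgebra
  have hsq : ∀ a : R, algebraMap C P' (algebraMap R C a) = algebraMap S P' (algebraMap R S a) :=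
    fun a => by simp [π, C, P', RingHom.algebraMap_toAlgebra, IsLocalization.Away.map]
  have hcomp : (algebraMap S P').comp (algebraMap R S) = (algebraMap C P').comp (algebraMap R C) :=
    RingHom.ext fun a => (hsq a).symm
  have hloc : IsLocalization (Submonoid.map (algebraMap R S) (Submonoid.powers d)) P' := by
    rw [Submonoid.map_powers]; infer_instance
  have hπ : Function.Surjective (algebraMap C P') :=
    IsLocalization.map_surjective_of_surjective (Submonoid.powers d) C P' hs
  have hker' : RingHom.ker (algebraMap C P') = Ideal.ofList (G.map (algebraMap R C)) := by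
    rw [← map_ofList, ← hker]
    exact IsLocalization.ker_map P' (g := algebraMap R S) (T := Submonoid.powers (algebraMap R S d))
      (by rw [Submonoid.map_powers])
  have hmap : (l'.map (algebraMap R S)).map (algebraMap S P') = (l'.map (algebraMap R C)).map (algebraMap C P') := by
    rw [List.map_map, List.map_map, ← RingHom.coe_comp, ← RingHom.coe_comp, hcomp]
  refine ⟨hmap ▸ kR_map_of_append hπ hker' hG.map hJkr, ?_⟩
  rw [hmap, Ideal.map_map, hcomp, ← Ideal.map_map, hCJ, map_ofList, List.map_append, map_ofList,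
    List.map_append, Ideal.ofList_append]
  refine sup_eq_left.2 (Ideal.span_le.2 fun x hx => ?_)
  obtain ⟨y, hy, rfl⟩ := List.mem_map.1 hx
  have : algebraMap C P' y = 0 := RingHom.mem_ker.1 (hker' ▸ Ideal.subset_span hy)
  rw [SetLike.mem_coe, this]; exact zero_mem _

end Groth.Agent.FlatMor68.KoszulCancel
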