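import Groth.Agent.FlatMor68.PullbackDescent
import Groth.Agent.LimTop61.ModDescent
import Groth.Agent.LimTop61.BaseChange
import Groth.Agent.QCPull72.Sections
import Groth.Prelude.Def_AlgSpRep
import Mathlib.CategoryTheory.Limits.Types.Filtered

set_option backward.isDefEq.respectTransparency.types false
set_option linter.style.haveILetI false
set_option autoImplicit false
universe u

open CategoryTheory CategoryTheory.Limits AlgebraicGeometry Opposite

noncomputable section

namespace Groth.Agent.FlatMor68.LimitPres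

variable {S : Scheme.{u}}

theorem isLimitPreserving_genPSp (P : Over S → Prop) (hP : ∀ ⦃T T₀ : Over S⦄ (_ : T ⟶ T₀), P T₀ → P T)
    (hdesc : ∀ ⦃I : Type u⦄ [SmallCategory I] [IsCofiltered I] (D : I ⥤ Over S) (c : Cone D),
      IsLimit ((Over.forget S).mapCone c) → (∀ i, IsAffine (D.obj i).left) → IsAffine c.pt.left →
      P c.pt → ∃ i, P (D.obj i)) :
    AlgSp.IsLimitPreserving (FlatFun.genPSp S P) := by
  intro I _ _ D c hc hD hT
  refine ⟨Types.FilteredColimit.isColimitOf _ _ (fun x => ?_) fun i j xi xj _ => ?_⟩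
  · obtain ⟨i, hi⟩ := hdesc D c hc hD hT ((FlatFun.genPSp_nonempty_iff_of_stable P hP c.pt).1 ⟨x⟩)
    exact ⟨op i, ((FlatFun.genPSp_nonempty_iff_of_stable P hP _).2 hi).some,
      (FlatFun.genPSp_subsingleton S P _).elim _ _⟩
  · refine ⟨IsFiltered.max i j, IsFiltered.leftToMax i j, IsFiltered.rightToMax i j, ?_⟩
    exact (FlatFun.genPSp_subsingleton S P _).elim _ _

variable {X : Scheme.{u}} (f : X ⟶ S)

/-- Descent of a property of the base change of a morphism of modules to a stage. -/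
theorem desc_core [QuasiCompact f] {F G : X.Modules} [F.IsQuasicoherent] [G.IsQuasicoherent]
    (u : F ⟶ G) (W : ∀ Z : Scheme.{u}, MorphismProperty Z.Modules)
    (hev : ∀ ⦃J : Type u⦄ [SmallCategory J] [IsCofiltered J] (D' : J ⥤ Scheme.{u}) (c' : Cone D')
      (_ : IsLimit c') [∀ {i j : J} (a : i ⟶ j), IsAffineHom (D'.map a)] (j₀ : J) [CompactSpace (D'.obj j₀)]
      (g : D'.obj j₀ ⟶ X),
      W c'.pt ((Scheme.Modules.pullback (c'.π.app j₀ ≫ g)).map u) →
        ∃ (j : J) (φ : j ⟶ j₀), W (D'.obj j) ((Scheme.Modules.pullback (D'.map φ ≫ g)).map u))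
    (hstab : ∀ ⦃A B : Scheme.{u}⦄ (ψ : A ⟶ B) (h : B ⟶ X) (h' : A ⟶ X) (_ : ψ ≫ h = h'),
      W B ((Scheme.Modules.pullback h).map u) → W A ((Scheme.Modules.pullback h').map u))
    ⦃I : Type u⦄ [SmallCategory I] [IsCofiltered I] (D : I ⥤ Over S) (c : Cone D)
    (hc : IsLimit ((Over.forget S).mapCone c)) (hD : ∀ i, IsAffine (D.obj i).left)
    (h : W _ ((Scheme.Modules.pullback (pullback.fst f c.pt.hom)).map u)) :
    ∃ i, W _ ((Scheme.Modules.pullback (pullback.fst f (D.obj i).hom)).map u) := by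
  obtain ⟨i₀⟩ := IsCofiltered.nonempty (C := I)
  let D₁ := D ⋙ Over.forget S
  haveI hA : ∀ i, IsAffine (D₁.obj i) := hD
  haveI : ∀ (i j : I) (a : i ⟶ j), IsAffineHom (D₁.map a) := fun i j a => isAffineHom_of_isAffine _
  let a : pullback f (D.obj i₀).hom ⟶ D₁.obj i₀ := pullback.snd f (D.obj i₀).hom
  have hsq : IsPullback (PullbackDescent.bc f (c.π.app i₀)) (pullback.snd f c.pt.hom) a
      (((Over.forget S).mapCone c).π.app i₀) := PullbackDescent.bc_isPullback f (c.π.app i₀)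
  let c' := LimTop61.bcCone D₁ ((Over.forget S).mapCone c) a _ _ hsq.w
  haveI : CompactSpace (pullback f (D.obj i₀).hom : Scheme.{u}) := by
    haveI : CompactSpace (D.obj i₀).left := by
      haveI := hD i₀; infer_instance
    exact QuasiCompact.compactSpace_of_compactSpace (pullback.snd f (D.obj i₀).hom)
  haveI : ∀ {i j : Over i₀} (b : i ⟶ j), IsAffineHom ((LimTop61.bcDiagram D₁ a).map b) :=
    fun {i j} b => LimTop61.isAffineHom_bcDiagram_map D₁ a b
  haveI : CompactSpace ((LimTop61.bcDiagram D₁ a).obj (Over.mk (𝟙 i₀))) := by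
    haveI : IsIso (D₁.map (Over.mk (𝟙 i₀)).hom) := by
      change IsIso (D₁.map (𝟙 i₀)); infer_instance
    haveI : IsIso (pullback.fst a (D₁.map (Over.mk (𝟙 i₀)).hom)) := inferInstance
    exact @QuasiCompact.compactSpace_of_compactSpace _ _ (pullback.fst a (D₁.map (Over.mk (𝟙 i₀)).hom))
      (MorphismProperty.pullback_fst _ _ (show QuasiCompact (D₁.map (Over.mk (𝟙 i₀)).hom) from inferInstance)) inferInstance
  let g : (LimTop61.bcDiagram D₁ a).obj (Over.mk (𝟙 i₀)) ⟶ X :=
    pullback.fst a (D₁.map (Over.mk (𝟙 i₀)).hom) ≫ pullback.fst f (D.obj i₀).hom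
  have e : c'.π.app (Over.mk (𝟙 i₀)) ≫ g = pullback.fst f c.pt.hom := by
    simp only [g, c']
    exact (pullback.lift_fst_assoc _ _ _ _).trans (pullback.lift_fst _ _ _)
  obtain ⟨j, φ, hj⟩ := hev _ c' (LimTop61.isLimitBcCone D₁ _ hc a _ _ hsq) (Over.mk (𝟙 i₀)) g
    (e.symm ▸ h)
  let ψ : pullback f (D.obj j.left).hom ⟶ (LimTop61.bcDiagram D₁ a).obj j :=
    pullback.lift (PullbackDescent.bc f (D.map j.hom)) (pullback.snd f (D.obj j.left).hom)
      (PullbackDescent.bc_isPullback f (D.map j.hom)).w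
  refine ⟨j.left, hstab ψ _ _ ?_ hj⟩
  simp only [g, ← Category.assoc]
  rw [show (ψ ≫ (LimTop61.bcDiagram D₁ a).map φ) ≫ pullback.fst a (D₁.map (Over.mk (𝟙 i₀)).hom) =
    PullbackDescent.bc f (D.map j.hom) by
      rw [Category.assoc]
      exact (congrArg (ψ ≫ ·) (pullback.lift_fst _ _ _)).trans (pullback.lift_fst _ _ _)]
  exact pullback.lift_fst _ _ _

theorem t9019 {X S : Scheme.{u}} (f : X ⟶ S) [QuasiCompact f] {F G : X.Modules} [Coh.IsQCoh F] [Coh.IsQCoh G]
    (hF : CohB1.IsFT F) (u : F ⟶ G) :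
    AlgSp.IsLimitPreserving (FlatFun.genPSp S (fun T => ((Scheme.Modules.pullback (pullback.fst f T.hom)).map u) = 0)) := by
  haveI : F.IsQuasicoherent := ‹Coh.IsQCoh F›
  haveI : G.IsQuasicoherent := ‹Coh.IsQCoh G›
  haveI : F.IsFiniteType := hF
  refine isLimitPreserving_genPSp _
    (fun T T₀ g h => LimTop61.map_eq_zero_comp (PullbackDescent.bc f g) (pullback.lift_fst _ _ _) h)
    fun I _ _ D c hc hD _ h => desc_core f u (fun Z => fun _ _ v => v = 0) ?_
      (fun A B ψ h h' e h0 => LimTop61.map_eq_zero_comp ψ e h0) D c hc hD h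
  intro J _ _ D' c' hc' _ j₀ _ g h0
  haveI := QCPull72.isQuasicoherent_pullback g F
  haveI := QCPull72.isQuasicoherent_pullback g G
  haveI := QCPull72.isFiniteType_pullback g F
  obtain ⟨j, φ, hj⟩ := (LimTop61.pullback_map_eq_zero_iff_eventually hc' ((Scheme.Modules.pullback g).map u)).1
    ((LimTop61.map_map_eq_zero_iff (c'.π.app j₀) rfl).2 h0)
  exact ⟨j, φ, (LimTop61.map_map_eq_zero_iff (D'.map φ) rfl).1 hj⟩

theorem t9018 {X S : Scheme.{u}} (f : X ⟶ S) [QuasiCompact f] {F G : X.Modules} [Coh.IsQCoh F] [Coh.IsQCoh G]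
    (hG : CohB1.IsFT G) (u : F ⟶ G) :
    AlgSp.IsLimitPreserving (FlatFun.genPSp S (fun T => Epi ((Scheme.Modules.pullback (pullback.fst f T.hom)).map u))) := by
  haveI : F.IsQuasicoherent := ‹Coh.IsQCoh F›
  haveI : G.IsQuasicoherent := ‹Coh.IsQCoh G›
  haveI : G.IsFiniteType := hG
  refine isLimitPreserving_genPSp _
    (fun T T₀ g h => LimTop61.epi_map_comp (PullbackDescent.bc f g) (pullback.lift_fst _ _ _) h)
    fun I _ _ D c hc hD _ h => desc_core f u (fun Z => fun _ _ v => Epi v) ?_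
      (fun A B ψ h h' e h0 => LimTop61.epi_map_comp ψ e h0) D c hc hD h
  intro J _ _ D' c' hc' _ j₀ _ g h0
  haveI := QCPull72.isQuasicoherent_pullback g F
  haveI := QCPull72.isQuasicoherent_pullback g G
  haveI := QCPull72.isFiniteType_pullback g G
  have hm : ∀ {Z : Scheme.{u}} (k : Z ⟶ D'.obj j₀),
      Epi ((Scheme.Modules.pullback k).map ((Scheme.Modules.pullback g).map u)) ↔
      Epi ((Scheme.Modules.pullback (k ≫ g)).map u) := by
    intro Z k
    rw [show (Scheme.Modules.pullback k).map ((Scheme.Modules.pullback g).map u) =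
      (Scheme.Modules.pullback g ⋙ Scheme.Modules.pullback k).map u from rfl]
    exact ((MorphismProperty.epimorphisms _).arrow_mk_iso_iff
      (Arrow.isoMk ((LimTop61.pullbackCompIso g k rfl).app F) ((LimTop61.pullbackCompIso g k rfl).app G)
        ((LimTop61.pullbackCompIso g k rfl).hom.naturality u).symm))
  obtain ⟨j, φ, hj⟩ := (LimTop61.epi_pullback_map_iff_eventually hc' ((Scheme.Modules.pullback g).map u)).1
    ((hm _).2 h0)
  exact ⟨j, φ, (hm _).1 hj⟩

theorem t9020 {X S : Scheme.{u}} (f : X ⟶ S) [QuasiCompact f] {F G : X.Modules} [Coh.IsQCoh F] [Coh.IsQCoh G]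
    (hF : CohB1.IsFT F) (hG : CohB1.IsFP G) (u : F ⟶ G) :
    AlgSp.IsLimitPreserving (FlatFun.genPSp S (fun T => IsIso ((Scheme.Modules.pullback (pullback.fst f T.hom)).map u))) := by
  haveI : F.IsQuasicoherent := ‹Coh.IsQCoh F›
  haveI : G.IsQuasicoherent := ‹Coh.IsQCoh G›
  haveI : F.IsFiniteType := hF
  haveI := hG
  refine isLimitPreserving_genPSp _
    (fun T T₀ g (h : IsIso _) => (LimTop61.isIso_map_map_iff (PullbackDescent.bc f g) (pullback.lift_fst _ _ _)).1 inferInstance)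
    fun I _ _ D c hc hD _ h => desc_core f u (fun Z => fun _ _ v => IsIso v) ?_
      (fun A B ψ h h' e (h0 : IsIso _) => (LimTop61.isIso_map_map_iff ψ e).1 inferInstance) D c hc hD h
  intro J _ _ D' c' hc' _ j₀ _ g h0
  haveI := QCPull72.isQuasicoherent_pullback g F
  haveI := QCPull72.isQuasicoherent_pullback g G
  haveI := QCPull72.isFiniteType_pullback g F
  haveI := LimTop61.isFP_pullback g G
  obtain ⟨j, φ, hj⟩ := (LimTop61.isIso_pullback_map_iff_eventually hc' ((Scheme.Modules.pullback g).map u)).1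
    ((LimTop61.isIso_map_map_iff (c'.π.app j₀) rfl).2 h0)
  exact ⟨j, φ, (LimTop61.isIso_map_map_iff (D'.map φ) rfl).1 hj⟩

end Groth.Agent.FlatMor68.LimitPres
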