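import Groth.Agent.FlatMor68.ElemScheme
import Mathlib.AlgebraicGeometry.Morphisms.Etale

set_option autoImplicit false
set_option backward.isDefEq.respectTransparency.types false
universe u

open CategoryTheory AlgebraicGeometry

namespace Groth.Agent.FlatMor68.LocalStructure

theorem t0442 {X S : Scheme.{u}} (f : X ⟶ S) [LocallyOfFiniteType f] (x : X) (n : ℕ) (hn : FlatMor.fibreDimAt f x = n) :
    ∃ (X' Y : Scheme.{u}) (g : X' ⟶ X) (π : X' ⟶ Y) (h : Y ⟶ S) (x' : X'), g ≫ f = π ≫ h ∧ Etale g ∧ g x' = x ∧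
      Function.Surjective (g.residueFieldMap x') ∧ IsFinite π ∧ SmoothOfRelativeDimension n h ∧
      ∀ z : ↑X', π z = π x' → z = x' := by
  obtain ⟨S', Y', X', e, h, π, g, s', x', -, -, -, he, hg, hc, hs, -, hf, -, hu⟩ := ElemScheme.t1457 f x n hn
  have : Etale e := he.etale
  have := hs
  have : SmoothOfRelativeDimension 0 e := inferInstance
  have hsm : SmoothOfRelativeDimension (n + 0) (h ≫ e) := inferInstance
  exact ⟨X', Y', g, π, h ≫ e, x', hc, hg.etale, hg.base_eq, hg.residue_bijective.2, hf, hsm, hu⟩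

end Groth.Agent.FlatMor68.LocalStructure
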