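import Groth.Agent.FlatMor68.FlatDimField
import Groth.Agent.S3440

/-! Miracle flatness over a field from equidimensionality of fibres (S10882). -/

set_option autoImplicit false
set_option backward.isDefEq.respectTransparency.types false
set_option linter.style.haveILetI false

universe u

open CategoryTheory Limits AlgebraicGeometry TopologicalSpace
open Groth.Agent.WC97 (tdegN)
open Groth.Agent.E4O (fdeg IsFibreMax)

namespace Groth.Agent.FlatMor68.MiracleFlat

theorem irred_image {A B : Type u} [TopologicalSpace A] [TopologicalSpace B] (h : A ≃ₜ B)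
    {Z : Set A} (hZ : Z ∈ irreducibleComponents A) : h '' Z ∈ irreducibleComponents B := by
  have := preimage_mem_irreducibleComponents hZ h.symm.isOpenEmbedding (by
    rw [h.symm.surjective.range_eq, Set.inter_univ]
    exact hZ.1.1)
  rwa [← Homeomorph.preimage_symm] at *

theorem solve_dim {t g e d : ℕ} {a b c : WithBot ℕ∞} (h1 : ((t + g : ℕ) : WithBot ℕ∞) + a = (e : WithBot ℕ∞))
    (h2 : (t : WithBot ℕ∞) + b = (d : WithBot ℕ∞)) (h3 : (g : WithBot ℕ∞) + c = ((e - d : ℕ) : WithBot ℕ∞))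
    (hde : d ≤ e) : a = b + c := by
  have nat : ∀ {r : WithBot ℕ∞} {m D : ℕ}, (m : WithBot ℕ∞) + r = (D : WithBot ℕ∞) → ∃ n : ℕ, r = (n : WithBot ℕ∞) := by
    intro r m D h
    induction r with
    | bot => simp at h
    | coe r =>
      induction r with
      | top =>
        rw [← WithBot.coe_natCast, ← WithBot.coe_natCast, ← WithBot.coe_add, WithBot.coe_inj, add_top] at h
        exact absurd h.symm (ENat.natCast_ne_top D)
      | coe r => exact ⟨r, rfl⟩
  obtain ⟨a, rfl⟩ := nat h1
  obtain ⟨b, rfl⟩ := nat h2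
  obtain ⟨c, rfl⟩ := nat h3
  norm_cast at h1 h2 h3 ⊢
  omega

theorem fibre_eq_aux {κ : Type u} [Field κ] {F : Scheme.{u}} (g : F ⟶ Spec (CommRingCat.of κ)) [LocallyOfFiniteType g]
    (z : F) (n m : ℕ) (hF : ∀ Z ∈ irreducibleComponents (F : Type u), topologicalKrullDim Z = (n : WithBot ℕ∞))
    (hz : topologicalKrullDim ↥(closure ({z} : Set F)) = (m : ℕ)) :
    (m : WithBot ℕ∞) + ringKrullDim (F.presheaf.stalk z) = (n : WithBot ℕ∞) := by
  have h := FlatDimField.ringKrullDim_add g ((FlatDimField.equidim_iff _ _).2 hF) z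
  rw [WC97.topologicalKrullDim_closure g z] at hz
  rwa [hz] at h

theorem fibre_eq {X Y : Scheme.{u}} (f : X ⟶ Y) [LocallyOfFiniteType f] (x : X) (n : ℕ)
    (hfib : ∀ Z ∈ irreducibleComponents (f.base ⁻¹' {f x}), topologicalKrullDim Z = (n : ℕ)) :
    (fdeg f x : WithBot ℕ∞) + ringKrullDim ((f.fiber (f x)).presheaf.stalk (f.asFiber x)) = (n : WithBot ℕ∞) := by
  refine @fibre_eq_aux (Y.residueField (f x)) _ _ (f.fiberToSpecResidueField (f x))
    (MorphismProperty.pullback_snd _ _ ‹LocallyOfFiniteType f›) _ n _ (fun Z hZ => ?_) ?_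
  · rw [← hfib _ (irred_image (f.fiberHomeo (f x)) hZ)]
    exact ((f.fiberHomeo (f x)).image Z).isHomeomorph.topologicalKrullDim_eq
  · rw [E4O.dim_closure_fiber, f.fiberι_asFiber]

theorem flat_of_equidim (k : Type u) [Field k] {X Y : Scheme.{u}}
    (q : Y ⟶ Spec (CommRingCat.of k)) [LocallyOfFiniteType q] (f : X ⟶ Y) [LocallyOfFiniteType (f ≫ q)]
    (hY : ∀ y : Y, IsRegularLocalRing (Y.presheaf.stalk y))
    (hX : ∀ x : X, LocCoh.IsCohenMacaulayLocalRing (X.presheaf.stalk x))
    (e d : ℕ) (hde : d ≤ e)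
    (hXe : ∀ Z ∈ irreducibleComponents (X : Type u), topologicalKrullDim Z = e)
    (hYd : ∀ Z ∈ irreducibleComponents (Y : Type u), topologicalKrullDim Z = d)
    (hfib : ∀ y : Y, ∀ Z ∈ irreducibleComponents (f.base ⁻¹' {y}), topologicalKrullDim Z = (e - d : ℕ)) :
    Flat f := by
  haveI : LocallyOfFiniteType f := locallyOfFiniteType_of_comp f q
  haveI : IsLocallyNoetherian Y := LocallyOfFiniteType.isLocallyNoetherian q
  rw [Flat.iff_flat_stalkMap]
  intro x
  refine ((S3440.result f x (hY _) (hX x)).out 4 1).1 ?_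
  have h1 := FlatDimField.ringKrullDim_add (f ≫ q) ((FlatDimField.equidim_iff _ e).2 hXe) x
  have h2 := FlatDimField.ringKrullDim_add q ((FlatDimField.equidim_iff _ d).2 hYd) (f x)
  have h3 := fibre_eq f x _ (hfib (f x))
  rw [Var76.FibreBound.tdegN_eq_add (qX := f ≫ q) (qY := q) f rfl x] at h1
  revert h1 h2 h3
  generalize ringKrullDim (X.presheaf.stalk x) = a
  generalize ringKrullDim (Y.presheaf.stalk (f x)) = b
  generalize ringKrullDim ((f.fiber (f x)).presheaf.stalk (f.asFiber x)) = c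
  intro h1 h2 h3
  exact solve_dim h1 h2 h3 hde

end Groth.Agent.FlatMor68.MiracleFlat
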