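import Mathlib
import Groth.Agent.FlatStage64.Main
import Groth.Agent.Stage62.ModuleModel

set_option backward.isDefEq.respectTransparency.types false
set_option linter.style.haveILetI false
set_option autoImplicit false
universe u

open TensorProduct

namespace Groth.Agent.FlatMor68.NoethModAlg

theorem flat_of_bijective {A A' N : Type*} [CommRing A] [CommRing A'] [Algebra A A'] [AddCommGroup N]
    [Module A N] [Module A' N] [IsScalarTower A A' N] (hb : Function.Bijective (algebraMap A A'))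
    [Module.Flat A N] : Module.Flat A' N := by
  haveI : IsLocalization (⊥ : Submonoid A) A' := by
    haveI : IsLocalization (⊥ : Submonoid A) A := IsLocalization.of_le_isUnit bot_le
    exact IsLocalization.isLocalization_of_algEquiv (⊥ : Submonoid A) (AlgEquiv.ofBijective (Algebra.ofId A A') hb)
  exact (Module.flat_iff_of_isLocalization A' (⊥ : Submonoid A) N).2 inferInstance

theorem exists_of_stage {A₁ C A B₁ B : Type u} [CommRing A₁] [CommRing C] [CommRing A] [CommRing B₁] [CommRing B]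
    [Algebra A₁ C] [Algebra C A] [Algebra A₁ A] [IsScalarTower A₁ C A] [Algebra A₁ B₁] [Algebra A B]
    {M : Type u} [AddCommGroup M] [Module B M] (e₁ : A ⊗[A₁] B₁ ≃ₐ[A] B) {m : ℕ} {κ : Type u}
    (l : κ → Fin m → B₁) (q : ((Fin m → B) ⧸ Submodule.span B (Set.range fun v => Stage62.coord e₁ (l v))) ≃ₗ[B] M)
    [Algebra.FinitePresentation A₁ B₁] :
    ∃ (B₀ M₀ : Type u) (_ : CommRing B₀) (_ : Algebra C B₀)
      (_ : Algebra B₀ B) (_ : AddCommGroup M₀) (_ : Module B₀ M₀) (_ : Module C M₀)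
      (_ : IsScalarTower C B₀ M₀) (e : A ⊗[C] B₀ ≃ₐ[A] B) (_ : (B ⊗[B₀] M₀) ≃ₗ[B] M)
      (_ : (C ⊗[A₁] ((Fin m → B₁) ⧸ Submodule.span B₁ (Set.range l))) ≃ₗ[C] M₀),
      (∀ b : B₀, e (1 ⊗ₜ b) = algebraMap B₀ B b) ∧
      Algebra.FinitePresentation C B₀ ∧ Module.Finite B₀ M₀ := by
  let e₀ : A ⊗[C] (C ⊗[A₁] B₁) ≃ₐ[A] B := (Algebra.TensorProduct.cancelBaseChange A₁ C A A B₁).trans e₁
  letI : Algebra (C ⊗[A₁] B₁) B := (e₀.toRingHom.comp Algebra.TensorProduct.includeRight.toRingHom).toAlgebra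
  let l₀ : κ → Fin m → C ⊗[A₁] B₁ := fun v => Stage62.coord (AlgEquiv.refl : C ⊗[A₁] B₁ ≃ₐ[C] C ⊗[A₁] B₁) (l v)
  have hspan₀ : Submodule.span B (Set.range fun v => Stage62.coord (Algebra.TensorProduct.rid (C ⊗[A₁] B₁) B B) (l₀ v)) =
      Submodule.span B (Set.range fun v => Stage62.coord e₁ (l v)) := by
    congr 2
    funext v i
    show Algebra.TensorProduct.rid (C ⊗[A₁] B₁) B B ((1 : B) ⊗ₜ[C ⊗[A₁] B₁] ((1 : C) ⊗ₜ[A₁] l v i)) = e₁ (1 ⊗ₜ l v i)
    rw [Algebra.TensorProduct.rid_tmul, Algebra.smul_def, mul_one]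
    show e₀ (1 ⊗ₜ[C] ((1 : C) ⊗ₜ[A₁] l v i)) = _
    simp [e₀]
  exact ⟨C ⊗[A₁] B₁, _, inferInstance, inferInstance, inferInstance, inferInstance, inferInstance, inferInstance,
    inferInstance, e₀, Stage62.quotEquiv (Algebra.TensorProduct.rid (C ⊗[A₁] B₁) B B) l₀ ≪≫ₗ
      Submodule.quotEquivOfEq _ _ hspan₀ ≪≫ₗ q, Stage62.quotEquiv AlgEquiv.refl l, fun b => rfl, inferInstance,
    inferInstance⟩

/-- A finitely presented module over a finitely presented algebra comes from a model of finite type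
over `ℤ`, flat if the module is flat. -/
theorem exists_flat_module_model (A B M : Type u) [CommRing A] [CommRing B] [Algebra A B]
    [Algebra.FinitePresentation A B] [AddCommGroup M] [Module B M] [Module A M] [IsScalarTower A B M]
    [Module.FinitePresentation B M] :
    ∃ (A₀ B₀ M₀ : Type u) (_ : CommRing A₀) (_ : CommRing B₀) (_ : Algebra A₀ A) (_ : Algebra A₀ B₀)
      (_ : Algebra B₀ B) (_ : AddCommGroup M₀) (_ : Module B₀ M₀) (_ : Module A₀ M₀)
      (_ : IsScalarTower A₀ B₀ M₀) (e : A ⊗[A₀] B₀ ≃ₐ[A] B) (_ : (B ⊗[B₀] M₀) ≃ₗ[B] M),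
      (∀ b : B₀, e (1 ⊗ₜ b) = algebraMap B₀ B b) ∧
      Algebra.FiniteType ℤ A₀ ∧ Algebra.FinitePresentation A₀ B₀ ∧ Module.Finite B₀ M₀ ∧
      (Module.Flat A M → Module.Flat A₀ M₀) := by
  classical
  obtain ⟨m, π, hπ⟩ := Module.Finite.exists_fin' B M
  obtain ⟨w, hw⟩ := (Module.FinitePresentation.fg_ker π hπ : (LinearMap.ker π).FG)
  let P := Algebra.Presentation.ofFinitePresentation A B
  obtain ⟨A₁, B₁, _, _, e₁, hft₁, hfp₁, hsub⟩ : ∃ (A₁ : Subalgebra ℤ A) (B₁ : Type u) (_ : CommRing B₁) (_ : Algebra A₁ B₁)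
      (e₁ : A ⊗[A₁] B₁ ≃ₐ[A] B), Algebra.FiniteType ℤ A₁ ∧ Algebra.FinitePresentation A₁ B₁ ∧
        (⋃ v ∈ (w : Set (Fin m → B)), Set.range v) ⊆ Set.range (fun b : B₁ => e₁ (1 ⊗ₜ b)) := by
    choose g hg using fun b : B => P.toGenerators.algebraMap_surjective b
    let t : Set B := ⋃ v ∈ (w : Set (Fin m → B)), Set.range v
    have ht : t.Finite := w.finite_toSet.biUnion fun v _ => Set.finite_range v
    let cs : Set A := P.coeffs ∪ ⋃ b ∈ t, ((g b).coeffs : Set A)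
    have hcs : cs.Finite := P.finite_coeffs.union (ht.biUnion fun b _ => Finset.finite_toSet _)
    let A₁ : Subalgebra ℤ A := Algebra.adjoin ℤ cs
    have : P.HasCoeffs A₁ := ⟨fun x hx => ⟨⟨x, Algebra.subset_adjoin (Or.inl hx)⟩, rfl⟩⟩
    refine ⟨A₁, P.ModelOfHasCoeffs A₁, inferInstance, inferInstance, P.tensorModelOfHasCoeffsEquiv A₁,
      .adjoin_of_finite hcs, inferInstance, fun b hb => ?_⟩
    obtain ⟨y, hy⟩ : g b ∈ Set.range (MvPolynomial.map (algebraMap A₁ A)) := by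
      rw [MvPolynomial.mem_range_map_iff_coeffs_subset]
      intro x hx
      exact ⟨⟨x, Algebra.subset_adjoin (Or.inr (Set.mem_biUnion hb hx))⟩, rfl⟩
    refine ⟨Ideal.Quotient.mk _ y, ?_⟩
    show P.tensorModelOfHasCoeffsEquiv A₁ (1 ⊗ₜ Ideal.Quotient.mk _ y) = b
    rw [P.tensorModelOfHasCoeffsEquiv_tmul, map_one, one_mul, ← MvPolynomial.aeval_map_algebraMap A, hy,
      ← P.algebraMap_apply]
    exact hg b
  haveI : IsNoetherianRing A₁ := Algebra.FiniteType.isNoetherianRing ℤ A₁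
  choose l hl using fun (v : ↥(w : Set (Fin m → B))) (i : Fin m) => hsub (Set.mem_biUnion v.2 ⟨i, rfl⟩)
  have hspan : Submodule.span B (Set.range fun v => Stage62.coord e₁ (l v)) = LinearMap.ker π := by
    rw [← hw]
    congr 1
    have : (fun v => Stage62.coord e₁ (l v)) = fun v => v.1 := funext fun v => funext (hl v)
    rw [this, Subtype.range_coe]
  let M₁ := (Fin m → B₁) ⧸ Submodule.span B₁ (Set.range l)
  let q₁ : A ⊗[A₁] M₁ ≃ₗ[A] M := Stage62.quotEquiv e₁ l ≪≫ₗ (Submodule.quotEquivOfEq _ _ hspan).restrictScalars A ≪≫ₗ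
    (π.quotKerEquivOfSurjective hπ).restrictScalars A
  obtain ⟨C, hC, hflatC⟩ : ∃ C : Subalgebra A₁ A, C.FG ∧ (Module.Flat A M → Module.Flat C (C ⊗[A₁] M₁)) := by
    by_cases h : Module.Flat A M
    · obtain ⟨C, hC, hC'⟩ := FlatStage64.exists_fg_flat B₁ (M := M₁) A (Module.Flat.of_linearEquiv q₁)
      exact ⟨C, hC, fun _ => hC' C le_rfl⟩
    · exact ⟨⊥, Subalgebra.fg_bot, fun h' => absurd h' h⟩
  haveI : Algebra.FiniteType A₁ C := (Subalgebra.fg_iff_finiteType C).mp hC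
  obtain ⟨B₀, M₀, _, _, _, _, _, _, _, e, q, qC, he, hfp, hfin⟩ := exists_of_stage (C := C) e₁ l
    (Submodule.quotEquivOfEq _ _ hspan ≪≫ₗ π.quotKerEquivOfSurjective hπ)
  refine ⟨C, B₀, M₀, inferInstance, inferInstance, inferInstance,
    inferInstance, inferInstance, inferInstance, inferInstance, inferInstance, inferInstance, e, q, he, ?_, hfp, hfin,
    fun h => ?_⟩
  · exact Algebra.FiniteType.trans (S := A₁) hft₁ inferInstance
  · haveI := hflatC h
    exact Module.Flat.of_linearEquiv qC.symm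

end Groth.Agent.FlatMor68.NoethModAlg
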