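import Groth.Statements.S14889
import Groth.Agent.FlatMor68.GRStage
import Groth.Agent.FlatMor68.FlatLimit
import Groth.Agent.FlatMor68.GraphClosure
import Groth.Agent.VarGal.GeomReg
import Groth.Agent.EGA73.IntegralNormal
import Groth.Agent.NormalPush99.Basic

/-! No non-trivial finite η-modification of a flat family with geometrically reduced fibres over a normal base. -/

set_option autoImplicit false
set_option backward.isDefEq.respectTransparency.types false
set_option linter.style.haveILetI false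

universe u

open CategoryTheory CategoryTheory.Limits AlgebraicGeometry TensorProduct

namespace Groth.Agent.FlatMor68.NormalEtaMod

/-- The square of an affine open and its preimage. -/
theorem isPullback_fromSpec {X Y : Scheme.{u}} (f : X ⟶ Y) {V : Y.Opens} (hV : IsAffineOpen V) (hV' : IsAffineOpen (f ⁻¹ᵁ V)) :
    IsPullback hV'.fromSpec (Spec.map (f.app V)) f hV.fromSpec := by
  have hw : hV'.fromSpec ≫ f = Spec.map (f.app V) ≫ hV.fromSpec := by
    rw [Scheme.Hom.app_eq_appLE, IsAffineOpen.SpecMap_appLE_fromSpec f hV hV']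
  let k : Spec Γ(X, f ⁻¹ᵁ V) ⟶ pullback f hV.fromSpec := pullback.lift hV'.fromSpec (Spec.map (f.app V)) hw
  haveI : IsOpenImmersion k := by
    haveI : IsOpenImmersion (k ≫ pullback.fst f hV.fromSpec) := by rw [pullback.lift_fst]; infer_instance
    exact IsOpenImmersion.of_comp k (pullback.fst f hV.fromSpec)
  haveI : Surjective k := ⟨fun z => by
    have hz : pullback.fst f hV.fromSpec z ∈ Set.range hV'.fromSpec := by
      rw [hV'.range_fromSpec]
      show f (pullback.fst f hV.fromSpec z) ∈ (V : Set Y)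
      rw [← hV.range_fromSpec, ← Scheme.Hom.comp_apply, pullback.condition, Scheme.Hom.comp_apply]
      exact ⟨_, rfl⟩
    obtain ⟨w, hw'⟩ := hz
    refine ⟨w, (pullback.fst f hV.fromSpec).isOpenEmbedding.injective ?_⟩
    rw [← Scheme.Hom.comp_apply, pullback.lift_fst]
    exact hw'⟩
  haveI : IsIso k := (isIso_iff_isOpenImmersion_and_surjective k).2 ⟨inferInstance, inferInstance⟩
  exact IsPullback.of_iso_pullback ⟨hw⟩ (asIso k) (pullback.lift_fst _ _ _) (pullback.lift_snd _ _ _)

/-- The affine algebra. -/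
theorem bijective_algebraMap {R A A' K : Type u} [CommRing R] [IsDomain R] [IsIntegrallyClosed R] [CommRing A] [Algebra R A]
    [Algebra.FinitePresentation R A] [Module.Flat R A] [Field K] [Algebra R K] [IsFractionRing R K]
    [CommRing A'] [Algebra A A'] [Algebra.IsIntegral A A'] (hA : GRStage.RedFibres R A)
    (htors : ∀ r : R, r ≠ 0 → ∀ a : A', algebraMap A A' (algebraMap R A r) * a = 0 → a = 0)
    (hbij : Function.Bijective (algebraMap (A ⊗[R] K) ((A ⊗[R] K) ⊗[A] A'))) :
    Function.Bijective (algebraMap A A') := by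
  let B := A ⊗[R] K
  letI : Algebra A' (B ⊗[A] A') := Algebra.TensorProduct.rightAlgebra
  have hinjK : Function.Injective (algebraMap A B) :=
    Algebra.TensorProduct.includeLeft_injective (S := A) (IsFractionRing.injective R K)
  letI : Algebra K B := Algebra.TensorProduct.rightAlgebra
  haveI : IsLocalization (Algebra.algebraMapSubmonoid A (nonZeroDivisors R)) B :=
    (Algebra.isLocalization_iff_isPushout (T := A) (B := B) (nonZeroDivisors R) K).2 inferInstance
  haveI : IsLocalization (Algebra.algebraMapSubmonoid A' (Algebra.algebraMapSubmonoid A (nonZeroDivisors R))) (B ⊗[A] A') :=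
    Algebra.isLocalization_iff_isPushout (Algebra.algebraMapSubmonoid A (nonZeroDivisors R)) B |>.2 inferInstance
  have hinj' : Function.Injective (algebraMap A' (B ⊗[A] A')) := by
    refine (injective_iff_map_eq_zero _).2 fun a ha => ?_
    obtain ⟨⟨_, _, ⟨r, hr, rfl⟩, rfl⟩, hm⟩ := (IsLocalization.map_eq_zero_iff
      (Algebra.algebraMapSubmonoid A' (Algebra.algebraMapSubmonoid A (nonZeroDivisors R))) _ a).1 ha
    exact htors r (nonZeroDivisors.ne_zero hr) a hm
  have hsq : ∀ a : A, algebraMap B (B ⊗[A] A') (algebraMap A B a) = algebraMap A' (B ⊗[A] A') (algebraMap A A' a) := fun a => by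
    rw [← IsScalarTower.algebraMap_apply A B, IsScalarTower.algebraMap_apply A A' (B ⊗[A] A')]
  refine ⟨(injective_iff_map_eq_zero _).2 fun a ha => hinjK (hbij.1 ?_), fun a' => ?_⟩
  · rw [hsq, ha, map_zero, map_zero, map_zero]
  · obtain ⟨b, hb⟩ := hbij.2 (algebraMap A' (B ⊗[A] A') a')
    obtain ⟨P, hP, hPa⟩ := Algebra.IsIntegral.isIntegral (R := A) a'
    have hint : IsIntegral A b := ⟨P, hP, hbij.1 (by
      rw [map_zero, Polynomial.hom_eval₂, hb, show (algebraMap B (B ⊗[A] A')).comp (algebraMap A B) =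
        (algebraMap A' (B ⊗[A] A')).comp (algebraMap A A') from RingHom.ext hsq, ← Polynomial.hom_eval₂, hPa, map_zero])⟩
    obtain ⟨a, rfl⟩ := GRStage.exists_eq_of_isIntegral hA b hint
    exact ⟨a, hinj' ((hsq a).symm.trans hb)⟩

/-- If an open which is flat over the integral base is scheme-theoretically dense, so is the generic fibre. -/
theorem schDom_genericFibre {S X : Scheme.{u}} [IsIntegral S] (p : X ⟶ S) (U : X.Opens) [Flat (U.ι ≫ p)]
    (hU : IsSchemeTheoreticallyDominant U.ι) :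
    IsSchemeTheoreticallyDominant (pullback.fst p (S.fromSpecStalk (genericPoint S))) := by
  haveI := GraphClosure.schDom_fst (U.ι ≫ p)
  let h := pullback.fst (U.ι ≫ p) (S.fromSpecStalk (genericPoint S))
  let l : pullback (U.ι ≫ p) (S.fromSpecStalk (genericPoint S)) ⟶ pullback p (S.fromSpecStalk (genericPoint S)) :=
    pullback.lift (h ≫ U.ι) (pullback.snd _ _) (by rw [Category.assoc]; exact pullback.condition)
  have hl : l ≫ pullback.fst p (S.fromSpecStalk (genericPoint S)) = h ≫ U.ι := pullback.lift_fst _ _ _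
  refine ⟨le_bot_iff.1 ?_⟩
  refine ((l.le_ker_comp _).trans (congrArg Scheme.Hom.ker hl).le).trans ?_
  rw [Scheme.Hom.ker_comp, show h.ker = ⊥ from IsSchemeTheoreticallyDominant.ker_eq_bot (f := h),
    Scheme.IdealSheafData.map_bot, hU.ker_eq_bot]

set_option maxHeartbeats 1000000 in
theorem main {S X X' : Scheme.{u}} [IsIntegral S]
    (hS : Pi1.IsNormalScheme S) (φ : X ⟶ S) [Flat φ] [LocallyOfFinitePresentation φ]
    (hred : ∀ (K : Type u) [Field K] (k : Spec (CommRingCat.of K) ⟶ S), IsReduced (pullback φ k))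
    (f : X' ⟶ X) [IsFinite f] (U : X.Opens)
    (hU' : IsSchemeTheoreticallyDominant (f ⁻¹ᵁ U).ι) (hfU : IsIso (f ∣_ U))
    (hη : IsIso (pullback.snd f (pullback.fst φ (S.fromSpecStalk (genericPoint S))))) :
    IsIso f := by
  suffices h : ∀ x : X, ∃ V : X.Opens, x ∈ V ∧ IsIso (f ∣_ V) by
    choose V hx hV using h
    exact IsZariskiLocalAtTarget.of_iSup_eq_top (P := MorphismProperty.isomorphisms Scheme) V
      (eq_top_iff.2 fun x _ => TopologicalSpace.Opens.mem_iSup.2 ⟨x, hx x⟩) hV
  intro x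
  obtain ⟨_, ⟨W, hW, rfl⟩, hxW, -⟩ := S.isBasis_affineOpens.exists_subset_of_mem_open (Set.mem_univ (φ x)) isOpen_univ
  obtain ⟨_, ⟨V, hV, rfl⟩, hxV, hVW⟩ := X.isBasis_affineOpens.exists_subset_of_mem_open hxW (W.2.preimage φ.continuous)
  replace hVW : V ≤ φ ⁻¹ᵁ W := hVW
  refine ⟨V, hxV, ?_⟩
  have hV' : IsAffineOpen (f ⁻¹ᵁ V) := hV.preimage f
  haveI : Nonempty W := ⟨⟨_, hxW⟩⟩
  haveI : IsIntegrallyClosed Γ(S, W) := NormalPush99.isIntegrallyClosed_of_opens hS W
  haveI := functionField_isFractionRing_of_isAffineOpen S W hW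
  have hfp := φ.finitePresentation_appLE hW hV hVW
  have hfl := φ.flat_appLE hW hV hVW
  have hint := f.isIntegral_app V hV
  algebraize [(φ.appLE W V hVW).hom, (f.app V).hom]
  haveI : Algebra.FinitePresentation Γ(S, W) Γ(X, V) := hfp
  haveI : Module.Flat Γ(S, W) Γ(X, V) := hfl
  haveI : Algebra.IsIntegral Γ(X, V) Γ(X', f ⁻¹ᵁ V) := ⟨hint⟩
  have hred' : GRStage.RedFibres Γ(S, W) Γ(X, V) := fun K _ _ => by
    refine (GRStage.isReduced_pullback_iff Γ(S, W) Γ(X, V) K).1 ?_
    let k := Spec.map (CommRingCat.ofHom (algebraMap Γ(S, W) K))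
    haveI := hred K (k ≫ hW.fromSpec)
    exact isReduced_of_isOpenImmersion (pullback.map (Spec.map (CommRingCat.ofHom (algebraMap Γ(S, W) Γ(X, V)))) k φ
      (k ≫ hW.fromSpec) hV.fromSpec (𝟙 _) hW.fromSpec (IsAffineOpen.SpecMap_appLE_fromSpec φ hW hV hVW) (by simp))
  have htors : ∀ r : Γ(S, W), r ≠ 0 → ∀ a : Γ(X', f ⁻¹ᵁ V),
      algebraMap Γ(X, V) Γ(X', f ⁻¹ᵁ V) (algebraMap Γ(S, W) Γ(X, V) r) * a = 0 → a = 0 := by
    intro r hr a ha
    haveI : Flat ((f ⁻¹ᵁ U).ι ≫ f ≫ φ) := by
      rw [← Category.assoc, ← morphismRestrict_ι]; infer_instance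
    let g := pullback.fst (f ≫ φ) (S.fromSpecStalk (genericPoint S))
    haveI : IsSchemeTheoreticallyDominant g := schDom_genericFibre (f ≫ φ) (f ⁻¹ᵁ U) hU'
    haveI : QuasiCompact g := inferInstance
    haveI : Flat (g ≫ f ≫ φ) := by
      rw [pullback.condition]
      haveI := VarGal.flat_fromSpecStalk (genericPoint S)
      haveI : Subsingleton ↥(Spec (S.presheaf.stalk (genericPoint S))) :=
        inferInstanceAs (Subsingleton (PrimeSpectrum S.functionField))
      haveI : IsIntegral (Spec (S.presheaf.stalk (genericPoint S))) := inferInstance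
      haveI : Flat (pullback.snd (f ≫ φ) (S.fromSpecStalk (genericPoint S))) := inferInstance
      infer_instance
    refine g.app_injective (f ⁻¹ᵁ V) ?_
    rw [map_zero]
    refine FlatLimit.nzd_flat (g ≫ f ≫ φ) r hr (g.preimage_mono (f.preimage_mono hVW)) _ ?_
    rw [← map_zero (g.app (f ⁻¹ᵁ V)).hom, ← ha, map_mul]
    congr 1
    show _ = ((φ.appLE W V hVW ≫ f.app V) ≫ g.app (f ⁻¹ᵁ V)).hom r
    rw [Scheme.Hom.app_eq_appLE f, Scheme.Hom.app_eq_appLE g, Scheme.Hom.appLE_comp_appLE, Scheme.Hom.appLE_comp_appLE]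
  -- the base change to the generic fibre
  let A := Γ(X, V)
  let K := S.functionField
  let B := A ⊗[Γ(S, W)] K
  let z : Spec (.of B) ⟶ X := Spec.map (CommRingCat.ofHom (algebraMap A B)) ≫ hV.fromSpec
  have hgen : genericPoint S ∈ W := ((genericPoint_spec S).mem_open_set_iff W.isOpen).mpr (by simpa using ‹Nonempty W›)
  have hη' : S.fromSpecStalk (genericPoint S) = Spec.map (CommRingCat.ofHom (algebraMap Γ(S, W) K)) ≫ hW.fromSpec := by
    rw [← hW.fromSpecStalk_eq_fromSpecStalk hgen]
    rfl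
  have hz : z ≫ φ = Spec.map (CommRingCat.ofHom ((Algebra.TensorProduct.includeRight : K →ₐ[Γ(S, W)] B).toRingHom)) ≫
      S.fromSpecStalk (genericPoint S) := by
    rw [hη', Category.assoc, ← IsAffineOpen.SpecMap_appLE_fromSpec φ hW hV hVW, ← Category.assoc, ← Category.assoc,
      ← Spec.map_comp, ← Spec.map_comp]
    congr 2
    exact CommRingCat.hom_ext (RingHom.ext fun r => ((Algebra.TensorProduct.includeRight : K →ₐ[Γ(S, W)] B).commutes r).symm)
  let z' := pullback.lift z _ hz
  haveI : IsIso (pullback.snd f z) := by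
    have hlift : z' ≫ pullback.fst φ (S.fromSpecStalk (genericPoint S)) = z := pullback.lift_fst _ _ _
    rw [← hlift]
    haveI := hη
    rw [← pullbackLeftPullbackSndIso_inv_snd_snd f (pullback.fst φ (S.fromSpecStalk (genericPoint S))) z']
    infer_instance
  letI : Algebra Γ(X', f ⁻¹ᵁ V) (B ⊗[A] Γ(X', f ⁻¹ᵁ V)) := Algebra.TensorProduct.rightAlgebra
  have hpb := (isPullback_SpecMap_of_isPushout _ _ _ _
    (CommRingCat.isPushout_iff_isPushout.{u}.mpr (inferInstance : Algebra.IsPushout A B Γ(X', f ⁻¹ᵁ V) (B ⊗[A] Γ(X', f ⁻¹ᵁ V))))).flip.paste_horiz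
    (isPullback_fromSpec f hV hV')
  haveI : IsIso (Spec.map (CommRingCat.ofHom (algebraMap B (B ⊗[A] Γ(X', f ⁻¹ᵁ V))))) := by
    have := hpb.isoPullback_hom_snd
    rw [← this]
    infer_instance
  have hbij : Function.Bijective (algebraMap B (B ⊗[A] Γ(X', f ⁻¹ᵁ V))) := by
    haveI : IsIso (Scheme.Spec.map (CommRingCat.ofHom (algebraMap B (B ⊗[A] Γ(X', f ⁻¹ᵁ V)))).op) := ‹_›
    haveI := isIso_of_reflects_iso (CommRingCat.ofHom (algebraMap B (B ⊗[A] Γ(X', f ⁻¹ᵁ V)))).op Scheme.Spec
    haveI : IsIso (CommRingCat.ofHom (algebraMap B (B ⊗[A] Γ(X', f ⁻¹ᵁ V)))) := isIso_of_op _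
    exact ConcreteCategory.bijective_of_isIso (CommRingCat.ofHom (algebraMap B (B ⊗[A] Γ(X', f ⁻¹ᵁ V))))
  haveI : IsIso (f.app V) := (ConcreteCategory.isIso_iff_bijective _).2 (bijective_algebraMap hred' htors hbij)
  haveI : IsIso (Spec.map (f.app V)) := inferInstance
  have hsq := isPullback_fromSpec f hV hV'
  have hs : IsIso (pullback.snd f hV.fromSpec) := by
    rw [← hsq.isoPullback_inv_snd]; infer_instance
  haveI := hs
  haveI : IsIso (pullback.snd f (Scheme.Opens.ι V)) := by
    rw [← hV.isoSpec_hom_fromSpec, ← pullbackLeftPullbackSndIso_inv_snd_snd f hV.fromSpec hV.isoSpec.hom]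
    infer_instance
  rw [← (isPullback_morphismRestrict f V).flip.isoPullback_hom_snd]
  infer_instance

end Groth.Agent.FlatMor68.NormalEtaMod
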