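import Groth.Agent.DR39.RegPerfect
import Groth.Agent.DR39.Restrict
import Groth.Agent.LCI19.TorDim
import Groth.Agent.FlatStage64.Syzygy
import Groth.Prelude.Def_MoreMor
import Mathlib.RingTheory.Polynomial.Basic
import Mathlib.RingTheory.FiniteType
import Mathlib.RingTheory.RegularLocalRing.Polynomial

/-! Pseudo-coherent and perfect ring maps (S7066, S7067, S7069). -/

set_option autoImplicit false
set_option backward.isDefEq.respectTransparency.types false
set_option linter.style.haveILetI false

universe u

open CategoryTheory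

attribute [local instance] HasDerivedCategory.standard

namespace Groth.Agent.FlatMor68.PerfHom

open DR39

theorem pc'_module_of_noetherian {A : Type u} [CommRing A] [IsNoetherianRing A] (M : Type u) [AddCommGroup M]
    [Module A M] [Module.Finite A M] : DRing.IsPseudoCoherentModule' A M :=
  (pc'_iff_forall_pc _).2 fun m => pc_inD_of_fp_of_coherent
    (fun I hI => by
      haveI := Module.Finite.iff_fg.2 hI
      exact Module.finitePresentation_of_finite A I)
    M (Module.finitePresentation_of_finite A M) m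

theorem t7067 (A B : Type u) [CommRing A] [CommRing B] [Algebra A B]
    [IsNoetherianRing A] [Algebra.FiniteType A B] : MoreMor.IsPseudoCoherentHom A B := by
  obtain ⟨n, φ, hφ⟩ := Algebra.FiniteType.iff_quotient_mvPolynomial''.1 ‹Algebra.FiniteType A B›
  refine ⟨n, φ, hφ, ?_⟩
  letI := φ.toRingHom.toAlgebra
  haveI : Module.Finite (MvPolynomial (Fin n) A) B :=
    Module.Finite.of_surjective (Algebra.linearMap (MvPolynomial (Fin n) A) B) hφ
  exact pc'_module_of_noetherian B

/-- Restriction along a flat algebra preserves finite tor dimension. -/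
theorem finiteTorDim_restrict {A P : Type u} [CommRing A] [CommRing P] [Algebra A P] [Module.Flat A P]
    (M : Type u) [AddCommGroup M] [Module A M] [Module P M] [IsScalarTower A P M] {a b : ℤ}
    (h : TA a b (Dual.inD P M)) : DRing.HasFiniteTorDim A M := by
  obtain ⟨e0⟩ := rest_self_iso (A := A) P
  have hP : TA 0 0 (Dual.inD A ((ModuleCat.restrictScalars (algebraMap A P)).obj (ModuleCat.of P P))) :=
    (ta_inD_of_flat (A := A) P).of_iso ((DerivedCategory.singleFunctor (ModuleCat.{u} A) 0).mapIso e0.symm)
  let l : (ModuleCat.restrictScalars (algebraMap A P)).obj (ModuleCat.of P M) ≃ₗ[A] M :=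
    { toFun := fun x => x
      invFun := fun x => x
      map_add' := fun _ _ => rfl
      map_smul' := fun r x => algebraMap_smul (M := M) P r x
      left_inv := fun _ => rfl
      right_inv := fun _ => rfl }
  have h1 : TA (a + 0) (b + max 0 0) (Dual.inD A M) :=
    (ta_restrict (algebraMap A P) hP h).of_iso
      (((ModuleCat.restrictScalars.{u} (algebraMap A P)).mapDerivedCategorySingleFunctor 0).app _ ≪≫
        (DerivedCategory.singleFunctor (ModuleCat.{u} A) 0).mapIso l.toModuleIso)
  have h2 : TA (a + 0) 0 (Dual.inD A M) :=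
    LCI19.ta_inD_right (b := max 0 (b + max 0 0)) (by omega) le_rfl (h1.mono le_rfl (by omega))
  exact ⟨(-a).toNat, (hasTorDimLE_iff M _).2 (h2.mono (by omega) le_rfl)⟩

theorem t7066 (A B : Type u) [CommRing A] [CommRing B] [Algebra A B] :
    MoreMor.IsPerfectHom A B ↔
      ∃ (n : ℕ) (φ : MvPolynomial (Fin n) A →ₐ[A] B), Function.Surjective φ ∧
        letI := φ.toRingHom.toAlgebra
        DRing.IsPerfectModule (MvPolynomial (Fin n) A) B := by
  constructor
  · rintro ⟨⟨n, φ, hφ, hpc⟩, d, hd⟩
    refine ⟨n, φ, hφ, ?_⟩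
    letI := φ.toRingHom.toAlgebra
    haveI : IsScalarTower A (MvPolynomial (Fin n) A) B := IsScalarTower.of_algHom φ
    exact (perfect_iff _).2 ⟨hpc, _, _, LCI19.ta_mvPolynomial n B ((hasTorDimLE_iff B d).1 hd)⟩
  · rintro ⟨n, φ, hφ, h⟩
    letI := φ.toRingHom.toAlgebra
    haveI : IsScalarTower A (MvPolynomial (Fin n) A) B := IsScalarTower.of_algHom φ
    obtain ⟨hpc, a, b, hta⟩ := (perfect_iff _).1 h
    exact ⟨⟨n, φ, hφ, hpc⟩, finiteTorDim_restrict (P := MvPolynomial (Fin n) A) B hta⟩

theorem t7069 (A B : Type u) [CommRing A] [CommRing B] [Algebra A B]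
    [IsRegularRing A] [Algebra.FiniteType A B] : MoreMor.IsPerfectHom A B := by
  obtain ⟨n, φ, hφ⟩ := Algebra.FiniteType.iff_quotient_mvPolynomial''.1 ‹Algebra.FiniteType A B›
  refine (t7066 A B).2 ⟨n, φ, hφ, ?_⟩
  letI := φ.toRingHom.toAlgebra
  haveI : Module.Finite (MvPolynomial (Fin n) A) B :=
    Module.Finite.of_surjective (Algebra.linearMap (MvPolynomial (Fin n) A) B) hφ
  haveI : IsRegularRing (MvPolynomial (Fin n) A) := MvPolynomial.isRegularRing_of_isRegularRing A
  exact perfect_inD_of_regular
    (fun p => IsRegularRing.isRegularLocalRing_localization p.asIdeal) B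

theorem t7068 (A B : Type u) [CommRing A] [CommRing B] [Algebra A B]
    [Module.Flat A B] [Algebra.FinitePresentation A B] : MoreMor.IsPerfectHom A B := by
  obtain ⟨n, φ, hφ, hker⟩ := Algebra.FinitePresentation.out (R := A) (A := B)
  refine ⟨⟨n, φ, hφ, ?_⟩, 0, (hasTorDimLE_iff B 0).2 (by simpa using ta_inD_of_flat (A := A) B)⟩
  letI := φ.toRingHom.toAlgebra
  haveI : IsScalarTower A (MvPolynomial (Fin n) A) B := IsScalarTower.of_algHom φ
  haveI : Module.FinitePresentation (MvPolynomial (Fin n) A) B :=
    Module.finitePresentation_of_surjective (Algebra.linearMap (MvPolynomial (Fin n) A) B) hφ hker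
  obtain ⟨D, B₁, _, _, _, _, _, _, _, _, _, _, _, hm⟩ :=
    FlatStage64.exists_flat_model A (MvPolynomial (Fin n) A) B
  refine (pc'_iff_forall_pc _).2 fun m => pc_inD_of_coherent
    (P := fun M _ _ => FlatStage64.HasModel D B₁ (MvPolynomial (Fin n) A) M) (fun M _ _ hM => ?_) B hm m
  exact FlatStage64.HasModel.step D A B₁ (MvPolynomial (Fin n) A) hM

end Groth.Agent.FlatMor68.PerfHom
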