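import Mathlib.AlgebraicGeometry.ZariskisMainTheorem
import Mathlib.AlgebraicGeometry.PullbackCarrier
import Mathlib.RingTheory.Etale.QuasiFinite
import Groth.Agent.EtaPt32.Homeo
import Groth.Agent.Unr55.FinitePart

/-!
Splitting off a quasi-finite point with trivial residue field extension and uniqueness.
-/

set_option autoImplicit false
set_option linter.style.haveILetI false
universe u

open AlgebraicGeometry CategoryTheory Limits TensorProduct

namespace Groth.Agent.FlatMor68.QFSplit

variable {X S : Scheme.{u}}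

set_option backward.defeqAttrib.useBackward true in
set_option backward.isDefEq.respectTransparency false in
theorem exists_etale_residueIso_unique (f : X ⟶ S) [LocallyOfFiniteType f] [IsSeparated f]
    (x : X) (hx : f.QuasiFiniteAt x) :
    ∃ (U : Scheme.{u}) (g : U ⟶ S) (u : U), Etale g ∧ g u = f x ∧ IsIso (g.residueFieldMap u) ∧
    ∃ (V W : (pullback f g).Opens) (v : ↑(pullback f g)), IsCompl V W ∧ v ∈ V ∧
      IsFinite (V.ι ≫ pullback.snd f g) ∧
      pullback.fst f g v = x ∧ pullback.snd f g v = u ∧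
      ∀ z : ↑(pullback f g), z ∈ V → pullback.snd f g z = u → z = v := by
  obtain ⟨_, ⟨U, hU, rfl⟩, hxU, -⟩ := S.isBasis_affineOpens.exists_subset_of_mem_open
    (Set.mem_univ (f x)) isOpen_univ
  obtain ⟨_, ⟨V, hV, rfl⟩, hxV, hUV : V ≤ f ⁻¹ᵁ U⟩ :=
    X.isBasis_affineOpens.exists_subset_of_mem_open hxU (f ⁻¹ᵁ U).2
  have : (f.appLE U V hUV).hom.FiniteType := f.finiteType_appLE hU hV hUV
  algebraize [(f.appLE U V hUV).hom]
  have : (hV.primeIdealOf ⟨x, hxV⟩).asIdeal.LiesOver (hU.primeIdealOf ⟨f x, hxU⟩).asIdeal := by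
    suffices hU.primeIdealOf ⟨f x, hxU⟩ = Spec.map (f.appLE U V hUV) (hV.primeIdealOf ⟨x, hxV⟩) from
      ⟨congr(($this).1)⟩
    apply hU.isoSpec.inv.homeomorph.injective
    apply Subtype.ext
    simp only [IsAffineOpen.primeIdealOf, Scheme.Hom.homeomorph_apply,
      ← Scheme.Hom.comp_apply, ← Scheme.Opens.ι_apply, IsAffineOpen.isoSpec_hom]
    simp
  have : Algebra.QuasiFiniteAt Γ(S, U) (hV.primeIdealOf ⟨x, hxV⟩).asIdeal :=
    hx.quasiFiniteAt hV hU hUV hxV
  obtain ⟨R, _, _, _, P, _, _, e, _, P', _, _, hP', heP', hbij, _, huniq⟩ :=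
    Algebra.exists_etale_isIdempotentElem_forall_liesOver_eq
    (hU.primeIdealOf ⟨f x, hxU⟩).asIdeal (hV.primeIdealOf ⟨x, hxV⟩).asIdeal
  have : (algebraMap R (Localization.Away e)).Finite := RingHom.finite_algebraMap.mpr ‹_›
  let φ : Γ(S, U) ⟶ .of R := CommRingCat.ofHom <| algebraMap Γ(S, U) R
  have hφ : φ.hom.Etale := RingHom.etale_algebraMap.mpr ‹_›
  have : Etale (Spec.map φ) := HasRingHomProperty.Spec_iff.mpr hφ
  let e₁ : Spec (.of (R ⊗ Γ(X, V))) ≅ pullback (Spec.map (f.appLE U V hUV)) (Spec.map φ) :=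
    (pullbackSpecIso _ _ _).symm ≪≫ pullbackSymmetry _ _
  have he₁ : e₁.hom ≫ pullback.fst _ _ =
      Spec.map (CommRingCat.ofHom Algebra.TensorProduct.includeRight.toRingHom) := by
    dsimp [e₁, RingHom.algebraMap_toAlgebra]
    rw [Category.assoc, pullbackSymmetry_hom_comp_fst]
    exact pullbackSpecIso_inv_snd ..
  have he₂ : e₁.hom ≫ pullback.snd _ _ =
      Spec.map (CommRingCat.ofHom Algebra.TensorProduct.includeLeftRingHom) := by
    dsimp [e₁, RingHom.algebraMap_toAlgebra]
    rw [Category.assoc, pullbackSymmetry_hom_comp_snd]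
    exact pullbackSpecIso_inv_fst ..
  let g : Spec (.of (R ⊗[Γ(S, U)] Γ(X, V))) ⟶ pullback f (Spec.map φ ≫ hU.fromSpec) :=
    e₁.hom ≫ pullback.map _ _ _ _ hV.fromSpec (𝟙 _) hU.fromSpec
      (IsAffineOpen.SpecMap_appLE_fromSpec ..) (by simp)
  let W₁ := g ''ᵁ PrimeSpectrum.basicOpen e
  have hfin : IsFinite (W₁.ι ≫ pullback.snd f _) := by
    let ι : Spec (.of (Localization.Away e)) ⟶ pullback f (Spec.map φ ≫ hU.fromSpec) :=
      Spec.map (CommRingCat.ofHom <| algebraMap _ _) ≫ g
    have : ι.opensRange = W₁ := by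
      simp only [Scheme.Hom.opensRange_comp, ι, W₁]
      congr 1
      exact TopologicalSpace.Opens.ext <| PrimeSpectrum.localization_away_comap_range _ _
    rw [← this, ← MorphismProperty.cancel_left_of_respectsIso @IsFinite
      (Scheme.Hom.isoOpensRange _).hom]
    have H : (pullbackSpecIso _ R _).inv ≫ pullback.fst _ (Spec.map (f.appLE U V hUV)) = _ :=
      pullbackSpecIso_inv_fst ..
    simpa [Scheme.Hom.isoOpensRange, ι, g, e₁, RingHom.algebraMap_toAlgebra, φ, H,
      ← Spec.map_comp, IsFinite.SpecMap_iff]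
  have : IsFinite W₁.ι := .of_comp _ (pullback.snd f _)
  let W₂ : (pullback f (Spec.map φ ≫ hU.fromSpec)).Opens :=
    ⟨(W₁ : Set ↑(pullback f (Spec.map φ ≫ hU.fromSpec)))ᶜ, by
      simpa using W₁.ι.isClosedMap.isClosed_range⟩
  have hsnd : g ≫ pullback.snd f (Spec.map φ ≫ hU.fromSpec) =
      Spec.map (CommRingCat.ofHom Algebra.TensorProduct.includeLeftRingHom) := by
    simp only [g, Category.assoc, pullback.map, pullback.lift_snd, Category.comp_id, he₂]
  let u₀ : Spec (CommRingCat.of R) := ⟨P, ‹_›⟩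
  refine ⟨Spec (.of R), Spec.map φ ≫ hU.fromSpec, u₀, inferInstance, ?_, ?_, W₁, W₂,
    g ⟨P', ‹_›⟩, ?_, ⟨⟨P', ‹_›⟩, heP', rfl⟩, hfin, ?_, ?_, ?_⟩
  · dsimp [Spec.map_apply, u₀]
    convert! hU.fromSpec_primeIdealOf ⟨f x, hxU⟩
    exact PrimeSpectrum.ext (Ideal.over_def _ _).symm
  · rw [Scheme.residueFieldMap_comp]
    suffices IsIso ((Spec.map φ).residueFieldMap u₀) from inferInstance
    rw [ConcreteCategory.isIso_iff_bijective]
    have key := congrArg (fun m => ⇑(CommRingCat.Hom.hom m))
      (EtaPt32.residueFieldMap_eq (algebraMap Γ(S, U) R) u₀)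
    have h1 := ConcreteCategory.bijective_of_isIso
      (Scheme.Spec.residueFieldIso (CommRingCat.of R) u₀).hom
    have h2 := ConcreteCategory.bijective_of_isIso (Scheme.Spec.residueFieldIso
      (CommRingCat.of Γ(S, U)) (Spec.map (CommRingCat.ofHom (algebraMap Γ(S, U) R)) u₀)).hom
    simp only [CommRingCat.hom_comp, RingHom.coe_comp] at key
    have hb : ∀ (p : Ideal Γ(S, U)) [p.IsPrime] (hp : p = P.comap (algebraMap Γ(S, U) R)),
        Function.Bijective (Ideal.ResidueField.map p P (algebraMap Γ(S, U) R) hp) := by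
      intro p _ hp
      obtain rfl : p = (hU.primeIdealOf ⟨f x, hxU⟩).asIdeal :=
        hp.trans (P.over_def (hU.primeIdealOf ⟨f x, hxU⟩).asIdeal).symm
      exact hbij
    exact (Function.Bijective.of_comp_iff' h1 _).mp (key ▸ (hb _ rfl).comp h2)
  · simp [isCompl_iff, disjoint_iff, codisjoint_iff, W₂, SetLike.ext'_iff]
  · trans hV.fromSpec ⟨P'.comap Algebra.TensorProduct.includeRight.toRingHom, inferInstance⟩
    · simp [← Scheme.Hom.comp_apply, -Scheme.Hom.comp_base, g, reassoc_of% he₁]; rfl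
    convert! hV.fromSpec_primeIdealOf ⟨x, hxV⟩
  · rw [← Scheme.Hom.comp_apply, hsnd]
    exact PrimeSpectrum.ext (P'.over_def P).symm
  · rintro z ⟨⟨Q, hQ⟩, heQ, rfl⟩ hz
    replace hz := (congrArg (fun h : Spec (CommRingCat.of (R ⊗[Γ(S, U)] Γ(X, V))) ⟶ Spec (CommRingCat.of R) => h ⟨Q, hQ⟩) hsnd).symm.trans ((Scheme.Hom.comp_apply _ _ _).trans hz)
    have : Q.LiesOver P := ⟨(congrArg PrimeSpectrum.asIdeal hz).symm⟩
    exact congrArg g (PrimeSpectrum.ext (huniq Q hQ this heQ))

theorem surjective_of_fromSpecResidueField {X : Scheme.{u}} {x : X} (y : X) (hy : y = x)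
    (τ : X.residueField y ⟶ X.residueField x)
    (h : Spec.map τ ≫ X.fromSpecResidueField y = X.fromSpecResidueField x) :
    Function.Surjective τ := by
  subst hy
  have h1 : Spec.map τ = Spec.map (𝟙 _) := by
    rw [← cancel_mono (X.fromSpecResidueField y), h, Spec.map_id, Category.id_comp]
  rw [Spec.map_injective h1]
  exact fun a => ⟨a, rfl⟩

theorem exists_factor_residueField {P : Scheme.{u}} {K : Type u} [Field K]
    (c : Spec (CommRingCat.of K) ⟶ P) (q : ↥(Spec (CommRingCat.of K))) :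
    ∃ σ : P.residueField (c q) ⟶ CommRingCat.of K, Spec.map σ ≫ P.fromSpecResidueField (c q) = c := by
  obtain rfl : q = IsLocalRing.closedPoint K := Subsingleton.elim (α := PrimeSpectrum K) _ _
  exact ⟨_, Scheme.descResidueField_stalkClosedPointTo_fromSpecResidueField K P c⟩

theorem surjective_residueFieldMap_of_lift {P X : Scheme.{u}} (p : P ⟶ X) (x : X)
    (c : Spec (X.residueField x) ⟶ P) (hc : c ≫ p = X.fromSpecResidueField x)
    (q : ↥(Spec (X.residueField x))) : Function.Surjective (p.residueFieldMap (c q)) := by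
  obtain ⟨σ, hσ⟩ := exists_factor_residueField (K := X.residueField x) c q
  have hx : p (c q) = x := by
    rw [← Scheme.Hom.comp_apply, hc, Scheme.fromSpecResidueField_apply]
  have h1 := surjective_of_fromSpecResidueField _ hx (p.residueFieldMap (c q) ≫ σ) (by
    rw [Spec.map_comp, Category.assoc, Scheme.Hom.SpecMap_residueFieldMap_fromSpecResidueField,
      ← Category.assoc, hσ, hc])
  intro a
  obtain ⟨b, hb⟩ := h1 (σ a)
  exact ⟨b, σ.hom.injective hb⟩

theorem exists_section_at {U : Scheme.{u}} (g : U ⟶ S) (u : U) [IsIso (g.residueFieldMap u)] {s : S}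
    (hs : g u = s) : ∃ a : Spec (S.residueField s) ⟶ U, a ≫ g = S.fromSpecResidueField s ∧ ∀ q, a q = u := by
  subst hs
  refine ⟨Spec.map (inv (g.residueFieldMap u)) ≫ U.fromSpecResidueField u, ?_, fun q => by
    rw [Scheme.Hom.comp_apply, Scheme.fromSpecResidueField_apply]⟩
  rw [Category.assoc, ← Scheme.Hom.SpecMap_residueFieldMap_fromSpecResidueField, ← Spec.map_comp_assoc,
    IsIso.hom_inv_id, Spec.map_id, Category.id_comp]

theorem exists_split (f : X ⟶ S) [LocallyOfFiniteType f] [IsSeparated f] (x : X) (hx : f.QuasiFiniteAt x) :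
    ∃ (U : Scheme.{u}) (g : U ⟶ S) (u : U), Etale g ∧ g u = f x ∧ Function.Surjective (g.residueFieldMap u) ∧
      ∃ (V : (pullback f g).Opens) (v : ↑(pullback f g)), IsClopen (V : Set ↑(pullback f g)) ∧
        IsFinite (V.ι ≫ pullback.snd f g) ∧ v ∈ V ∧ pullback.fst f g v = x ∧ pullback.snd f g v = u ∧
        Function.Surjective ((pullback.fst f g).residueFieldMap v) ∧
        (∀ w : ↑(pullback f g), pullback.snd f g w = u → (w ∈ V ∨ pullback.fst f g w = x) → w = v) := by
  obtain ⟨U, g, u, hg, hgu, hiso, V, W, v, hVW, hvV, hfin, hvx, hvu, huniq⟩ :=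
    exists_etale_residueIso_unique f x hx
  haveI := hiso
  have hclopen : IsClopen (V : Set ↑(pullback f g)) := by
    refine ⟨?_, V.2⟩
    have h1 : (V : Set ↑(pullback f g)) = (W : Set ↑(pullback f g))ᶜ := by
      have hd := hVW.disjoint
      have hc := hVW.codisjoint
      rw [disjoint_iff, SetLike.ext'_iff] at hd
      rw [codisjoint_iff, SetLike.ext'_iff] at hc
      simp only [TopologicalSpace.Opens.coe_inf, TopologicalSpace.Opens.coe_bot] at hd
      simp only [TopologicalSpace.Opens.coe_sup, TopologicalSpace.Opens.coe_top] at hc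
      exact (IsCompl.of_eq hd hc).eq_compl
    rw [h1]
    exact W.2.isClosed_compl
  have hfib : ∀ w : ↑(pullback f g), pullback.snd f g w = u → pullback.fst f g w = x → w = v := by
    intro w hw hwx
    haveI : IsIso (g.residueFieldMap (pullback.snd f g w)) := by rw [hw]; infer_instance
    exact Unr55.pullback_eq_of_fst_eq_of_snd_eq (IsPullback.of_hasPullback f g) w v (hwx.trans hvx.symm)
      (hw.trans hvu.symm)
  have hres : Function.Surjective ((pullback.fst f g).residueFieldMap v) := by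
    obtain ⟨a, ha, hau⟩ := exists_section_at g u hgu
    let c : Spec (X.residueField x) ⟶ pullback f g :=
      pullback.lift (X.fromSpecResidueField x) (Spec.map (f.residueFieldMap x) ≫ a) (by
        rw [Category.assoc, ha, Scheme.Hom.SpecMap_residueFieldMap_fromSpecResidueField])
    have hc1 : c ≫ pullback.fst f g = X.fromSpecResidueField x := pullback.lift_fst _ _ _
    let q₀ : ↥(Spec (X.residueField x)) := IsLocalRing.closedPoint (X.residueField x)
    have hv : c q₀ = v := by
      refine hfib _ ?_ ?_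
      · have h2 : pullback.snd f g (c q₀) = a (Spec.map (f.residueFieldMap x) q₀) := by
          rw [← Scheme.Hom.comp_apply, show c ≫ pullback.snd f g = Spec.map (f.residueFieldMap x) ≫ a from
            pullback.lift_snd _ _ _, Scheme.Hom.comp_apply]
        rw [h2]
        exact hau _
      · rw [← Scheme.Hom.comp_apply, hc1, Scheme.fromSpecResidueField_apply]
    have := surjective_residueFieldMap_of_lift (pullback.fst f g) x c hc1 q₀
    rwa [hv] at this
  refine ⟨U, g, u, hg, hgu, (ConcreteCategory.bijective_of_isIso (g.residueFieldMap u)).2, V, v, hclopen,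
    hfin, hvV, hvx, hvu, hres, fun w hw h => h.elim (fun hV => huniq w hV hw) (hfib w hw)⟩

end Groth.Agent.FlatMor68.QFSplit
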