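import Groth.Agent.FlatCrit65.Blow.GluePair
import Groth.Agent.H98Strict.Transform
import Mathlib

/-!
The open domain of a quasi-domination over an admissible blow-up is a blow-up.
-/

set_option autoImplicit false
set_option linter.style.haveILetI false
set_option backward.isDefEq.respectTransparency.types false

universe u

open CategoryTheory CategoryTheory.Limits AlgebraicGeometry TopologicalSpace

noncomputable section

namespace Groth.Agent.FlatMor68.QuasiDomBlowUp

open Groth.Agent.FlatCrit65.Blow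

/-- A closed subscheme through which a scheme-theoretically dominant morphism factors is everything. -/
theorem exists_factor {W P T O : Scheme.{u}} (Γ : W ⟶ P) [IsClosedImmersion Γ] (m : T ⟶ P) (d : O ⟶ T)
    [IsSchemeTheoreticallyDominant d] (w : O ⟶ W) (h : w ≫ Γ = d ≫ m) : ∃ k : T ⟶ W, k ≫ Γ = m := by
  let i := pullback.fst m Γ
  have hk : (pullback.lift d w h.symm ≫ i).ker = ⊥ := by
    rw [pullback.lift_fst]; exact d.ker_eq_bot
  haveI : IsIso i := IsClosedImmersion.isIso_iff_ker_eq_bot.mpr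
    (le_bot_iff.1 (le_of_le_of_eq ((pullback.lift d w h.symm).le_ker_comp i) hk))
  exact ⟨inv i ≫ pullback.snd m Γ, by rw [Category.assoc, ← pullback.condition, IsIso.inv_hom_id_assoc]⟩

theorem main {S U X Y Xt : Scheme.{u}} [CompactSpace S] [QuasiSeparatedSpace S]
    (gX : X ⟶ S) (gY : Y ⟶ S) [IsSeparated gX] [IsSeparated gY]
    (jX : U ⟶ X) [IsOpenImmersion jX] [CompactSpace U]
    (V : Y.Opens)
    (jV : U ⟶ (V : Scheme.{u})) [IsOpenImmersion jV] [IsSchemeTheoreticallyDominant jV]
    (φ : (V : Scheme.{u}) ⟶ X) (hφU : jV ≫ φ = jX) (hφ : V.ι ≫ gY = φ ≫ gX)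
    (hφcl : IsClosed (Set.range (fun x => pullback.lift V.ι φ hφ x)))
    (𝓘 : X.IdealSheafData) (h𝓘 : BlowUp.IsAdmissibleFor jX.opensRange 𝓘)
    (b : Xt ⟶ X) (hb : BlowUp.IsBlowUp b 𝓘)
    (W : Xt.Opens) (u : U ⟶ (W : Scheme.{u})) (hu : u ≫ W.ι ≫ b = jX)
    [IsSchemeTheoreticallyDominant (u ≫ W.ι)]
    (ψ : (W : Scheme.{u}) ⟶ (V : Scheme.{u})) (hψU : u ≫ ψ = jV)
    (hψ : W.ι ≫ b ≫ gX = ψ ≫ V.ι ≫ gY)
    (hψcl : IsClosed (Set.range (fun x => pullback.lift W.ι ψ hψ x))) :
    BlowUp.IsBlowUp ψ (𝓘.comap φ) ∧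
      IsClosed (Set.range (fun x => pullback.lift (f := b ≫ gX) (g := gY) W.ι (ψ ≫ V.ι)
        (hψ.trans (Category.assoc ψ V.ι gY).symm) x)) := by
  haveI : IsProper b := RegImm10.BlowModel.isProper_of_isBlowUp h𝓘.1 hb
  haveI : QuasiSeparatedSpace X := AlgebraicGeometry.quasiSeparatedSpace_of_quasiSeparated gX
  haveI : QuasiSeparatedSpace Y := AlgebraicGeometry.quasiSeparatedSpace_of_quasiSeparated gY
  haveI : QuasiSeparatedSpace (V : Scheme.{u}) := AlgebraicGeometry.quasiSeparatedSpace_of_quasiSeparated V.ι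
  haveI : QuasiSeparatedSpace Xt := AlgebraicGeometry.quasiSeparatedSpace_of_quasiSeparated b
  haveI : QuasiSeparatedSpace (W : Scheme.{u}) := AlgebraicGeometry.quasiSeparatedSpace_of_quasiSeparated W.ι
  haveI : QuasiCompact u := quasiCompact_of_compactSpace u
  haveI : QuasiCompact jV := quasiCompact_of_compactSpace jV
  have hjX : ∀ t : U, jX t ∉ 𝓘.support := fun t ht => Set.disjoint_left.1 h𝓘.2 ht ⟨t, rfl⟩
  haveI : IsSchemeTheoreticallyDominant u := by
    haveI : QuasiCompact (u ≫ W.ι) := quasiCompact_of_compactSpace _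
    have H : IsPullback (𝟙 U) u (u ≫ W.ι) W.ι :=
      IsPullback.of_isLimit' ⟨by rw [Category.id_comp]⟩ (PullbackCone.IsLimit.mk _ (fun s => s.fst)
        (fun s => Category.comp_id _) (fun s => by
          rw [← cancel_mono W.ι, Category.assoc, s.condition])
        (fun s m h1 _ => by simpa using h1))
    exact IsSchemeTheoreticallyDominant.of_isPullback H
  -- the two maps to `X` agree
  have hφψ : ψ ≫ φ = W.ι ≫ b := by
    refine ext_of_dominant u gX _ _ ?_ ?_
    · rw [Category.assoc, ← hφ, Category.assoc, ← hψ]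
    · rw [← Category.assoc, hψU, hφU, hu]
  let Γ : (W : Scheme.{u}) ⟶ pullback (b ≫ gX) (V.ι ≫ gY) := pullback.lift W.ι ψ hψ
  haveI : IsImmersion (Γ ≫ pullback.fst (b ≫ gX) (V.ι ≫ gY)) := by rw [pullback.lift_fst]; infer_instance
  haveI : IsImmersion Γ := IsImmersion.of_comp Γ (pullback.fst _ _)
  haveI : IsClosedImmersion Γ := IsClosedImmersion.of_isPreimmersion Γ hψcl
  -- off the centre `V` lies in the graph
  let V₀ : (V : Scheme.{u}).Opens := (𝓘.comap φ).support.compl
  have hV₀ : ∀ v : (V₀ : Scheme.{u}), (V₀.ι ≫ φ) v ∉ 𝓘.support := fun v hv => v.2 (by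
    rw [Scheme.IdealSheafData.support_comap]
    exact hv)
  obtain ⟨lam, hlam, -⟩ := hb.2 _ (V₀.ι ≫ φ) (isEffCartier_comap_of_range_subset 𝓘 _ hV₀)
  have hjV : Set.range jV ⊆ Set.range V₀.ι := by
    rintro _ ⟨t, rfl⟩
    rw [Scheme.Opens.range_ι]
    intro ht
    refine hjX t ?_
    rw [Scheme.IdealSheafData.support_comap] at ht
    rw [← hφU, Scheme.Hom.comp_apply]
    exact ht
  let jV₀ := IsOpenImmersion.lift V₀.ι jV hjV
  have hjV₀ : jV₀ ≫ V₀.ι = jV := IsOpenImmersion.lift_fac _ _ _
  haveI : IsSchemeTheoreticallyDominant jV₀ :=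
    IsSchemeTheoreticallyDominant.of_isPullback (IsOpenImmersion.isPullback_lift_id jV V₀.ι hjV).flip
  obtain ⟨σ, hσ⟩ := exists_factor Γ
    (pullback.lift lam V₀.ι (show lam ≫ b ≫ gX = V₀.ι ≫ V.ι ≫ gY by
      rw [← Category.assoc, hlam, Category.assoc, hφ])) jV₀ u (by
      apply pullback.hom_ext
      · rw [Category.assoc, Category.assoc, pullback.lift_fst, pullback.lift_fst]
        refine lift_unique hb jX hjX _ _ ?_ ?_
        · rw [Category.assoc, hu]
        · rw [Category.assoc, hlam, ← Category.assoc, hjV₀, hφU]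
      · rw [Category.assoc, Category.assoc, pullback.lift_snd, pullback.lift_snd, hψU, hjV₀])
  refine ⟨⟨?_, fun T h hh => ?_⟩, ?_⟩
  · rw [← Scheme.IdealSheafData.comap_comp, hφψ, Scheme.IdealSheafData.comap_comp]
    exact Div89.isEffCartier_comap_of_flat W.ι hb.1
  · obtain ⟨k, hk, hku⟩ := hb.2 T (h ≫ φ) (by rwa [Scheme.IdealSheafData.comap_comp])
    obtain ⟨hdom, -⟩ := H98Strict.dominant_compl hh
    let O : T.Opens := ((𝓘.comap φ).comap h).support.compl
    haveI : IsSchemeTheoreticallyDominant O.ι := hdom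
    have hO : Set.range (O.ι ≫ h) ⊆ Set.range V₀.ι := by
      rintro _ ⟨t, rfl⟩
      rw [Scheme.Opens.range_ι]
      intro ht
      refine t.2 ?_
      rw [Scheme.IdealSheafData.support_comap]
      exact ht
    let h₀ := IsOpenImmersion.lift V₀.ι (O.ι ≫ h) hO
    have hh₀ : h₀ ≫ V₀.ι = O.ι ≫ h := IsOpenImmersion.lift_fac _ _ _
    obtain ⟨k', hk'⟩ := exists_factor Γ
      (pullback.lift k h (show k ≫ b ≫ gX = h ≫ V.ι ≫ gY by
        rw [← Category.assoc, hk, Category.assoc, hφ])) O.ι (h₀ ≫ σ) (by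
        rw [Category.assoc, hσ]
        apply pullback.hom_ext
        · simp only [Category.assoc, pullback.lift_fst]
          refine lift_unique hb (h₀ ≫ V₀.ι ≫ φ) (fun t => ?_) _ _ ?_ ?_
          · rw [Scheme.Hom.comp_apply]
            exact hV₀ (h₀ t)
          · rw [Category.assoc, hlam]
          · rw [Category.assoc, hk, ← Category.assoc, ← hh₀, Category.assoc]
        · simp only [Category.assoc, pullback.lift_snd, hh₀])
    refine ⟨k', ?_, fun k'' hk'' => ?_⟩
    · show k' ≫ ψ = h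
      have := congrArg (· ≫ pullback.snd _ _) hk'
      simpa only [Γ, Category.assoc, pullback.lift_snd] using this
    · have h1 : k' ≫ W.ι = k := by
        have := congrArg (· ≫ pullback.fst _ _) hk'
        simpa only [Γ, Category.assoc, pullback.lift_fst] using this
      rw [← cancel_mono W.ι, h1]
      refine hku _ ?_
      show (k'' ≫ W.ι) ≫ b = h ≫ φ
      rw [Category.assoc, ← hφψ, ← Category.assoc]
      exact congrArg (· ≫ φ) hk''
  · -- closedness of the graph in `Xt ×_S Y`
    let L : (W : Scheme.{u}) ⟶ pullback (b ≫ gX) gY :=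
      pullback.lift W.ι (ψ ≫ V.ι) (hψ.trans (Category.assoc ψ V.ι gY).symm)
    let M : pullback (b ≫ gX) (V.ι ≫ gY) ⟶ pullback (b ≫ gX) gY :=
      pullback.map _ _ _ _ (𝟙 Xt) V.ι (𝟙 S) (by simp) (by simp)
    have hL : Γ ≫ M = L := by
      apply pullback.hom_ext <;>
        simp only [L, Γ, M, pullback.map, Category.assoc, pullback.lift_fst, pullback.lift_snd,
          pullback.lift_snd_assoc, Category.comp_id]
    let N : pullback (b ≫ gX) gY ⟶ pullback gY gX :=
      pullback.lift (pullback.snd _ _) (pullback.fst _ _ ≫ b) (by rw [Category.assoc, pullback.condition])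
    have hN : L ≫ N = ψ ≫ pullback.lift V.ι φ hφ := by
      apply pullback.hom_ext <;>
        simp only [L, N, Category.assoc, pullback.lift_fst, pullback.lift_snd, pullback.lift_fst_assoc, hφψ]
    show IsClosed (Set.range L)
    rw [isClosed_iff_clusterPt]
    intro z hz
    have hzc : z ∈ closure (Set.range L) := mem_closure_iff_clusterPt.2 hz
    have h1 : N z ∈ Set.range (pullback.lift V.ι φ hφ) := by
      refine closure_minimal ?_ (hφcl.preimage N.continuous) hzc
      rintro _ ⟨w, rfl⟩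
      exact ⟨ψ w, (Scheme.Hom.comp_apply _ _ _).symm.trans
        ((congrArg (fun m : (W : Scheme.{u}) ⟶ _ => m w) hN.symm).trans (Scheme.Hom.comp_apply _ _ _))⟩
    obtain ⟨v, hv⟩ := h1
    have h2 : pullback.snd (b ≫ gX) gY z = V.ι v := by
      have := congrArg (fun y => pullback.fst gY gX y) hv
      simp only [← Scheme.Hom.comp_apply, N, pullback.lift_fst] at this
      exact this.symm
    have h3 : z ∈ Set.range M := by
      rw [Scheme.Pullback.range_map]
      exact ⟨⟨pullback.fst (b ≫ gX) gY z, by simp⟩, ⟨v, h2.symm⟩⟩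
    obtain ⟨y, rfl⟩ := h3
    have hy : y ∈ closure (Set.range Γ) := by
      rw [M.isOpenEmbedding.isEmbedding.closure_eq_preimage_closure_image, ← Set.range_comp]
      have e : Set.range (M ∘ Γ) = Set.range L := by
        ext a
        simp only [Set.mem_range, Function.comp_apply, ← Scheme.Hom.comp_apply, hL]
      rw [Set.mem_preimage, e]
      exact hzc
    rw [hψcl.closure_eq] at hy
    obtain ⟨w, rfl⟩ := hy
    exact ⟨w, by rw [← hL, Scheme.Hom.comp_apply]⟩

end Groth.Agent.FlatMor68.QuasiDomBlowUp
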