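import Groth.Agent.FlatMor68.GlueMany
import Groth.Agent.FlatCrit65.Blow.IsoNearClosed
import Groth.Agent.H98Strict.Admissible
import Groth.Agent.Div89.IdealExtend
import Groth.Agent.FBlow13.Exist
import Groth.Agent.S17391
import Mathlib

/-!
Extending a quasi-domination after an admissible blow-up.
-/

set_option autoImplicit false
set_option linter.style.haveILetI false
set_option backward.isDefEq.respectTransparency.types false

universe u

open CategoryTheory CategoryTheory.Limits AlgebraicGeometry TopologicalSpace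

noncomputable section

namespace Groth.Agent.FlatMor68.QuasiDomExtend

open Groth.Agent.FlatCrit65.Blow

theorem restrict_val {X Y : Scheme.{u}} (f : X ⟶ Y) (O : Y.Opens) (x : (f ⁻¹ᵁ O : X.Opens).toScheme) :
    O.ι ((f ∣_ O) x) = f x.1 := by
  rw [← Scheme.Hom.comp_apply, morphismRestrict_ι, Scheme.Hom.comp_apply]
  rfl

/-- A blow-up separating the closure of a graph from a boundary. -/
theorem exists_separating {S X Y : Scheme.{u}} [CompactSpace S] [QuasiSeparatedSpace S]
    [CompactSpace X] [QuasiSeparatedSpace X] [CompactSpace Y]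
    (pX : X ⟶ S) (pY : Y ⟶ S) [IsSeparated pY] [LocallyOfFiniteType pY]
    (U V : X.Opens) (hUV : U ≤ V) (hU : IsCompact (U : Set X)) (hV : IsCompact (V : Set X))
    (f : (U : Scheme.{u}) ⟶ Y) (hf : U.ι ≫ pX = f ≫ pY)
    (hcl : closure (Set.range (fun x => pullback.lift U.ι f hf x)) ∩
        ((pullback.fst pX pY) ⁻¹ᵁ V : Set ↥(pullback pX pY)) ⊆ Set.range (fun x => pullback.lift U.ι f hf x)) :
    ∃ (𝓘 : X.IdealSheafData) (X' : Scheme.{u}) (q : X' ⟶ X),
      BlowUp.IsBlowUp q 𝓘 ∧ BlowUp.IsAdmissibleFor V 𝓘 ∧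
      Disjoint
        (closure ((fun z => pullback.fst (pullback.fst pX pY) q z) ⁻¹' Set.range (fun x => pullback.lift U.ι f hf x)))
        ((fun z => pullback.snd (pullback.fst pX pY) q z) ⁻¹' closure ((fun x => q x) ⁻¹' ((V : Set X) \ (U : Set X)))) := by
  let e : (U : Scheme.{u}) ⟶ pullback pX pY := pullback.lift U.ι f hf
  have hef : e ≫ pullback.fst pX pY = U.ι := pullback.lift_fst _ _ _
  haveI : IsImmersion (e ≫ pullback.fst pX pY) := by rw [hef]; infer_instance
  haveI : IsImmersion e := IsImmersion.of_comp e (pullback.fst pX pY)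
  haveI : CompactSpace (U : Scheme.{u}) := isCompact_iff_compactSpace.1 hU
  haveI : QuasiCompact pY := quasiCompact_of_compactSpace pY
  haveI : QuasiSeparatedSpace (pullback pX pY : Scheme.{u}) :=
    AlgebraicGeometry.quasiSeparatedSpace_of_quasiSeparated (pullback.fst pX pY)
  haveI : QuasiCompact e := quasiCompact_of_compactSpace e
  obtain ⟨I₁, hI₁f, hI₁⟩ := H98Strict.exists_ideal_support U hU
  obtain ⟨I₂, hI₂f, hI₂⟩ := H98Strict.exists_ideal_support V hV
  let M := (((I₁ * I₁).comap (pullback.fst pX pY)) ⊔ e.ker).map (pullback.fst pX pY)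
  have hM : M.support ≤ I₂.support := by
    change (M.support : Set X) ⊆ I₂.support
    rw [hI₂, Scheme.IdealSheafData.support_map, Closeds.coe_closure]
    refine (closure_minimal ?_ V.2.isClosed_compl : closure _ ⊆ (V : Set X)ᶜ)
    rintro _ ⟨z, hz, rfl⟩ hzV
    have hz1 : z ∈ ((I₁ * I₁).comap (pullback.fst pX pY)).support :=
      Scheme.IdealSheafData.support_antitone le_sup_left hz
    rw [Scheme.IdealSheafData.support_comap] at hz1
    have hz2 : z ∈ closure (Set.range e) := by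
      rw [← Scheme.Hom.support_ker]
      exact Scheme.IdealSheafData.support_antitone le_sup_right hz
    obtain ⟨x, rfl⟩ := hcl ⟨hz2, hzV⟩
    have h1 : pullback.fst pX pY (e x) ∈ (I₁.support : Set X) := by
      have : pullback.fst pX pY (e x) ∈ ((I₁ * I₁).support : Set X) := hz1
      simpa using this
    rw [hI₁] at h1
    refine h1 ?_
    rw [← Scheme.Hom.comp_apply, hef]
    exact x.2
  obtain ⟨n, hn0, hn⟩ := H98Strict.exists_pow_le hI₂f hM
  have hn' : (I₂ ^ n).comap (pullback.fst pX pY) ≤ (I₁ * I₁).comap (pullback.fst pX pY) ⊔ e.ker :=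
    Scheme.IdealSheafData.le_map_iff_comap_le.1 hn
  have hs₂ : ((I₂ ^ n).support : Set X) = (V : Set X)ᶜ := by
    rw [Scheme.IdealSheafData.support_pow I₂ n hn0.ne', hI₂]
  obtain ⟨X', q, hq⟩ := FBlow13.exists_isBlowUp_scheme X (I₁ ⊔ I₂ ^ n)
  refine ⟨_, X', q, hq, ⟨fun W => ?_, ?_⟩, ?_⟩
  · rw [Scheme.IdealSheafData.ideal_sup, Pi.sup_apply, Scheme.IdealSheafData.ideal_pow, Pi.pow_apply]
    exact Submodule.FG.sup (hI₁f W) (Ideal.FG.pow (hI₂f W))
  · rw [Scheme.IdealSheafData.support_sup]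
    refine Set.disjoint_left.2 fun x hx hxV => ?_
    exact hs₂.le hx.2 hxV
  · have key := Groth.Agent.S17391.result (pullback.fst pX pY) U V hUV e
      (by rintro _ ⟨y, rfl⟩; show pullback.fst pX pY (e y) ∈ U; rw [← Scheme.Hom.comp_apply, hef]; exact y.2)
      I₁ (I₂ ^ n) (fun x hx => hI₁.ge hx.2) (Set.disjoint_left.2 fun x hx hxU => hI₁.le hx hxU)
      (fun x hx => ⟨hI₁.ge fun hxU => hs₂.le hx (hUV hxU), hs₂.le hx⟩) hn' q hq
    refine key.mono_left (closure_mono ?_)
    intro z hz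
    exact (Scheme.Pullback.range_snd e (pullback.fst (pullback.fst pX pY) q)).ge hz

theorem main {S X Y : Scheme.{u}} [CompactSpace S] [QuasiSeparatedSpace S]
    [CompactSpace X] [QuasiSeparatedSpace X] [CompactSpace Y]
    (pX : X ⟶ S) (pY : Y ⟶ S) [IsSeparated pY] [LocallyOfFiniteType pY]
    (U V : X.Opens) (hUV : U ≤ V) (hU : IsCompact (U : Set X)) (hV : IsCompact (V : Set X))
    (hUd : Dense (U : Set X))
    (f : (U : Scheme.{u}) ⟶ Y) (hf : U.ι ≫ pX = f ≫ pY)
    (hcl : closure (Set.range (fun x => pullback.lift U.ι f hf x)) ∩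
        ((pullback.fst pX pY) ⁻¹ᵁ V : Set ↥(pullback pX pY)) ⊆ Set.range (fun x => pullback.lift U.ι f hf x)) :
    ∃ (𝓘 : X.IdealSheafData) (Xt : Scheme.{u}) (q : Xt ⟶ X),
      BlowUp.IsBlowUp q 𝓘 ∧ BlowUp.IsAdmissibleFor V 𝓘 ∧
      ∃ (W : Xt.Opens) (hle : q ⁻¹ᵁ U ≤ W) (ft : (W : Scheme.{u}) ⟶ Y) (hft : W.ι ≫ q ≫ pX = ft ≫ pY),
        Dense (W : Set Xt) ∧ Xt.homOfLE hle ≫ ft = (q ∣_ U) ≫ f ∧
        IsClosed (Set.range (fun x => pullback.lift W.ι ft hft x)) := by
  obtain ⟨𝓘, X', q, hq, h𝓘, hsep⟩ := exists_separating pX pY U V hUV hU hV f hf hcl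
  haveI : IsProper q := RegImm10.BlowModel.isProper_of_isBlowUp h𝓘.1 hq
  haveI : CompactSpace X' := QuasiCompact.compactSpace_of_compactSpace q
  haveI : QuasiSeparatedSpace X' := AlgebraicGeometry.quasiSeparatedSpace_of_quasiSeparated q
  haveI : QuasiCompact pY := quasiCompact_of_compactSpace pY
  let e : (U : Scheme.{u}) ⟶ pullback pX pY := pullback.lift U.ι f hf
  let U' : X'.Opens := q ⁻¹ᵁ U
  haveI : CompactSpace (U' : Scheme.{u}) := isCompact_iff_compactSpace.1 (q.isCompact_preimage hU)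
  let π := pullback.snd (pullback.fst pX pY) q
  haveI : CompactSpace (pullback (pullback.fst pX pY) q : Scheme.{u}) :=
    QuasiCompact.compactSpace_of_compactSpace π
  haveI : QuasiSeparatedSpace (pullback (pullback.fst pX pY) q : Scheme.{u}) :=
    AlgebraicGeometry.quasiSeparatedSpace_of_quasiSeparated π
  let e' : (U' : Scheme.{u}) ⟶ pullback (pullback.fst pX pY) q :=
    pullback.lift ((q ∣_ U) ≫ e) U'.ι (by rw [Category.assoc, pullback.lift_fst, morphismRestrict_ι])
  have he'π : e' ≫ π = U'.ι := pullback.lift_snd _ _ _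
  haveI : IsImmersion (e' ≫ π) := by rw [he'π]; infer_instance
  haveI : IsImmersion e' := IsImmersion.of_comp e' π
  haveI : QuasiCompact e' := quasiCompact_of_compactSpace e'
  -- a quasi-compact open containing the image of the graph closure, meeting `q⁻¹V` in `U'` only
  let T' : Set X' := closure ((fun x => q x) ⁻¹' ((V : Set X) \ (U : Set X)))
  let Cz : Set ↥(pullback (pullback.fst pX pY) q) :=
    closure ((fun z => pullback.fst (pullback.fst pX pY) q z) ⁻¹' Set.range e)
  have hK : (fun z => π z) '' Cz ∪ (U' : Set X') ⊆ T'ᶜ := by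
    rintro y (⟨z, hz, rfl⟩ | hy) hyT
    · exact Set.disjoint_left.1 hsep hz hyT
    · obtain ⟨w, hwU, hw⟩ := mem_closure_iff.1 hyT _ U'.2 hy
      exact hw.2 hwU
  obtain ⟨Q, hKQ, hQT, hQc⟩ := exists_isCompact_between
    ((isClosed_closure.isCompact.image π.continuous).union (q.isCompact_preimage hU))
    (O := ⟨T'ᶜ, isClosed_closure.isOpen_compl⟩) hK
  haveI : CompactSpace (Q : Scheme.{u}) := isCompact_iff_compactSpace.1 hQc
  haveI : QuasiSeparatedSpace (Q : Scheme.{u}) := AlgebraicGeometry.quasiSeparatedSpace_of_quasiSeparated Q.ι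
  have hQV : Q.ι ⁻¹ᵁ (q ⁻¹ᵁ V) = Q.ι ⁻¹ᵁ U' := by
    refine le_antisymm (fun y hy => ?_) (fun y hy => hUV hy)
    by_contra hyU
    exact hQT y.2 (subset_closure ⟨hy, hyU⟩)
  let p' := e'.imageι ≫ π
  have hp'Q : Set.range p' ⊆ Set.range Q.ι := by
    rintro _ ⟨γ, rfl⟩
    rw [Scheme.Opens.range_ι, Scheme.Hom.comp_apply]
    refine hKQ (Or.inl ⟨e'.imageι γ, ?_, rfl⟩)
    have : e'.imageι γ ∈ closure (Set.range e') := by
      rw [← Scheme.Hom.support_ker]
      exact (Scheme.IdealSheafData.range_subschemeι e'.ker).le ⟨γ, rfl⟩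
    refine closure_mono ?_ this
    rintro _ ⟨y, rfl⟩
    refine ⟨(q ∣_ U) y, ?_⟩
    show e ((q ∣_ U) y) = pullback.fst (pullback.fst pX pY) q (e' y)
    rw [← Scheme.Hom.comp_apply, ← Scheme.Hom.comp_apply, pullback.lift_fst]
  let p'' : e'.image ⟶ (Q : Scheme.{u}) := IsOpenImmersion.lift Q.ι p' hp'Q
  have hp'' : p'' ≫ Q.ι = p' := IsOpenImmersion.lift_fac _ _ _
  haveI : IsSeparated (p'' ≫ Q.ι) := hp''.symm ▸ inferInstance
  haveI : IsSeparated p'' := IsSeparated.of_comp p'' Q.ι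
  haveI : LocallyOfFiniteType (p'' ≫ Q.ι) := hp''.symm ▸ inferInstance
  haveI : LocallyOfFiniteType p'' := locallyOfFiniteType_of_comp p'' Q.ι
  haveI : CompactSpace e'.image := QuasiCompact.compactSpace_of_compactSpace e'.imageι
  haveI : QuasiCompact p'' := quasiCompact_of_compactSpace p''
  haveI hiso' : IsIso (p' ∣_ U') := by
    have := isIso_image_comp_restrict π e' U'.ι he'π
    rwa [Scheme.Opens.opensRange_ι] at this
  let R : (Q : Scheme.{u}).Opens := Q.ι ⁻¹ᵁ U'
  have hUQ : U' ≤ Q := fun y hy => hKQ (Or.inr hy)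
  haveI : IsIso (p'' ∣_ R) := by
    haveI : IsIso ((p'' ∣_ R) ≫ (Q.ι ∣_ U')) := by
      have := hiso'
      rw [← hp'', morphismRestrict_comp] at this
      exact this
    haveI : IsIso (Q.ι ∣_ U') := by
      haveI : IsOpenImmersion (Q.ι ∣_ U') := inferInstance
      haveI : Surjective (Q.ι ∣_ U') := ⟨fun y => ⟨⟨⟨y.1, hUQ y.2⟩, y.2⟩, Subtype.ext (restrict_val Q.ι U' _)⟩⟩
      exact (isIso_iff_isOpenImmersion_and_surjective _).2 ⟨inferInstance, inferInstance⟩
    exact IsIso.of_isIso_comp_right (p'' ∣_ R) (Q.ι ∣_ U')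
  have hRc : IsCompact (R : Set ↥(Q : Scheme.{u})) := Q.ι.isCompact_preimage (q.isCompact_preimage hU)
  obtain ⟨I, X'', bQ, hbQ, hI, -, W0, w, o, hw, ho, -, how⟩ := exists_openImmersion_model p'' R hRc
  haveI := ho
  haveI : IsProper w := RegImm10.BlowModel.isProper_of_isBlowUp (Div89.isFiniteTypeIdeal_comap _ hI.1) hw
  obtain ⟨J, hJ, hJI⟩ := Div89.exists_admissible_extension (q ⁻¹ᵁ V) Q (q.isCompact_preimage hV) hQc I
    (by rw [hQV]; exact hI)
  obtain ⟨Xt, c, hc⟩ := FBlow13.exists_isBlowUp_scheme X' J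
  haveI : IsProper c := RegImm10.BlowModel.isProper_of_isBlowUp hJ.1 hc
  obtain ⟨ε, hε⟩ := RegImm10.BlowModel.exists_iso (hJI ▸ RegImm10.BlowModel.isBlowUp_morphismRestrict hc Q) hbQ
  obtain ⟨K, hK', hKa⟩ := exists_admissible_comp h𝓘 hq J hJ hc
  let j : W0 ⟶ Xt := o ≫ ε.inv ≫ (c ⁻¹ᵁ Q).ι
  have hjc : j ≫ c = w ≫ p' := by
    simp only [j, Category.assoc]
    rw [← morphismRestrict_ι, ← hε, Category.assoc, Iso.inv_hom_id_assoc, reassoc_of% how, hp'']
  let g : W0 ⟶ Y := w ≫ e'.imageι ≫ pullback.fst _ _ ≫ pullback.snd pX pY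
  have hjg : j ≫ (c ≫ q) ≫ pX = g ≫ pY := by
    simp only [g, π, Category.assoc, reassoc_of% hjc, p']
    rw [← pullback.condition_assoc, pullback.condition]
  -- the preimage of `U` lies in the image of `j`
  have hUj : ∀ y : Xt, (c ≫ q) y ∈ U → y ∈ Set.range j := by
    intro y hy
    have hyU : c y ∈ U' := hy
    have hyQ : y ∈ c ⁻¹ᵁ Q := hUQ hyU
    let y₂ := ε.hom ⟨y, hyQ⟩
    have hy₂ : bQ y₂ ∈ R := by
      show Q.ι (bQ y₂) ∈ U'
      rw [← Scheme.Hom.comp_apply, ← Scheme.Hom.comp_apply, reassoc_of% hε, morphismRestrict_ι]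
      exact hyU
    obtain ⟨γ, hγ⟩ := (p'' ∣_ R).homeomorph.surjective ⟨bQ y₂, hy₂⟩
    have hγ' : p'' γ.1 = bQ y₂ := (restrict_val p'' R γ).symm.trans (congrArg Subtype.val hγ)
    have hγs : γ.1 ∉ (I.comap p'').support := fun hs => by
      rw [Scheme.IdealSheafData.support_comap] at hs
      exact Set.disjoint_left.1 hI.2 hs γ.2
    haveI := Div89.isIso_off_center hw
    obtain ⟨z, hz⟩ := (w ∣_ (I.comap p'').support.compl).homeomorph.surjective ⟨γ.1, hγs⟩
    have hz' : w z.1 = γ.1 := (restrict_val w _ z).symm.trans (congrArg Subtype.val hz)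
    haveI := Div89.isIso_off_center hbQ
    have hb : bQ (o z.1) = bQ y₂ := by
      rw [← Scheme.Hom.comp_apply, how, Scheme.Hom.comp_apply, hz', hγ']
    have hy₂s : bQ y₂ ∈ I.support.compl := fun hs => Set.disjoint_left.1 hI.2 hs hy₂
    have hoz : o z.1 = y₂ := congrArg Subtype.val
      ((bQ ∣_ I.support.compl).homeomorph.injective
        (a₁ := ⟨o z.1, show bQ (o z.1) ∈ I.support.compl from hb.symm ▸ hy₂s⟩) (a₂ := ⟨y₂, hy₂s⟩) (Subtype.ext ((restrict_val bQ _ _).trans (hb.trans (restrict_val bQ I.support.compl ⟨y₂, hy₂s⟩).symm))))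
    refine ⟨z.1, ?_⟩
    show (c ⁻¹ᵁ Q).ι (ε.inv (o z.1)) = y
    rw [hoz]
    exact congrArg (c ⁻¹ᵁ Q).ι (congrArg (fun m : (c ⁻¹ᵁ Q).toScheme ⟶ _ => m ⟨y, hyQ⟩) ε.hom_inv_id)
  haveI : IsOpenImmersion j := inferInstance
  let W : Xt.Opens := j.opensRange
  let ft : (W : Scheme.{u}) ⟶ Y := j.isoOpensRange.inv ≫ g
  have hinv : j.isoOpensRange.inv ≫ j = W.ι := Scheme.Hom.isoOpensRange_inv_comp j
  have hft : W.ι ≫ (c ≫ q) ≫ pX = ft ≫ pY := by
    simp only [ft, ← hinv, Category.assoc] at hjg ⊢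
    rw [hjg]
  have hle : (c ≫ q) ⁻¹ᵁ U ≤ W := hUj
  refine ⟨K, Xt, c ≫ q, hK', hKa, W, hle, ft, hft, ?_, ?_, ?_⟩
  · -- density
    obtain ⟨hd, haf⟩ := H98Strict.dominant_compl hK'.1
    haveI := hd; haveI := haf
    let E : Xt.Opens := (K.comap (c ≫ q)).support.compl
    have hdE : Dense (E : Set Xt) := by
      have : DenseRange E.ι := E.ι.denseRange
      rw [DenseRange, Scheme.Opens.range_ι] at this
      exact this
    haveI := Div89.isIso_off_center hK'
    let O' : X.Opens := K.support.compl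
    refine dense_iff_inter_open.2 fun G hG hGne => ?_
    obtain ⟨y, hyG, hyE⟩ := dense_iff_inter_open.1 hdE G hG hGne
    let φ := (c ≫ q) ∣_ K.support.compl
    have hyO : y ∈ (c ≫ q) ⁻¹ᵁ K.support.compl := fun hs => hyE (by
      rw [Scheme.IdealSheafData.support_comap]; exact hs)
    have hopen : IsOpen (O'.ι '' (φ '' (((c ≫ q) ⁻¹ᵁ O').ι ⁻¹' G))) :=
      O'.ι.isOpenEmbedding.isOpenMap _ (φ.homeomorph.isOpenMap _ (hG.preimage (Scheme.Hom.continuous _)))
    obtain ⟨x, ⟨_, ⟨y', hy', rfl⟩, rfl⟩, hxU⟩ :=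
      dense_iff_inter_open.1 hUd _ hopen ⟨_, φ ⟨y, hyO⟩, ⟨⟨y, hyO⟩, hyG, rfl⟩, rfl⟩
    exact ⟨y'.1, hy', hle (show (c ≫ q) y'.1 ∈ U from restrict_val (c ≫ q) _ y' ▸ hxU)⟩
  · -- agreement over `U`
    have hle' : c ⁻¹ᵁ U' ≤ W := hle
    let l : (c ⁻¹ᵁ U' : Xt.Opens).toScheme ⟶ W0 := Xt.homOfLE hle' ≫ j.isoOpensRange.inv
    have hl : l ≫ j = (c ⁻¹ᵁ U').ι := by
      rw [Category.assoc, hinv, Scheme.homOfLE_ι]
    have hlw : l ≫ w = (c ∣_ U') ≫ e'.toImage := by
      refine eq_of_isIso_restrict p' (O := U') (c ∣_ U') _ _ ?_ ?_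
      · rw [Category.assoc, ← hjc, ← Category.assoc, hl, morphismRestrict_ι]
      · rw [Category.assoc, show e'.toImage ≫ p' = U'.ι from by
          rw [← Category.assoc, Scheme.Hom.toImage_imageι, he'π]]
    rw [morphismRestrict_comp]
    show Xt.homOfLE hle' ≫ j.isoOpensRange.inv ≫ g = ((c ∣_ U') ≫ (q ∣_ U)) ≫ f
    rw [← Category.assoc (Xt.homOfLE hle')]
    show l ≫ g = _
    simp only [g]
    rw [reassoc_of% hlw]
    simp only [Category.assoc, Scheme.Hom.toImage_imageι_assoc, e', pullback.lift_fst_assoc, e,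
      pullback.lift_snd]
  · -- closedness of the graph
    let L' : W0 ⟶ pullback π c := pullback.lift (w ≫ e'.imageι) j (by rw [Category.assoc, hjc])
    haveI : IsProper (L' ≫ pullback.fst π c) := by rw [pullback.lift_fst]; infer_instance
    haveI : IsProper L' := IsProper.of_comp L' (pullback.fst π c)
    let N : pullback ((c ≫ q) ≫ pX) pY ⟶ pullback π c :=
      pullback.lift (pullback.lift (pullback.lift (pullback.fst _ _ ≫ c ≫ q) (pullback.snd _ _)
          (by rw [← pullback.condition]; simp only [Category.assoc]))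
        (pullback.fst _ _ ≫ c) (by rw [pullback.lift_fst]; simp only [Category.assoc]))
        (pullback.fst _ _) (by rw [pullback.lift_snd])
    let Rt : pullback π c ⟶ pullback ((c ≫ q) ≫ pX) pY :=
      pullback.lift (pullback.snd π c) (pullback.fst π c ≫ pullback.fst _ _ ≫ pullback.snd pX pY) (by
        simp only [π, Category.assoc]
        rw [← pullback.condition_assoc, ← pullback.condition_assoc, pullback.condition (f := pX) (g := pY)])
    have hNR : N ≫ Rt = 𝟙 _ := by
      apply pullback.hom_ext <;>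
        simp only [N, Rt, Category.assoc, pullback.lift_fst, pullback.lift_snd, pullback.lift_fst_assoc,
          Category.id_comp]
    let L : (W : Scheme.{u}) ⟶ pullback ((c ≫ q) ≫ pX) pY := pullback.lift W.ι ft hft
    have hL : L = j.isoOpensRange.inv ≫ L' ≫ Rt := by
      apply pullback.hom_ext <;>
        simp only [L, L', Rt, ft, g, Category.assoc, pullback.lift_fst, pullback.lift_snd, pullback.lift_fst_assoc,
          hinv]
    have hLN : L ≫ N = j.isoOpensRange.inv ≫ L' := by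
      have hjc' : j ≫ c = (w ≫ e'.imageι) ≫ π := by rw [hjc, Category.assoc]
      apply pullback.hom_ext
      · apply pullback.hom_ext
        · apply pullback.hom_ext
          · simp only [L, L', N, Category.assoc, pullback.lift_fst, pullback.lift_fst_assoc]
            rw [← hinv, Category.assoc, ← Category.assoc j, hjc', Category.assoc, Category.assoc]
            exact congrArg (fun m => j.isoOpensRange.inv ≫ w ≫ e'.imageι ≫ m) pullback.condition.symm
          · simp only [L, L', N, ft, g, Category.assoc, pullback.lift_fst, pullback.lift_fst_assoc,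
              pullback.lift_snd, pullback.lift_snd_assoc]
        · simp only [L, L', N, Category.assoc, pullback.lift_fst, pullback.lift_fst_assoc, pullback.lift_snd]
          rw [← hinv, Category.assoc, hjc', Category.assoc]
      · simp only [L, L', N, Category.assoc, pullback.lift_fst, pullback.lift_snd, hinv]
    have hrange : Set.range L = N ⁻¹' Set.range L' := by
      ext z
      constructor
      · rintro ⟨y, rfl⟩
        exact ⟨j.isoOpensRange.inv y, by rw [← Scheme.Hom.comp_apply, ← hLN, Scheme.Hom.comp_apply]⟩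
      · rintro ⟨a, ha⟩
        refine ⟨j.isoOpensRange.hom a, ?_⟩
        rw [hL, ← Scheme.Hom.comp_apply, Iso.hom_inv_id_assoc, Scheme.Hom.comp_apply, ha, ← Scheme.Hom.comp_apply,
          hNR]
        rfl
    show IsClosed (Set.range L)
    rw [hrange]
    exact L'.isClosedMap.isClosed_range.preimage N.continuous

end Groth.Agent.FlatMor68.QuasiDomExtend
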