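import Groth.Agent.S0384
import Groth.Agent.SchDense58.Basic
import Mathlib

/-!
A separated scheme of finite type properly quasi-dominating two given ones.
-/

set_option autoImplicit false
set_option linter.style.haveILetI false
set_option backward.isDefEq.respectTransparency.types false

universe u

open CategoryTheory CategoryTheory.Limits AlgebraicGeometry TopologicalSpace

noncomputable section

namespace Groth.Agent.FlatMor68.QuasiDomTwo

/-- The part of a proper scheme lying over an open of another properly quasi-dominates that open. -/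
theorem exists_side {S U X X₁ P₁ : Scheme.{u}} (q : X ⟶ S) [IsProper q] (g₁ : X₁ ⟶ S) (p₁ : P₁ ⟶ S) [IsProper p₁]
    (o₁ : X₁ ⟶ P₁) [IsOpenImmersion o₁] (ho : o₁ ≫ p₁ = g₁) (π : X ⟶ P₁) (hπ : π ≫ p₁ = q)
    (j : U ⟶ X) (j₁ : U ⟶ X₁) (hj : j ≫ π = j₁ ≫ o₁) :
    ∃ (W : X.Opens) (l : U ⟶ (W : Scheme.{u})) (p : (W : Scheme.{u}) ⟶ X₁) (hp : W.ι ≫ q = p ≫ g₁),
        l ≫ W.ι = j ∧ l ≫ p = j₁ ∧ IsProper p ∧
        IsClosed (Set.range (fun x => pullback.lift W.ι p hp x)) := by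
  haveI : IsProper (π ≫ p₁) := hπ.symm ▸ inferInstance
  haveI : IsProper π := IsProper.of_comp π p₁
  let W : X.Opens := π ⁻¹ᵁ o₁.opensRange
  let p : (W : Scheme.{u}) ⟶ X₁ := (π ∣_ o₁.opensRange) ≫ o₁.isoOpensRange.inv
  have hpo : p ≫ o₁ = W.ι ≫ π := by
    simp only [p, W, Category.assoc, Scheme.Hom.isoOpensRange_inv_comp, morphismRestrict_ι]
  have hp : W.ι ≫ q = p ≫ g₁ := by rw [← ho, ← hπ, ← Category.assoc p, hpo, Category.assoc]
  have hjW : Set.range j ⊆ Set.range W.ι := by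
    rintro _ ⟨x, rfl⟩
    rw [Scheme.Opens.range_ι]
    exact ⟨j₁ x, by rw [← Scheme.Hom.comp_apply, ← hj, Scheme.Hom.comp_apply]⟩
  let l : U ⟶ (W : Scheme.{u}) := IsOpenImmersion.lift W.ι j hjW
  have hl : l ≫ W.ι = j := IsOpenImmersion.lift_fac _ _ _
  refine ⟨W, l, p, hp, hl, ?_, inferInstance, ?_⟩
  · rw [← cancel_mono o₁, Category.assoc, hpo, ← Category.assoc, hl, hj]
  · let Γ : X ⟶ pullback q p₁ := pullback.lift (𝟙 X) π (by rw [Category.id_comp, hπ])
    haveI : IsClosedImmersion (Γ ≫ pullback.fst q p₁) := by rw [pullback.lift_fst]; infer_instance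
    haveI : IsClosedImmersion Γ := IsClosedImmersion.of_comp Γ (pullback.fst q p₁)
    let m : pullback q g₁ ⟶ pullback q p₁ :=
      pullback.map q g₁ q p₁ (𝟙 X) o₁ (𝟙 S) (by simp) (by simp [ho])
    have hm : pullback.lift W.ι p hp ≫ m = W.ι ≫ Γ := by
      apply pullback.hom_ext <;> simp only [m, Γ, pullback.map, Category.assoc, pullback.lift_fst,
        pullback.lift_snd, pullback.lift_snd_assoc, Category.comp_id, hpo]
    have e : Set.range (fun x => pullback.lift W.ι p hp x) = m ⁻¹' Set.range Γ := by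
      ext z
      constructor
      · rintro ⟨x, rfl⟩
        exact ⟨W.ι x, by rw [← Scheme.Hom.comp_apply, ← hm, Scheme.Hom.comp_apply]⟩
      · rintro ⟨x, hx⟩
        have hxW : x ∈ W := by
          refine ⟨pullback.snd q g₁ z, ?_⟩
          have h := congrArg (fun y => pullback.snd q p₁ y) hx
          simp only [← Scheme.Hom.comp_apply] at h
          rw [show Γ ≫ pullback.snd q p₁ = π from pullback.lift_snd _ _ _] at h
          rw [h, show m ≫ pullback.snd q p₁ = pullback.snd q g₁ ≫ o₁ from pullback.lift_snd _ _ _,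
            Scheme.Hom.comp_apply]
        refine ⟨⟨x, hxW⟩, m.isOpenEmbedding.injective ?_⟩
        show (pullback.lift W.ι p hp ≫ m) ⟨x, hxW⟩ = _
        rw [hm, Scheme.Hom.comp_apply]
        exact hx
    rw [e]
    exact Γ.isClosedEmbedding.isClosed_range.preimage m.continuous

theorem main {S U X₁ X₂ : Scheme.{u}} [CompactSpace S] [QuasiSeparatedSpace S]
    (g₁ : X₁ ⟶ S) (g₂ : X₂ ⟶ S)
    [IsSeparated g₁] [QuasiCompact g₁] [LocallyOfFiniteType g₁]
    [IsSeparated g₂] [QuasiCompact g₂] [LocallyOfFiniteType g₂]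
    (j₁ : U ⟶ X₁) (j₂ : U ⟶ X₂) [IsOpenImmersion j₁] [IsOpenImmersion j₂] [CompactSpace U]
    (h : j₁ ≫ g₁ = j₂ ≫ g₂) :
    ∃ (X : Scheme.{u}) (q : X ⟶ S) (_ : IsSeparated q) (_ : QuasiCompact q) (_ : LocallyOfFiniteType q)
      (j : U ⟶ X) (_ : IsOpenImmersion j) (_ : IsSchemeTheoreticallyDominant j) (_ : j ≫ q = j₁ ≫ g₁),
      (∃ (W : X.Opens) (l : U ⟶ (W : Scheme.{u})) (p : (W : Scheme.{u}) ⟶ X₁) (hp : W.ι ≫ q = p ≫ g₁),
        l ≫ W.ι = j ∧ l ≫ p = j₁ ∧ IsProper p ∧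
        IsClosed (Set.range (fun x => pullback.lift W.ι p hp x))) ∧
      (∃ (W : X.Opens) (l : U ⟶ (W : Scheme.{u})) (p : (W : Scheme.{u}) ⟶ X₂) (hp : W.ι ≫ q = p ≫ g₂),
        l ≫ W.ι = j ∧ l ≫ p = j₂ ∧ IsProper p ∧
        IsClosed (Set.range (fun x => pullback.lift W.ι p hp x))) := by
  obtain ⟨P₁, o₁, p₁, ho₁, -, hp₁, e₁⟩ := Groth.Agent.S0384.result g₁
  obtain ⟨P₂, o₂, p₂, ho₂, -, hp₂, e₂⟩ := Groth.Agent.S0384.result g₂
  haveI := ho₁; haveI := hp₁; haveI := ho₂; haveI := hp₂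
  let e : U ⟶ pullback p₁ p₂ :=
    pullback.lift (j₁ ≫ o₁) (j₂ ≫ o₂) (by rw [Category.assoc, e₁, Category.assoc, e₂, h])
  haveI : IsImmersion (e ≫ pullback.fst p₁ p₂) := by rw [pullback.lift_fst]; infer_instance
  haveI : IsImmersion e := IsImmersion.of_comp e (pullback.fst p₁ p₂)
  haveI : QuasiSeparatedSpace (pullback p₁ p₂ : Scheme.{u}) :=
    AlgebraicGeometry.quasiSeparatedSpace_of_quasiSeparated (pullback.fst p₁ p₂ ≫ p₁)
  haveI : QuasiCompact e := inferInstance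
  let q : e.image ⟶ S := e.imageι ≫ pullback.fst p₁ p₂ ≫ p₁
  haveI : IsProper q := inferInstance
  have hj₁ : e.toImage ≫ e.imageι ≫ pullback.fst p₁ p₂ = j₁ ≫ o₁ := by
    rw [← Category.assoc, Scheme.Hom.toImage_imageι, pullback.lift_fst]
  have hj₂ : e.toImage ≫ e.imageι ≫ pullback.snd p₁ p₂ = j₂ ≫ o₂ := by
    rw [← Category.assoc, Scheme.Hom.toImage_imageι, pullback.lift_snd]
  refine ⟨e.image, q, inferInstance, inferInstance, inferInstance, e.toImage, inferInstance, inferInstance, ?_,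
    exists_side q g₁ p₁ o₁ e₁ (e.imageι ≫ pullback.fst p₁ p₂) (Category.assoc _ _ _) _ j₁ hj₁,
    exists_side q g₂ p₂ o₂ e₂ (e.imageι ≫ pullback.snd p₁ p₂) ?_ _ j₂ hj₂⟩
  · simp only [q, ← Category.assoc]
    rw [Category.assoc (e.toImage) e.imageι, hj₁, Category.assoc, e₁]
  · simp only [q, Category.assoc, pullback.condition]

end Groth.Agent.FlatMor68.QuasiDomTwo
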