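import Groth.Agent.Div89.Fitting
import Mathlib.AlgebraicGeometry.IdealSheaf.Functorial
import Mathlib.AlgebraicGeometry.Morphisms.Immersion
import Mathlib.AlgebraicGeometry.Morphisms.ClosedImmersion

/-! The rank stratum of a finite type quasi-coherent module is representable by a subscheme (S10847). -/

set_option autoImplicit false
set_option backward.isDefEq.respectTransparency.types false
set_option linter.style.haveILetI false

universe u

open CategoryTheory Limits AlgebraicGeometry TopologicalSpace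

namespace Groth.Agent.FlatMor68.RankStratum

theorem sheafIdeal_mono {X : Scheme.{u}} (F : X.Modules) [F.IsQuasicoherent] [F.IsFiniteType] {k l : ℕ}
    (h : k ≤ l) : Fitt.sheafIdeal F k ≤ Fitt.sheafIdeal F l :=
  Scheme.IdealSheafData.ofIdeals_mono fun U => by
    haveI := QC70.finite_sections_of_isFiniteType F U.2
    exact Fit14.ideal_mono h

theorem comap_eq_bot_iff {X T : Scheme.{u}} (f : T ⟶ X) (J : X.IdealSheafData) :
    J.comap f = ⊥ ↔ J ≤ f.ker := by
  rw [← Scheme.IdealSheafData.map_bot, Scheme.IdealSheafData.le_map_iff_comap_le, le_bot_iff]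

theorem comap_eq_top_iff {X T : Scheme.{u}} (f : T ⟶ X) (J : X.IdealSheafData) :
    J.comap f = ⊤ ↔ ∀ t : T, f.base t ∉ J.support := by
  rw [← Scheme.IdealSheafData.support_eq_bot_iff, Scheme.IdealSheafData.support_comap]
  constructor
  · intro h t ht
    have : t ∈ (⊥ : Closeds T) := h ▸ ht
    exact this
  · intro h
    ext t
    exact ⟨fun ht => absurd ht (h t), fun ht => absurd ht id⟩

theorem t10847 {X : Scheme.{u}} (F : X.Modules) [Coh.IsQCoh F] (hF : CohB1.IsFT F) (r : ℕ) :
    ∃ (Z : Scheme.{u}) (i : Z ⟶ X), IsImmersion i ∧ ∀ (T : Scheme.{u}) (f : T ⟶ X),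
      (∃ g : T ⟶ Z, g ≫ i = f) ↔ FlatMod.IsFinLocFreeOfRank r ((Scheme.Modules.pullback f).obj F) := by
  haveI hq : F.IsQuasicoherent := ‹Coh.IsQCoh F›
  haveI hft : F.IsFiniteType := hF
  let I : X.IdealSheafData := ⨆ k : Fin r, Fitt.sheafIdeal F k
  let U : X.Opens := ⟨((Fitt.sheafIdeal F r).support : Set X)ᶜ, (Fitt.sheafIdeal F r).support.isClosed.isOpen_compl⟩
  refine ⟨(I.subschemeι ⁻¹ᵁ U : I.subscheme.Opens), (I.subschemeι ⁻¹ᵁ U).ι ≫ I.subschemeι, inferInstance, fun T f => ?_⟩
  haveI := QCPull72.isQuasicoherent_pullback f F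
  haveI := QCPull72.isFiniteType_pullback f F
  rw [Div89.finLocFreeOfRank_iff_fitting _ ‹_› ‹_› r]
  simp only [← Div89.fitting_comap f F hq hft]
  constructor
  · rintro ⟨g, rfl⟩
    refine ⟨fun k hk => (comap_eq_bot_iff _ _).2 ?_, fun k hk => (comap_eq_top_iff _ _).2 fun t ht => ?_⟩
    · refine le_trans ?_ (Scheme.Hom.le_ker_comp _ _)
      refine le_trans ?_ (Scheme.Hom.le_ker_comp _ _)
      rw [Scheme.IdealSheafData.ker_subschemeι]
      exact le_iSup (fun k : Fin r => Fitt.sheafIdeal F k) ⟨k, hk⟩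
    · have h1 : I.subschemeι.base ((I.subschemeι ⁻¹ᵁ U).ι.base (g.base t)) ∈ U := (g.base t).2
      exact h1 (Scheme.IdealSheafData.support_antitone (sheafIdeal_mono F hk) ht)
  · rintro ⟨h1, h2⟩
    have hle : I ≤ f.ker := iSup_le fun k => (comap_eq_bot_iff _ _).1 (h1 k k.2)
    let g := IsClosedImmersion.lift I.subschemeι f (by rw [Scheme.IdealSheafData.ker_subschemeι]; exact hle)
    have hg : g ≫ I.subschemeι = f := IsClosedImmersion.lift_fac ..
    have hr : Set.range g.base ⊆ Set.range (I.subschemeι ⁻¹ᵁ U).ι.base := by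
      rintro _ ⟨t, rfl⟩
      rw [Scheme.Opens.range_ι]
      show I.subschemeι.base (g.base t) ∈ U
      rw [← Scheme.Hom.comp_apply, hg]
      exact (comap_eq_top_iff f _).1 (h2 r le_rfl) t
    exact ⟨IsOpenImmersion.lift _ g hr, by rw [IsOpenImmersion.lift_fac_assoc, hg]⟩

end Groth.Agent.FlatMor68.RankStratum
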