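import Mathlib

/-!
Primes over a nonzerodivisor with reduced quotient, and irreducible components of special fibres.
-/

set_option autoImplicit false
set_option linter.style.haveILetI false

universe u

open Submodule

namespace Groth.Agent.FlatMor68.ReducedSpecial

variable {A : Type u} [CommRing A] [IsNoetherianRing A] {π : A}

/-- An element killed exactly by a prime can be chosen outside the ideal of a regular element. -/
theorem exists_colon_eq_not_dvd (hπ : ∀ a, π * a = 0 → a = 0) {p : Ideal A}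
    (hp : IsAssociatedPrime p A) {z : Ideal A} (hz : z ≠ ⊤) (hpz : p ≤ z) (hπz : π ∈ z) :
    ∃ a : A, (∀ r, r ∈ p ↔ r * a = 0) ∧ a ∉ Ideal.span {π} := by
  obtain ⟨-, x, hx⟩ := isAssociatedPrime_iff.1 hp
  let T : Set (Ideal A) := {J | ∃ b : A, (∀ r, r ∈ p ↔ r * b = 0) ∧ J = Ideal.span {b}}
  have hx' : ∀ r, r ∈ p ↔ r * x = 0 := fun r => by
    rw [hx, mem_colon_singleton, mem_bot, smul_eq_mul]
  obtain ⟨J, ⟨b, hb, rfl⟩, hmax⟩ :=
    (set_has_maximal_iff_noetherian (R := A) (M := A)).2 (isNoetherianRing_iff.1 inferInstance) T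
      ⟨_, x, hx', rfl⟩
  refine ⟨b, hb, fun h => ?_⟩
  obtain ⟨b', hb'⟩ := Ideal.mem_span_singleton'.1 h
  have hb'' : ∀ r, r ∈ p ↔ r * b' = 0 := fun r => by
    rw [hb r, ← hb']
    exact ⟨fun h' => hπ _ (by linear_combination h'), fun h' => by linear_combination π * h'⟩
  have hle : Ideal.span {b} ≤ Ideal.span ({b'} : Set A) := by
    rw [Ideal.span_singleton_le_iff_mem, Ideal.mem_span_singleton']
    exact ⟨π, by rw [mul_comm]; exact hb'⟩
  have heq : Ideal.span {b} = Ideal.span ({b'} : Set A) :=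
    (eq_or_lt_of_le hle).resolve_right (hmax _ ⟨b', hb'', rfl⟩)
  obtain ⟨c, hc⟩ := Ideal.mem_span_singleton'.1 (heq.ge (Ideal.mem_span_singleton_self b'))
  have h1 : (1 - c * π) ∈ p := (hb'' _).2 (by linear_combination -hc - c * hb')
  refine hz ((Ideal.eq_top_iff_one _).2 ?_)
  have := z.add_mem (hpz h1) (z.mul_mem_left c hπz)
  rwa [sub_add_cancel] at this

/-- A generic component reaching the special fibre contains a whole component of the special fibre. -/
theorem exists_minimalPrimes_ge (hπ : ∀ a, π * a = 0 → a = 0) (hred : (Ideal.span {π}).IsRadical)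
    {p z : Ideal A} (hp : p ∈ minimalPrimes A) [z.IsPrime] (hpz : p ≤ z) (hπz : π ∈ z) :
    ∃ q ∈ (Ideal.span {π}).minimalPrimes, p ≤ q := by
  have hass : IsAssociatedPrime p A := Module.associatedPrimes.minimalPrimes_annihilator_subset_associatedPrimes A A (by
    rwa [show Module.annihilator A A = ⊥ from Module.annihilator_eq_bot.2 inferInstance])
  obtain ⟨a, ha, haπ⟩ := exists_colon_eq_not_dvd hπ hass Ideal.IsPrime.ne_top' hpz hπz
  rw [← hred.radical, ← Ideal.sInf_minimalPrimes, Ideal.mem_sInf] at haπ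
  push Not at haπ
  obtain ⟨q, hq, haq⟩ := haπ
  refine ⟨q, hq, fun r hr => ?_⟩
  exact (hq.1.1.mem_or_mem (show r * a ∈ q by rw [(ha r).1 hr]; exact zero_mem _)).resolve_right haq

/-- A component of a reduced special fibre lies in a single generic component. -/
theorem le_of_le_minimalPrimes (hred : (Ideal.span {π}).IsRadical) {q : Ideal A}
    (hq : q ∈ (Ideal.span {π}).minimalPrimes) {p p' : Ideal A} [hp : p.IsPrime] [hp' : p'.IsPrime]
    (hpq : p ≤ q) (hp'q : p' ≤ q) (hπp : π ∉ p) : p ≤ p' := by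
  haveI hqp : q.IsPrime := hq.1.1
  let Aq := Localization.AtPrime q
  let φ := algebraMap A Aq
  have hkey : ∀ x ∈ q, ∃ t : A, t ∉ q ∧ ∃ d, t * x = d * π := by
    intro x hx
    have hmin : (IsLocalRing.maximalIdeal Aq) ∈ ((Ideal.span {π}).map φ).minimalPrimes := by
      rw [IsLocalization.minimalPrimes_map q.primeCompl Aq]
      rw [Set.mem_preimage]
      rwa [IsLocalization.AtPrime.under_maximalIdeal Aq q]
    have hx' : φ x ∈ ((Ideal.span {π}).map φ).radical := by
      rw [← Ideal.sInf_minimalPrimes, Ideal.mem_sInf]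
      intro J hJ
      haveI := hJ.1.1
      have hle : J ≤ IsLocalRing.maximalIdeal Aq := IsLocalRing.le_maximalIdeal Ideal.IsPrime.ne_top'
      exact hmin.2 ⟨hJ.1.1, hJ.1.2⟩ hle
        ((IsLocalization.AtPrime.to_map_mem_maximal_iff Aq q x _).2 hx)
    obtain ⟨n, hn⟩ := hx'
    rw [← map_pow, IsLocalization.algebraMap_mem_map_algebraMap_iff q.primeCompl] at hn
    obtain ⟨t, htq, ht⟩ := hn
    refine ⟨t, htq, ?_⟩
    have h2 : t * x ∈ Ideal.span {π} := by
      refine hred ⟨n + 1, ?_⟩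
      rw [mul_pow, pow_succ t n, pow_succ x n]
      rw [show t ^ n * t * (x ^ n * x) = (t ^ n * x) * (t * x ^ n) by ring]
      exact Ideal.mul_mem_left _ _ ht
    obtain ⟨d, hd⟩ := Ideal.mem_span_singleton'.1 h2
    exact ⟨d, hd.symm⟩
  have hbot : p.map φ = ⊥ := by
    refine Submodule.eq_bot_of_le_smul_of_le_jacobson_bot (Ideal.span {φ π}) _ (IsNoetherian.noetherian _)
      (Ideal.map_le_iff_le_comap.2 fun x hx => ?_) ?_
    · obtain ⟨t, htq, d, hd⟩ := hkey x (hpq hx)
      have hdp : d ∈ p := (hp.mem_or_mem (show d * π ∈ p by rw [← hd]; exact p.mul_mem_left _ hx)).resolve_right hπp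
      obtain ⟨u, hu⟩ := IsLocalization.map_units Aq (⟨t, htq⟩ : q.primeCompl)
      have h5 : φ x = φ π * (φ d * ↑u⁻¹) := by
        rw [← mul_assoc, Units.eq_mul_inv_iff_mul_eq, hu]
        show φ x * φ t = φ π * φ d
        rw [← map_mul, ← map_mul, mul_comm x, mul_comm π, hd]
      rw [Ideal.mem_comap, h5]
      exact Submodule.smul_mem_smul (Ideal.mem_span_singleton_self _)
        (Ideal.mul_mem_right _ _ (Ideal.mem_map_of_mem φ hdp))
    · rw [IsLocalRing.jacobson_eq_maximalIdeal ⊥ bot_ne_top, Ideal.span_singleton_le_iff_mem]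
      exact (IsLocalization.AtPrime.to_map_mem_maximal_iff Aq q π _).2 (hq.1.2 (Ideal.mem_span_singleton_self π))
  intro x hx
  have h0 : φ x = 0 := by
    rw [← Ideal.mem_bot, ← hbot]
    exact Ideal.mem_map_of_mem φ hx
  obtain ⟨s, hs⟩ := (IsLocalization.map_eq_zero_iff q.primeCompl Aq x).1 h0
  exact (hp'.mem_or_mem (show (s : A) * x ∈ p' by rw [hs]; exact zero_mem _)).resolve_left
    fun h => s.2 (hp'q h)

end Groth.Agent.FlatMor68.ReducedSpecial
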