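import Groth.Agent.FlatMor68.KoszulCancel
import Groth.Agent.FlatMor68.KoszulCalc
import Groth.Agent.FlatMor67.LCIRegular
import Groth.Agent.LCI19.Presentation
import Groth.Agent.LCI19.Target
import Groth.Agent.Gor18.LCI
import Groth.Agent.CAlg1.Regular
import Mathlib

set_option backward.isDefEq.respectTransparency.types false
set_option linter.style.haveILetI false
set_option autoImplicit false
universe u

open IsLocalRing CategoryTheory CategoryTheory.Limits AlgebraicGeometry

namespace Groth.Agent.FlatMor68.RegularTarget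

open Koszul19 LCI19

/-- A greedy system of generators: independent modulo `M` and generating modulo `M`. -/
theorem exists_indep {α L : Type u} [CommRing L] (φ : α → L) (M : Ideal L) :
    ∀ gs : List α, ∃ ys : List α, ys ⊆ gs ∧ Ideal.ofList (gs.map φ) ≤ M ⊔ Ideal.ofList (ys.map φ) ∧
      ∀ pre g post, ys.map φ = pre ++ g :: post → g ∉ M ⊔ Ideal.ofList post := by
  intro gs
  induction gs with
  | nil => exact ⟨[], List.Subset.refl _, le_sup_right, fun pre g post h => by simp at h⟩
  | cons a t ih =>
    obtain ⟨ys, hsub, hle, hind⟩ := ih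
    by_cases ha : φ a ∈ M ⊔ Ideal.ofList (ys.map φ)
    · refine ⟨ys, fun x hx => List.mem_cons_of_mem _ (hsub hx), ?_, hind⟩
      rw [List.map_cons, Ideal.ofList_cons]
      exact sup_le ((Ideal.span_singleton_le_iff_mem _).2 ha) hle
    · refine ⟨a :: ys, List.cons_subset_cons a hsub, ?_, fun pre g post h => ?_⟩
      · rw [List.map_cons, Ideal.ofList_cons, List.map_cons, Ideal.ofList_cons]
        exact sup_le (le_sup_of_le_right le_sup_left) (hle.trans (sup_le_sup_left le_sup_right _))
      · cases pre with
        | nil =>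
          rw [List.map_cons, List.nil_append, List.cons.injEq] at h
          rw [← h.1, ← h.2]; exact ha
        | cons b pre =>
          rw [List.map_cons, List.cons_append, List.cons.injEq] at h
          exact hind pre g post h.2

/-- A local ring surjecting onto a regular one with kernel inside the square of the maximal ideal is
isomorphic to it. -/
theorem bijective_of_regular {A B : Type u} [CommRing A] [IsLocalRing A] [IsNoetherianRing A] [CommRing B]
    [IsRegularLocalRing B] (f : A →+* B) (hf : Function.Surjective f)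
    (hk : RingHom.ker f ≤ maximalIdeal A * maximalIdeal A) : Function.Injective f := by
  classical
  haveI : IsLocalHom f := IsLocalHom.of_surjective f hf
  obtain ⟨s, hs, hspan⟩ :=
    (IsNoetherian.noetherian (maximalIdeal B)).exists_span_set_encard_eq_spanFinrank
  have hfin : s.Finite := Set.finite_of_encard_eq_coe hs
  choose c hc using hf
  have hcm : ∀ x ∈ s, c x ∈ maximalIdeal A := fun x hx => by
    have hxm : x ∈ maximalIdeal B := by rw [← hspan]; exact Submodule.subset_span hx
    by_contra hu
    exact (mem_maximalIdeal _).1 hxm (hc x ▸ (notMem_maximalIdeal.1 hu).map f)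
  have hgen : maximalIdeal A ≤ Ideal.span (c '' s) := by
    refine Submodule.le_of_le_smul_of_le_jacobson_bot (IsNoetherian.noetherian _)
      (IsLocalRing.maximalIdeal_le_jacobson ⊥) ?_
    intro a ha
    have h1 : f a ∈ (Ideal.span (c '' s)).map f := by
      have h2 : (Ideal.span (c '' s)).map f = maximalIdeal B := by
        rw [Ideal.map_span, Set.image_image]
        simp only [hc, Set.image_id']
        exact hspan
      rw [h2]
      exact map_nonunit f a ha
    obtain ⟨b, hb, hba⟩ := (Ideal.mem_map_iff_of_surjective f (fun y => ⟨c y, hc y⟩)).1 h1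
    refine Submodule.mem_sup.2 ⟨b, hb, a - b, ?_, by ring⟩
    rw [smul_eq_mul]
    exact hk (by rw [RingHom.mem_ker, map_sub, hba, sub_self])
  have hle : ((maximalIdeal A).spanFinrank : WithBot ℕ∞) ≤ ringKrullDim B := by
    rw [← IsRegularLocalRing.spanFinrank_maximalIdeal]
    have h1 : maximalIdeal A = Ideal.span (c '' s) :=
      le_antisymm hgen (Ideal.span_le.2 (by rintro _ ⟨x, hx, rfl⟩; exact hcm x hx))
    have h2 := Submodule.spanFinrank_span_le_ncard_of_finite (R := A) (hfin.image c)
    rw [show Submodule.span A (c '' s) = maximalIdeal A from h1.symm] at h2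
    have h3 : (s.ncard : ℕ∞) = (maximalIdeal B).spanFinrank := by rw [hfin.cast_ncard_eq, hs]
    have h4 : (maximalIdeal A).spanFinrank ≤ (maximalIdeal B).spanFinrank :=
      h2.trans ((Set.ncard_image_le hfin).trans (by exact_mod_cast h3.le))
    exact_mod_cast h4
  have hdim : ringKrullDim B ≤ ringKrullDim A := ringKrullDim_le_of_surjective f (fun y => ⟨c y, hc y⟩)
  haveI : IsRegularLocalRing A := IsRegularLocalRing.of_spanFinrank_maximalIdeal_le _ (hle.trans hdim)
  haveI := CAlg1.isDomain_regular A
  rw [RingHom.injective_iff_ker_eq_bot]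
  by_contra hne
  obtain ⟨r, hr, hr0⟩ := Submodule.exists_mem_ne_zero_of_ne_bot hne
  have h1 := ringKrullDim_quotient_succ_le_of_nonZeroDivisor (mem_nonZeroDivisors_of_ne_zero hr0)
  have h2 : ringKrullDim B ≤ ringKrullDim (A ⧸ Ideal.span {r}) :=
    ringKrullDim_le_of_surjective (Ideal.Quotient.lift _ f fun x hx =>
      RingHom.mem_ker.1 ((Ideal.span_singleton_le_iff_mem _).2 hr hx))
      (Ideal.Quotient.lift_surjective_of_surjective _ _ (fun y => ⟨c y, hc y⟩))
  have h3 : ringKrullDim A ≤ ringKrullDim B :=
    (ringKrullDim_le_spanFinrank_maximalIdeal A).trans hle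
  obtain ⟨d, hd⟩ : ∃ d : ℕ, ringKrullDim B = (d : WithBot ℕ∞) :=
    ⟨_, IsRegularLocalRing.spanFinrank_maximalIdeal.symm⟩
  have h4 : ringKrullDim B + 1 ≤ ringKrullDim B :=
    (add_le_add h2 le_rfl).trans (h1.trans h3)
  rw [hd] at h4
  exact absurd (show d + 1 ≤ d by exact_mod_cast h4) (by omega)

/-- The local computation: a regular quotient inside a Koszul-regular ideal. -/
theorem local_main {α L B : Type u} [CommRing L] [IsLocalRing L] [IsNoetherianRing L] [CommRing B]
    [IsRegularLocalRing B] (π : L →+* B) (hπ : Function.Surjective π) (l : List L)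
    (hm : ∀ x ∈ l, x ∈ maximalIdeal L) (hl : KR l) (φ : α → L) (gs : List α)
    (hker : RingHom.ker π = Ideal.ofList (gs.map φ)) (hle : RingHom.ker π ≤ Ideal.ofList l) :
    ∃ (ys : List α) (l' : List L), ys ⊆ gs ∧ l' ⊆ l ∧ RingHom.ker π = Ideal.ofList (ys.map φ) ∧
      KR (ys.map φ) ∧ KR (l' ++ ys.map φ) ∧ Ideal.ofList l = Ideal.ofList (l' ++ ys.map φ) := by
  obtain ⟨ys, hsub, hgen, hind⟩ := exists_indep φ (maximalIdeal L * maximalIdeal L) gs
  have hlm : Ideal.ofList l ≤ maximalIdeal L := Ideal.span_le.2 hm
  have hysK : ∀ x ∈ ys.map φ, x ∈ RingHom.ker π := fun x hx => by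
    obtain ⟨a, ha, rfl⟩ := List.mem_map.1 hx
    rw [hker]
    exact Ideal.subset_span (List.mem_map_of_mem (hsub ha))
  obtain ⟨l', hl', hlen, hspan⟩ := KoszulCancel.exists_complete (fun x : L => x) (Ideal.ofList l) l
    (fun x hx => Ideal.subset_span hx) (by rw [List.map_id']) (ys.map φ) (fun x hx => hle (hysK x hx))
    fun pre g post h hg => hind pre g post h (sup_le_sup_right (Ideal.mul_mono_right hlm) _ hg)
  rw [List.map_id'] at hspan
  have hJl : Ideal.ofList (l' ++ ys.map φ) ≤ Ideal.ofList l := Ideal.span_le.2 fun x hx => by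
    rcases List.mem_append.1 hx with h | h
    · exact Ideal.subset_span (hl' h)
    · exact hle (hysK x h)
  have heq : Ideal.ofList l = Ideal.ofList (l' ++ ys.map φ) := by
    refine le_antisymm (Submodule.le_of_le_smul_of_le_jacobson_bot (IsNoetherian.noetherian _)
      (IsLocalRing.maximalIdeal_le_jacobson ⊥) ?_) hJl
    rw [smul_eq_mul]
    refine hspan.trans ?_
    rw [Ideal.ofList_append]
    exact sup_le (sup_le le_sup_right (le_sup_of_le_left le_sup_right)) (le_sup_of_le_left le_sup_left)
  have hkr : KR (l' ++ ys.map φ) := kR_of_length_le hl heq.symm (by simp at hlen ⊢; omega)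
  have hky : ∀ m : List L, (∀ x ∈ m, x ∈ maximalIdeal L) → KR (m ++ ys.map φ) → KR (ys.map φ) := by
    intro m
    induction m with
    | nil => exact fun _ h => h
    | cons a m ih =>
      exact fun hmm h => ih (fun x hx => hmm x (List.mem_cons_of_mem _ hx))
        (Gor18.kR_tail (IsLocalRing.maximalIdeal_le_jacobson ⊥ (hmm a List.mem_cons_self)) h)
  refine ⟨ys, l', hsub, hl', ?_, hky l' (fun x hx => hm x (hl' hx)) hkr, hkr, heq⟩
  -- the quotient by `ys` is already regular
  let A := L ⧸ Ideal.ofList (ys.map φ)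
  have hIle : Ideal.ofList (ys.map φ) ≤ RingHom.ker π := Ideal.span_le.2 hysK
  have : Nontrivial A := Ideal.Quotient.nontrivial_iff.2 fun h =>
    RingHom.ker_ne_top π (top_le_iff.1 (h ▸ hIle))
  have : IsLocalRing A := IsLocalRing.of_surjective' _ Ideal.Quotient.mk_surjective
  let f : A →+* B := Ideal.Quotient.lift _ π fun x hx => RingHom.mem_ker.1 (hIle hx)
  have hinj : Function.Injective f := by
    refine bijective_of_regular f (Ideal.Quotient.lift_surjective_of_surjective _ _ hπ) fun x hx => ?_
    obtain ⟨x, rfl⟩ := Ideal.Quotient.mk_surjective x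
    have hx' : x ∈ RingHom.ker π := hx
    obtain ⟨y, hy, z, hz, rfl⟩ := Submodule.mem_sup.1 (hgen (hker ▸ hx'))
    rw [map_add, Ideal.Quotient.eq_zero_iff_mem.2 hz, add_zero]
    have hy' := Ideal.mem_map_of_mem (Ideal.Quotient.mk (Ideal.ofList (ys.map φ))) hy
    rw [Ideal.map_mul] at hy'
    haveI : IsLocalHom (Ideal.Quotient.mk (Ideal.ofList (ys.map φ))) :=
      IsLocalHom.of_surjective _ Ideal.Quotient.mk_surjective
    have hmm : (maximalIdeal L).map (Ideal.Quotient.mk (Ideal.ofList (ys.map φ))) ≤ maximalIdeal A :=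
      Ideal.map_le_iff_le_comap.2 fun w hw => map_nonunit (Ideal.Quotient.mk (Ideal.ofList (ys.map φ))) w hw
    exact Ideal.mul_mono hmm hmm hy'
  refine le_antisymm (fun x hx => Ideal.Quotient.eq_zero_iff_mem.1 (hinj ?_)) hIle
  rw [map_zero]; exact hx

/-- Spreading out generators from a local ring. -/
theorem krAt_of_local {A : Type u} [CommRing A] [IsNoetherianRing A] (p : Ideal A) [p.IsPrime] (I : Ideal A)
    (l : List A) (hlI : ∀ x ∈ l, x ∈ I) (hkr : KR (l.map (algebraMap A (Localization.AtPrime p))))
    (hspan : I.map (algebraMap A (Localization.AtPrime p)) = Ideal.ofList (l.map (algebraMap A (Localization.AtPrime p)))) :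
    KRAt I p := by
  classical
  obtain ⟨g, hgp, hg⟩ := FlatMor67.exists_away_kR p l hkr
  obtain ⟨T, hT⟩ : I.FG := IsNoetherian.noetherian I
  have h1 : ∀ k ∈ T, ∃ m ∈ p.primeCompl, m * k ∈ Ideal.ofList l := fun k hk =>
    (IsLocalization.algebraMap_mem_map_algebraMap_iff p.primeCompl (Localization.AtPrime p) _ k).1
      (by rw [LCI19.map_ofList, ← hspan]; exact Ideal.mem_map_of_mem _ (hT ▸ Ideal.subset_span hk))
  choose m hm hmk using h1
  let t : A := ∏ k ∈ T.attach, m k.1 k.2
  have ht : t ∈ p.primeCompl := prod_mem fun k _ => hm k.1 k.2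
  refine ⟨g * t, fun h => (Ideal.IsPrime.mem_or_mem inferInstance h).elim hgp ht, l, hlI, hg _ (dvd_mul_right _ _), ?_⟩
  rw [← LCI19.map_ofList]
  refine le_antisymm ?_ (Ideal.map_mono (Ideal.span_le.2 hlI))
  rw [Ideal.map_le_iff_le_comap, ← hT]
  refine Ideal.span_le.2 fun z hz => ?_
  have hu : IsUnit (algebraMap A (Localization.Away (g * t)) (m z hz)) :=
    isUnit_of_dvd_unit (map_dvd _ ((Finset.dvd_prod_of_mem (fun k : T => m k.1 k.2) (Finset.mem_attach T ⟨z, hz⟩)).trans
      (dvd_mul_left _ g))) (IsLocalization.Away.algebraMap_isUnit (g * t))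
  rw [SetLike.mem_coe, Ideal.mem_comap]
  refine (Ideal.unit_mul_mem_iff_mem _ hu).1 ?_
  rw [← map_mul]
  exact Ideal.mem_map_of_mem _ (hmk z hz)

set_option maxHeartbeats 1000000 in
/-- A Koszul-regular ideal containing an ideal with regular quotient. -/
theorem main {P R S : Type u} [CommRing P] [IsNoetherianRing P] [CommRing R] [IsNoetherianRing R] [CommRing S]
    [Algebra P R] [Module.Flat P R] [Algebra R S] (hs : Function.Surjective (algebraMap R S))
    (J : Ideal P) (hker : RingHom.ker (algebraMap R S) = J.map (algebraMap P R))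
    (Lid : Ideal R) (hJL : J.map (algebraMap P R) ≤ Lid) (hL : LCI.IsKoszulRegularIdeal Lid)
    (q : Ideal S) [q.IsPrime] [IsRegularLocalRing (Localization.AtPrime q)] (hq : Lid.map (algebraMap R S) ≤ q) :
    KRAt J ((q.comap (algebraMap R S)).comap (algebraMap P R)) ∧ KRAt (Lid.map (algebraMap R S)) q := by
  let qR : Ideal R := q.comap (algebraMap R S)
  let p : Ideal P := qR.comap (algebraMap P R)
  have hLq : Lid ≤ qR := Ideal.map_le_iff_le_comap.1 hq
  obtain ⟨s, hs', lR, hlL, hlkr, hlI⟩ := (isKoszulRegularIdeal_iff _).1 hL ⟨qR, inferInstance⟩ hLq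
  have hgen : KRGen (Localization.AtPrime qR) Lid :=
    KRGen.of_isUnit (B := Localization.Away s)
      (IsLocalization.map_units (Localization.AtPrime qR) (⟨s, hs'⟩ : qR.primeCompl)) ⟨lR, hlL, hlkr, hlI⟩
  obtain ⟨l, hlLid, hlkr', hlspan⟩ := hgen
  let LR := Localization.AtPrime qR
  let BS := Localization.AtPrime q
  let π : LR →+* BS := Localization.localRingHom qR q (algebraMap R S) rfl
  have hπc : ∀ x, π (algebraMap R LR x) = algebraMap S BS (algebraMap R S x) :=
    fun x => Localization.localRingHom_to_map _ _ _ _ x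
  have hM : Submonoid.map (algebraMap R S) qR.primeCompl = q.primeCompl := by
    ext y
    refine ⟨fun ⟨b, hb, hby⟩ => hby ▸ hb, fun hy => ?_⟩
    obtain ⟨a, rfl⟩ := hs y
    exact ⟨a, hy, rfl⟩
  haveI : IsLocalization (Submonoid.map (algebraMap R S) qR.primeCompl) BS := by rw [hM]; infer_instance
  have hπ : Function.Surjective π :=
    IsLocalization.map_surjective_of_surjective qR.primeCompl LR BS hs
  have hπk : RingHom.ker π = (J.map (algebraMap P R)).map (algebraMap R LR) := by
    rw [← hker]
    exact IsLocalization.ker_map BS (g := algebraMap R S) (T := q.primeCompl) hM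
  obtain ⟨T, hT⟩ : J.FG := IsNoetherian.noetherian J
  let gs : List P := T.toList
  have hgs : J = Ideal.ofList gs := by rw [← hT]; simp [gs, Ideal.ofList]
  let φ : P → LR := fun a => algebraMap R LR (algebraMap P R a)
  have hφl : ∀ m : List P, Ideal.ofList (m.map φ) = ((Ideal.ofList m).map (algebraMap P R)).map (algebraMap R LR) := by
    intro m
    rw [Ideal.map_map, LCI19.map_ofList]
    rfl
  have hJle : RingHom.ker π ≤ Ideal.ofList (l.map (algebraMap R LR)) := by
    rw [hπk, ← hlspan]; exact Ideal.map_mono hJL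
  obtain ⟨ys, l', hsub, hl', hkers, hky, hkl, heq⟩ := local_main π hπ (l.map (algebraMap R LR))
    (fun x hx => by
      obtain ⟨a, ha, rfl⟩ := List.mem_map.1 hx
      exact (IsLocalization.AtPrime.to_map_mem_maximal_iff LR qR a).2 (hLq (hlLid a ha)))
    hlkr' φ gs (by rw [hπk, hgs, hφl]) hJle
  refine ⟨?_, ?_⟩
  · let LP := Localization.AtPrime p
    letI : Algebra LP LR := (Localization.localRingHom p qR (algebraMap P R) rfl).toAlgebra
    haveI : IsScalarTower P LP LR := .of_algebraMap_eq fun a => by
      rw [RingHom.algebraMap_toAlgebra, Localization.localRingHom_to_map, IsScalarTower.algebraMap_apply P R LR]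
    haveI : Module.Flat P LR := Module.Flat.trans P R LR
    haveI := LCI19.flat_over_localization p.primeCompl LP LR
    haveI : IsLocalHom (algebraMap LP LR) := Localization.isLocalHom_localRingHom _ _ _ _
    haveI : Module.FaithfullyFlat LP LR := Module.FaithfullyFlat.of_flat_of_isLocalHom
    have hmap : (ys.map (algebraMap P LP)).map (algebraMap LP LR) = ys.map φ := by
      rw [List.map_map]
      exact List.map_congr_left fun a _ => by
        rw [Function.comp_apply, ← IsScalarTower.algebraMap_apply, IsScalarTower.algebraMap_apply P R LR]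
    refine krAt_of_local p J ys (fun x hx => hgs ▸ Ideal.subset_span (hsub hx)) ?_ ?_
    · exact KR.descend (B := LR) (hmap ▸ hky)
    · rw [← Ideal.comap_map_eq_self_of_faithfullyFlat (B := LR) (J.map (algebraMap P LP)),
        ← Ideal.comap_map_eq_self_of_faithfullyFlat (B := LR) (Ideal.ofList (ys.map (algebraMap P LP))),
        LCI19.map_ofList, hmap, ← hkers, hπk, Ideal.map_map, Ideal.map_map, ← IsScalarTower.algebraMap_eq,
        ← IsScalarTower.algebraMap_eq]
  · have hl0 : ∀ x ∈ l', ∃ a ∈ l, algebraMap R LR a = x := fun x hx => List.mem_map.1 (hl' hx)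
    choose a ha hax using hl0
    let l0 : List R := l'.attach.map fun x => a x.1 x.2
    have hl0' : l0.map (algebraMap R LR) = l' := by
      simp only [l0, List.map_map]
      refine (List.map_congr_left fun x _ => ?_).trans (List.attach_map_subtype_val l')
      exact hax x.1 x.2
    have hmap : (l0.map (algebraMap R S)).map (algebraMap S BS) = l'.map π := by
      conv_rhs => rw [← hl0']
      simp only [List.map_map]
      exact List.map_congr_left fun x _ => (hπc x).symm
    letI : Algebra LR BS := π.toAlgebra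
    haveI : IsNoetherianRing S := isNoetherianRing_of_surjective R S _ hs
    refine krAt_of_local q _ (l0.map (algebraMap R S)) (fun x hx => ?_) ?_ ?_
    · obtain ⟨y, hy, rfl⟩ := List.mem_map.1 hx
      obtain ⟨z, -, rfl⟩ := List.mem_map.1 hy
      exact Ideal.mem_map_of_mem _ (hlLid _ (ha z.1 z.2))
    · rw [hmap]
      exact KoszulCancel.kR_map_of_append (A := LR) (B := BS) hπ hkers hky hkl
    · rw [hmap, Ideal.map_map, show (algebraMap S BS).comp (algebraMap R S) = π.comp (algebraMap R LR) from
        RingHom.ext fun x => (hπc x).symm, ← Ideal.map_map, hlspan, heq, Ideal.ofList_append, Ideal.map_sup,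
        ← LCI19.map_ofList π l', sup_eq_left]
      exact (Ideal.map_eq_bot_iff_le_ker π).2 hkers.ge |>.le.trans bot_le

end Groth.Agent.FlatMor68.RegularTarget
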