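import Groth.Agent.FlatMor68.RelAssVal
import Groth.Agent.FlatMor66.RelAssGen
import Groth.Agent.FlatMor66.RelAssRed
import Groth.Agent.Open62.FlatLocus
import Groth.Agent.E4O.EquidimLocal
import Groth.Agent.E4O.Subscheme

/-!
The relative assassin at a generic point of a fibre of the closure of a relative associated point: where
the sheaf is flat such a point is again in the relative assassin and has the same residue transcendence
degree.
-/

set_option autoImplicit false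
set_option linter.style.haveILetI false
set_option backward.isDefEq.respectTransparency.types false
set_option maxHeartbeats 2000000

universe u

open AlgebraicGeometry CategoryTheory CategoryTheory.Limits TopologicalSpace Topology
open Groth.Agent.Div89 Groth.Agent.FBase64.AssSheaf

namespace Groth.Agent.FlatMor68.RelAssFlat

attribute [local instance] Algebra.TensorProduct.rightAlgebra

open Groth.Agent.E4O

variable {X S : Scheme.{u}}

/-- At a point of flatness generic in its fibre of the closure of a relative associated point. -/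
theorem mem_relAss_and_fdeg_eq (f : X ⟶ S) [LocallyOfFiniteType f] (F : X.Modules) [F.IsQuasicoherent]
    [F.IsFiniteType] {y x : X} (hy : y ∈ MoreMor.relAss f F) (hyx : y ⤳ x)
    (hgen : ∀ w : X, y ⤳ w → w ⤳ x → f w = f x → w = x)
    (hfl : FlatMod.IsFlatOverAt f F x) : x ∈ MoreMor.relAss f F ∧ fdeg f x = fdeg f y := by
  obtain ⟨_, ⟨W, hW, rfl⟩, hfxW, -⟩ :=
    S.isBasis_affineOpens.exists_subset_of_mem_open (Set.mem_univ (f x)) isOpen_univ
  obtain ⟨_, ⟨V, hV, rfl⟩, hxV, e⟩ :=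
    X.isBasis_affineOpens.exists_subset_of_mem_open (show x ∈ f ⁻¹ᵁ W from hfxW) (f ⁻¹ᵁ W).2
  have hyV : y ∈ V := hyx.mem_open V.2 hxV
  letI := (f.appLE W V e).hom.toAlgebra
  letI : Module Γ(S, W) Γ(F, V) := Module.compHom _ (f.appLE W V e).hom
  haveI : IsScalarTower Γ(S, W) Γ(X, V) Γ(F, V) := IsScalarTower.of_algebraMap_smul fun _ _ => rfl
  haveI : Algebra.FiniteType Γ(S, W) Γ(X, V) :=
    HasRingHomProperty.appLE (P := @LocallyOfFiniteType) f inferInstance ⟨W, hW⟩ ⟨V, hV⟩ e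
  haveI : Module.Finite Γ(X, V) Γ(F, V) := QC70.finite_sections_of_isFiniteType F hV
  have := hV.isOpenImmersion_fromSpec
  have := hW.isOpenImmersion_fromSpec
  let C : Chart f :=
    { A := Γ(S, W), B := Γ(X, V), e := hV.fromSpec, j := hW.fromSpec
      comm := (IsAffineOpen.SpecMap_appLE_fromSpec f hW hV e).symm }
  let Py : PrimeSpectrum Γ(X, V) := hV.primeIdealOf ⟨y, hyV⟩
  let qx : PrimeSpectrum Γ(X, V) := hV.primeIdealOf ⟨x, hxV⟩
  have hPy : C.pt Py = y := hV.fromSpec_primeIdealOf ⟨y, hyV⟩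
  have hqx : C.pt qx = x := hV.fromSpec_primeIdealOf ⟨x, hxV⟩
  have hle : Py ≤ qx := (C.specializes_iff Py qx).1 (by rw [hPy, hqx]; exact hyx)
  let rp : PrimeSpectrum Γ(S, W) := PrimeSpectrum.comap (algebraMap Γ(S, W) Γ(X, V)) Py
  let rs : PrimeSpectrum Γ(S, W) := PrimeSpectrum.comap (algebraMap Γ(S, W) Γ(X, V)) qx
  have hfy : f y = hW.fromSpec rp := by rw [← hPy]; exact C.apply Py
  have hfx : f x = hW.fromSpec rs := by rw [← hqx]; exact C.apply qx
  haveI : Py.asIdeal.LiesOver rp.asIdeal := ⟨rfl⟩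
  haveI : qx.asIdeal.LiesOver rs.asIdeal := ⟨rfl⟩
  have hmax : ∀ r' : PrimeSpectrum Γ(X, V), Py ≤ r' → r' ≤ qx →
      PrimeSpectrum.comap (algebraMap Γ(S, W) Γ(X, V)) r' = rs → r' = qx := by
    intro r' h1 h2 h3
    refine C.isOpenEmbedding_pt.injective ?_
    rw [hqx]
    refine hgen _ ?_ ?_ ?_
    · rw [← hPy]; exact (C.specializes_iff _ _).2 h1
    · rw [← hqx]; exact (C.specializes_iff _ _).2 h2
    · rw [← hqx, C.apply, C.apply]; exact congrArg C.ptY h3
  obtain ⟨P₀, hP₀, hP₀B⟩ := (FlatMor66.RelAssGen.mem_relAss_chart f F hW hV e rp y hyV).1 ⟨hy, hfy⟩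
  have hflat : FlatCA.FlatAt Γ(S, W) qx.asIdeal Γ(F, V) :=
    (Open62.isFlatOverAt_iff_localized f e hV hW (QC70.isLocAt_of_isQuasicoherent F hV) hxV).1 hfl
  obtain ⟨⟨Q₀, hQ₀, hQ₀B⟩, htr⟩ := RelAssVal.main (A := Γ(S, W)) (B := Γ(X, V)) (M := Γ(F, V))
    rp.asIdeal rs.asIdeal Py.asIdeal qx.asIdeal hle ⟨P₀, hP₀, hP₀B⟩ hflat
    fun Q hQ h1 h2 h3 => congrArg PrimeSpectrum.asIdeal (hmax ⟨Q, hQ⟩ h1 h2 (PrimeSpectrum.ext h3))
  refine ⟨((FlatMor66.RelAssGen.mem_relAss_chart f F hW hV e rs x hxV).2 ⟨Q₀, hQ₀, hQ₀B⟩).1, ?_⟩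
  refine le_antisymm ?_ ?_
  · rw [← hqx, ← hPy, ← C.deg_eq_fdeg, ← C.deg_eq_fdeg]
    exact htr
  · rw [← hqx, ← hPy]
    exact fdeg_le_of_isMax_in_closure C Py qx hle hmax

/-- A generic point of a component of a trace on a fibre has no strict generization there. -/
theorem eq_of_generic {α : Type*} [TopologicalSpace α] [T0Space α] {T : Set α} {a b : T}
    (h : ∃ C ∈ irreducibleComponents ↥T, IsGenericPoint a C) (hba : (b : α) ⤳ (a : α)) : (b : α) = a := by
  obtain ⟨C, hC, hgen⟩ := h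
  have hba' : b ⤳ a := (subtype_specializes_iff _ _).2 hba
  have hle : C ⊆ closure {b} := by
    rw [← hgen.def]
    exact isClosed_closure.closure_subset_iff.2 (Set.singleton_subset_iff.2 (specializes_iff_mem_closure.1 hba'))
  have hb : b ∈ C := hC.2 isIrreducible_singleton.closure hle (subset_closure rfl)
  exact (hba.antisymm ((subtype_specializes_iff _ _).1 (hgen.specializes hb))).eq

theorem t1470 (f : X ⟶ S) [LocallyOfFiniteType f] (F : X.Modules) [F.IsQuasicoherent] [F.IsFiniteType]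
    (y : X) (hy : y ∈ MoreMor.relAss f F) (s : S) (x : X) (hx : x ∈ closure ({y} : Set ↑X)) (hxs : f x = s)
    (hgen : ∃ C ∈ irreducibleComponents ↑(closure ({y} : Set ↑X) ∩ f ⁻¹' {s}),
      IsGenericPoint (⟨x, hx, hxs⟩ : ↑(closure ({y} : Set ↑X) ∩ f ⁻¹' {s})) C)
    (hfl : FlatMod.IsFlatOverAt f F x) :
    x ∈ MoreMor.relAss f F ∧
      FlatMor.localDim ↑(closure ({y} : Set ↑X) ∩ f ⁻¹' {s}) ⟨x, hx, hxs⟩ =
        topologicalKrullDim ↑(closure ({y} : Set ↑X) ∩ f ⁻¹' {f y}) := by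
  subst hxs
  have hmax : ∀ w : X, y ⤳ w → w ⤳ x → f w = f x → w = x := fun w h1 h2 h3 =>
    eq_of_generic (T := closure ({y} : Set ↑X) ∩ f ⁻¹' {f x}) (b := ⟨w, specializes_iff_mem_closure.1 h1, h3⟩)
      hgen h2
  obtain ⟨h1, h2⟩ := mem_relAss_and_fdeg_eq f F hy (specializes_iff_mem_closure.2 hx) hmax hfl
  refine ⟨h1, ?_⟩
  obtain ⟨Z, ι, _, _, hr, hg⟩ := FlatMor66.RelAssRed.exists_integral_closure y
  obtain ⟨x', rfl⟩ := hr.ge hx
  have hmax' : ∀ z, z ⤳ x' → (ι ≫ f) z = (ι ≫ f) x' → z = x' := fun z hz hfz =>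
    ι.isClosedEmbedding.injective (hmax (ι z)
      (specializes_iff_mem_closure.2 (hr.le ⟨z, rfl⟩)) (hz.map ι.continuous) hfz)
  rw [← fibreDimAt_comp_closedImmersion ι f x' hr rfl, fibreDimAt_eq_fdeg hmax',
    fdeg_comp_closedImmersion, h2, dim_fibreClosure]

theorem t9790 (f : X ⟶ S) [LocallyOfFiniteType f] (F : X.Modules) [F.IsQuasicoherent] [F.IsFiniteType]
    {Y : Scheme.{u}} (j : Y ⟶ X) [IsClosedImmersion j] (y : X) (hj : Set.range j = closure {y})
    (hy : y ∈ MoreMor.relAss f F)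
    (hflat : ∀ x : Y, (∃ Z ∈ irreducibleComponents ↥((j ≫ f).fiber (f (j x))),
      IsGenericPoint ((j ≫ f).asFiber x) Z) → FlatMod.IsFlatOverAt f F (j x)) :
    ∃ d : ℕ, ∀ x : Y, FlatMor.fibreDimAt (j ≫ f) x = d := by
  refine ⟨fdeg f y, fun x => ?_⟩
  obtain ⟨z, hzx, hfz, hz, hd, -⟩ := exists_isFibreMax_specializes (j ≫ f) x
  rw [hd, fdeg_comp_closedImmersion]
  have hyz : y ⤳ j z := specializes_iff_mem_closure.2 (hj.le ⟨z, rfl⟩)
  have hfl : FlatMod.IsFlatOverAt f F (j z) := by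
    refine hflat z ⟨closure {(j ≫ f).asFiber z}, closure_mem_irreducibleComponents ?_, isGenericPoint_closure⟩
    refine (isFibreMax_fiberι_iff (j ≫ f) _ _).1 ?_
    show IsFibreMax (j ≫ f) ((j ≫ f).fiberι ((j ≫ f) z) ((j ≫ f).asFiber z))
    rw [Scheme.Hom.fiberι_asFiber]
    exact hz
  have hmax : ∀ w : X, y ⤳ w → w ⤳ j z → f w = f (j z) → w = j z := by
    intro w h1 h2 h3
    obtain ⟨w', rfl⟩ := hj.ge (specializes_iff_mem_closure.1 h1)
    rw [hz w' (j.isClosedEmbedding.isInducing.specializes_iff.1 h2) h3]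
  rw [(mem_relAss_and_fdeg_eq f F hy hyz hmax hfl).2]

end Groth.Agent.FlatMor68.RelAssFlat
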