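import Groth.Agent.FlatMor68.RelAssValAlg
import Groth.Agent.FlatMor67.FlatAtBC
import Groth.Agent.E4O.ValDim
import Groth.Agent.FlatMor66.RelAssAlg

/-!
The relative assassin at a generic point of a fibre of the closure of a relative associated point, over
rings: where the module is flat such a point is associated in its fibre and the residue transcendence
degree does not increase.
-/

set_option autoImplicit false
set_option linter.style.haveILetI false
set_option maxHeartbeats 1000000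

universe u

open TensorProduct IsLocalRing

namespace Groth.Agent.FlatMor68.RelAssVal

attribute [local instance] Algebra.TensorProduct.rightAlgebra

open RelAssValAlg

variable {A B M : Type u} [CommRing A] [CommRing B] [Algebra A B] [AddCommGroup M] [Module B M]

/-- Primes of a fibre ring are determined by their contraction. -/
theorem mem_iff_of_comap_eq (p : Ideal A) [p.IsPrime] (P₀ P₁ : Ideal (p.Fiber B)) [P₀.IsPrime] [P₁.IsPrime]
    (h : P₀.comap (algebraMap B (p.Fiber B)) = P₁.comap (algebraMap B (p.Fiber B))) (y : p.Fiber B) :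
    y ∈ P₀ ↔ y ∈ P₁ := by
  obtain ⟨r, hr, b, hrb⟩ := Ideal.Fiber.exists_smul_eq_one_tmul p y
  have hu : IsUnit (algebraMap A (p.Fiber B) r) := by
    rw [IsScalarTower.algebraMap_apply A p.ResidueField (p.Fiber B)]
    exact (Ne.isUnit fun h0 => hr (Ideal.algebraMap_residueField_eq_zero.1 h0)).map _
  have hy : algebraMap A (p.Fiber B) r * y = algebraMap B (p.Fiber B) b := by
    rw [← Algebra.smul_def]
    exact hrb
  rw [← Ideal.unit_mul_mem_iff_mem P₀ hu, ← Ideal.unit_mul_mem_iff_mem P₁ hu, hy]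
  exact SetLike.ext_iff.1 h b

section Generic

variable {R : Type u} [CommRing R] [IsDomain R] [Algebra A R] (p : Ideal A) [p.IsPrime]
  [Algebra R p.ResidueField] [IsFractionRing R p.ResidueField] [IsScalarTower A R p.ResidueField]

variable (R B) in
/-- The map to the generic fibre. -/
noncomputable def toFibre : R ⊗[A] B →ₐ[A] p.Fiber B :=
  Algebra.TensorProduct.map (IsScalarTower.toAlgHom A R p.ResidueField) (AlgHom.id A B)

theorem toFibre_tmul (x : R) (b : B) :
    toFibre B R p (x ⊗ₜ[A] b) = algebraMap R p.ResidueField x ⊗ₜ[A] b := rfl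

theorem toFibre_left (x : R) :
    toFibre B R p (algebraMap R (R ⊗[A] B) x) =
      algebraMap p.ResidueField (p.Fiber B) (algebraMap R p.ResidueField x) := rfl

theorem toFibre_right (b : B) : toFibre B R p (algebraMap B (R ⊗[A] B) b) = algebraMap B (p.Fiber B) b := by
  show toFibre B R p ((1 : R) ⊗ₜ[A] b) = (1 : p.ResidueField) ⊗ₜ[A] b
  rw [toFibre_tmul, map_one]

theorem isUnit_toFibre_left {r : R} (hr : r ≠ 0) :
    IsUnit (toFibre B R p (algebraMap R (R ⊗[A] B) r)) := by
  rw [toFibre_left]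
  exact (Ne.isUnit fun h => hr (IsFractionRing.injective R p.ResidueField (h.trans (map_zero _).symm))).map _

theorem exists_toFibre (y : p.Fiber B) : ∃ r : R, r ≠ 0 ∧ ∃ y' : R ⊗[A] B,
    toFibre B R p y' = algebraMap p.ResidueField (p.Fiber B) (algebraMap R p.ResidueField r) * y := by
  induction y using TensorProduct.induction_on with
  | zero => exact ⟨1, one_ne_zero, 0, by simp⟩
  | tmul c b =>
    obtain ⟨⟨a, r⟩, hx⟩ := IsLocalization.surj (nonZeroDivisors R) c
    refine ⟨r, nonZeroDivisors.ne_zero r.2, a ⊗ₜ b, ?_⟩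
    rw [toFibre_tmul, ← hx, mul_comm]
    show _ = (algebraMap R p.ResidueField (r : R) ⊗ₜ[A] (1 : B)) * (c ⊗ₜ[A] b)
    rw [Algebra.TensorProduct.tmul_mul_tmul, one_mul]
  | add a b ha hb =>
    obtain ⟨r, hr, a', ha'⟩ := ha
    obtain ⟨t, ht, b', hb'⟩ := hb
    exact ⟨r * t, mul_ne_zero hr ht, algebraMap R _ t * a' + algebraMap R _ r * b', by
      rw [map_add, map_mul, map_mul, toFibre_left, toFibre_left, ha', hb', map_mul, map_mul]; ring⟩

theorem trdeg_toFibre (P₀ : Ideal (p.Fiber B)) [P₀.IsPrime] (P' : Ideal (R ⊗[A] B)) [P'.LiesOver (⊥ : Ideal R)]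
    (hP' : P' = P₀.comap (toFibre B R p).toRingHom) :
    Algebra.trdeg p.ResidueField (p.Fiber B ⧸ P₀) =
      Algebra.trdeg (R ⧸ (⊥ : Ideal R)) ((R ⊗[A] B) ⧸ P') := by
  haveI : P'.IsPrime := hP' ▸ Ideal.comap_isPrime _ _
  letI : Algebra (R ⧸ (⊥ : Ideal R)) p.ResidueField :=
    ((algebraMap R p.ResidueField).comp (RingEquiv.quotientBot R).toRingHom).toAlgebra
  haveI : IsFractionRing (R ⧸ (⊥ : Ideal R)) p.ResidueField :=
    (IsFractionRing.isFractionRing_iff_of_base_ringEquiv p.ResidueField (RingEquiv.quotientBot R).symm).1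
      inferInstance
  refine E4O.trdeg_eq_of_square (D := R ⧸ (⊥ : Ideal R)) (K := p.ResidueField) (E := (R ⊗[A] B) ⧸ P') (F := p.Fiber B ⧸ P₀)
    (Ideal.quotientMap P₀ (toFibre B R p).toRingHom hP'.le) ?_ ?_ ?_ ?_
  · exact Ideal.quotientMap_injective' hP'.ge
  · refine (injective_iff_map_eq_zero _).2 fun d hd => ?_
    obtain ⟨d, rfl⟩ := Ideal.Quotient.mk_surjective d
    exact Ideal.Quotient.eq_zero_iff_mem.2 ((Ideal.LiesOver.over (P := P') (p := (⊥ : Ideal R))).ge
      (show algebraMap R (R ⊗[A] B) d ∈ P' from Ideal.Quotient.eq_zero_iff_mem.1 hd))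
  · intro d
    obtain ⟨d, rfl⟩ := Ideal.Quotient.mk_surjective d
    show Ideal.Quotient.mk P₀ (toFibre B R p (algebraMap R (R ⊗[A] B) d)) =
      Ideal.Quotient.mk P₀ (algebraMap p.ResidueField (p.Fiber B) (algebraMap R p.ResidueField d))
    rw [toFibre_left]
  · intro w
    obtain ⟨w, rfl⟩ := Ideal.Quotient.mk_surjective w
    obtain ⟨r, hr, w', hw'⟩ := exists_toFibre (R := R) p w
    refine ⟨Ideal.Quotient.mk P' (algebraMap R _ r), Ideal.Quotient.mk P' w', fun h =>
      ‹P₀.IsPrime›.ne_top (Ideal.eq_top_of_isUnit_mem _ (hP'.le (Ideal.Quotient.eq_zero_iff_mem.1 h))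
        (isUnit_toFibre_left p hr)), ?_⟩
    rw [Ideal.quotientMap_mk, Ideal.quotientMap_mk, AlgHom.toRingHom_eq_coe, RingHom.coe_coe, ← map_mul, hw',
      toFibre_left]

variable [Module A M] [IsScalarTower A B M] [Algebra.FiniteType A B]

/-- An associated point of the generic fibre seen in the base change. -/
theorem exists_generic_elem (P₀ : Ideal (p.Fiber B))
    (hP₀ : P₀ ∈ associatedPrimes (p.Fiber B) (FlatCA.fiberMod p B M)) :
    ∃ m' : (R ⊗[A] B) ⊗[B] M, (∀ c, toFibre B R p c ∉ P₀ → c • m' ≠ 0) ∧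
      ∀ a, toFibre B R p a ∈ P₀ → ∃ c, toFibre B R p c ∉ P₀ ∧ c • a • m' = 0 := by
  haveI : IsNoetherianRing (p.Fiber B) := Algebra.FiniteType.isNoetherianRing p.ResidueField _
  obtain ⟨hP₀p, ξ₀, hξ⟩ := (isAssociatedPrime_iff (I := P₀) (M := FlatCA.fiberMod p B M)).1 hP₀
  let ξ : p.Fiber B ⊗[B] M := ξ₀
  let ι := toFibre B R p
  let B' := R ⊗[A] B
  let Fp := p.Fiber B
  let M' := B' ⊗[B] M
  let ιB : B' →ₗ[B] Fp :=
    { toFun := ι
      map_add' := map_add ι
      map_smul' := fun b y => by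
        rw [Algebra.smul_def, map_mul, toFibre_right, Algebra.smul_def]
        rfl }
  let Φ : M' →ₗ[B] Fp ⊗[B] M := ιB.rTensor M
  have hΦs : ∀ (b' : B') (y : M'), Φ (b' • y) = ι b' • Φ y := by
    intro b' y
    induction y using TensorProduct.induction_on with
    | zero => simp
    | tmul c m =>
      show ι (b' * c) ⊗ₜ[B] m = ι b' • (ι c ⊗ₜ[B] m)
      rw [TensorProduct.smul_tmul', smul_eq_mul, map_mul]
    | add a b ha hb => simp only [smul_add, map_add, ha, hb]
  have hsurjM : ∀ η : Fp ⊗[B] M, ∃ r : R, r ≠ 0 ∧ ∃ m' : M', Φ m' = ι (algebraMap R B' r) • η := by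
    intro η
    induction η using TensorProduct.induction_on with
    | zero => exact ⟨1, one_ne_zero, 0, by simp⟩
    | tmul y m =>
      obtain ⟨r, hr, y', hy'⟩ := exists_toFibre (R := R) p y
      refine ⟨r, hr, y' ⊗ₜ m, ?_⟩
      show ι y' ⊗ₜ[B] m = _
      rw [TensorProduct.smul_tmul', smul_eq_mul, hy', toFibre_left]
    | add a b ha hb =>
      obtain ⟨r, hr, a', ha'⟩ := ha
      obtain ⟨t, ht, b', hb'⟩ := hb
      exact ⟨r * t, mul_ne_zero hr ht, algebraMap R B' t • a' + algebraMap R B' r • b', by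
        rw [map_add, hΦs, hΦs, ha', hb', map_mul, map_mul, smul_add, smul_smul, smul_smul,
          mul_comm (ι (algebraMap R B' t))]⟩
  have hkerΦ : ∀ y : M', Φ y = 0 → ∃ r : R, r ≠ 0 ∧ algebraMap R B' r • y = 0 := by
    intro y hy
    let e₁ : M' ≃ₗ[R] R ⊗[A] M := Algebra.IsPushout.cancelBaseChange A R B B' M
    let e₂ : Fp ⊗[B] M ≃ₗ[p.ResidueField] p.ResidueField ⊗[A] M :=
      Algebra.IsPushout.cancelBaseChange A p.ResidueField B Fp M
    let j : R ⊗[A] M →ₗ[R] p.ResidueField ⊗[A] M :=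
      AlgebraTensorModule.rTensor A M (Algebra.linearMap R p.ResidueField)
    have hsq : ∀ w : R ⊗[A] M, e₂ (Φ (e₁.symm w)) = j w := by
      intro w
      induction w using TensorProduct.induction_on with
      | zero => simp
      | add a b ha hb => simp only [map_add, ha, hb]
      | tmul x m =>
        rw [Algebra.IsPushout.cancelBaseChange_symm_tmul]
        show e₂ (ι (algebraMap R B' x) ⊗ₜ[B] m) = algebraMap R p.ResidueField x ⊗ₜ[A] m
        rw [toFibre_left, ← Algebra.IsPushout.cancelBaseChange_symm_tmul A p.ResidueField B Fp M]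
        exact e₂.apply_symm_apply _
    have h1 : j (e₁ y) = 0 := by rw [← hsq, e₁.symm_apply_apply, hy, map_zero]
    obtain ⟨⟨r, hr⟩, hry⟩ := (IsLocalizedModule.eq_zero_iff (nonZeroDivisors R) j).1 h1
    refine ⟨r, nonZeroDivisors.ne_zero hr, ?_⟩
    rw [algebraMap_smul]
    exact e₁.injective (by rw [map_smul, map_zero]; exact hry)
  have hξmem : ∀ y : Fp, y ∈ P₀ ↔ y • ξ = 0 := fun y => by
    rw [hξ, Submodule.mem_colon_singleton, Submodule.mem_bot]
    exact Iff.rfl
  obtain ⟨r₁, hr₁, m', hm'⟩ := hsurjM ξ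
  refine ⟨m', fun c hc h => hc ?_, fun a ha => ?_⟩
  · have h1 := congrArg Φ h
    rw [hΦs, hm', map_zero, smul_smul, mul_comm] at h1
    exact (Ideal.unit_mul_mem_iff_mem P₀ (isUnit_toFibre_left p hr₁)).1 ((hξmem _).2 h1)
  · obtain ⟨r, hr, hra⟩ := hkerΦ (a • m') (by
      rw [hΦs, hm', smul_smul, mul_comm, mul_smul]
      exact (congrArg (ι (algebraMap R B' r₁) • ·) ((hξmem _).1 ha)).trans (smul_zero _))
    exact ⟨algebraMap R B' r, fun h => hP₀p.ne_top (Ideal.eq_top_of_isUnit_mem _ h (isUnit_toFibre_left p hr)), hra⟩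

end Generic

section Special

variable {R : Type u} [CommRing R] [Algebra A R] [Module A M] [IsScalarTower A B M]

omit [Module A M] [IsScalarTower A B M] in
theorem isScalarTower_tensor : IsScalarTower R (R ⊗[A] B) ((R ⊗[A] B) ⊗[B] M) := TensorProduct.isScalarTower_left

/-- Flatness at a prime of the base change. -/
theorem flatAt_tensor (q : Ideal B) [q.IsPrime] (z : Ideal (R ⊗[A] B)) [z.IsPrime]
    (hzB : z.comap (algebraMap B (R ⊗[A] B)) = q) (hflat : FlatCA.FlatAt A q M) :
    FlatCA.FlatAt R z ((R ⊗[A] B) ⊗[B] M) := by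
  subst hzB
  exact FlatMor67.FlatAtBC.flatAt_baseChange (R := A) (R' := R) (S := B) (S' := R ⊗[A] B)
    (TensorProduct.mk B (R ⊗[A] B) M 1) (TensorProduct.isBaseChange B M (R ⊗[A] B)) z hflat

variable [IsLocalRing R] (s : Ideal A) [s.IsPrime]

section Chi

variable {K : Type u} [Field K] [Algebra A K] [Algebra s.ResidueField K] [IsScalarTower A s.ResidueField K]
  (res : R →ₐ[A] K)

omit [Module A M] [IsScalarTower A B M] [IsLocalRing R] in
/-- The map of the base change onto the closed fibre. -/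
theorem exists_chi (hres : Function.Surjective res) :
    ∃ χ : R ⊗[A] B →ₐ[A] K ⊗[s.ResidueField] s.Fiber B, Function.Surjective χ ∧
      (∀ b, χ (algebraMap B (R ⊗[A] B) b) = algebraMap (s.Fiber B) _ (algebraMap B (s.Fiber B) b)) ∧
      (∀ x, χ (algebraMap R (R ⊗[A] B) x) = algebraMap K _ (res x)) ∧
      RingHom.ker χ ≤ (RingHom.ker res).map (algebraMap R (R ⊗[A] B)) := by
  let k := s.ResidueField
  let Fs := s.Fiber B
  let gR : R →ₐ[A] K ⊗[k] Fs := (Algebra.TensorProduct.includeLeft (S := A)).comp res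
  let gB : B →ₐ[A] K ⊗[k] Fs := ((Algebra.TensorProduct.includeRight : Fs →ₐ[k] K ⊗[k] Fs).restrictScalars A).comp
    (Algebra.TensorProduct.includeRight : B →ₐ[A] k ⊗[A] B)
  let χ : R ⊗[A] B →ₐ[A] K ⊗[k] Fs := Algebra.TensorProduct.lift gR gB fun x y => show Commute (gR x) (gB y) from mul_comm (gR x) (gB y)
  have hχt : ∀ (x : R) (b : B), χ (x ⊗ₜ[A] b) = (res x) ⊗ₜ[k] ((1 : k) ⊗ₜ[A] b) := fun x b => by
    simp only [χ, Algebra.TensorProduct.lift_tmul]
    show ((res x) ⊗ₜ[k] (1 : Fs)) * ((1 : K) ⊗ₜ[k] ((1 : k) ⊗ₜ[A] b)) = _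
    rw [Algebra.TensorProduct.tmul_mul_tmul, mul_one, one_mul]
  refine ⟨χ, ?_, fun b => ?_, fun x => ?_, ?_⟩
  · intro y
    induction y using TensorProduct.induction_on with
    | zero => exact ⟨0, map_zero _⟩
    | add a b ha hb =>
      obtain ⟨a', rfl⟩ := ha
      obtain ⟨b', rfl⟩ := hb
      exact ⟨a' + b', map_add _ _ _⟩
    | tmul a w =>
      induction w using TensorProduct.induction_on with
      | zero => exact ⟨0, by rw [map_zero, TensorProduct.tmul_zero]⟩
      | add v w hv hw =>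
        obtain ⟨v', hv'⟩ := hv
        obtain ⟨w', hw'⟩ := hw
        exact ⟨v' + w', by rw [map_add, hv', hw', TensorProduct.tmul_add]⟩
      | tmul c b =>
        obtain ⟨x, hx⟩ := hres (c • a : K)
        refine ⟨x ⊗ₜ[A] b, ?_⟩
        rw [hχt, hx, TensorProduct.smul_tmul, TensorProduct.smul_tmul', smul_eq_mul, mul_one]
  · show χ ((1 : R) ⊗ₜ[A] b) = _
    rw [hχt, map_one]
    rfl
  · show χ (x ⊗ₜ[A] (1 : B)) = _
    rw [hχt]
    rfl
  · intro y hy
    let c : K ⊗[k] (k ⊗[A] B) ≃ₐ[K] K ⊗[A] B := Algebra.TensorProduct.cancelBaseChange A k K K B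
    let χ₂ : R ⊗[A] B →ₐ[A] K ⊗[A] B := Algebra.TensorProduct.map res (AlgHom.id A B)
    have h1 : ∀ w : R ⊗[A] B, χ₂ w = c (χ w) := fun w => by
      induction w using TensorProduct.induction_on with
      | zero => simp
      | add a b ha hb => simp only [map_add, ha, hb]
      | tmul x b =>
        rw [hχt, Algebra.TensorProduct.cancelBaseChange_tmul, one_smul]
        rfl
    have h2 : y ∈ RingHom.ker χ₂ := by
      rw [RingHom.mem_ker] at hy ⊢
      rw [h1, hy, map_zero]
    rw [Algebra.TensorProduct.rTensor_ker _ hres] at h2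
    exact h2

end Chi

omit [Module A M] [IsScalarTower A B M] [IsLocalRing R] in
/-- Associated primes descend along a field extension without losing transcendence degree. -/
theorem ass_descend {k K F N : Type u} [Field k] [Field K] [Algebra k K] [CommRing F] [IsNoetherianRing F]
    [Algebra k F] [AddCommGroup N] [Module F N] (zS : Ideal (K ⊗[k] F))
    (h : zS ∈ associatedPrimes (K ⊗[k] F) ((K ⊗[k] F) ⊗[F] N)) :
    ∃ Q₀ ∈ associatedPrimes F N, zS.comap (algebraMap F (K ⊗[k] F)) = Q₀ ∧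
      Algebra.trdeg k (F ⧸ Q₀) ≤ Algebra.trdeg K ((K ⊗[k] F) ⧸ zS) := by
  haveI : Module.Flat F (K ⊗[k] F) := by
    have h1 : IsBaseChange F (IsScalarTower.toAlgHom k K (K ⊗[k] F)).toLinearMap :=
      (Algebra.IsPushout.symm (inferInstance : Algebra.IsPushout k K F (K ⊗[k] F))).out
    exact Module.Flat.isBaseChange k F K (K ⊗[k] F) h1
  rw [CAlg1.associatedPrimes_tensor_of_flat] at h
  simp only [Set.mem_iUnion, exists_prop] at h
  obtain ⟨Q₀, hQ₀, hQ₀z⟩ := h
  haveI := hQ₀.1
  exact ⟨Q₀, hQ₀, ass_fieldExt Q₀ zS hQ₀z⟩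

omit [Module A M] [IsScalarTower A B M] [IsLocalRing R] in
/-- Residue transcendence degrees along a surjection. -/
theorem trdeg_quotient_eq {R₁ B₁ K S : Type u} [CommRing R₁] [CommRing B₁] [Algebra R₁ B₁] [Field K] [CommRing S]
    [Algebra K S] (res : R₁ →+* K) (hres : Function.Surjective res) (χ : B₁ →+* S) (hχ : Function.Surjective χ)
    (hc : ∀ x, χ (algebraMap R₁ B₁ x) = algebraMap K S (res x)) (z : Ideal B₁) (zS : Ideal S)
    [z.IsPrime] (hz : zS.comap χ = z) (hzR : z.under R₁ = RingHom.ker res) :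
    Algebra.trdeg (R₁ ⧸ z.under R₁) (B₁ ⧸ z) = Algebra.trdeg K (S ⧸ zS) := by
  refine E4O.trdeg_eq_of_ringEquiv
    ((Ideal.quotEquivOfEq hzR).trans (RingHom.quotientKerEquivOfSurjective (f := res) hres))
    ((Ideal.quotEquivOfEq (show z = RingHom.ker ((Ideal.Quotient.mk zS).comp χ) by
      rw [← RingHom.comap_ker, Ideal.mk_ker]; exact hz.symm)).trans
      (RingHom.quotientKerEquivOfSurjective (f := (Ideal.Quotient.mk zS).comp χ)
        (Ideal.Quotient.mk_surjective.comp hχ))) ?_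
  refine Ideal.Quotient.ringHom_ext (RingHom.ext fun x => ?_)
  show Ideal.Quotient.mk zS (algebraMap K S (res x)) = Ideal.Quotient.mk zS (χ (algebraMap R₁ B₁ x))
  rw [hc]

omit [Module A M] [IsScalarTower A B M] [IsLocalRing R] in
/-- Local data at a prime push forward to an associated prime of a quotient ring. -/
theorem ass_push {B' S : Type u} [CommRing B'] [CommRing S] [IsNoetherianRing S] [Algebra B B'] [Algebra B S]
    (χ : B' →+* S) (hχ : Function.Surjective χ) (hχB : ∀ b, χ (algebraMap B B' b) = algebraMap B S b)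
    (J z : Ideal B') [z.IsPrime] (hker : RingHom.ker χ ≤ J) (hJ : J ≤ RingHom.ker χ) (hJz : J ≤ z) (x : B' ⊗[B] M)
    (hx0 : ∀ c, c ∉ z → c • x ∉ J • (⊤ : Submodule B' (B' ⊗[B] M)))
    (hxz : ∀ a ∈ z, ∃ c, ∃ n : ℕ, c ∉ z ∧ c • a ^ n • x ∈ J • (⊤ : Submodule B' (B' ⊗[B] M))) :
    (z.map χ).comap χ = z ∧ z.map χ ∈ associatedPrimes S (S ⊗[B] M) := by
  have hkerz : RingHom.ker χ ≤ z := hker.trans hJz
  haveI : (z.map χ).IsPrime := Ideal.map_isPrime_of_surjective hχ hkerz
  have hzS : (z.map χ).comap χ = z := by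
    rw [Ideal.comap_map_of_surjective _ hχ, ← RingHom.ker_eq_comap_bot, sup_eq_left.2 hkerz]
  let χB : B' →ₗ[B] S :=
    { toFun := χ
      map_add' := map_add χ
      map_smul' := fun b y => by rw [Algebra.smul_def, map_mul, hχB, Algebra.smul_def]; rfl }
  let Ψ : B' ⊗[B] M →ₗ[B] S ⊗[B] M := χB.rTensor M
  have hΨs : ∀ (b' : B') (y : B' ⊗[B] M), Ψ (b' • y) = χ b' • Ψ y := by
    intro b' y
    induction y using TensorProduct.induction_on with
    | zero => simp
    | tmul c m =>
      show χ (b' * c) ⊗ₜ[B] m = χ b' • (χ c ⊗ₜ[B] m)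
      rw [TensorProduct.smul_tmul', smul_eq_mul, map_mul]
    | add a b ha hb => simp only [smul_add, map_add, ha, hb]
  have hkerΨ : ∀ y, Ψ y = 0 ↔ y ∈ J • (⊤ : Submodule B' (B' ⊗[B] M)) := by
    intro y
    constructor
    · intro hy
      obtain ⟨w, rfl⟩ := (rTensor_exact M (LinearMap.exact_subtype_ker_map χB) (fun y => hχ y) y).1 hy
      clear hy
      induction w using TensorProduct.induction_on with
      | zero => simp
      | add a b ha hb => rw [map_add]; exact add_mem ha hb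
      | tmul j m =>
        have : (LinearMap.ker χB).subtype.rTensor M (j ⊗ₜ m) = (j : B') • ((1 : B') ⊗ₜ[B] m : B' ⊗[B] M) := by
          rw [LinearMap.rTensor_tmul, TensorProduct.smul_tmul', smul_eq_mul, mul_one]
          rfl
        rw [this]
        exact Submodule.smul_mem_smul (hker j.2) trivial
    · intro hy
      refine Submodule.smul_induction_on hy (fun j hj m _ => ?_) fun a b ha hb => by rw [map_add, ha, hb, add_zero]
      rw [hΨs, RingHom.mem_ker.1 (hJ hj), zero_smul]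
  refine ⟨hzS, mem_associatedPrimes_of_local _ (Ψ x) (fun c hc h => ?_) fun a ha => ?_⟩
  · obtain ⟨c', rfl⟩ := hχ c
    refine hx0 c' (fun h' => hc (Ideal.mem_map_of_mem _ h')) ((hkerΨ _).1 ?_)
    exact (hΨs c' x).trans h
  · obtain ⟨a', rfl⟩ := hχ a
    obtain ⟨c, n, hc, hcn⟩ := hxz a' (hzS.le ha)
    refine ⟨χ c, n, fun h => hc (hzS.le h), ?_⟩
    rw [← map_pow, ← hΨs, ← hΨs]
    exact (hkerΨ _).2 hcn

variable [Algebra.FiniteType A B]

/-- An associated point of the special fibre of the base change gives one of the fibre below. -/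
theorem exists_special' {K : Type u} [Field K] [Algebra A K] [Algebra s.ResidueField K]
    [IsScalarTower A s.ResidueField K] (res : R →ₐ[A] K) (hres : Function.Surjective res)
    (hresker : RingHom.ker res = maximalIdeal R) (q : Ideal B) [q.IsPrime] [q.LiesOver s]
    (z : Ideal (R ⊗[A] B)) [z.IsPrime] (hzR : z.comap (algebraMap R (R ⊗[A] B)) = maximalIdeal R)
    (hzB : z.comap (algebraMap B (R ⊗[A] B)) = q) (x : (R ⊗[A] B) ⊗[B] M)
    (hx0 : ∀ c, c ∉ z → c • x ∉
      (maximalIdeal R).map (algebraMap R (R ⊗[A] B)) • (⊤ : Submodule (R ⊗[A] B) ((R ⊗[A] B) ⊗[B] M)))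
    (hxz : ∀ a ∈ z, ∃ c, ∃ n : ℕ, c ∉ z ∧ c • a ^ n • x ∈
      (maximalIdeal R).map (algebraMap R (R ⊗[A] B)) • (⊤ : Submodule (R ⊗[A] B) ((R ⊗[A] B) ⊗[B] M))) :
    (∃ Q₀ ∈ associatedPrimes (s.Fiber B) (FlatCA.fiberMod s B M),
      Q₀.comap (algebraMap B (s.Fiber B)) = q) ∧
    Cardinal.toNat (Algebra.trdeg (A ⧸ s) (B ⧸ q)) ≤
      Cardinal.toNat (Algebra.trdeg (R ⧸ z.under R) ((R ⊗[A] B) ⧸ z)) := by
  haveI : IsNoetherianRing (s.Fiber B) := Algebra.FiniteType.isNoetherianRing s.ResidueField _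
  haveI := Algebra.FiniteType.isNoetherianRing K (K ⊗[s.ResidueField] s.Fiber B)
  letI : Algebra B (K ⊗[s.ResidueField] s.Fiber B) :=
    Algebra.compHom (K ⊗[s.ResidueField] s.Fiber B) (algebraMap B (s.Fiber B))
  haveI : IsScalarTower B (s.Fiber B) (K ⊗[s.ResidueField] s.Fiber B) :=
    IsScalarTower.of_algebraMap_eq fun b => rfl
  obtain ⟨χ, hχs, hχB, hχR, hkerχ⟩ := exists_chi (B := B) s res hres
  rw [hresker] at hkerχ
  have hJker : (maximalIdeal R).map (algebraMap R (R ⊗[A] B)) ≤ RingHom.ker χ.toRingHom :=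
    Ideal.map_le_iff_le_comap.2 fun r hr => by
      show χ (algebraMap R (R ⊗[A] B) r) = 0
      rw [hχR, RingHom.mem_ker.1 (hresker.ge hr), map_zero]
  have hB : ∀ b, χ.toRingHom (algebraMap B (R ⊗[A] B) b) = algebraMap B (K ⊗[s.ResidueField] s.Fiber B) b :=
    fun b => hχB b
  have hJz : (maximalIdeal R).map (algebraMap R (R ⊗[A] B)) ≤ z := Ideal.map_le_iff_le_comap.2 hzR.ge
  have hk : RingHom.ker χ.toRingHom ≤ (maximalIdeal R).map (algebraMap R (R ⊗[A] B)) := hkerχ
  have hpush := @ass_push B M _ _ _ (R ⊗[A] B) (K ⊗[s.ResidueField] s.Fiber B) _ _ _ _ _ χ.toRingHom hχs hB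
    ((maximalIdeal R).map (algebraMap R (R ⊗[A] B))) z _ hk hJker hJz x hx0 hxz
  obtain ⟨hzS, hassX⟩ := hpush
  let E : (K ⊗[s.ResidueField] s.Fiber B) ⊗[s.Fiber B] (s.Fiber B ⊗[B] M) ≃ₗ[K ⊗[s.ResidueField] s.Fiber B]
      (K ⊗[s.ResidueField] s.Fiber B) ⊗[B] M :=
    AlgebraTensorModule.cancelBaseChange B (s.Fiber B) (K ⊗[s.ResidueField] s.Fiber B)
      (K ⊗[s.ResidueField] s.Fiber B) M
  obtain ⟨Q₀, hQ₀, hcomap, htr⟩ := ass_descend (N := FlatCA.fiberMod s B M) (z.map χ.toRingHom)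
    ((LinearEquiv.AssociatedPrimes.eq E).symm.le hassX)
  haveI := hQ₀.1
  have hQ₀B : Q₀.comap (algebraMap B (s.Fiber B)) = q := by
    rw [← hcomap, Ideal.comap_comap, ← hzB]
    conv_rhs => rw [← hzS, Ideal.comap_comap]
    exact congrArg (fun f => Ideal.comap f (z.map χ.toRingHom)) (RingHom.ext fun b => (hχB b).symm)
  refine ⟨⟨Q₀, hQ₀, hQ₀B⟩, ?_⟩
  rw [(E4O.trdeg_fiber_quotient s Q₀ q hQ₀B.symm).symm]
  haveI : z.LiesOver (z.under R) := ⟨rfl⟩
  have hR : ∀ x, χ.toRingHom (algebraMap R (R ⊗[A] B) x) =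
      algebraMap K (K ⊗[s.ResidueField] s.Fiber B) (res.toRingHom x) := fun x => hχR x
  have h2 := trdeg_quotient_eq res.toRingHom hres χ.toRingHom hχs hR z (z.map χ.toRingHom) hzS (hzR.trans hresker.symm)
  rw [h2]
  refine Cardinal.toNat_le_toNat htr ?_
  rw [← h2]
  exact E4O.trdeg_quotient_lt_aleph0 R (R ⊗[A] B) _ _

/-- An associated point of the special fibre of the base change gives one of the fibre below, with the
residue field extension built from the contraction. -/
theorem exists_special (hsR : (maximalIdeal R).comap (algebraMap A R) = s) (q : Ideal B) [q.IsPrime] [q.LiesOver s]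
    (z : Ideal (R ⊗[A] B)) [z.IsPrime] (hzR : z.comap (algebraMap R (R ⊗[A] B)) = maximalIdeal R)
    (hzB : z.comap (algebraMap B (R ⊗[A] B)) = q) (x : (R ⊗[A] B) ⊗[B] M)
    (hx0 : ∀ c, c ∉ z → c • x ∉
      (maximalIdeal R).map (algebraMap R (R ⊗[A] B)) • (⊤ : Submodule (R ⊗[A] B) ((R ⊗[A] B) ⊗[B] M)))
    (hxz : ∀ a ∈ z, ∃ c, ∃ n : ℕ, c ∉ z ∧ c • a ^ n • x ∈
      (maximalIdeal R).map (algebraMap R (R ⊗[A] B)) • (⊤ : Submodule (R ⊗[A] B) ((R ⊗[A] B) ⊗[B] M))) :
    (∃ Q₀ ∈ associatedPrimes (s.Fiber B) (FlatCA.fiberMod s B M),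
      Q₀.comap (algebraMap B (s.Fiber B)) = q) ∧
    Cardinal.toNat (Algebra.trdeg (A ⧸ s) (B ⧸ q)) ≤
      Cardinal.toNat (Algebra.trdeg (R ⧸ z.under R) ((R ⊗[A] B) ⧸ z)) := by
  let K := IsLocalRing.ResidueField R
  let resA : A ⧸ s →+* K := Ideal.Quotient.lift s ((residue R).comp (algebraMap A R)) fun a ha => by
    rw [RingHom.comp_apply, residue_eq_zero_iff]
    exact (hsR.ge ha : a ∈ _)
  have hresA : Function.Injective resA := RingHom.lift_injective_of_ker_le_ideal _ _ fun a ha => by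
    rw [RingHom.mem_ker, RingHom.comp_apply, residue_eq_zero_iff] at ha
    exact hsR.le ha
  let ik : s.ResidueField →+* K := IsFractionRing.lift hresA
  letI : Algebra s.ResidueField K := ik.toAlgebra
  haveI : IsScalarTower A s.ResidueField K := IsScalarTower.of_algebraMap_eq fun a => by
    show residue R (algebraMap A R a) = ik (algebraMap A s.ResidueField a)
    rw [IsScalarTower.algebraMap_apply A (A ⧸ s) s.ResidueField, IsFractionRing.lift_algebraMap]
    rfl
  exact exists_special' s (K := K) (IsScalarTower.toAlgHom A R K) residue_surjective ker_residue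
    q z hzR hzB x hx0 hxz

end Special

variable [Module A M] [IsScalarTower A B M] [Algebra.FiniteType A B] [Module.Finite B M]

/-- At a generic point of a fibre of the closure of a point of the relative assassin, flatness gives an
associated point of the fibre, and the residue transcendence degree does not increase. -/
theorem main (p s : Ideal A) [p.IsPrime] [s.IsPrime] (P q : Ideal B) [P.IsPrime] [q.IsPrime]
    [P.LiesOver p] [q.LiesOver s] (hPq : P ≤ q)
    (hP : ∃ P₀ ∈ associatedPrimes (p.Fiber B) (FlatCA.fiberMod p B M),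
      P₀.comap (algebraMap B (p.Fiber B)) = P)
    (hflat : FlatCA.FlatAt A q M)
    (hgen : ∀ Q : Ideal B, Q.IsPrime → P ≤ Q → Q ≤ q → Q.comap (algebraMap A B) = s → Q = q) :
    (∃ Q₀ ∈ associatedPrimes (s.Fiber B) (FlatCA.fiberMod s B M),
      Q₀.comap (algebraMap B (s.Fiber B)) = q) ∧
    Cardinal.toNat (Algebra.trdeg (A ⧸ s) (B ⧸ q)) ≤ Cardinal.toNat (Algebra.trdeg (A ⧸ p) (B ⧸ P)) := by
  classical
  obtain ⟨P₀, hP₀, hP₀B⟩ := hP
  haveI := hP₀.1
  let κp := p.ResidueField
  let Lp := P.ResidueField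
  let iL : κp →+* Lp := Ideal.ResidueField.map p P (algebraMap A B) (Ideal.over_def P p)
  have hiL : ∀ a : A, iL (algebraMap A κp a) = algebraMap B Lp (algebraMap A B a) := fun a =>
    Ideal.ResidueField.map_algebraMap _ _ _ _ _
  let r₀ : Localization.AtPrime q →+* Lp := IsLocalization.lift (M := q.primeCompl) (g := algebraMap B Lp)
    fun c => Ne.isUnit fun h => c.2 (hPq (Ideal.algebraMap_residueField_eq_zero.1 h))
  have hr₀ : ∀ b, r₀ (algebraMap B _ b) = algebraMap B Lp b := fun b => IsLocalization.lift_eq _ b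
  obtain ⟨W, hW, hWloc⟩ := IsLocalRing.exists_factor_valuationRing r₀
  let rW : B →+* W := (r₀.codRestrict W.toSubring hW).comp (algebraMap B (Localization.AtPrime q))
  have hrW : ∀ b, (rW b : Lp) = algebraMap B Lp b := fun b => hr₀ b
  have hrWq : ∀ b, rW b ∈ maximalIdeal W ↔ b ∈ q := fun b => by
    have h1 : r₀.codRestrict W.toSubring hW (algebraMap B _ b) ∈ maximalIdeal W ↔
        algebraMap B (Localization.AtPrime q) b ∈ maximalIdeal _ := by
      simp only [IsLocalRing.mem_maximalIdeal, mem_nonunits_iff]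
      exact not_congr ⟨fun h => hWloc.map_nonunit _ h, fun h => h.map _⟩
    exact h1.trans (IsLocalization.AtPrime.to_map_mem_maximal_iff _ q b)
  let R : ValuationSubring κp := W.comap iL
  let aR : A →+* R := (algebraMap A κp).codRestrict R.toSubring fun a => by
    show iL (algebraMap A κp a) ∈ W
    rw [hiL, ← hrW]
    exact (rW (algebraMap A B a)).2
  letI : Algebra A R := aR.toAlgebra
  haveI : IsScalarTower A R κp := IsScalarTower.of_algebraMap_eq fun a => rfl
  let jR : R →+* W := (iL.comp R.subtype).codRestrict W.toSubring fun x => x.2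
  have hjR : ∀ x : R, (jR x : Lp) = iL (x : κp) := fun x => rfl
  have hjRloc : ∀ x : R, jR x ∈ maximalIdeal W ↔ x ∈ maximalIdeal R := fun x => by
    simp only [IsLocalRing.mem_maximalIdeal, mem_nonunits_iff]
    refine not_congr ⟨fun h => ?_, fun h => h.map jR⟩
    by_cases hx : (x : κp) = 0
    · have : jR x = 0 := Subtype.ext (by rw [hjR, hx, map_zero]; rfl)
      exact absurd (this ▸ h) not_isUnit_zero
    · obtain ⟨v, hv⟩ := h
      have h1 : (x : κp)⁻¹ ∈ R := by
        show iL (x : κp)⁻¹ ∈ W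
        rw [map_inv₀, ← hjR, ← hv]
        have h2 : ((v : W) : Lp) * ((v⁻¹ : Wˣ) : W) = 1 := congrArg Subtype.val v.mul_inv
        rw [← eq_inv_of_mul_eq_one_right h2]
        exact ((v⁻¹ : Wˣ) : W).2
      exact ⟨⟨x, ⟨_, h1⟩, Subtype.ext (mul_inv_cancel₀ hx), Subtype.ext (inv_mul_cancel₀ hx)⟩, rfl⟩
  have hjA : ∀ a : A, jR (algebraMap A R a) = rW (algebraMap A B a) := fun a => Subtype.ext (by
    show iL (algebraMap A κp a) = (rW (algebraMap A B a) : Lp)
    rw [hiL, hrW])
  letI : Algebra A W := (rW.comp (algebraMap A B)).toAlgebra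
  let φW : R ⊗[A] B →ₐ[A] W := Algebra.TensorProduct.lift { toRingHom := jR, commutes' := hjA }
    { toRingHom := rW, commutes' := fun a => rfl } fun _ _ => Commute.all _ _
  have hφt : ∀ (x : R) (b : B), φW (x ⊗ₜ[A] b) = jR x * rW b := fun x b =>
    Algebra.TensorProduct.lift_tmul _ _ _ x b
  let q' : Ideal (R ⊗[A] B) := (maximalIdeal W).comap φW
  haveI : q'.IsPrime := Ideal.comap_isPrime _ _
  -- the kernel is the contraction of the associated point
  let θ : p.Fiber B →ₐ[A] Lp := Algebra.TensorProduct.lift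
    { toRingHom := iL, commutes' := fun a => (hiL a).trans (IsScalarTower.algebraMap_apply A B Lp a).symm }
    { toRingHom := algebraMap B Lp, commutes' := fun a => (IsScalarTower.algebraMap_apply A B Lp a).symm }
    fun _ _ => Commute.all _ _
  have hθt : ∀ (c : κp) (b : B), θ (c ⊗ₜ[A] b) = iL c * algebraMap B Lp b := fun c b => by
    simp only [θ, Algebra.TensorProduct.lift_tmul]
    rfl
  have hθ : ∀ y, θ (toFibre B R p y) = (φW y : Lp) := by
    intro y
    induction y using TensorProduct.induction_on with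
    | zero => simp
    | add a b ha hb => simp only [map_add, ha, hb]; rfl
    | tmul x b =>
      rw [toFibre_tmul, hθt, hφt]
      show iL (x : κp) * algebraMap B Lp b = (jR x : Lp) * (rW b : Lp)
      rw [hjR, hrW]
  haveI : (RingHom.ker θ).IsPrime := RingHom.ker_isPrime _
  let P' := P₀.comap (toFibre B R p).toRingHom
  have hθB : ∀ b, θ (algebraMap B (p.Fiber B) b) = algebraMap B Lp b := fun b => by
    show θ ((1 : κp) ⊗ₜ[A] b) = _
    rw [hθt, map_one, one_mul]
  have hP'φ : ∀ y, y ∈ P' → φW y = 0 := fun y hy => by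
    have h1 := (mem_iff_of_comap_eq p P₀ (RingHom.ker θ) (by
      rw [hP₀B]
      ext b
      rw [Ideal.mem_comap, RingHom.mem_ker, hθB, Ideal.algebraMap_residueField_eq_zero]) _).1 hy
    rw [RingHom.mem_ker] at h1
    exact Subtype.ext ((hθ y).symm.trans h1)
  have hP'q' : P' ≤ q' := fun y hy => by
    show φW y ∈ maximalIdeal W
    rw [hP'φ y hy]
    exact zero_mem _
  have hq'R : q'.comap (algebraMap R (R ⊗[A] B)) = maximalIdeal R := by
    ext x
    rw [Ideal.mem_comap, Ideal.mem_comap, show φW (algebraMap R (R ⊗[A] B) x) = jR x by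
      show φW (x ⊗ₜ[A] (1 : B)) = _
      rw [hφt, map_one, mul_one], hjRloc]
  have hq'B : q'.comap (algebraMap B (R ⊗[A] B)) = q := by
    ext b
    rw [Ideal.mem_comap, Ideal.mem_comap, show φW (algebraMap B (R ⊗[A] B) b) = rW b by
      show φW ((1 : R) ⊗ₜ[A] b) = _
      rw [hφt, map_one, one_mul], hrWq]
  have hP'B : P'.comap (algebraMap B (R ⊗[A] B)) = P := by
    rw [← hP₀B, Ideal.comap_comap]
    exact congrArg (fun f => Ideal.comap f P₀) (RingHom.ext (toFibre_right p))
  let J := (maximalIdeal R).map (algebraMap R (R ⊗[A] B))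
  have hJq' : J ≤ q' := Ideal.map_le_iff_le_comap.2 hq'R.ge
  obtain ⟨z, hz, hzq'⟩ := Ideal.exists_minimalPrimes_le (show P' ⊔ J ≤ q' from sup_le hP'q' hJq')
  haveI : z.IsPrime := hz.1.1
  have hP'z : P' ≤ z := le_sup_left.trans hz.1.2
  have hJz : J ≤ z := le_sup_right.trans hz.1.2
  have hzR : z.comap (algebraMap R (R ⊗[A] B)) = maximalIdeal R :=
    le_antisymm ((Ideal.comap_mono hzq').trans hq'R.le) (Ideal.map_le_iff_le_comap.1 hJz)
  have hsR : (maximalIdeal R).comap (algebraMap A R) = s := by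
    ext a
    rw [Ideal.mem_comap, ← hjRloc, hjA, hrWq, Ideal.over_def q s]
    rfl
  have hzB : z.comap (algebraMap B (R ⊗[A] B)) = q := by
    refine hgen _ inferInstance (hP'B ▸ Ideal.comap_mono hP'z) (hq'B ▸ Ideal.comap_mono hzq') ?_
    rw [← hsR, ← hzR, Ideal.comap_comap, Ideal.comap_comap, ← IsScalarTower.algebraMap_eq A R (R ⊗[A] B)]
    congr 1
    exact RingHom.ext fun a => (Algebra.TensorProduct.includeRight (R := A) (A := R) (B := B)).commutes a
  have hflat' : FlatCA.FlatAt R z ((R ⊗[A] B) ⊗[B] M) := by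
    exact flatAt_tensor q z hzB hflat
  obtain ⟨m', hm0, hmP⟩ := exists_generic_elem (M := M) (R := R) p P₀ hP₀
  obtain ⟨x, hx0, hxz⟩ := exists_local_ass (R := R) (B := R ⊗[A] B) (M := (R ⊗[A] B) ⊗[B] M) P' z hP'z hJz
    (fun Q hQ h1 h2 h3 => le_antisymm h3 (hz.2 ⟨hQ, sup_le h1 h2⟩ h3))
    (fun r hr h => hP₀.1.ne_top (Ideal.eq_top_of_isUnit_mem _ h (isUnit_toFibre_left p hr)))
    hflat' m' hm0 hmP
  obtain ⟨h1, h2⟩ := exists_special s hsR q z hzR hzB x hx0 hxz
  refine ⟨h1, h2.trans ?_⟩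
  haveI : P'.LiesOver (⊥ : Ideal R) := ⟨(le_antisymm bot_le fun r hr => by
    rw [Submodule.mem_bot]
    by_contra h
    exact hP₀.1.ne_top (Ideal.eq_top_of_isUnit_mem _ hr (isUnit_toFibre_left p h)))⟩
  haveI : ValuationRing (R ⧸ (⊥ : Ideal R)) :=
    Function.Surjective.valuationRing _ Ideal.Quotient.mk_surjective
  refine (E4O.trdeg_under_le_of_valuationRing (A := R) (B := R ⊗[A] B) ⊥ P' z hP'z).trans ?_
  rw [← trdeg_toFibre p P₀ P' rfl, E4O.trdeg_fiber_quotient p P₀ P hP₀B.symm]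

end Groth.Agent.FlatMor68.RelAssVal
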