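import Groth.Agent.Prufer29.Saturated
import Groth.Agent.Prufer29.Basic
import Groth.Agent.FlatCrit65.Assassin.FibrewiseInj
import Groth.Agent.CAlg1.AssTensor
import Groth.Prelude.Def_FlatCA
import Mathlib

/-!
Algebra for the relative assassin over a valuation ring: minimal primes of a specialization of an
associated point of the generic fibre are associated in the special fibre where the module is flat, and
associated primes after a field extension.
-/

set_option autoImplicit false
set_option linter.style.haveILetI false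

universe u

open TensorProduct Polynomial

namespace Groth.Agent.FlatMor68.RelAssValAlg

theorem valuationRing_atPrime {R : Type u} [CommRing R] [IsDomain R] [ValuationRing R] (p : Ideal R) [p.IsPrime] :
    ValuationRing (Localization.AtPrime p) := by
  rw [Prufer29.valuationRing_atPrime_iff]
  intro a b
  rcases ValuationRing.dvd_total a b with ⟨c, hc⟩ | ⟨c, hc⟩
  · exact ⟨c, 1, fun h => Ideal.IsPrime.ne_top ‹_› ((Ideal.eq_top_iff_one p).2 h), .inr (by rw [one_mul, hc, mul_comm])⟩
  · exact ⟨c, 1, fun h => Ideal.IsPrime.ne_top ‹_› ((Ideal.eq_top_iff_one p).2 h), .inl (by rw [one_mul, hc, mul_comm])⟩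

/-- Local data give an associated prime over a Noetherian ring. -/
theorem mem_associatedPrimes_of_local {S X : Type u} [CommRing S] [IsNoetherianRing S] [AddCommGroup X] [Module S X]
    (z : Ideal S) [z.IsPrime] (y : X) (h0 : ∀ c : S, c ∉ z → c • y ≠ 0)
    (h : ∀ a ∈ z, ∃ (c : S) (k : ℕ), c ∉ z ∧ c • a ^ k • y = 0) : z ∈ associatedPrimes S X := by
  classical
  obtain ⟨s, hs⟩ := IsNoetherian.noetherian z
  choose! c k hc hck using h
  let e := ∏ a ∈ s, c a
  have hsz : ∀ a ∈ s, a ∈ z := fun a ha => hs.le (Submodule.subset_span ha)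
  have he : e ∉ z := fun h => by
    obtain ⟨a, ha, hca⟩ := (Ideal.IsPrime.prod_mem_iff).1 h
    exact hc a (hsz a ha) hca
  refine ⟨‹_›, e • y, le_antisymm ?_ ?_⟩
  · rw [← hs, Submodule.span_le]
    intro a ha
    refine ⟨k a, ?_⟩
    rw [Submodule.mem_colon_singleton, Submodule.mem_bot, smul_comm]
    show (∏ a ∈ s, c a) • a ^ k a • y = 0
    rw [← Finset.prod_erase_mul s c ha, mul_smul, hck a (hsz a ha), smul_zero]
  · refine (Ideal.IsPrime.radical_le_iff ‹_›).2 fun b hb => ?_
    rw [Submodule.mem_colon_singleton, Submodule.mem_bot, smul_smul] at hb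
    by_contra hbz
    exact h0 (b * e) (fun h => ((‹z.IsPrime›.mem_or_mem h).elim hbz he)) hb

section Torsion

variable {R B M : Type u} [CommRing R] [IsDomain R] [CommRing B] [Algebra R B]
  [AddCommGroup M] [Module B M] [Module R M] [IsScalarTower R B M]

variable (R B M) in
/-- The torsion over the base of a module over an algebra. -/
def torsion : Submodule B M where
  carrier := {m | ∃ r : R, r ≠ 0 ∧ r • m = 0}
  zero_mem' := ⟨1, one_ne_zero, smul_zero _⟩
  add_mem' := by
    rintro a b ⟨r, hr, hra⟩ ⟨s, hs, hsb⟩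
    exact ⟨r * s, mul_ne_zero hr hs, by rw [smul_add, mul_smul r s b, hsb, smul_zero, add_zero, mul_comm r s, mul_smul, hra, smul_zero]⟩
  smul_mem' := by
    rintro b m ⟨r, hr, hrm⟩
    exact ⟨r, hr, by rw [smul_comm, hrm, smul_zero]⟩

theorem eq_zero_of_smul_eq_zero (r : R) (hr : r ≠ 0) (l : M ⧸ torsion R B M) (h : r • l = 0) : l = 0 := by
  obtain ⟨m, rfl⟩ := Submodule.Quotient.mk_surjective _ l
  rw [← Submodule.Quotient.mk_smul, Submodule.Quotient.mk_eq_zero] at h
  obtain ⟨s, hs, hsm⟩ := h
  rw [Submodule.Quotient.mk_eq_zero]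
  exact ⟨s * r, mul_ne_zero hs hr, by rw [mul_smul, hsm]⟩

theorem exists_smul_eq_zero_of_flatAt (z : Ideal B) [z.IsPrime] (hflat : FlatCA.FlatAt R z M) {m : M}
    (hm : m ∈ torsion R B M) : ∃ c : B, c ∉ z ∧ c • m = 0 := by
  obtain ⟨r, hr, hrm⟩ := hm
  haveI : Module.Flat R (LocalizedModule z.primeCompl M) := hflat
  have h1 : LocalizedModule.mkLinearMap z.primeCompl M m = 0 := by
    refine IsSMulRegular.right_eq_zero_of_smul (M := LocalizedModule z.primeCompl M) (r := r) ?_ ?_
    · exact Module.Flat.isSMulRegular_of_nonZeroDivisors (mem_nonZeroDivisors_of_ne_zero hr)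
    · rw [← LinearMap.map_smul_of_tower, hrm, map_zero]
  obtain ⟨⟨c, hc⟩, hcm⟩ := (IsLocalizedModule.eq_zero_iff z.primeCompl _).1 h1
  exact ⟨c, hc, hcm⟩

end Torsion

/-- A module generated up to an element outside a prime by its product with an ideal in the prime is
killed by an element outside the prime. -/
theorem exists_killer {B N : Type u} [CommRing B] [AddCommGroup N] [Module B N] [Module.Finite B N]
    (z : Ideal B) [z.IsPrime] (I : Ideal B) (hI : I ≤ z) (c : B) (hc : c ∉ z)
    (h : ∀ n : N, c • n ∈ I • (⊤ : Submodule B N)) : ∃ e : B, e ∉ z ∧ ∀ n : N, e • n = 0 := by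
  obtain ⟨p, hp, -, hcoef, hzero⟩ :=
    LinearMap.exists_monic_and_natDegree_eq_and_coeff_mem_pow_and_aeval_eq_zero B
      (Algebra.lsmul B B N c) I (by
        rintro _ ⟨n, rfl⟩
        exact h n)
  refine ⟨p.eval c, fun he => hc ?_, fun n => ?_⟩
  · have hmap : p.map (Ideal.Quotient.mk z) = X ^ p.natDegree := by
      ext k
      rw [Polynomial.coeff_map, Polynomial.coeff_X_pow]
      rcases lt_trichotomy k p.natDegree with hk | rfl | hk
      · rw [if_neg hk.ne, Ideal.Quotient.eq_zero_iff_mem]
        exact hI (Ideal.pow_le_self (by omega) (hcoef k))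
      · rw [if_pos rfl, hp.coeff_natDegree, map_one]
      · rw [if_neg hk.ne', Polynomial.coeff_eq_zero_of_natDegree_lt hk, map_zero]
    have h1 := congrArg (Polynomial.eval (Ideal.Quotient.mk z c)) hmap
    rw [Polynomial.eval_map, Polynomial.eval₂_at_apply, Ideal.Quotient.eq_zero_iff_mem.2 he,
      Polynomial.eval_pow, Polynomial.eval_X, ← map_pow] at h1
    exact ‹z.IsPrime›.mem_of_pow_mem _ (Ideal.Quotient.eq_zero_iff_mem.1 h1.symm)
  · have h2 := LinearMap.congr_fun hzero n
    rw [Polynomial.aeval_algHom_apply, Algebra.lsmul_coe, LinearMap.zero_apply, Polynomial.coe_aeval_eq_eval] at h2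
    exact h2

section Core

variable {R B M : Type u} [CommRing R] [IsDomain R] [ValuationRing R] [CommRing B] [Algebra R B]
  [Algebra.FiniteType R B] [AddCommGroup M] [Module B M] [Module R M] [IsScalarTower R B M] [Module.Finite B M]

/-- Saturated submodules of finite torsion-free modules are finitely generated. -/
theorem fg_of_saturated {L : Type u} [AddCommGroup L] [Module B L] [Module R L] [IsScalarTower R B L]
    [Module.Finite B L] (N : Submodule B L)
    (hsat : ∀ (r : R), r ≠ 0 → ∀ l : L, r • l ∈ N → l ∈ N) : N.FG := by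
  obtain ⟨n, π, hπ⟩ := Algebra.FiniteType.iff_quotient_mvPolynomial''.1 ‹Algebra.FiniteType R B›
  let Rn := MvPolynomial (Fin n) R
  letI : Algebra Rn B := π.toRingHom.toAlgebra
  haveI : IsScalarTower R Rn B := IsScalarTower.of_algebraMap_eq fun a => (π.commutes a).symm
  letI : Module Rn L := Module.compHom L π.toRingHom
  haveI : IsScalarTower Rn B L := IsScalarTower.of_algebraMap_smul fun _ _ => rfl
  haveI : IsScalarTower R Rn L := IsScalarTower.of_algebraMap_smul fun a l => by
    show π (algebraMap R Rn a) • l = a • l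
    rw [AlgHom.commutes, algebraMap_smul]
  haveI : Module.Finite Rn B := Module.Finite.of_surjective (Algebra.linearMap Rn B) hπ
  haveI : Module.Finite Rn L := Module.Finite.trans B L
  obtain ⟨k, φ, hφ⟩ := Module.Finite.exists_fin' Rn L
  have hfg : (Submodule.comap φ (N.restrictScalars Rn)).FG :=
    Prufer29.Saturated.fg_of_saturated (fun c hc v hv => by
      rw [Submodule.mem_comap, Submodule.restrictScalars_mem] at hv ⊢
      refine hsat c hc _ ?_
      rwa [LinearMap.map_smul_of_tower] at hv) fun p _ => valuationRing_atPrime p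
  have h1 := hfg.map φ
  rw [Submodule.map_comap_eq_of_surjective hφ] at h1
  exact Submodule.FG.of_restrictScalars Rn h1

/-- A prime minimal over an associated prime of the generic fibre and the maximal ideal is associated
in the special fibre, where the module is flat. -/
theorem exists_local_ass (P z : Ideal B) [P.IsPrime] [z.IsPrime] (hPz : P ≤ z)
    (hzm : (IsLocalRing.maximalIdeal R).map (algebraMap R B) ≤ z)
    (hmin : ∀ Q : Ideal B, Q.IsPrime → P ≤ Q → (IsLocalRing.maximalIdeal R).map (algebraMap R B) ≤ Q → Q ≤ z → Q = z)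
    (hP0 : ∀ r : R, r ≠ 0 → algebraMap R B r ∉ P)
    (hflat : FlatCA.FlatAt R z M) (m : M) (hm0 : ∀ c : B, c ∉ P → c • m ≠ 0)
    (hmP : ∀ a ∈ P, ∃ c : B, c ∉ P ∧ c • a • m = 0) :
    ∃ x : M, (∀ c : B, c ∉ z → c • x ∉ (IsLocalRing.maximalIdeal R).map (algebraMap R B) • (⊤ : Submodule B M)) ∧
      ∀ a ∈ z, ∃ (c : B) (k : ℕ), c ∉ z ∧
        c • a ^ k • x ∈ (IsLocalRing.maximalIdeal R).map (algebraMap R B) • (⊤ : Submodule B M) := by
  classical
  let J := (IsLocalRing.maximalIdeal R).map (algebraMap R B)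
  let T := torsion R B M
  let L := M ⧸ T
  -- the prime is finitely generated
  obtain ⟨G, hG⟩ := fg_of_saturated (R := R) (L := B) P fun r hr b hb => by
    rw [Algebra.smul_def] at hb
    exact (‹P.IsPrime›.mem_or_mem hb).resolve_left (hP0 r hr)
  have hGP : ∀ a ∈ G, a ∈ P := fun a ha => hG.le (Submodule.subset_span ha)
  choose! c hc hcm using hmP
  let c₀ := ∏ a ∈ G, c a
  have hc₀ : c₀ ∉ P := fun h => by
    obtain ⟨a, ha, hca⟩ := (Ideal.IsPrime.prod_mem_iff).1 h
    exact hc a (hGP a ha) hca
  let N : Submodule B L :=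
    { carrier := {l | ∀ a ∈ P, a • l = 0}
      zero_mem' := fun a _ => smul_zero a
      add_mem' := fun {l l'} hl hl' a ha => by rw [smul_add, hl a ha, hl' a ha, add_zero]
      smul_mem' := fun b l hl a ha => by rw [smul_comm, hl a ha, smul_zero] }
  have hNsat : ∀ (r : R), r ≠ 0 → ∀ l : L, r • l ∈ N → l ∈ N := fun r hr l hl a ha =>
    eq_zero_of_smul_eq_zero r hr _ (by rw [← smul_comm a r l]; exact hl a ha)
  haveI : Module.Finite B N := Module.Finite.iff_fg.2 (fg_of_saturated N hNsat)
  let m' : L := T.mkQ (c₀ • m)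
  have hm'N : m' ∈ N := fun a ha => by
    have h1 : a • c₀ • m = 0 := by
      rw [← hG] at ha
      induction ha using Submodule.span_induction with
      | mem b hb =>
        rw [smul_comm]
        show (∏ a ∈ G, c a) • b • m = 0
        rw [← Finset.prod_erase_mul G c hb, mul_smul, hcm b (hGP b hb), smul_zero]
      | zero => exact zero_smul _ _
      | add a b _ _ ha hb => rw [add_smul, ha, hb, add_zero]
      | smul a b _ hb => rw [smul_assoc, hb, smul_zero]
    show a • T.mkQ (c₀ • m) = 0
    rw [← map_smul, h1, map_zero]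
  -- multiples of the maximal ideal in the quotient are single multiples
  have hJmem : ∀ l : L, l ∈ J • (⊤ : Submodule B L) → ∃ r ∈ IsLocalRing.maximalIdeal R, ∃ l' : L, l = r • l' := by
    have hadd : ∀ l₁ l₂ : L, (∃ r ∈ IsLocalRing.maximalIdeal R, ∃ l' : L, l₁ = r • l') →
        (∃ r ∈ IsLocalRing.maximalIdeal R, ∃ l' : L, l₂ = r • l') →
        ∃ r ∈ IsLocalRing.maximalIdeal R, ∃ l' : L, l₁ + l₂ = r • l' := by
      rintro _ _ ⟨r, hr, l₁, rfl⟩ ⟨s, hs, l₂, rfl⟩
      rcases ValuationRing.dvd_total r s with ⟨t, rfl⟩ | ⟨t, rfl⟩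
      · exact ⟨r, hr, l₁ + t • l₂, by rw [smul_add, smul_smul]⟩
      · exact ⟨s, hs, t • l₁ + l₂, by rw [smul_add, smul_smul]⟩
    intro l hl
    refine Submodule.smul_induction_on hl (fun j hj n _ => ?_) hadd
    revert n
    induction hj using Submodule.span_induction with
    | mem b hb =>
      obtain ⟨r, hr, rfl⟩ := hb
      exact fun n _ => ⟨r, hr, n, algebraMap_smul B r n⟩
    | zero => exact fun n _ => ⟨0, Submodule.zero_mem _, 0, by simp⟩
    | add a b _ _ ha hb => exact fun n h => by rw [add_smul]; exact hadd _ _ (ha n h) (hb n h)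
    | smul a b _ hb => exact fun n _ => by rw [smul_eq_mul, mul_comm, mul_smul]; exact hb (a • n) trivial
  -- an element of the annihilated part which survives
  obtain ⟨n, hn⟩ : ∃ n : N, ∀ d : B, d ∉ z → d • (n : L) ∉ J • (⊤ : Submodule B L) := by
    by_contra! hall
    choose d hd hdn using hall
    obtain ⟨s, hs⟩ := Module.Finite.fg_top (R := B) (M := N)
    let e := ∏ g ∈ s, d g
    have he : e ∉ z := fun h => by
      obtain ⟨g, hg, hdg⟩ := (Ideal.IsPrime.prod_mem_iff).1 h
      exact hd g hdg
    have hmem : ∀ g : N, e • g ∈ J • (⊤ : Submodule B N) := by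
      intro g
      have hg : g ∈ Submodule.span B (s : Set N) := hs ▸ Submodule.mem_top
      induction hg using Submodule.span_induction with
      | mem g hg =>
        have h1 : d g • g ∈ J • (⊤ : Submodule B N) := by
          obtain ⟨r, hr, l', hl'⟩ := hJmem _ (hdn g)
          by_cases hr0 : r = 0
          · have : d g • g = 0 := Subtype.ext (by rw [Submodule.coe_smul, hl', hr0, zero_smul, Submodule.coe_zero])
            rw [this]
            exact Submodule.zero_mem _
          have hl'N : l' ∈ N := hNsat r hr0 l' (by rw [← hl']; exact N.smul_mem _ g.2)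
          have : d g • g = algebraMap R B r • (⟨l', hl'N⟩ : N) := Subtype.ext (by
            rw [Submodule.coe_smul, hl', Submodule.coe_smul, algebraMap_smul])
          rw [this]
          exact Submodule.smul_mem_smul (Ideal.mem_map_of_mem _ hr) trivial
        show (∏ g ∈ s, d g) • g ∈ _
        rw [← Finset.prod_erase_mul s d hg, mul_smul]
        exact Submodule.smul_mem _ _ h1
      | zero => rw [smul_zero]; exact Submodule.zero_mem _
      | add a b _ _ ha hb => rw [smul_add]; exact Submodule.add_mem _ ha hb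
      | smul a b _ hb => rw [smul_comm]; exact Submodule.smul_mem _ _ hb
    obtain ⟨e', he', hkill⟩ := exists_killer z J hzm e he hmem
    have h2 : T.mkQ ((e' * c₀) • m) = 0 := by
      rw [mul_smul, map_smul]
      exact congrArg Subtype.val (hkill ⟨m', hm'N⟩)
    rw [Submodule.mkQ_apply, Submodule.Quotient.mk_eq_zero] at h2
    obtain ⟨r, hr, hrm⟩ := h2
    refine hm0 (algebraMap R B r * (e' * c₀)) (fun h => ?_) (by rw [mul_smul, algebraMap_smul, hrm])
    exact (‹P.IsPrime›.mem_or_mem h).elim (hP0 r hr)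
      fun h' => (‹P.IsPrime›.mem_or_mem h').elim (fun h'' => he' (hPz h'')) hc₀
  obtain ⟨x, hx⟩ := Submodule.mkQ_surjective T (n : L)
  have hmkJ : ∀ w : M, w ∈ J • (⊤ : Submodule B M) → T.mkQ w ∈ J • (⊤ : Submodule B L) := fun w hw =>
    Submodule.smul_top_le_comap_smul_top J T.mkQ hw
  refine ⟨x, fun d hd hdx => hn d hd ?_, fun a ha => ?_⟩
  · have h1 := hmkJ _ hdx
    rwa [map_smul, hx] at h1
  · -- a power of `a` lies in `P + J` up to an element outside `z`
    obtain ⟨d, k, hd, hdk⟩ : ∃ (d : B) (k : ℕ), d ∉ z ∧ d * a ^ k ∈ P ⊔ J := by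
      by_contra! hno
      let U : Submonoid B := z.primeCompl ⊔ Submonoid.powers a
      have hdisj : Disjoint ((P ⊔ J : Ideal B) : Set B) U := Set.disjoint_left.2 fun b hb hbU => by
        obtain ⟨d, hd, _, ⟨k, rfl⟩, rfl⟩ := Submonoid.mem_sup.1 hbU
        exact hno d k hd hb
      obtain ⟨Q, hQ, hJQ, hQU⟩ := Ideal.exists_le_prime_disjoint _ U hdisj
      have hQz : Q ≤ z := fun b hb => by_contra fun hbz =>
        Set.disjoint_left.1 hQU hb (Submonoid.mem_sup_left hbz)
      have := hmin Q hQ (le_sup_left.trans hJQ) (le_sup_right.trans hJQ) hQz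
      exact Set.disjoint_left.1 hQU (this ▸ ha : a ∈ Q) (Submonoid.mem_sup_right (Submonoid.mem_powers a))
    obtain ⟨p, hp, j, hj, hpj⟩ := Submodule.mem_sup.1 hdk
    have h1 : T.mkQ (d • a ^ k • x - j • x) = 0 := by
      rw [smul_smul, ← hpj, add_smul, add_sub_cancel_right, map_smul, hx]
      exact n.2 p hp
    rw [Submodule.mkQ_apply, Submodule.Quotient.mk_eq_zero] at h1
    obtain ⟨d', hd', hd'x⟩ := exists_smul_eq_zero_of_flatAt z hflat h1
    refine ⟨d' * d, k, fun h => (‹z.IsPrime›.mem_or_mem h).elim hd' hd, ?_⟩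
    rw [smul_sub, sub_eq_zero] at hd'x
    rw [mul_smul, hd'x]
    exact Submodule.smul_mem _ _ (Submodule.smul_mem_smul hj trivial)

end Core

section FieldExt

attribute [local instance] Algebra.TensorProduct.rightAlgebra

variable {k K L : Type u} [Field k] [Field K] [Algebra k K] [Field L] [Algebra k L]

/-- A polynomial over a field extension in algebraically independent elements is regular. -/
theorem regular_aeval {ι : Type u} {t : ι → L} (ht : AlgebraicIndependent k t) (h : MvPolynomial ι K) (hh : h ≠ 0)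
    (v : K ⊗[k] L) (hv : MvPolynomial.aeval (fun i => ((1 : K) ⊗ₜ[k] t i : K ⊗[k] L)) h * v = 0) : v = 0 := by
  classical
  let P := MvPolynomial ι k
  letI : Algebra P L := (MvPolynomial.aeval t : P →ₐ[k] L).toRingHom.toAlgebra
  haveI : IsScalarTower k P L := IsScalarTower.of_algebraMap_eq fun a => (MvPolynomial.aeval_C t a).symm
  haveI : FaithfulSMul P L := (faithfulSMul_iff_algebraMap_injective _ _).2 ht
  letI : Algebra (FractionRing P) L := FractionRing.liftAlgebra P L
  haveI : IsScalarTower P (FractionRing P) L := inferInstance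
  haveI : Module.Flat (FractionRing P) L := inferInstance
  haveI : Module.Flat P (FractionRing P) := IsLocalization.flat (FractionRing P) (nonZeroDivisors P)
  haveI : Module.Flat P L := Module.Flat.trans P (FractionRing P) L
  let eP : K ⊗[k] P ≃ₐ[K] MvPolynomial ι K := MvPolynomial.algebraTensorAlgEquiv k K
  let u : P ⊗[k] K := Algebra.TensorProduct.comm k K P (eP.symm h)
  have hu : u ≠ 0 := by simpa [u] using hh
  haveI : IsDomain (P ⊗[k] K) :=
    ((Algebra.TensorProduct.comm k P K).toRingEquiv.trans eP.toRingEquiv).toMulEquiv.isDomain _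
  have hinj : Function.Injective (LinearMap.mulLeft P u) := mul_right_injective₀ hu
  have hinj' := Module.Flat.lTensor_preserves_injective_linearMap (M := L) (LinearMap.mulLeft P u) hinj
  let E : L ⊗[P] (P ⊗[k] K) ≃ₗ[L] L ⊗[k] K := AlgebraTensorModule.cancelBaseChange k P L L K
  let χ : P ⊗[k] K →ₐ[k] L ⊗[k] K :=
    Algebra.TensorProduct.map (IsScalarTower.toAlgHom k P L) (AlgHom.id k K)
  have hE : ∀ w, E ((LinearMap.mulLeft P u).lTensor L w) = χ u * E w := by
    intro w
    induction w using TensorProduct.induction_on with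
    | zero => simp
    | add a b ha hb => simp only [map_add, mul_add, ha, hb]
    | tmul l s =>
      induction s using TensorProduct.induction_on with
      | zero => simp
      | add a b ha hb => simp only [TensorProduct.tmul_add, map_add, mul_add, ha, hb]
      | tmul p y =>
        rw [LinearMap.lTensor_tmul, LinearMap.mulLeft_apply]
        clear hinj' hinj hu
        generalize u = u'
        induction u' using TensorProduct.induction_on with
        | zero => simp
        | add a b ha hb => simp only [add_mul, TensorProduct.tmul_add, map_add, ha, hb]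
        | tmul p' y' =>
          simp [E, χ, Algebra.TensorProduct.tmul_mul_tmul, Algebra.smul_def, mul_assoc]
  have hχ : Algebra.TensorProduct.comm k L K (χ u) =
      MvPolynomial.aeval (fun i => ((1 : K) ⊗ₜ[k] t i : K ⊗[k] L)) h := by
    let f₁ : MvPolynomial ι K →+* K ⊗[k] L :=
      ((Algebra.TensorProduct.comm k L K).toRingEquiv.toRingHom.comp χ.toRingHom).comp
        ((Algebra.TensorProduct.comm k K P).toRingEquiv.toRingHom.comp eP.symm.toRingEquiv.toRingHom)
    have : f₁ = (MvPolynomial.aeval (fun i => ((1 : K) ⊗ₜ[k] t i : K ⊗[k] L))).toRingHom := by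
      refine MvPolynomial.ringHom_ext (fun a => ?_) fun i => ?_
      · have e1 : eP.symm (MvPolynomial.C a) = a ⊗ₜ[k] (1 : P) := eP.symm.commutes a
        simp [f₁, χ, e1]
      · have e2 : eP.symm (MvPolynomial.X i) = (1 : K) ⊗ₜ[k] (MvPolynomial.X i : P) :=
          MvPolynomial.algebraTensorAlgEquiv_symm_X k K i
        simp [f₁, χ, e2, RingHom.algebraMap_toAlgebra]
        exact congrArg (fun l : L => (1 : K) ⊗ₜ[k] l) (MvPolynomial.aeval_X t i)
    exact RingHom.congr_fun this h
  obtain ⟨w, hw⟩ := ((Algebra.TensorProduct.comm k K L).toLinearEquiv.trans (LinearEquiv.refl k _)).symm.surjective v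
  have hv' : χ u * w = 0 := by
    apply (Algebra.TensorProduct.comm k L K).injective
    rw [map_mul, map_zero, hχ, ← hv, ← hw]
    rfl
  obtain ⟨w', rfl⟩ := E.surjective w
  have := hinj' (a₁ := w') (a₂ := 0) (by
    rw [map_zero]
    apply E.injective
    rw [hE, hv', map_zero])
  rw [← hw, this, map_zero, map_zero]

/-- Associated primes of a field extension of a domain lie over zero and lose no transcendence degree. -/
theorem ass_fieldExt {F : Type u} [CommRing F] [Algebra k F] (P₀ : Ideal F) [P₀.IsPrime]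
    (z : Ideal (K ⊗[k] F)) (hz : z ∈ associatedPrimes (K ⊗[k] F)
      ((K ⊗[k] F) ⧸ P₀.map (algebraMap F (K ⊗[k] F)) • (⊤ : Submodule (K ⊗[k] F) (K ⊗[k] F)))) :
    z.comap (algebraMap F (K ⊗[k] F)) = P₀ ∧
      Algebra.trdeg k (F ⧸ P₀) ≤ Algebra.trdeg K ((K ⊗[k] F) ⧸ z) := by
  classical
  obtain ⟨hzp, y, hy⟩ := hz
  let S := K ⊗[k] F
  let D := F ⧸ P₀
  let L₀ := FractionRing D
  let π : S →ₐ[k] K ⊗[k] L₀ := Algebra.TensorProduct.map (AlgHom.id k K)
    ((IsScalarTower.toAlgHom k D L₀).comp (Ideal.Quotient.mkₐ k P₀))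
  have hmapeq : Ideal.map (Algebra.TensorProduct.includeRight (R := k) (A := K) (B := F))
      (RingHom.ker (Ideal.Quotient.mkₐ k P₀)) = P₀.map (algebraMap F S) := by
    rw [show RingHom.ker (Ideal.Quotient.mkₐ k P₀) = P₀ from Ideal.mk_ker]
    rfl
  have hker : ∀ s : S, π s = 0 ↔ s ∈ P₀.map (algebraMap F S) := by
    intro s
    have h1 : π s = (IsScalarTower.toAlgHom k D L₀).toLinearMap.lTensor K
        ((Ideal.Quotient.mkₐ k P₀).toLinearMap.lTensor K s) := by
      rw [← LinearMap.lTensor_comp_apply]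
      rfl
    have hinjD : Function.Injective ((IsScalarTower.toAlgHom k D L₀).toLinearMap.lTensor K) :=
      Module.Flat.lTensor_preserves_injective_linearMap _ (IsFractionRing.injective D L₀)
    rw [h1, map_eq_zero_iff _ hinjD]
    constructor
    · intro hs
      have h2 : s ∈ RingHom.ker (Algebra.TensorProduct.map (AlgHom.id k K) (Ideal.Quotient.mkₐ k P₀)) := hs
      rw [Algebra.TensorProduct.lTensor_ker _ Ideal.Quotient.mk_surjective] at h2
      exact hmapeq ▸ h2
    · intro hs
      show s ∈ RingHom.ker (Algebra.TensorProduct.map (AlgHom.id k K) (Ideal.Quotient.mkₐ k P₀))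
      rw [Algebra.TensorProduct.lTensor_ker _ Ideal.Quotient.mk_surjective]
      exact hmapeq.symm ▸ hs
  obtain ⟨y, rfl⟩ := Submodule.Quotient.mk_surjective _ y
  have hcolon : ∀ s : S, s ∈ (⊥ : Submodule S (S ⧸ P₀.map (algebraMap F S) • (⊤ : Submodule S S))).colon
      {Submodule.Quotient.mk y} ↔ π s * π y = 0 := fun s => by
    rw [Submodule.mem_colon_singleton, Submodule.mem_bot, ← Submodule.Quotient.mk_smul,
      Submodule.Quotient.mk_eq_zero, smul_eq_mul, Ideal.mul_top, ← map_mul, hker, smul_eq_mul]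
  have hy0 : π y ≠ 0 := fun h => hzp.ne_top (by
    rw [hy, Ideal.eq_top_iff_one]
    exact Ideal.le_radical ((hcolon 1).2 (by rw [map_one, one_mul, h])))
  have hmem : ∀ s : S, (∀ v : K ⊗[k] L₀, π s * v = 0 → v = 0) → s ∉ z := by
    intro s hs hsz
    rw [hy] at hsz
    obtain ⟨n, hn⟩ := hsz
    have h2 := (hcolon _).1 hn
    rw [map_pow] at h2
    clear hn
    induction n with
    | zero => exact hy0 (by simpa using h2)
    | succ n ih => exact ih (hs _ (by rw [← mul_assoc, ← pow_succ']; exact h2))
  refine ⟨le_antisymm (fun a ha => by_contra fun haP => hmem _ (fun v hv => ?_) ha) ?_, ?_⟩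
  · have h3 : π (algebraMap F S a) = (1 : K) ⊗ₜ algebraMap D L₀ (Ideal.Quotient.mk P₀ a) := by
      show π ((1 : K) ⊗ₜ[k] a) = _
      rfl
    have hne : algebraMap D L₀ (Ideal.Quotient.mk P₀ a) ≠ 0 := by
      rw [Ne, map_eq_zero_iff _ (IsFractionRing.injective D L₀), Ideal.Quotient.eq_zero_iff_mem]
      exact haP
    calc v = ((1 : K) ⊗ₜ[k] (algebraMap D L₀ (Ideal.Quotient.mk P₀ a))⁻¹) * (π (algebraMap F S a) * v) := by
          rw [← mul_assoc, h3, Algebra.TensorProduct.tmul_mul_tmul, inv_mul_cancel₀ hne, one_mul,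
            ← Algebra.TensorProduct.one_def, one_mul]
      _ = 0 := by rw [hv, mul_zero]
  · refine fun a ha => ?_
    rw [Ideal.mem_comap, hy]
    refine Ideal.le_radical ((hcolon _).2 ?_)
    rw [(hker _).2 (Ideal.mem_map_of_mem _ ha), zero_mul]
  · refine ciSup_le' fun ⟨t, ht⟩ => ?_
    choose b hb using fun i : t => Ideal.Quotient.mk_surjective i.1
    have ht' : AlgebraicIndependent k fun i : t => algebraMap D L₀ i.1 :=
      ht.map' (f := IsScalarTower.toAlgHom k D L₀) (IsFractionRing.injective D L₀)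
    refine AlgebraicIndependent.cardinalMk_le_trdeg (x := fun i : t => Ideal.Quotient.mk z ((1 : K) ⊗ₜ b i))
      (algebraicIndependent_iff.2 fun h hh => ?_)
    by_contra hne
    let g : S := MvPolynomial.aeval (fun i : t => ((1 : K) ⊗ₜ[k] b i : S)) h
    have hgz : g ∈ z := by
      rw [← Ideal.Quotient.eq_zero_iff_mem, ← hh]
      show Ideal.Quotient.mkₐ K z g = _
      rw [← AlgHom.comp_apply, MvPolynomial.comp_aeval]
      rfl
    refine hmem g (fun v hv => regular_aeval ht' h hne v ?_) hgz
    have h4 : π g = MvPolynomial.aeval (fun i : t => ((1 : K) ⊗ₜ[k] algebraMap D L₀ i.1 : K ⊗[k] L₀)) h := by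
      let π' : S →ₐ[K] K ⊗[k] L₀ := Algebra.TensorProduct.map (AlgHom.id K K)
        ((IsScalarTower.toAlgHom k D L₀).comp (Ideal.Quotient.mkₐ k P₀))
      show π' g = _
      rw [← AlgHom.comp_apply, MvPolynomial.comp_aeval]
      congr 2
      funext i
      show (1 : K) ⊗ₜ[k] algebraMap D L₀ (Ideal.Quotient.mk P₀ (b i)) = _
      rw [hb]
    rwa [← h4]

end FieldExt

end Groth.Agent.FlatMor68.RelAssValAlg
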