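import Groth.Agent.RelPCSch41.Comp
import Groth.Agent.RelPCSch41.Dev
import Mathlib

/-!
# Relative pseudo-coherence over a pseudo-coherent base, without boundedness
-/

set_option autoImplicit false
set_option backward.isDefEq.respectTransparency.types false
set_option linter.style.haveILetI false
set_option linter.unusedVariables false

noncomputable section

universe u

open CategoryTheory Limits AlgebraicGeometry TopologicalSpace DerivedCategory Opposite
open Groth.Agent.DCX42 Groth.Agent.RelPCSch41
attribute [local instance] HasDerivedCategory.standard MvPolynomial.algebraMvPolynomial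

namespace Groth.Agent.FlatMor68.RelPCComp

variable {X Y Z : Scheme.{u}} {f : X ⟶ Y} {g : Y ⟶ Z}

/-- On an affine open a relatively pseudo-coherent object is bounded above. -/
theorem exists_isLE_resD {m : ℤ} {K : DCoh.D X} (h : DerSch.IsPseudoCoherentRel f m K) {U : X.Opens}
    (hU : IsAffineOpen U) : ∃ b : ℤ, ((resD U.ι).obj K).IsLE b :=
  haveI : CompactSpace (U : Scheme.{u}) := isCompact_iff_compactSpace.1 hU.isCompact
  exists_isLE (rel_resD U.ι h)

/-- Relative pseudo-coherence is insensitive to a pseudo-coherent base morphism. -/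
theorem main [LocallyOfFiniteType f] [LocallyOfFiniteType g] (hg : ∀ n : ℤ, DerSch.IsNPseudoCoherent g n)
    (m : ℤ) (K : DCoh.D X) :
    DerSch.IsPseudoCoherentRel f m K ↔ DerSch.IsPseudoCoherentRel (f ≫ g) m K := by
  constructor
  · intro h
    refine rel_of_good fun x => ?_
    obtain ⟨U, V, W, hx, hU, hV, hW, hle, hle'⟩ := exists_affine_triple f g x
    obtain ⟨b, hb⟩ := exists_isLE_resD h hU
    obtain ⟨_, _, s, t, _, _, ht, h1, h2⟩ :=
      exists_comp_chart (f := f) (m := m) (K := K) (hg (m - b)) hU hV hW hle hle'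
    exact ⟨U, W, hx, hU, hW, h2.2 (isPC_pushD ht (b := b) (by omega) ((isLE_push_iff _ _ _).2 hb)
      (h1.1 (good_of_rel h hU hV hle)))⟩
  · intro h
    refine rel_of_good fun x => ?_
    obtain ⟨U, V, W, hx, hU, hV, hW, hle, hle'⟩ := exists_affine_triple f g x
    obtain ⟨b, hb⟩ := exists_isLE_resD h hU
    obtain ⟨_, _, s, t, _, _, ht, h1, h2⟩ :=
      exists_comp_chart (f := f) (m := m) (K := K) (hg (m - b)) hU hV hW hle hle'
    exact ⟨U, V, hx, hU, hV, h1.2 (isPC_of_pushD ht (b := b) (by omega) ((isLE_push_iff _ _ _).2 hb)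
      (h2.1 (good_of_rel h hU hW (hle.trans (f.preimage_mono hle')))))⟩

end Groth.Agent.FlatMor68.RelPCComp
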