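import Groth.Agent.RelPCSch41.CompTensor
import Groth.Agent.RelPCSch41.BCRel
import Groth.Agent.RelPCSch41.BaseChange
import Groth.Agent.DCX42.LpullLoc
import Mathlib

/-!
# Derived inverse image of relatively pseudo-coherent objects along pseudo-coherent morphisms
-/

set_option autoImplicit false
set_option backward.isDefEq.respectTransparency.types false
set_option linter.style.haveILetI false
set_option linter.unusedVariables false

noncomputable section

universe u

open CategoryTheory Limits AlgebraicGeometry TopologicalSpace DerivedCategory Opposite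
open Groth.Agent.DCX42 Groth.Agent.RelPCSch41
attribute [local instance] HasDerivedCategory.standard

namespace Groth.Agent.FlatMor68.RelPCLpull

theorem main {X Y S : Scheme.{u}} (f : X ⟶ Y) (g : Y ⟶ S) [LocallyOfFiniteType f] [LocallyOfFiniteType g]
    (hf : ∀ n : ℤ, DerSch.IsNPseudoCoherent f n) [DCoh.HasLpull f] (m : ℤ) (E : DCoh.D Y)
    (hE : DerSch.IsPseudoCoherentRel g m E) :
    DerSch.IsPseudoCoherentRel (f ≫ g) m ((DCoh.Lpull f).obj E) := by
  refine rel_of_local fun x => ?_
  obtain ⟨V, hV, hxV, -⟩ := exists_isAffineOpen_mem_and_subset (U := (⊤ : Y.Opens)) (x := f x) trivial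
  let j := (f ⁻¹ᵁ V).ι
  refine ⟨_, j, inferInstance, by rw [Scheme.Opens.range_ι]; exact hxV, ?_⟩
  haveI : CompactSpace (V : Scheme.{u}) := isCompact_iff_compactSpace.1 hV.isCompact
  haveI : LocallyOfFiniteType (f ∣_ V) := inferInstance
  have hF := rel_resD V.ι hE
  obtain ⟨d, hd⟩ := exists_isLE hF
  have hn : DerSch.IsNPseudoCoherent (f ∣_ V) (m - d) :=
    npc_baseChange (f ∣_ V) (f ⁻¹ᵁ V).ι V.ι (isPullback_morphismRestrict f V).flip (m - d) (hf (m - d))
  haveI := DCK91.hasLpull (f ∣_ V)
  obtain ⟨e⟩ := nonempty_Lpull_resD f V.ι j (f ∣_ V) (morphismRestrict_ι f V)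
  have h1 := rel_comp_lpull (f := f ∣_ V) (g := V.ι ≫ g) (c := m) hn _ hF hd
  rw [sub_add_cancel, max_self, ← Category.assoc, morphismRestrict_ι, Category.assoc] at h1
  exact rel_congr (e.app E).symm h1

theorem baseChange {X S S' : Scheme.{u}} (f : X ⟶ S) [LocallyOfFiniteType f] (h : S' ⟶ S) [Flat h]
    [DCoh.HasLpull (pullback.fst f h)] (m : ℤ) (E : DCoh.D X) (hE : DerSch.IsPseudoCoherentRel f m E) :
    DerSch.IsPseudoCoherentRel (pullback.snd f h) m ((DCoh.Lpull (pullback.fst f h)).obj E) :=
  rel_baseChange_Lpull (IsPullback.of_hasPullback f h) hE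

end Groth.Agent.FlatMor68.RelPCLpull
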