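import Groth.Agent.FlatMor68.FreeGenRep
import Groth.Agent.FlatMor68.LimitPres
import Mathlib.AlgebraicGeometry.AffineTransitionLimit

/-!
# A functor of the form `genPSp` representable by a scheme locally of finite presentation is limit preserving
-/

set_option autoImplicit false
set_option backward.isDefEq.respectTransparency.types false
set_option linter.style.haveILetI false

universe u

open CategoryTheory CategoryTheory.Limits AlgebraicGeometry Opposite

namespace Groth.Agent.FlatMor68.RepLimit

variable {S : Scheme.{u}}

theorem isLimitPreserving_of_representableBy (P : Over S → Prop) (Z : Over S)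
    [LocallyOfFinitePresentation Z.hom] (h : (FlatFun.genPSp S P).RepresentableBy Z) :
    AlgSp.IsLimitPreserving (FlatFun.genPSp S P) := by
  intro I _ _ D c hc hD hT
  refine ⟨Types.FilteredColimit.isColimitOf _ _ (fun x => ?_) fun i j xi xj _ => ?_⟩
  · let g : c.pt ⟶ Z := h.homEquiv.symm x
    let D₁ := D ⋙ Over.forget S
    haveI hA : ∀ i, IsAffine (D₁.obj i) := hD
    haveI : ∀ {i j : I} (a : i ⟶ j), IsAffineHom (D₁.map a) := fun a => isAffineHom_of_isAffine _
    let t : D₁ ⟶ (Functor.const I).obj S :=
      { app i := (D.obj i).hom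
        naturality i j a := by simp [D₁] }
    obtain ⟨i, k, -, hk⟩ := Scheme.exists_π_app_comp_eq_of_locallyOfFinitePresentation D₁ t Z.hom
      ((Over.forget S).mapCone c) hc g.left (by
        ext i
        simp only [NatTrans.comp_app, Functor.const_map_app]
        exact (Over.w (c.π.app i)).trans (Over.w g).symm)
    exact ⟨op i, h.homEquiv (Over.homMk k hk), (FlatFun.genPSp_subsingleton S P _).elim _ _⟩
  · refine ⟨IsFiltered.max i j, IsFiltered.leftToMax i j, IsFiltered.rightToMax i j, ?_⟩
    exact (FlatFun.genPSp_subsingleton S P _).elim _ _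

theorem t9022 {X : Scheme.{u}} (f : X ⟶ S) [Smooth f] [GeometricallyIrreducible f] (F : X.Modules) [Coh.IsQCoh F]
    (hF : CohB1.IsFP F) (p : ℕ) :
    AlgSp.IsLimitPreserving (FlatFun.genPSp S (fun T => FlatFun.FreeAtGenericPts (PicF.XTproj f T) (FGA.ET f F T) p)) := by
  haveI := hF
  obtain ⟨Z, -, ⟨h⟩, hfp⟩ := FreeGenRep.representable f F (inferInstanceAs (CohB1.IsFT F)) p
  haveI := (hfp hF).1
  exact isLimitPreserving_of_representableBy _ Z h

end Groth.Agent.FlatMor68.RepLimit
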