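import Groth.Statements.S9734
import Mathlib.RingTheory.Etale.StandardEtale
import Mathlib.AlgebraicGeometry.Morphisms.Etale
import Mathlib.FieldTheory.PrimitiveElement
import Mathlib.RingTheory.Polynomial.ScaleRoots
import Mathlib.AlgebraicGeometry.ResidueField

set_option autoImplicit false
universe u
open CategoryTheory CategoryTheory.Limits AlgebraicGeometry TopologicalSpace Polynomial IntermediateField

namespace Groth.Agent.FlatMor68.ResidueNbhd

theorem exists_monic_primitive_separable {A K k : Type u} [CommRing A] [Field K] [Field k] [Algebra K k]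
    [FiniteDimensional K k] [Algebra.IsSeparable K k] (ψ : A →+* K)
    (hψ : ∀ c : K, ∃ a b, ψ b ≠ 0 ∧ c * ψ b = ψ a) :
    ∃ (θ : k) (F : A[X]), F.Monic ∧ eval₂ ((algebraMap K k).comp ψ) θ F = 0 ∧
      eval₂ ((algebraMap K k).comp ψ) θ (derivative F) ≠ 0 ∧ K⟮θ⟯ = ⊤ := by
  obtain ⟨θ, hθ⟩ := Field.exists_primitive_element K k
  let m := minpoly K θ
  have hm : m.Monic := minpoly.monic (IsIntegral.of_finite K θ)
  choose a b hb hab using fun i : Fin m.natDegree => hψ (m.coeff i)
  let B := ∏ i, b i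
  have hB : ψ B ≠ 0 := by
    rw [map_prod]; exact Finset.prod_ne_zero_iff.2 fun i _ => hb i
  let θ' : k := algebraMap K k (ψ B) * θ
  have hθ' : K⟮θ'⟯ = ⊤ := by
    rw [eq_top_iff, ← hθ, adjoin_simple_le_iff]
    have h1 : θ = algebraMap K k (ψ B)⁻¹ * θ' := by
      rw [← mul_assoc, ← map_mul, inv_mul_cancel₀ hB, map_one, one_mul]
    rw [h1]
    exact mul_mem (IntermediateField.algebraMap_mem _ _) (mem_adjoin_simple_self _ _)
  let G := m.scaleRoots (ψ B)
  have hG : G.Monic := (monic_scaleRoots_iff _).2 hm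
  have hGlift : G ∈ lifts ψ := by
    rw [lifts_iff_coeff_lifts]
    intro n
    rcases lt_trichotomy n m.natDegree with h | h | h
    · rw [coeff_scaleRoots, show m.natDegree - n = (m.natDegree - n - 1) + 1 by omega, pow_succ',
        ← mul_assoc]
      obtain ⟨c, hc⟩ : b ⟨n, h⟩ ∣ B := Finset.dvd_prod_of_mem b (Finset.mem_univ _)
      refine ⟨a ⟨n, h⟩ * c * B ^ (m.natDegree - n - 1), ?_⟩
      rw [map_mul, map_mul, map_pow, ← hab ⟨n, h⟩]
      conv_rhs => rw [hc, map_mul]
      rw [hc, map_mul]; ring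
    · subst h
      exact ⟨1, by rw [coeff_scaleRoots_natDegree, hm, map_one]⟩
    · exact ⟨0, by rw [coeff_scaleRoots, coeff_eq_zero_of_natDegree_lt h, zero_mul, map_zero]⟩
  obtain ⟨F, hFG, hFdeg, hF⟩ := lifts_and_natDegree_eq_and_monic hGlift hG
  have hroot : aeval θ' G = 0 := scaleRoots_aeval_eq_zero (minpoly.aeval K θ)
  have hGmin : G = minpoly K θ' := by
    refine eq_of_monic_of_dvd_of_natDegree_le (minpoly.monic (IsIntegral.of_finite K θ')) hG
      (minpoly.dvd K θ' hroot) ?_
    rw [natDegree_scaleRoots, (Field.primitive_element_iff_minpoly_natDegree_eq K θ).1 hθ,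
      (Field.primitive_element_iff_minpoly_natDegree_eq K θ').1 hθ']
  refine ⟨θ', F, hF, ?_, ?_, hθ'⟩
  · rw [← eval₂_map, hFG]; exact hroot
  · rw [← eval₂_map, ← derivative_map, hFG, hGmin]
    exact (Algebra.IsSeparable.isSeparable K θ').aeval_derivative_ne_zero (minpoly.aeval K θ')

end Groth.Agent.FlatMor68.ResidueNbhd
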