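import Groth.Agent.RG29.SameComp
import Groth.Agent.Fam20.QuasiSection
import Mathlib

/-!
The component of a section of a smooth algebra: connectedness, and spreading along étale
quasi-sections.
-/

set_option autoImplicit false
set_option linter.style.haveILetI false
set_option backward.isDefEq.respectTransparency.types false

universe u

open TensorProduct PrimeSpectrum

namespace Groth.Agent.FlatMor68.SecCompAlg

open RG29

/-- A point of the component of a section is joined to the section inside the fibre. -/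
theorem exists_connected_of_mem_compSet {R B : Type u} [CommRing R] [CommRing B] [Algebra R B]
    (σ : B →ₐ[R] R) {x : PrimeSpectrum B} (hx : x ∈ compSet σ) :
    ∃ K : Set (PrimeSpectrum B), IsPreconnected K ∧ x ∈ K ∧
      comap σ.toRingHom (comap (algebraMap R B) x) ∈ K ∧
      ∀ y ∈ K, comap (algebraMap R B) y = comap (algebraMap R B) x := by
  let κ := x.asIdeal.ResidueField
  let τ : B →ₐ[R] κ := IsScalarTower.toAlgHom R B κ
  obtain ⟨e, he, h1⟩ := hx
  haveI := he.connectedSpace
  let I : Ideal (κ ⊗[R] B) := Ideal.span {1 - e}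
  let q : B →+* (κ ⊗[R] B) ⧸ I :=
    (Ideal.Quotient.mk I).comp (Algebra.TensorProduct.includeRight (R := R) (A := κ) (B := B)).toRingHom
  have hv : ∀ (g : κ ⊗[R] B →ₐ[κ] κ), g e = 1 → ∀ a ∈ I, g a = 0 := fun g hg a ha => by
    obtain ⟨c, rfl⟩ := Ideal.mem_span_singleton'.1 ha
    rw [map_mul, map_sub, map_one, hg, sub_self, mul_zero]
  let a₁ : (κ ⊗[R] B) ⧸ I →+* κ := Ideal.Quotient.lift I (ptMap τ).toRingHom (hv _ h1)
  let a₂ : (κ ⊗[R] B) ⧸ I →+* κ := Ideal.Quotient.lift I (secMap σ κ).toRingHom (hv _ he.2.1)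
  refine ⟨Set.range (comap q), isPreconnected_range (continuous_comap q),
    ⟨⟨RingHom.ker a₁, RingHom.ker_isPrime a₁⟩, ?_⟩, ⟨⟨RingHom.ker a₂, RingHom.ker_isPrime a₂⟩, ?_⟩, ?_⟩
  · refine PrimeSpectrum.ext (Ideal.ext fun b => ?_)
    show ptMap τ ((1 : κ) ⊗ₜ b) = 0 ↔ _
    rw [ptMap_tmul, one_mul]
    exact Ideal.algebraMap_residueField_eq_zero
  · refine PrimeSpectrum.ext (Ideal.ext fun b => ?_)
    show secMap σ κ ((1 : κ) ⊗ₜ b) = 0 ↔ algebraMap R B (σ b) ∈ x.asIdeal
    rw [secMap_tmul, one_mul, IsScalarTower.algebraMap_apply R B κ]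
    exact Ideal.algebraMap_residueField_eq_zero
  · rintro _ ⟨P, rfl⟩
    refine PrimeSpectrum.ext (Ideal.ext fun r => ?_)
    let i : κ →+* (κ ⊗[R] B) ⧸ I := (Ideal.Quotient.mk I).comp (algebraMap κ (κ ⊗[R] B))
    have hq : q (algebraMap R B r) = i (algebraMap R κ r) := by
      show Ideal.Quotient.mk I (Algebra.TensorProduct.includeRight (algebraMap R B r)) = _
      rw [AlgHom.commutes, IsScalarTower.algebraMap_apply R κ (κ ⊗[R] B)]
      rfl
    show q (algebraMap R B r) ∈ P.asIdeal ↔ algebraMap R B r ∈ x.asIdeal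
    rw [hq]
    constructor
    · intro h
      refine Ideal.algebraMap_residueField_eq_zero.1 ?_
      rw [← IsScalarTower.algebraMap_apply R B κ]
      by_contra hne
      exact P.isPrime.ne_top (Ideal.eq_top_of_isUnit_mem _ h ((Ne.isUnit hne).map i))
    · intro h
      rw [IsScalarTower.algebraMap_apply R B κ, Ideal.algebraMap_residueField_eq_zero.2 h, map_zero]
      exact zero_mem _

/-- Finite field extensions map clopen sets of the base change to clopen sets. -/
theorem isClopen_image_of_finite {k L G : Type u} [Field k] [Field L] [Algebra k L] [Module.Finite k L]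
    [CommRing G] [Algebra k G] {s : Set (PrimeSpectrum (G ⊗[k] L))} (hs : IsClopen s) :
    IsClopen (comap (algebraMap G (G ⊗[k] L)) '' s) := by
  haveI : Algebra.FinitePresentation k L := Algebra.FinitePresentation.of_finiteType.mp inferInstance
  exact ⟨isClosedMap_comap_of_isIntegral _ (fun g => Algebra.IsIntegral.isIntegral g) s hs.1,
    isOpenMap_comap_of_hasGoingDown_of_finitePresentation s hs.2⟩

/-- An étale base change is open on spectra. -/
theorem isOpenMap_comap_includeRight {R B S : Type u} [CommRing R] [CommRing B] [Algebra R B]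
    [CommRing S] [Algebra R S] [Algebra.Etale R S] :
    IsOpenMap (comap (Algebra.TensorProduct.includeRight (R := R) (A := S) (B := B)).toRingHom) := by
  let E := (Algebra.TensorProduct.comm R B S).toRingEquiv
  have h : (Algebra.TensorProduct.includeRight (R := R) (A := S) (B := B)).toRingHom =
      E.toRingHom.comp (algebraMap B (B ⊗[R] S)) := RingHom.ext fun b => rfl
  rw [h, comap_comp]
  exact (isOpenMap_comap_of_hasGoingDown_of_finitePresentation (R := B) (S := B ⊗[R] S)).comp
    (homeomorphOfRingEquiv E).symm.isOpenMap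

section Over

variable {R B : Type u} [CommRing R] [CommRing B] [Algebra R B] [Algebra.Smooth R B]

/-- A preconnected piece of a fibre through the value of a base changed section lifts into the
component of the base changed section. -/
theorem exists_mem_compSet_over {S : Type u} [CommRing S] [Algebra R S] (ζ : B →ₐ[R] S)
    {L : Type u} [Field L] [Algebra R L] (φ : S →ₐ[R] L) (p : PrimeSpectrum R)
    (j₀ : p.asIdeal.ResidueField →ₐ[R] L) (hfin : j₀.toRingHom.Finite)
    {K : Set (PrimeSpectrum B)} (hK : IsPreconnected K)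
    (hKp : ∀ y ∈ K, comap (algebraMap R B) y = p)
    {z : PrimeSpectrum B} (hz : ∀ b, φ (ζ b) = 0 ↔ b ∈ z.asIdeal) (hzK : z ∈ K)
    {x : PrimeSpectrum B} (hxK : x ∈ K) :
    ∃ x'' : PrimeSpectrum (S ⊗[R] B), x'' ∈ compSet (ptMap ζ) ∧
      comap (Algebra.TensorProduct.includeRight (R := R) (A := S) (B := B)).toRingHom x'' = x := by
  classical
  let k := p.asIdeal.ResidueField
  letI : Algebra k L := j₀.toRingHom.toAlgebra
  haveI : Module.Finite k L := hfin
  haveI : IsScalarTower R k L := IsScalarTower.of_algHom j₀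
  let G := k ⊗[R] B
  let E : G ⊗[k] L ≃+* L ⊗[R] B :=
    (Algebra.TensorProduct.comm k G L).toRingEquiv.trans
      (Algebra.TensorProduct.cancelBaseChange R k L L B).toRingEquiv
  have hE : ∀ b : B, E (algebraMap G (G ⊗[k] L) ((1 : k) ⊗ₜ b)) = (1 : L) ⊗ₜ b := fun b => by
    show Algebra.TensorProduct.cancelBaseChange R k L L B
      ((1 : L) ⊗ₜ[k] ((1 : k) ⊗ₜ[R] b)) = (1 : L) ⊗ₜ[R] b
    rw [Algebra.TensorProduct.cancelBaseChange_tmul, one_smul]
  obtain ⟨eL, heL⟩ := exists_isCompIdem_ptMap (φ.comp ζ)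
  have hf : IsIdempotentElem (E.symm eL) := heL.1.map E.symm
  let T : Set (PrimeSpectrum G) := comap (algebraMap G (G ⊗[k] L)) '' (basicOpen (E.symm eL) : Set _)
  have hT : IsClopen T := isClopen_image_of_finite
    (isClopen_basicOpen_of_mul_add (E.symm eL) (1 - E.symm eL) hf.mul_one_sub_self (add_sub_cancel _ _))
  let ε := PrimeSpectrum.preimageHomeomorphFiber R B p
  have hval : ∀ P : PrimeSpectrum G,
      (ε.symm P).1 = comap (Algebra.TensorProduct.includeRight (R := R) (A := k) (B := B)).toRingHom P :=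
    fun P => rfl
  let K' : Set (PrimeSpectrum G) := ε '' (Subtype.val ⁻¹' K)
  have hK' : IsPreconnected K' := by
    refine IsPreconnected.image ?_ _ ε.continuous.continuousOn
    rw [← Topology.IsInducing.subtypeVal.isPreconnected_image]
    rw [Subtype.image_preimage_coe]
    convert hK using 1
    exact Set.inter_eq_right.2 fun y hy => hKp y hy
  let Pz : PrimeSpectrum (L ⊗[R] B) :=
    ⟨RingHom.ker (ptMap (φ.comp ζ)).toRingHom, RingHom.ker_isPrime _⟩
  have hzT : ε ⟨z, hKp z hzK⟩ ∈ T := by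
    refine ⟨comap E.toRingHom Pz, ?_, ε.symm.injective (Subtype.ext ?_)⟩
    · show E (E.symm eL) ∉ Pz.asIdeal
      rw [E.apply_symm_apply]
      intro h
      have h' : ptMap (φ.comp ζ) eL = 0 := h
      exact one_ne_zero (heL.2.1.symm.trans h')
    · rw [Homeomorph.symm_apply_apply, hval]
      refine PrimeSpectrum.ext (Ideal.ext fun b => ?_)
      show ptMap (φ.comp ζ) (E (algebraMap G (G ⊗[k] L) ((1 : k) ⊗ₜ b))) = 0 ↔ _
      rw [hE, ptMap_tmul, one_mul]
      exact hz b
  have hxT : ε ⟨x, hKp x hxK⟩ ∈ T :=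
    hK'.subset_isClopen hT ⟨_, ⟨_, hzK, rfl⟩, hzT⟩ ⟨_, hxK, rfl⟩
  obtain ⟨P₀, hP₀, hP₀x⟩ := hxT
  let P : PrimeSpectrum (L ⊗[R] B) := comap E.symm.toRingHom P₀
  let L' := P.asIdeal.ResidueField
  let π : L ⊗[R] B →ₐ[R] L' := IsScalarTower.toAlgHom R (L ⊗[R] B) L'
  let j : L →ₐ[R] L' := π.comp (Algebra.TensorProduct.includeLeft (R := R) (S := R) (A := L) (B := B))
  let τ : B →ₐ[R] L' := π.comp (Algebra.TensorProduct.includeRight (R := R) (A := L) (B := B))
  have hτ : ∀ b, τ b = 0 ↔ b ∈ x.asIdeal := fun b => by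
    have h2 : comap (Algebra.TensorProduct.includeRight (R := R) (A := k) (B := B)).toRingHom
        (comap (algebraMap G (G ⊗[k] L)) P₀) = x := by
      rw [hP₀x, ← hval, Homeomorph.symm_apply_apply]
    show algebraMap (L ⊗[R] B) L' ((1 : L) ⊗ₜ b) = 0 ↔ _
    rw [Ideal.algebraMap_residueField_eq_zero, ← h2]
    show E.symm ((1 : L) ⊗ₜ b) ∈ P₀.asIdeal ↔ algebraMap G (G ⊗[k] L) ((1 : k) ⊗ₜ b) ∈ P₀.asIdeal
    rw [← hE b, E.symm_apply_apply]
  have hπ : ∀ y, ptMap τ (RG29.baseMap B j y) = π y := fun y => by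
    induction y using TensorProduct.induction_on with
    | zero => simp
    | tmul l b =>
      rw [baseMap_tmul, ptMap_tmul]
      show π (l ⊗ₜ 1) * π ((1 : L) ⊗ₜ b) = _
      rw [← map_mul, Algebra.TensorProduct.tmul_mul_tmul, mul_one, one_mul]
    | add u v hu hv => simp only [map_add, hu, hv]
  have hsame : SameComp ((j.comp φ).comp ζ) τ := by
    refine ⟨RG29.baseMap B j eL, IsCompIdem.baseMap_pt j (φ.comp ζ) heL, ?_⟩
    rw [hπ]
    refine (IsIdempotentElem.iff_eq_zero_or_one.1 (heL.1.map π)).resolve_left ?_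
    intro h
    exact hP₀ ((Ideal.algebraMap_residueField_eq_zero (I := P.asIdeal)).1 h)
  let lf : S ⊗[R] B →ₐ[R] L' := Algebra.TensorProduct.lift (j.comp φ) τ fun _ _ => .all _ _
  refine ⟨⟨RingHom.ker lf.toRingHom, RingHom.ker_isPrime _⟩,
    (mem_compSet_ptMap_iff ζ (j.comp φ) τ _ fun _ => Iff.rfl).2 hsame,
    PrimeSpectrum.ext (Ideal.ext fun b => ?_)⟩
  show Algebra.TensorProduct.lift (j.comp φ) τ (fun _ _ => .all _ _) ((1 : S) ⊗ₜ b) = 0 ↔ _
  rw [Algebra.TensorProduct.lift_tmul, map_one, one_mul]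
  exact hτ b

/-- An étale quasi-section with values in an open set, through a separable point of a fibre. -/
theorem exists_etale_section_into {W : Set (PrimeSpectrum B)} (hW : IsOpen W) {y : PrimeSpectrum B}
    (hy : y ∈ W) :
    ∃ (R' : Type u) (_ : CommRing R') (_ : Algebra R R'), Algebra.Etale R R' ∧
    ∃ (ζ : B →ₐ[R] R') (L : Type u) (_ : Field L) (_ : Algebra R L) (φ : R' →ₐ[R] L)
      (j₀ : (comap (algebraMap R B) y).asIdeal.ResidueField →ₐ[R] L),
      j₀.toRingHom.Finite ∧ ∀ q, comap ζ.toRingHom q ∈ W := by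
  classical
  obtain ⟨_, ⟨h, rfl⟩, hyh, hhW⟩ := isTopologicalBasis_basic_opens.exists_subset_of_mem_open hy hW
  let p := comap (algebraMap R B) y
  let k := p.asIdeal.ResidueField
  let Bh := Localization.Away h
  haveI : Algebra.Etale B Bh := Algebra.Etale.of_isLocalizationAway h
  haveI : Algebra.Smooth R Bh := Algebra.Smooth.comp R B Bh
  haveI : Nontrivial (k ⊗[R] Bh) := by
    rw [nontrivial_iff_mem_rangeComap]
    have h1 : y ∈ Set.range (comap (algebraMap B Bh)) := by
      rw [localization_away_comap_range Bh h]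
      exact hyh
    obtain ⟨y', hy'⟩ := h1
    refine ⟨y', ?_⟩
    rw [IsScalarTower.algebraMap_eq R B Bh, comap_comp_apply, hy']
  obtain ⟨k₁, _, _, hfd, hsep, ⟨ψ⟩⟩ := exists_separable_point (k := k) (k ⊗[R] Bh)
  letI : Algebra R k₁ := ((algebraMap k k₁).comp (algebraMap R k)).toAlgebra
  haveI : IsScalarTower R k k₁ := IsScalarTower.of_algebraMap_eq fun _ => rfl
  let ψR : Bh →ₐ[R] k₁ := (ψ.restrictScalars R).comp
    (Algebra.TensorProduct.includeRight (R := R) (A := k) (B := Bh))
  let Q : Ideal Bh := RingHom.ker ψR.toRingHom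
  haveI : Q.IsPrime := RingHom.ker_isPrime _
  let j₀ : k →ₐ[R] k₁ := IsScalarTower.toAlgHom R k k₁
  let jQ : Q.ResidueField →ₐ[R] k₁ := Ideal.ResidueField.liftₐ Q ψR (fun b hb => hb)
    (fun b hb => isUnit_iff_ne_zero.2 hb)
  have hp : p.asIdeal = Q.comap (Algebra.ofId R Bh).toRingHom := by
    ext r
    show r ∈ p.asIdeal ↔ ψR (algebraMap R Bh r) = 0
    rw [AlgHom.commutes]
    show _ ↔ algebraMap k k₁ (algebraMap R k r) = 0
    rw [map_eq_zero_iff _ (algebraMap k k₁).injective, Ideal.algebraMap_residueField_eq_zero]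
  let m : k →ₐ[R] Q.ResidueField := Ideal.ResidueField.mapₐ p.asIdeal Q (Algebra.ofId R Bh) hp
  have hjm : jQ.comp m = j₀ := Ideal.ResidueField.algHom_ext (by ext)
  letI : Algebra k Q.ResidueField := m.toRingHom.toAlgebra
  haveI : IsScalarTower R k Q.ResidueField := IsScalarTower.of_algHom m
  let jQ' : Q.ResidueField →ₐ[k] k₁ :=
    { jQ.toRingHom with commutes' := fun c => DFunLike.congr_fun hjm c }
  haveI : Algebra.IsSeparable k Q.ResidueField := Algebra.IsSeparable.of_algHom k k₁ jQ'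
  haveI : Module.Finite k Q.ResidueField :=
    FiniteDimensional.of_injective jQ'.toLinearMap jQ'.toRingHom.injective
  haveI : Algebra.FormallyUnramified k Q.ResidueField := Algebra.FormallyUnramified.of_isSeparable _ _
  haveI : Algebra.FormallyUnramified R (R ⧸ p.asIdeal) := Algebra.FormallyUnramified.quotient _
  haveI : Algebra.FormallyUnramified (R ⧸ p.asIdeal) k :=
    Algebra.FormallyUnramified.of_isLocalization (nonZeroDivisors (R ⧸ p.asIdeal))
  haveI : Algebra.FormallyUnramified R k := .comp R (R ⧸ p.asIdeal) k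
  haveI : Algebra.FormallyUnramified R Q.ResidueField := .comp R k Q.ResidueField
  obtain ⟨Z, ⟨χ⟩⟩ := Fam20.exists_qs (R := R) Q
  haveI := Z.etale
  let ζ : B →ₐ[R] Z.Z := (IsScalarTower.toAlgHom R Bh Z.Z).comp (IsScalarTower.toAlgHom R B Bh)
  refine ⟨Z.Z, inferInstance, inferInstance, inferInstance, ζ, k₁, inferInstance, inferInstance,
    jQ.comp (χ.restrictScalars R), j₀, ?_, fun q => hhW ?_⟩
  · exact RingHom.finite_algebraMap.mpr hfd
  · intro hq
    exact q.isPrime.ne_top (Ideal.eq_top_of_isUnit_mem _ hq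
      ((IsLocalization.Away.algebraMap_isUnit (S := Bh) h).map (algebraMap Bh Z.Z)))

end Over

end Groth.Agent.FlatMor68.SecCompAlg
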