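import Groth.Agent.FBase64.Primary
import Groth.Agent.CAlg6.RatFuncIrred

/-! Separably closed subfields and purely transcendental extensions. -/

set_option autoImplicit false
set_option linter.style.haveILetI false

universe u

open TensorProduct IntermediateField

namespace Groth.Agent.FlatMor68.SepClosedIn

theorem finrank_eq_one_of_prime {k S : Type u} [Field k] [Field S] [Algebra k S] [FiniteDimensional k S]
    [Algebra.IsSeparable k S] (hp : (nilradical (S ⊗[k] S)).IsPrime) : Module.finrank k S = 1 := by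
  haveI : Algebra.FormallyUnramified k S := Algebra.FormallyUnramified.of_isSeparable k S
  haveI : IsReduced (S ⊗[k] S) := Algebra.FormallyUnramified.isReduced_of_field S (S ⊗[k] S)
  haveI : IsDomain (S ⊗[k] S) := by
    rw [nilradical_eq_zero] at hp
    exact IsDomain.of_bot_isPrime _
  let μ : S ⊗[k] S →ₐ[k] S := Algebra.TensorProduct.lmul' k
  have hinj : Function.Injective μ := by
    have hF : IsField (S ⊗[k] S) := isField_of_isIntegral_of_isField' (R := k) (Field.toIsField k)
    letI := hF.toField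
    exact μ.toRingHom.injective
  have hd := LinearMap.finrank_le_finrank_of_injective (f := μ.toLinearMap) hinj
  rw [Module.finrank_tensorProduct] at hd
  have hpos : 0 < Module.finrank k S := Module.finrank_pos
  nlinarith

theorem finrank_eq_one_of_algHom {k K S : Type u} [Field k] [Field K] [Algebra k K] [Field S] [Algebra k S]
    [FiniteDimensional k S] [Algebra.IsSeparable k S] (f : S →ₐ[k] K) (h : (nilradical (S ⊗[k] K)).IsPrime) :
    Module.finrank k S = 1 :=
  finrank_eq_one_of_prime (FBase64.isPrime_nilradical_of_injective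
    (Algebra.TensorProduct.map (AlgHom.id k S) f).toRingHom
    (Module.Flat.lTensor_preserves_injective_linearMap (M := S) f.toLinearMap f.toRingHom.injective) h)

/-- If all base changes to fields have prime nilradical, the field is separably closed in the extension. -/
theorem separableClosure_eq_bot {k K : Type u} [Field k] [Field K] [Algebra k K]
    (h : ∀ (L : Type u) [Field L] [Algebra k L], (nilradical (L ⊗[k] K)).IsPrime) :
    separableClosure k K = ⊥ := by
  refine eq_bot_iff.2 fun x hx => ?_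
  have hx' : IsSeparable k x := mem_separableClosure_iff.1 hx
  haveI : Algebra.IsSeparable k k⟮x⟯ := (isSeparable_adjoin_simple_iff_isSeparable _ _).2 hx'
  haveI : FiniteDimensional k k⟮x⟯ := adjoin.finiteDimensional hx'.isIntegral
  have h1 : Module.finrank k k⟮x⟯ = 1 := finrank_eq_one_of_algHom k⟮x⟯.val (h k⟮x⟯)
  exact IntermediateField.finrank_eq_one_iff.1 h1 ▸ mem_adjoin_simple_self k x

variable {k Ω : Type u} [Field k] [Field Ω] [Algebra k Ω]

/-- `A` is separably closed in `B`. -/
def Closed (A B : IntermediateField k Ω) : Prop := ∀ x ∈ B, IsSeparable A x → x ∈ A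

theorem separable_of_le {A B : IntermediateField k Ω} (h : A ≤ B) {x : Ω} (hx : IsSeparable A x) :
    IsSeparable B x := by
  letI : Algebra A B := (IntermediateField.inclusion h).toRingHom.toAlgebra
  haveI : IsScalarTower A B Ω := .of_algebraMap_eq fun _ => rfl
  exact hx.tower_top B

theorem transcendental_of_le {A B : IntermediateField k Ω} (h : A ≤ B) {x : Ω} (hx : Transcendental B x) :
    Transcendental A x := by
  letI : Algebra A B := (IntermediateField.inclusion h).toRingHom.toAlgebra
  haveI : IsScalarTower A B Ω := .of_algebraMap_eq fun _ => rfl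
  exact fun ha => hx (ha.tower_top B)

/-- Injective homomorphisms of towers reflect separability. -/
theorem separable_of_injective {F F' E E' : Type u} [Field F] [Field F'] [Field E] [Field E'] [Algebra F E] [Algebra F' E']
    (e : F →+* F') (he : Function.Surjective e) (j : E →+* E') (hc : ∀ a, j (algebraMap F E a) = algebraMap F' E' (e a))
    {x : E} (hx : IsSeparable F' (j x)) : IsSeparable F x := by
  let e' : F ≃+* F' := RingEquiv.ofBijective e ⟨e.injective, he⟩
  let P := (minpoly F' (j x)).map e'.symm.toRingHom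
  have hP : P.Separable := Polynomial.Separable.map hx
  refine hP.of_dvd (minpoly.dvd F x (j.injective ?_))
  rw [map_zero, Polynomial.aeval_def, Polynomial.hom_eval₂]
  simp only [P, Polynomial.eval₂_map]
  have : (j.comp (algebraMap F E)).comp e'.symm.toRingHom = algebraMap F' E' := RingHom.ext fun a => by
    show j (algebraMap F E (e'.symm a)) = _
    rw [hc]
    exact congrArg _ (e'.apply_symm_apply a)
  rw [this]
  exact minpoly.aeval F' (j x)

/-- The map from rational functions attached to a transcendental element. -/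
noncomputable def ratHom {F : Type u} [Field F] [Algebra F Ω] (t : Ω) (ht : Transcendental F t) : RatFunc F →ₐ[F] Ω :=
  (IntermediateField.val _).comp (RatFunc.algEquivOfTranscendental t ht).toAlgHom

theorem ratHom_range {F : Type u} [Field F] [Algebra F Ω] (t : Ω) (ht : Transcendental F t) (x : Ω) :
    x ∈ F⟮t⟯ ↔ ∃ r, ratHom t ht r = x := by
  constructor
  · intro hx
    exact ⟨(RatFunc.algEquivOfTranscendental t ht).symm ⟨x, hx⟩,
      congrArg Subtype.val ((RatFunc.algEquivOfTranscendental t ht).apply_symm_apply _)⟩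
  · rintro ⟨r, rfl⟩
    exact ((RatFunc.algEquivOfTranscendental t ht) r).2

theorem ratHom_algebraMap {F : Type u} [Field F] [Algebra F Ω] (t : Ω) (ht : Transcendental F t) (p : Polynomial F) :
    ratHom t ht (algebraMap (Polynomial F) (RatFunc F) p) = Polynomial.aeval t p := by
  show ((RatFunc.algEquivOfTranscendental t ht) (algebraMap (Polynomial F) (RatFunc F) p) : Ω) = _
  rw [RatFunc.algEquivOfTranscendental_algebraMap]
  exact (Polynomial.aeval_algHom_apply (IntermediateField.val _) _ p).symm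

theorem mem_adjoin_iff_sup {A : IntermediateField k Ω} (t x : Ω) : x ∈ A⟮t⟯ ↔ x ∈ A ⊔ k⟮t⟯ := by
  rw [← restrictScalars_adjoin_eq_sup k A {t}]
  rfl

/-- Adjoining an indeterminate preserves being separably closed. -/
theorem closed_sup_adjoin {A B : IntermediateField k Ω} (hAB : A ≤ B) (h : Closed A B) {t : Ω}
    (ht : Transcendental B t) : Closed (A ⊔ k⟮t⟯) (B ⊔ k⟮t⟯) := by
  intro x hxB hsep
  have htA : Transcendental A t := transcendental_of_le hAB ht
  letI algAB : Algebra A B := (IntermediateField.inclusion hAB).toRingHom.toAlgebra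
  haveI : IsScalarTower A B Ω := .of_algebraMap_eq fun _ => rfl
  have hbot : separableClosure A B = ⊥ := by
    refine eq_bot_iff.2 fun b hb => ?_
    have hb' : IsSeparable A (b : Ω) := (mem_separableClosure_iff.1 hb).map (IsScalarTower.toAlgHom A B Ω) Subtype.val_injective
    exact ⟨⟨b, h _ b.2 hb'⟩, Subtype.ext rfl⟩
  let i : RatFunc A →+* RatFunc B := IsFractionRing.lift
    (g := (algebraMap (Polynomial B) (RatFunc B)).comp (Polynomial.mapRingHom (algebraMap A B)))
    ((IsFractionRing.injective (Polynomial B) (RatFunc B)).comp (Polynomial.map_injective _ (algebraMap A B).injective))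
  letI : Algebra (RatFunc A) (RatFunc B) := i.toAlgebra
  have hcompat : ∀ p : Polynomial A, algebraMap (RatFunc A) (RatFunc B) (algebraMap (Polynomial A) (RatFunc A) p) =
      algebraMap (Polynomial B) (RatFunc B) (Polynomial.map (algebraMap A B) p) := fun p =>
    IsFractionRing.lift_algebraMap _ p
  have hbot' : separableClosure (RatFunc A) (RatFunc B) = ⊥ := separableClosure_eq_bot fun L _ _ => by
    letI : Algebra A L := ((algebraMap (RatFunc A) L).comp ((algebraMap (Polynomial A) (RatFunc A)).comp Polynomial.C)).toAlgebra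
    exact CAlg6.RatFuncIrred.prime_baseChange (RatFunc A) (RatFunc B) hcompat L (fun _ => rfl)
      (FBase64.isPrime_nilradical_tensor hbot L)
  let jA := ratHom t htA
  let jB := ratHom t ht
  have hj : ∀ r, jB (i r) = jA r := by
    refine RingHom.congr_fun (IsLocalization.ringHom_ext (nonZeroDivisors (Polynomial A))
      (j := jB.toRingHom.comp i) (k := jA.toRingHom) (RingHom.ext fun p => ?_))
    show jB (algebraMap (RatFunc A) (RatFunc B) (algebraMap (Polynomial A) (RatFunc A) p)) = jA (algebraMap (Polynomial A) (RatFunc A) p)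
    rw [hcompat, ratHom_algebraMap, ratHom_algebraMap, Polynomial.aeval_map_algebraMap]
  obtain ⟨r, rfl⟩ := (ratHom_range t ht x).1 ((mem_adjoin_iff_sup t x).2 hxB)
  let e : RatFunc A →+* (A ⊔ k⟮t⟯ : IntermediateField k Ω) := jA.toRingHom.codRestrict _
    fun r => (mem_adjoin_iff_sup t _).1 ((ratHom_range t htA _).2 ⟨r, rfl⟩)
  have he : Function.Surjective e := fun y => by
    obtain ⟨r, hr⟩ := (ratHom_range t htA (y : Ω)).1 ((mem_adjoin_iff_sup t _).2 y.2)
    exact ⟨r, Subtype.ext hr⟩
  have hr : IsSeparable (RatFunc A) r := separable_of_injective e he jB.toRingHom (fun a => hj a) hsep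
  obtain ⟨a, ha⟩ : r ∈ (⊥ : IntermediateField (RatFunc A) (RatFunc B)) := hbot' ▸ mem_separableClosure_iff.2 hr
  rw [← ha]
  show jB (i a) ∈ _
  rw [hj]
  exact (e a).2

/-- Elements algebraic over the constants lie in the constants. -/
theorem mem_of_isIntegral {M : IntermediateField k Ω} {t : Ω} (ht : Transcendental M t) {c : Ω}
    (hc : c ∈ M ⊔ k⟮t⟯) (hint : IsIntegral M c) : c ∈ M := by
  obtain ⟨r, rfl⟩ := (ratHom_range t ht c).1 ((mem_adjoin_iff_sup t c).2 hc)
  have hr : IsIntegral M r := (isIntegral_algHom_iff (ratHom t ht) (ratHom t ht).injective).1 hint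
  by_cases hC : ∃ a, r = RatFunc.C a
  · obtain ⟨a, rfl⟩ := hC
    rw [← RatFunc.algebraMap_C, ratHom_algebraMap, Polynomial.aeval_C]
    exact a.2
  · exact absurd hr.isAlgebraic (RatFunc.transcendental_of_ne_C r hC)

/-- An element of `A'` adjoined an indeterminate over a larger field lies in `A'`. -/
theorem mem_of_mem_sup {A' B : IntermediateField k Ω} (hAB : A' ≤ B) {s : Ω} (hs : Transcendental B s) {x : Ω}
    (hxB : x ∈ B) (hx : x ∈ A' ⊔ k⟮s⟯) : x ∈ A' := by
  have hsA := transcendental_of_le hAB hs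
  obtain ⟨r, hr⟩ := (ratHom_range s hsA x).1 ((mem_adjoin_iff_sup s x).2 hx)
  let ι : A' →+* B := (IntermediateField.inclusion hAB).toRingHom
  have hd : r.denom ≠ 0 := r.denom_ne_zero
  have hev : Polynomial.aeval s r.denom * x = Polynomial.aeval s r.num := by
    rw [← hr, ← ratHom_algebraMap s hsA r.denom, ← ratHom_algebraMap s hsA r.num, ← map_mul]
    congr 1
    rw [mul_comm, ← div_eq_iff (RatFunc.algebraMap_ne_zero hd) |>.1 (RatFunc.num_div_denom r)]
  let Q : Polynomial B := r.num.map ι - Polynomial.C ⟨x, hxB⟩ * r.denom.map ι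
  have hQ : Polynomial.aeval s Q = 0 := by
    have h1 : ∀ p : Polynomial A', Polynomial.aeval s (p.map ι) = Polynomial.aeval s p := fun p => by
      simp only [Polynomial.aeval_def, Polynomial.eval₂_map]
      rfl
    simp only [Q, map_sub, map_mul, Polynomial.aeval_C, h1]
    show _ - x * _ = 0
    rw [mul_comm x, hev, sub_self]
  have hQ0 : Q = 0 := by
    by_contra hne
    exact hs ⟨Q, hne, hQ⟩
  have hcoeff := congrArg (fun p => p.coeff r.denom.natDegree) hQ0
  simp only [Q, Polynomial.coeff_sub, Polynomial.coeff_C_mul, Polynomial.coeff_map, Polynomial.coeff_zero,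
    sub_eq_zero] at hcoeff
  have hc : r.denom.coeff r.denom.natDegree ≠ 0 := by
    rw [Polynomial.coeff_natDegree]; exact Polynomial.leadingCoeff_ne_zero.2 hd
  have hcx := congrArg Subtype.val hcoeff
  change (r.num.coeff r.denom.natDegree : Ω) = x * (r.denom.coeff r.denom.natDegree : Ω) at hcx
  rw [show x = (r.num.coeff r.denom.natDegree : Ω) / (r.denom.coeff r.denom.natDegree : Ω) from
    eq_div_of_mul_eq (fun h0 => hc (Subtype.ext h0)) hcx.symm]
  exact div_mem (r.num.coeff _).2 (r.denom.coeff _).2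

theorem isIntegral_minpoly_coeff {A N : IntermediateField k Ω} (hAN : A ≤ N) {θ : Ω} (hθ : IsIntegral A θ) :
    (∀ i, IsIntegral A ((minpoly N θ).coeff i : Ω)) ∧ IsIntegral N θ := by
  letI : Algebra A N := (IntermediateField.inclusion hAN).toRingHom.toAlgebra
  haveI : IsScalarTower A N Ω := .of_algebraMap_eq fun _ => rfl
  have hθN : IsIntegral N θ := hθ.tower_top
  refine ⟨fun i => ?_, hθN⟩
  have hgdvd : minpoly N θ ∣ (minpoly A θ).map (algebraMap A N) := minpoly.dvd_map_of_isScalarTower _ _ _
  have hlift := integralClosure.mem_lifts_of_monic_of_dvd_map (K := N) (minpoly.monic hθ) (minpoly.monic hθN) hgdvd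
  obtain ⟨q, hq⟩ := (Polynomial.lifts_iff_coeff_lifts _).1 hlift i
  have hi : IsIntegral A ((minpoly N θ).coeff i) := hq ▸ q.2
  exact hi.map (IsScalarTower.toAlgHom A N Ω)

theorem isIntegral_of_le {A B : IntermediateField k Ω} (h : A ≤ B) {x : Ω} (hx : IsIntegral A x) : IsIntegral B x := by
  letI : Algebra A B := (IntermediateField.inclusion h).toRingHom.toAlgebra
  haveI : IsScalarTower A B Ω := .of_algebraMap_eq fun _ => rfl
  exact hx.tower_top

theorem mem_of_minpoly_coeff {N' N : IntermediateField k Ω} (hle : N' ≤ N) {θ β : Ω} (hθ' : IsIntegral N' θ)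
    (hC : ∀ i, ((minpoly N θ).coeff i : Ω) ∈ N') (hβ : β ∈ N) (hmem : β ∈ N'⟮θ⟯) : β ∈ N' := by
  have hθN : IsIntegral N θ := isIntegral_of_le hle hθ'
  let ι : N' →+* N := (IntermediateField.inclusion hle).toRingHom
  rw [← IntermediateField.mem_toSubalgebra, adjoin_simple_toSubalgebra_of_isAlgebraic hθ'.isAlgebraic,
    Algebra.adjoin_singleton_eq_range_aeval] at hmem
  obtain ⟨H, hH⟩ := hmem
  have hglift : minpoly N θ ∈ Polynomial.lifts ι := (Polynomial.lifts_iff_coeff_lifts _).2 fun i =>
    ⟨⟨_, hC i⟩, Subtype.ext rfl⟩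
  obtain ⟨g', hg', hg'd, hg'm⟩ := Polynomial.lifts_and_degree_eq_and_monic hglift (minpoly.monic hθN)
  have hev : ∀ p : Polynomial N', Polynomial.aeval θ (p.map ι) = Polynomial.aeval θ p := fun p => by
    simp only [Polynomial.aeval_def, Polynomial.eval₂_map]
    rfl
  have hR : Polynomial.aeval θ (H %ₘ g') = β := by
    rw [Polynomial.modByMonic_eq_sub_mul_div, map_sub, map_mul]
    rw [show Polynomial.aeval θ g' = 0 by rw [← hev, hg']; exact minpoly.aeval _ _, zero_mul, sub_zero]
    exact hH
  let Q : Polynomial N := (H %ₘ g').map ι - Polynomial.C ⟨β, hβ⟩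
  have hQev : Polynomial.aeval θ Q = 0 := by
    simp only [Q, map_sub, hev, hR, Polynomial.aeval_C]
    exact sub_self β
  have hQd : Q.degree < (minpoly N θ).degree := by
    refine lt_of_le_of_lt (Polynomial.degree_sub_le _ _) (max_lt ?_ ?_)
    · rw [Polynomial.degree_map, ← hg'd]
      exact Polynomial.degree_modByMonic_lt _ hg'm
    · exact lt_of_le_of_lt Polynomial.degree_C_le (minpoly.degree_pos hθN)
  have hQ0 : Q = 0 := by
    by_contra hne
    exact absurd (minpoly.degree_le_of_ne_zero N θ hne hQev) (not_le.2 hQd)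
  have h0 := congrArg (fun p => ((p.coeff 0 : N) : Ω)) hQ0
  simp only [Q, Polynomial.coeff_sub, Polynomial.coeff_C_zero, Polynomial.coeff_map, Polynomial.coeff_zero] at h0
  have : (((H %ₘ g').coeff 0 : N') : Ω) - β = 0 := h0
  rw [← sub_eq_zero.1 this]
  exact ((H %ₘ g').coeff 0).2

/-- A field between `A(t)` and `M(t)` is generated over `A(t)` by constants, `M` finite separable over `A`. -/
theorem exists_constants {A M : IntermediateField k Ω} (θ : Ω) (hAM : A ≤ M) (hM : M = A ⊔ k⟮θ⟯)
    (hθ : IsIntegral A θ) {t : Ω} (ht : Transcendental M t) {β : Ω} (hβ : β ∈ M ⊔ k⟮t⟯) :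
    ∃ C : Set Ω, (∀ c ∈ C, c ∈ M ∧ c ∈ A ⊔ k⟮t⟯ ⊔ k⟮β⟯) ∧ β ∈ A ⊔ k⟮t⟯ ⊔ adjoin k C := by
  have hAN : A ≤ A ⊔ k⟮t⟯ ⊔ k⟮β⟯ := le_sup_left.trans le_sup_left
  obtain ⟨hcint, -⟩ := isIntegral_minpoly_coeff hAN hθ
  have hNM : A ⊔ k⟮t⟯ ⊔ k⟮β⟯ ≤ M ⊔ k⟮t⟯ := sup_le (sup_le (hAM.trans le_sup_left) le_sup_right) (adjoin_simple_le_iff.2 hβ)
  let C := Set.range fun i => ((minpoly (A ⊔ k⟮t⟯ ⊔ k⟮β⟯ : IntermediateField k Ω) θ).coeff i : Ω)
  have hC : ∀ c ∈ C, c ∈ M ∧ c ∈ A ⊔ k⟮t⟯ ⊔ k⟮β⟯ := by
    rintro _ ⟨i, rfl⟩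
    exact ⟨mem_of_isIntegral ht (hNM (Subtype.prop _)) (isIntegral_of_le hAM (hcint i)), Subtype.prop _⟩
  refine ⟨C, hC, ?_⟩
  have hAN' : A ≤ A ⊔ k⟮t⟯ ⊔ adjoin k C := le_sup_left.trans le_sup_left
  refine mem_of_minpoly_coeff (sup_le le_sup_left (adjoin_le_iff.2 fun c hc => (hC c hc).2)) (isIntegral_of_le hAN' hθ)
    (fun i => (le_sup_right : adjoin k C ≤ _) (subset_adjoin k C ⟨i, rfl⟩))
    ((le_sup_right : k⟮β⟯ ≤ _) (mem_adjoin_simple_self k β)) ?_
  rw [mem_adjoin_iff_sup]
  have : M ⊔ k⟮t⟯ ≤ A ⊔ k⟮t⟯ ⊔ adjoin k C ⊔ k⟮θ⟯ := by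
    rw [hM]
    exact sup_le (sup_le_sup_right hAN' _) ((le_sup_right.trans le_sup_left).trans le_sup_left)
  exact this hβ

end Groth.Agent.FlatMor68.SepClosedIn
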