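import Groth.Agent.FlatMor68.CompleteDevAtBC
import Groth.Agent.RelGCI94.FibreDim
import Groth.Agent.LC17.SpecDim

/-! Localization of one step of a dévissage (standard shrinkings). -/

set_option autoImplicit false
set_option backward.isDefEq.respectTransparency.types false
set_option linter.style.haveILetI false

universe u

open TensorProduct CategoryTheory CategoryTheory.Limits AlgebraicGeometry Topology

namespace Groth.Agent.FlatMor68.Shrink

theorem surjective_residue_of_loc {A A' : Type u} [CommRing A] [CommRing A'] [Algebra A A'] (a : A)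
    [IsLocalization.Away a A'] (y : Ideal A) [y.IsPrime] (y' : Ideal A') [y'.IsPrime] [hy : y'.LiesOver y] :
    Function.Bijective (Ideal.ResidueField.mapₐ y y' (Algebra.ofId A A') hy.over) :=
  (RingHom.surjectiveOnStalks_of_isLocalization (.powers a) A').residueFieldMap_bijective _ _ _

theorem away_of_dvd {A B : Type u} [CommRing A] [CommRing B] [Algebra A B] (a c : A) (m : ℕ)
    [IsLocalization.Away a B] (h1 : a ∣ c ^ m) (h2 : c ∣ a) : IsLocalization.Away c B := by
  haveI : IsLocalization (Submonoid.powers a ⊔ Submonoid.powers c) B := by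
    refine IsLocalization.of_le_of_exists_dvd (Submonoid.powers a) _ le_sup_left fun x hx => ?_
    obtain ⟨_, ⟨i, rfl⟩, _, ⟨j, rfl⟩, rfl⟩ := Submonoid.mem_sup.1 hx
    exact ⟨a ^ i * a ^ j, ⟨i + j, pow_add _ _ _⟩, mul_dvd_mul dvd_rfl (pow_dvd_pow_of_dvd h2 j)⟩
  refine (IsLocalization.iff_of_le_of_exists_dvd (Submonoid.powers c) (Submonoid.powers a ⊔ Submonoid.powers c) le_sup_right fun x hx => ?_).2 ‹_›
  obtain ⟨_, ⟨i, rfl⟩, _, ⟨j, rfl⟩, rfl⟩ := Submonoid.mem_sup.1 hx
  exact ⟨(c ^ m) ^ i * c ^ j, ⟨m * i + j, by simp only [pow_add, pow_mul]⟩, mul_dvd_mul (pow_dvd_pow_of_dvd h1 i) dvd_rfl⟩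

theorem isPrime_map_away {A : Type u} [CommRing A] (A' : Type u) [CommRing A'] [Algebra A A'] (a : A)
    [IsLocalization.Away a A'] (y : Ideal A) [y.IsPrime] (ha : a ∉ y) :
    (y.map (algebraMap A A')).IsPrime ∧ (y.map (algebraMap A A')).comap (algebraMap A A') = y := by
  have hd : Disjoint (Submonoid.powers a : Set A) (y : Set A) :=
    Set.disjoint_left.2 fun x hx hxy => by
      obtain ⟨m, rfl⟩ := hx
      exact ha (‹y.IsPrime›.mem_of_pow_mem m hxy)
  exact ⟨IsLocalization.isPrime_of_isPrime_disjoint _ _ _ ‹_› hd,
    IsLocalization.under_map_of_isPrime_disjoint _ _ ‹_› hd⟩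

theorem purelyTranscendental_of_surjective {R R' D D' : Type u} [CommRing R] [CommRing R'] [CommRing D] [CommRing D']
    [Algebra R R'] [Algebra R D] [Algebra R' D'] [Algebra R D'] [Algebra D D'] [IsScalarTower R R' D'] [IsScalarTower R D D']
    (p : Ideal R) [p.IsPrime] (p' : Ideal R') [p'.IsPrime] [hp : p'.LiesOver p]
    (hκ : Function.Bijective (Ideal.ResidueField.mapₐ p p' (Algebra.ofId R R') hp.over))
    (y : Ideal D) [y.IsPrime] [y.LiesOver p] (y' : Ideal D') [y'.IsPrime] [hy : y'.LiesOver y] [y'.LiesOver p']
    (hs : Function.Surjective (Ideal.ResidueField.mapₐ y y' (Algebra.ofId D D') hy.over))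
    (h4 : FlatCA.PurelyTranscendental p y) : FlatCA.PurelyTranscendental p' y' := by
  obtain ⟨ι, x, hx, ht⟩ := h4
  letI : Algebra p.ResidueField y.ResidueField := (Ideal.ResidueField.mapₐ p y (Algebra.ofId R D) (y.over_def p)).toRingHom.toAlgebra
  letI : Algebra p'.ResidueField y'.ResidueField := (Ideal.ResidueField.mapₐ p' y' (Algebra.ofId R' D') (y'.over_def p')).toRingHom.toAlgebra
  let e : p.ResidueField ≃+* p'.ResidueField := RingEquiv.ofBijective _ hκ
  let E : y.ResidueField ≃+* y'.ResidueField := RingEquiv.ofBijective _ ⟨(Ideal.ResidueField.mapₐ y y' (Algebra.ofId D D') (y'.over_def y)).toRingHom.injective, hs⟩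
  refine ⟨ι, E ∘ x, DevissageAtBC.purelyTranscendental_transport e E (fun c => ?_) hx ht⟩
  have hh : E.toRingHom.comp (algebraMap p.ResidueField y.ResidueField) = (algebraMap p'.ResidueField y'.ResidueField).comp e.toRingHom := by
    apply Ideal.ResidueField.ringHom_ext
    ext r
    show Ideal.ResidueField.mapₐ y y' (Algebra.ofId D D') _ (Ideal.ResidueField.mapₐ p y (Algebra.ofId R D) _ (algebraMap R _ r)) =
      Ideal.ResidueField.mapₐ p' y' (Algebra.ofId R' D') _ (Ideal.ResidueField.mapₐ p p' (Algebra.ofId R R') _ (algebraMap R _ r))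
    rw [AlgHom.commutes, AlgHom.commutes, IsScalarTower.algebraMap_apply R D y.ResidueField, AlgHom.commutes,
      IsScalarTower.algebraMap_apply R R' p'.ResidueField, AlgHom.commutes,
      ← IsScalarTower.algebraMap_apply R D y'.ResidueField, ← IsScalarTower.algebraMap_apply R R' y'.ResidueField]
  exact RingHom.congr_fun hh c

/-- Smoothness and geometric irreducibility of a shrunk smooth algebra. -/
theorem smooth_geomIrred {R R' D D' : Type u} [CommRing R] [CommRing R'] [CommRing D] [CommRing D'] [Algebra R R']
    [Algebra R D] [Algebra R' D'] [Algebra R D'] [Algebra D D'] [IsScalarTower R R' D'] [IsScalarTower R D D']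
    (g : R) [IsLocalization.Away g R'] (w : D) [IsLocalization.Away (w * algebraMap R D g) D']
    (hg : FlatCA.GeomIrredFibres R D) (hcov : PrimeSpectrum.basicOpen g ≤ PrimeSpectrum.comap (algebraMap R D) '' (PrimeSpectrum.basicOpen w : Set (PrimeSpectrum D))) :
    FlatCA.GeomIrredFibres R' D' ∧ ∀ n, FlatCA.SmoothRelDim n R D → FlatCA.SmoothRelDim n R' D' := by
  let a := Spec.map (CommRingCat.ofHom (algebraMap R D))
  let b := Spec.map (CommRingCat.ofHom (algebraMap R R'))
  haveI hb : IsOpenImmersion b := IsOpenImmersion.of_isLocalization g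
  haveI hj : IsOpenImmersion (Spec.map (CommRingCat.ofHom (algebraMap D D'))) := IsOpenImmersion.of_isLocalization (w * algebraMap R D g)
  let t := Spec.map (CommRingCat.ofHom (algebraMap R' D'))
  have hw : Spec.map (CommRingCat.ofHom (algebraMap D D')) ≫ a = t ≫ b := by
    simp only [a, b, t, ← Spec.map_comp, ← CommRingCat.ofHom_comp, ← IsScalarTower.algebraMap_eq]
  let j := pullback.lift _ t hw
  have hjc : j ≫ pullback.fst a b = Spec.map (CommRingCat.ofHom (algebraMap D D')) := pullback.lift_fst ..
  haveI : IsOpenImmersion (j ≫ pullback.fst a b) := hjc ▸ hj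
  haveI : IsOpenImmersion j := IsOpenImmersion.of_comp j (pullback.fst a b)
  have ht : j ≫ pullback.snd a b = t := pullback.lift_snd ..
  have hsurj : Surjective t := ⟨fun P => by
    have hPg : PrimeSpectrum.comap (algebraMap R R') P ∈ PrimeSpectrum.basicOpen g := by
      rw [← SetLike.mem_coe, ← PrimeSpectrum.localization_away_comap_range R' g]; exact ⟨P, rfl⟩
    obtain ⟨Q, hQ, hQP⟩ := hcov hPg
    have : Q ∈ PrimeSpectrum.basicOpen (w * algebraMap R D g) := by
      rw [PrimeSpectrum.mem_basicOpen]
      refine fun hm => (Q.2.mem_or_mem hm).elim hQ fun h2 => hPg ?_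
      rw [← hQP]; exact h2
    rw [← SetLike.mem_coe, ← PrimeSpectrum.localization_away_comap_range D' (w * algebraMap R D g)] at this
    obtain ⟨Q', rfl⟩ := this
    refine ⟨Q', ?_⟩
    apply (PrimeSpectrum.localization_comap_injective R' (Submonoid.powers g))
    rw [← hQP]
    show PrimeSpectrum.comap (algebraMap R R') (PrimeSpectrum.comap (algebraMap R' D') Q') = _
    rw [← PrimeSpectrum.comap_comp_apply, ← PrimeSpectrum.comap_comp_apply, ← IsScalarTower.algebraMap_eq, ← IsScalarTower.algebraMap_eq]⟩
  constructor
  · show GeometricallyIrreducible t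
    haveI : GeometricallyIrreducible a := hg
    haveI : Surjective (j ≫ pullback.snd a b) := ht ▸ hsurj
    rw [← ht]; infer_instance
  · intro n hn
    show SmoothOfRelativeDimension n t
    haveI : SmoothOfRelativeDimension n a := hn
    haveI := smoothOfRelativeDimension_isStableUnderBaseChange n
    haveI : SmoothOfRelativeDimension n (pullback.snd a b) := MorphismProperty.pullback_snd _ _ hn
    haveI : IsZariskiLocalAtSource (@SmoothOfRelativeDimension n) := inferInstance
    rw [← ht]; exact IsZariskiLocalAtSource.comp ‹SmoothOfRelativeDimension n (pullback.snd a b)› j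

section fibre

variable {R R' S S' : Type u} [CommRing R] [CommRing R'] [CommRing S] [CommRing S'] [Algebra R R']
  [Algebra R S] [Algebra R' S'] [Algebra R S'] [Algebra S S'] [IsScalarTower R R' S'] [IsScalarTower R S S']

/-- The fibre of a shrinking is an open subset of the fibre. -/
theorem exists_fibre_openEmbedding (g : R) [IsLocalization.Away g R'] (hX : S) [IsLocalization.Away hX S']
    (p : Ideal R) [p.IsPrime] (p' : Ideal R') [p'.IsPrime] [hp : p'.LiesOver p] :
    ∃ φ : p.Fiber S →+* p'.Fiber S', (∀ s, φ ((Algebra.TensorProduct.includeRight (R := R) (A := p.ResidueField) (B := S)) s) =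
      (Algebra.TensorProduct.includeRight (R := R') (A := p'.ResidueField) (B := S')) (algebraMap S S' s)) ∧
      IsOpenEmbedding (PrimeSpectrum.comap φ) := by
  let inc := (Algebra.TensorProduct.includeRight (R := R) (A := p.ResidueField) (B := S)).toRingHom
  let inc' := (Algebra.TensorProduct.includeRight (R := R') (A := p'.ResidueField) (B := S')).toRingHom
  let f₁ : p.ResidueField →ₐ[R] p'.Fiber S' :=
    (IsScalarTower.toAlgHom R p'.ResidueField (p'.Fiber S')).comp (Ideal.ResidueField.mapₐ p p' (Algebra.ofId R R') hp.over)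
  let f₂ : S →ₐ[R] p'.Fiber S' :=
    ((Algebra.TensorProduct.includeRight (R := R') (A := p'.ResidueField) (B := S')).restrictScalars R).comp (IsScalarTower.toAlgHom R S S')
  let φ := Algebra.TensorProduct.lift f₁ f₂ fun _ _ => .all _ _
  have hφ : ∀ s, φ.toRingHom (inc s) = inc' (algebraMap S S' s) := fun s => by
    simp [φ, f₂, inc, inc']
  have emb : ∀ {A B : Type u} [CommRing A] [CommRing B] [Algebra A B] (P : Ideal A) [P.IsPrime],
      IsEmbedding (PrimeSpectrum.comap (Algebra.TensorProduct.includeRight (R := A) (A := P.ResidueField) (B := B)).toRingHom) := by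
    intro A B _ _ _ P _
    exact IsEmbedding.subtypeVal.comp (PrimeSpectrum.preimageHomeomorphFiber A B ⟨P, ‹_›⟩).symm.isEmbedding
  refine ⟨φ.toRingHom, hφ, ?_⟩
  have hcomp : PrimeSpectrum.comap inc ∘ PrimeSpectrum.comap φ.toRingHom = PrimeSpectrum.comap (algebraMap S S') ∘ PrimeSpectrum.comap inc' := by
    funext P
    simp only [Function.comp_apply, ← PrimeSpectrum.comap_comp_apply]
    congr 1
    exact RingHom.ext hφ
  refine ⟨(IsEmbedding.of_comp_iff (emb p)).1 (hcomp ▸ ((PrimeSpectrum.localization_away_isOpenEmbedding S' hX).isEmbedding.comp (emb p'))), ?_⟩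
  have : Set.range (PrimeSpectrum.comap φ.toRingHom) = PrimeSpectrum.comap inc ⁻¹' (PrimeSpectrum.basicOpen hX : Set (PrimeSpectrum S)) := by
    refine Set.Subset.antisymm ?_ fun P hP => ?_
    · rintro _ ⟨P, rfl⟩
      rw [Set.mem_preimage, ← Function.comp_apply (f := PrimeSpectrum.comap inc), hcomp,
        ← PrimeSpectrum.localization_away_comap_range S' hX]
      exact ⟨_, rfl⟩
    · rw [Set.mem_preimage, ← PrimeSpectrum.localization_away_comap_range S' hX] at hP
      obtain ⟨q', hq'⟩ := hP
      have hq1 : (PrimeSpectrum.comap inc P).asIdeal.LiesOver p :=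
        ((PrimeSpectrum.primesOverOrderIsoFiber R S p).symm P).2.2
      haveI : q'.asIdeal.LiesOver p' := ⟨by
        have e : (⟨p', ‹_›⟩ : PrimeSpectrum R') = PrimeSpectrum.comap (algebraMap R' S') q' := by
          apply PrimeSpectrum.localization_comap_injective R' (Submonoid.powers g)
          rw [← PrimeSpectrum.comap_comp_apply, ← IsScalarTower.algebraMap_eq, IsScalarTower.algebraMap_eq R S S',
            PrimeSpectrum.comap_comp_apply, hq']
          exact PrimeSpectrum.ext (hp.over.symm.trans hq1.over)
        exact congrArg PrimeSpectrum.asIdeal e⟩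
      refine ⟨PrimeSpectrum.primesOverOrderIsoFiber R' S' p' ⟨q'.asIdeal, q'.2, ‹_›⟩, (emb p).injective ?_⟩
      show (PrimeSpectrum.comap inc ∘ _) _ = _
      rw [hcomp, Function.comp_apply, ← hq']
      congr 1
      apply PrimeSpectrum.ext
      have h := PrimeSpectrum.coe_primesOverOrderIsoFiber_symm_apply (p := p') (PrimeSpectrum.primesOverOrderIsoFiber R' S' p' ⟨q'.asIdeal, q'.2, ‹_›⟩)
      rw [OrderIso.symm_apply_apply] at h
      exact h.symm
  rw [this]
  exact (PrimeSpectrum.basicOpen hX).2.preimage (PrimeSpectrum.continuous_comap inc)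

theorem localDim_and_supportDim (g : R) [IsLocalization.Away g R'] (hX : S) [IsLocalization.Away hX S']
    (p : Ideal R) [p.IsPrime] (p' : Ideal R') [p'.IsPrime] [hp : p'.LiesOver p]
    (N : Type u) [AddCommGroup N] [Module S N] [Module R N] [IsScalarTower R S N] [Module.Finite S N]
    (N' : Type u) [AddCommGroup N'] [Module S' N'] [Module R' N'] [IsScalarTower R' S' N']
    [Module S N'] [IsScalarTower S S' N'] (f : N →ₗ[S] N') (hf : IsBaseChange S' f)
    (q : Ideal S) [q.IsPrime] (q' : Ideal S') [q'.IsPrime] [q'.LiesOver q] [q'.LiesOver p'] {n : ℕ}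
    (h1 : ∃ (ξ : PrimeSpectrum (p.Fiber S)) (hξ : ξ ∈ Module.support (p.Fiber S) (FlatCA.fiberMod p S N)),
      ξ.asIdeal = FlatCA.fiberIdeal p q ∧
      FlatMor.localDim (Module.support (p.Fiber S) (FlatCA.fiberMod p S N)) ⟨ξ, hξ⟩ = n) :
    (∃ (ξ' : PrimeSpectrum (p'.Fiber S')) (hξ' : ξ' ∈ Module.support (p'.Fiber S') (FlatCA.fiberMod p' S' N')),
      ξ'.asIdeal = FlatCA.fiberIdeal p' q' ∧
      FlatMor.localDim (Module.support (p'.Fiber S') (FlatCA.fiberMod p' S' N')) ⟨ξ', hξ'⟩ = n) ∧
    (Module.supportDim (p.Fiber S) (FlatCA.fiberMod p S N) = n → Module.supportDim (p'.Fiber S') (FlatCA.fiberMod p' S' N') = n) := by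
  obtain ⟨ξ, hξ, hξq, hdim⟩ := h1
  obtain ⟨φ, hφ, hopen⟩ := exists_fibre_openEmbedding (S := S) (S' := S') g hX p p'
  haveI : Module.Finite S' N' := Module.Finite.equiv hf.equiv
  letI : Algebra S (p.Fiber S) := Algebra.TensorProduct.rightAlgebra
  letI : Algebra S' (p'.Fiber S') := Algebra.TensorProduct.rightAlgebra
  have hsupp : Module.support (p'.Fiber S') (FlatCA.fiberMod p' S' N') =
      PrimeSpectrum.comap φ ⁻¹' Module.support (p.Fiber S) (FlatCA.fiberMod p S N) := by
    rw [show Module.support (p'.Fiber S') (FlatCA.fiberMod p' S' N') = _ from S6284.result (R' := p'.Fiber S') N',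
      show Module.support (p.Fiber S) (FlatCA.fiberMod p S N) = _ from S6284.result (R' := p.Fiber S) N,
      ← hf.equiv.support_eq, S6284.result N, ← Set.preimage_comp, ← Set.preimage_comp]
    congr 1
    funext P
    simp only [Function.comp_apply, ← PrimeSpectrum.comap_comp_apply]
    congr 1
    exact RingHom.ext fun s => (hφ s).symm
  let ξ' := PrimeSpectrum.primesOverOrderIsoFiber R' S' p' ⟨q', ‹_›, ‹_›⟩
  have hξ'i : ξ'.asIdeal.comap (Algebra.TensorProduct.includeRight (R := R') (A := p'.ResidueField) (B := S')).toRingHom = q' :=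
    ((PrimeSpectrum.coe_primesOverOrderIsoFiber_symm_apply _ _).symm.trans (by simp [ξ']) : _)
  have hξ'q : ξ'.asIdeal = FlatCA.fiberIdeal p' q' := by
    rw [← FlatMor67.PurePush.fiberIdeal_comap p' ξ'.asIdeal, hξ'i]
  have he : PrimeSpectrum.comap φ ξ' = ξ := by
    apply PrimeSpectrum.ext
    rw [hξq, ← FlatMor67.PurePush.fiberIdeal_comap p (PrimeSpectrum.comap φ ξ').asIdeal]
    congr 1
    rw [← show q'.comap (algebraMap S S') = q from (q'.over_def q).symm, ← hξ'i]
    ext s
    show φ _ ∈ ξ'.asIdeal ↔ _
    rw [show φ ((Algebra.TensorProduct.includeRight (R := R) (A := p.ResidueField) (B := S)).toRingHom s) = _ from hφ s]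
    rfl
  have hξ' : ξ' ∈ Module.support (p'.Fiber S') (FlatCA.fiberMod p' S' N') := by
    rw [hsupp, Set.mem_preimage, he]; exact hξ
  have hres : IsOpenEmbedding (fun x : Module.support (p'.Fiber S') (FlatCA.fiberMod p' S' N') =>
      (⟨PrimeSpectrum.comap φ x, hsupp.le x.2⟩ : Module.support (p.Fiber S) (FlatCA.fiberMod p S N))) :=
    (hopen.restrictPreimage _).comp (Homeomorph.setCongr hsupp).isOpenEmbedding
  have hloc : FlatMor.localDim (Module.support (p'.Fiber S') (FlatCA.fiberMod p' S' N')) ⟨ξ', hξ'⟩ = n := by
    rw [RelGCI94.localDim_eq_of_isOpenEmbedding hres]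
    rw [show (⟨PrimeSpectrum.comap φ ξ', _⟩ : Module.support (p.Fiber S) (FlatCA.fiberMod p S N)) = ⟨ξ, hξ⟩ from Subtype.ext he]
    exact hdim
  refine ⟨⟨ξ', hξ', hξ'q, hloc⟩, fun hn => ?_⟩
  have hsd : ∀ {A M : Type u} [CommRing A] [AddCommGroup M] [Module A M] [Module.Finite A M],
      topologicalKrullDim (Module.support A M) = Module.supportDim A M := by
    intro A M _ _ _ _
    rw [Module.supportDim_eq_ringKrullDim_quotient_annihilator, ← LC17.dim_zeroLocus, Module.support_eq_zeroLocus]
  haveI : Module.Finite (p.Fiber S) (FlatCA.fiberMod p S N) := inferInstanceAs (Module.Finite (p.Fiber S) ((p.Fiber S) ⊗[S] N))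
  haveI : Module.Finite (p'.Fiber S') (FlatCA.fiberMod p' S' N') := inferInstanceAs (Module.Finite (p'.Fiber S') ((p'.Fiber S') ⊗[S'] N'))
  refine le_antisymm ?_ ?_
  · rw [← hn, ← hsd, ← hsd]
    exact hres.isEmbedding.isInducing.topologicalKrullDim_le
  · rw [← hloc, ← hsd]
    exact TopDim50.localDim_le_dim _

end fibre

open FlatMor in
set_option maxHeartbeats 1000000 in
theorem core
    (R S : Type u) [CommRing R] [CommRing S] [Algebra R S] [Algebra.FiniteType R S]
    (N : Type u) [AddCommGroup N] [Module S N] [Module R N] [IsScalarTower R S N] [Module.Finite S N]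
    (p : Ideal R) [p.IsPrime] (q : Ideal S) [q.IsPrime] [q.LiesOver p]
    (C D G : Type u) [CommRing C] [CommRing D] [Algebra S C] [Algebra R C] [IsScalarTower R S C]
    [Algebra R D] [Algebra D C] [IsScalarTower R D C] [AddCommGroup G] [Module C G] [Module S G]
    [IsScalarTower S C G] (n : ℕ)
    (h : FlatCA.IsOneStepDevissage R S N p C D G n)
    (z : Ideal C) [z.IsPrime] (y : Ideal D) [y.IsPrime] [z.LiesOver q] [z.LiesOver y] [y.LiesOver p]
    (h1 : ∃ (ξ : PrimeSpectrum (p.Fiber S)) (hξ : ξ ∈ Module.support (p.Fiber S) (FlatCA.fiberMod p S N)),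
      ξ.asIdeal = FlatCA.fiberIdeal p q ∧
      FlatMor.localDim (Module.support (p.Fiber S) (FlatCA.fiberMod p S N)) ⟨ξ, hξ⟩ = n)
    (h3 : ∀ (z₁ : Ideal C) [z₁.IsPrime], z₁.LiesOver y → z₁ = z)
    (h4 : FlatCA.PurelyTranscendental p y)
    (w : D) (hw : w ∉ y) (u : S) (hu : u ∉ q) (hrad : algebraMap S C u ∣ algebraMap D C w ∨ ∃ m : ℕ, algebraMap S C u ∣ algebraMap D C w ^ m) :
    ∃ (g : R) (hX : S) (hZ : C), g ∉ p ∧ hX ∉ q ∧ hZ ∉ z ∧ IsUnit (algebraMap S (Localization.Away hX) u) ∧
      ∃ (_ : Algebra (Localization.Away g) (Localization.Away hX)) (_ : IsScalarTower R (Localization.Away g) (Localization.Away hX))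
        (_ : Algebra (Localization.Away g) (Localization.Away hZ)) (_ : IsScalarTower R (Localization.Away g) (Localization.Away hZ))
        (_ : Algebra (Localization.Away g) (Localization.Away (w * algebraMap R D g))) (_ : IsScalarTower R (Localization.Away g) (Localization.Away (w * algebraMap R D g)))
        (_ : Algebra (Localization.Away hX) (Localization.Away hZ)) (_ : IsScalarTower S (Localization.Away hX) (Localization.Away hZ))
        (_ : IsScalarTower (Localization.Away g) (Localization.Away hX) (Localization.Away hZ))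
        (_ : Algebra (Localization.Away (w * algebraMap R D g)) (Localization.Away hZ)) (_ : IsScalarTower D (Localization.Away (w * algebraMap R D g)) (Localization.Away hZ))
        (_ : IsScalarTower (Localization.Away g) (Localization.Away (w * algebraMap R D g)) (Localization.Away hZ))
        (_ : Module (Localization.Away g) (LocalizedModule (Submonoid.powers hX) N)) (_ : IsScalarTower (Localization.Away g) (Localization.Away hX) (LocalizedModule (Submonoid.powers hX) N))
        (_ : Module (Localization.Away hX) (LocalizedModule (Submonoid.powers hZ) G)) (_ : IsScalarTower (Localization.Away hX) (Localization.Away hZ) (LocalizedModule (Submonoid.powers hZ) G))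
        (_ : (Ideal.map (algebraMap R (Localization.Away g)) p).IsPrime) (_ : (Ideal.map (algebraMap D (Localization.Away (w * algebraMap R D g))) y).IsPrime) (_ : (Ideal.map (algebraMap D (Localization.Away (w * algebraMap R D g))) y).LiesOver (Ideal.map (algebraMap R (Localization.Away g)) p)),
        FlatCA.IsOneStepDevissage (Localization.Away g) (Localization.Away hX) (LocalizedModule (Submonoid.powers hX) N) (Ideal.map (algebraMap R (Localization.Away g)) p) (Localization.Away hZ) (Localization.Away (w * algebraMap R D g)) (LocalizedModule (Submonoid.powers hZ) G) n ∧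
        (∃ (ξ : PrimeSpectrum ((Ideal.map (algebraMap R (Localization.Away g)) p).Fiber (Localization.Away hX)))
            (hξ : ξ ∈ Module.support ((Ideal.map (algebraMap R (Localization.Away g)) p).Fiber (Localization.Away hX)) (FlatCA.fiberMod (Ideal.map (algebraMap R (Localization.Away g)) p) (Localization.Away hX) (LocalizedModule (Submonoid.powers hX) N))),
          ξ.asIdeal = FlatCA.fiberIdeal (Ideal.map (algebraMap R (Localization.Away g)) p) (Ideal.map (algebraMap S (Localization.Away hX)) q) ∧
          FlatMor.localDim (Module.support ((Ideal.map (algebraMap R (Localization.Away g)) p).Fiber (Localization.Away hX)) (FlatCA.fiberMod (Ideal.map (algebraMap R (Localization.Away g)) p) (Localization.Away hX) (LocalizedModule (Submonoid.powers hX) N))) ⟨ξ, hξ⟩ = n) ∧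
        (Ideal.map (algebraMap C (Localization.Away hZ)) z).LiesOver (Ideal.map (algebraMap S (Localization.Away hX)) q) ∧ (Ideal.map (algebraMap C (Localization.Away hZ)) z).LiesOver (Ideal.map (algebraMap D (Localization.Away (w * algebraMap R D g))) y) ∧
        (∀ (z₂ : Ideal (Localization.Away hZ)) [z₂.IsPrime], z₂.LiesOver (Ideal.map (algebraMap D (Localization.Away (w * algebraMap R D g))) y) → z₂ = Ideal.map (algebraMap C (Localization.Away hZ)) z) ∧
        FlatCA.PurelyTranscendental (Ideal.map (algebraMap R (Localization.Away g)) p) (Ideal.map (algebraMap D (Localization.Away (w * algebraMap R D g))) y) := by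
  obtain ⟨⟨eN⟩, hs, hfp, hfin, hGfin, hsm, hgi, hdim⟩ := h
  haveI := hfp; haveI := hfin; haveI := hGfin
  haveI : SmoothOfRelativeDimension n (Spec.map (CommRingCat.ofHom (algebraMap R D))) := hsm
  haveI : Smooth (Spec.map (CommRingCat.ofHom (algebraMap R D))) :=
    SmoothOfRelativeDimension.smooth n _
  haveI : Algebra.Smooth R D :=
    RingHom.smooth_algebraMap.1 ((HasRingHomProperty.Spec_iff (P := @Smooth)).1 ‹_›)
  have hopen : IsOpen (PrimeSpectrum.comap (algebraMap R D) '' (PrimeSpectrum.basicOpen w : Set (PrimeSpectrum D))) :=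
    PrimeSpectrum.isOpenMap_comap_of_hasGoingDown_of_finitePresentation _ (PrimeSpectrum.basicOpen w).2
  obtain ⟨_, ⟨g, rfl⟩, hgp, hcov⟩ := PrimeSpectrum.isTopologicalBasis_basic_opens.exists_subset_of_mem_open
    (show (⟨p, ‹_›⟩ : PrimeSpectrum R) ∈ PrimeSpectrum.comap (algebraMap R D) '' (PrimeSpectrum.basicOpen w : Set (PrimeSpectrum D)) from ⟨⟨y, ‹_›⟩, hw, PrimeSpectrum.ext (y.over_def p).symm⟩) hopen
  have hgy : algebraMap R D g ∉ y := fun hm => hgp ((SetLike.ext_iff.1 (y.over_def p) g).2 hm)
  have hY : w * algebraMap R D g ∉ y := fun hm => (‹y.IsPrime›.mem_or_mem hm).elim hw hgy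
  obtain ⟨s, hs'⟩ := hs (algebraMap D C (w * algebraMap R D g))
  have hzy : ∀ d : D, algebraMap D C d ∈ z ↔ d ∈ y := fun d => by rw [z.over_def y]; rfl
  have hzq : ∀ a : S, algebraMap S C a ∈ z ↔ a ∈ q := fun a => by rw [z.over_def q]; rfl
  let hX := u * algebraMap R S g * s
  have hXq : hX ∉ q := by
    refine fun hm => (‹q.IsPrime›.mem_or_mem hm).elim (fun h => (‹q.IsPrime›.mem_or_mem h).elim hu fun h => hgp ((SetLike.ext_iff.1 (q.over_def p) g).2 h)) fun h => hY ?_
    rw [← hzy, ← hs', hzq]; exact h
  have hgq : algebraMap R S g ∣ hX := ⟨u * s, by simp only [hX]; ring⟩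
  let hZ := algebraMap S C hX
  have hZz : hZ ∉ z := fun hm => hXq ((hzq _).1 hm)
  have hYZ : algebraMap D C (w * algebraMap R D g) ∣ hZ := ⟨algebraMap S C (u * algebraMap R S g), by
    simp only [hZ, hX, map_mul, ← hs']; ring⟩
  letI iRS : Algebra (Localization.Away g) (Localization.Away hX) :=
    (IsLocalization.Away.lift g (g := algebraMap R (Localization.Away hX))
      (isUnit_of_dvd_unit (IsScalarTower.algebraMap_apply R S (Localization.Away hX) g ▸ map_dvd _ hgq)
        (IsLocalization.Away.algebraMap_isUnit hX))).toAlgebra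
  haveI tRS : IsScalarTower R (Localization.Away g) (Localization.Away hX) :=
    .of_algebraMap_eq fun r => (IsLocalization.Away.lift_eq g _ r).symm
  letI iSC : Algebra (Localization.Away hX) (Localization.Away hZ) :=
    (IsLocalization.Away.lift hX (g := algebraMap S (Localization.Away hZ))
      (IsScalarTower.algebraMap_apply S C (Localization.Away hZ) hX ▸ IsLocalization.Away.algebraMap_isUnit hZ)).toAlgebra
  haveI tSC : IsScalarTower S (Localization.Away hX) (Localization.Away hZ) :=
    .of_algebraMap_eq fun r => (IsLocalization.Away.lift_eq hX _ r).symm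
  letI iDC : Algebra (Localization.Away (w * algebraMap R D g)) (Localization.Away hZ) :=
    (IsLocalization.Away.lift (w * algebraMap R D g) (g := algebraMap D (Localization.Away hZ))
      (isUnit_of_dvd_unit (IsScalarTower.algebraMap_apply D C (Localization.Away hZ) (w * algebraMap R D g) ▸ map_dvd _ hYZ)
        (IsLocalization.Away.algebraMap_isUnit hZ))).toAlgebra
  haveI tDC : IsScalarTower D (Localization.Away (w * algebraMap R D g)) (Localization.Away hZ) :=
    .of_algebraMap_eq fun r => (IsLocalization.Away.lift_eq (w * algebraMap R D g) _ r).symm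
  letI iRD : Algebra (Localization.Away g) (Localization.Away (w * algebraMap R D g)) :=
    (IsLocalization.Away.lift g (g := algebraMap R (Localization.Away (w * algebraMap R D g)))
      (isUnit_of_dvd_unit (IsScalarTower.algebraMap_apply R D (Localization.Away (w * algebraMap R D g)) g ▸ map_dvd _ (Dvd.intro_left w rfl))
        (IsLocalization.Away.algebraMap_isUnit _))).toAlgebra
  haveI tRD : IsScalarTower R (Localization.Away g) (Localization.Away (w * algebraMap R D g)) :=
    .of_algebraMap_eq fun r => (IsLocalization.Away.lift_eq g _ r).symm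
  letI iRC : Algebra (Localization.Away g) (Localization.Away hZ) :=
    ((algebraMap (Localization.Away hX) (Localization.Away hZ)).comp (algebraMap (Localization.Away g) (Localization.Away hX))).toAlgebra
  haveI tRSC : IsScalarTower (Localization.Away g) (Localization.Away hX) (Localization.Away hZ) := .of_algebraMap_eq fun _ => rfl
  haveI tRC : IsScalarTower R (Localization.Away g) (Localization.Away hZ) := .of_algebraMap_eq fun r => by
    show _ = algebraMap (Localization.Away hX) (Localization.Away hZ) (algebraMap _ _ _)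
    rw [← IsScalarTower.algebraMap_apply R (Localization.Away g) (Localization.Away hX), IsScalarTower.algebraMap_apply R S (Localization.Away hX),
      ← IsScalarTower.algebraMap_apply S (Localization.Away hX) (Localization.Away hZ), ← IsScalarTower.algebraMap_apply R S]
  haveI tRDC : IsScalarTower (Localization.Away g) (Localization.Away (w * algebraMap R D g)) (Localization.Away hZ) :=
    .of_algebraMap_eq fun x => by
      refine RingHom.congr_fun (IsLocalization.ringHom_ext (Submonoid.powers g) (j := algebraMap _ _)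
        (k := (algebraMap (Localization.Away (w * algebraMap R D g)) (Localization.Away hZ)).comp (algebraMap _ _)) (RingHom.ext fun r => ?_)) x
      rw [RingHom.comp_apply, RingHom.comp_apply, RingHom.comp_apply, ← IsScalarTower.algebraMap_apply R (Localization.Away g) (Localization.Away hZ),
        ← IsScalarTower.algebraMap_apply R (Localization.Away g) (Localization.Away (w * algebraMap R D g)),
        IsScalarTower.algebraMap_apply R D (Localization.Away (w * algebraMap R D g)),
        ← IsScalarTower.algebraMap_apply D (Localization.Away (w * algebraMap R D g)) (Localization.Away hZ), ← IsScalarTower.algebraMap_apply R D]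
  letI mRN : Module (Localization.Away g) (LocalizedModule (Submonoid.powers hX) N) :=
    Module.compHom _ (algebraMap (Localization.Away g) (Localization.Away hX))
  haveI tRN : IsScalarTower (Localization.Away g) (Localization.Away hX) (LocalizedModule (Submonoid.powers hX) N) :=
    IsScalarTower.of_algebraMap_smul fun _ _ => rfl
  letI mSG : Module (Localization.Away hX) (LocalizedModule (Submonoid.powers hZ) G) :=
    Module.compHom _ (algebraMap (Localization.Away hX) (Localization.Away hZ))
  haveI tSG : IsScalarTower (Localization.Away hX) (Localization.Away hZ) (LocalizedModule (Submonoid.powers hZ) G) :=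
    IsScalarTower.of_algebraMap_smul fun _ _ => rfl
  obtain ⟨hpp, hpc⟩ := isPrime_map_away (Localization.Away g) g p hgp
  obtain ⟨hqp, hqc⟩ := isPrime_map_away (Localization.Away hX) hX q hXq
  obtain ⟨hyp, hyc⟩ := isPrime_map_away (Localization.Away (w * algebraMap R D g)) (w * algebraMap R D g) y hY
  obtain ⟨hzp, hzc⟩ := isPrime_map_away (Localization.Away hZ) hZ z hZz
  haveI := hpp; haveI := hqp; haveI := hyp; haveI := hzp
  haveI op : (p.map (algebraMap R (Localization.Away g))).LiesOver p := ⟨hpc.symm⟩
  haveI oq : (q.map (algebraMap S (Localization.Away hX))).LiesOver q := ⟨hqc.symm⟩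
  haveI oy : (y.map (algebraMap D (Localization.Away (w * algebraMap R D g)))).LiesOver y := ⟨hyc.symm⟩
  have ovr : ∀ {A A' B B' : Type u} [CommRing A] [CommRing A'] [CommRing B] [CommRing B'] [Algebra A B] [Algebra A A']
      [Algebra A' B'] [Algebra B B'] [Algebra A B'] [IsScalarTower A B B'] [IsScalarTower A A' B'] (a : A) [IsLocalization.Away a A']
      (P : Ideal A) (Q : Ideal B) [hPQ : Q.LiesOver P] [P.IsPrime] (_ : a ∉ P) [(Q.map (algebraMap B B')).IsPrime]
      (_ : (Q.map (algebraMap B B')).comap (algebraMap B B') = Q),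
      (Q.map (algebraMap B B')).LiesOver (P.map (algebraMap A A')) := by
    intro A A' B B' _ _ _ _ _ _ _ _ _ _ _ a _ P Q _ _ ha _ hc
    constructor
    have hd := (isPrime_map_away A' a P ha).2
    rw [← IsLocalization.map_under (Submonoid.powers a) A' ((Q.map (algebraMap B B')).under A'), Ideal.under, Ideal.under,
      Ideal.comap_comap, ← IsScalarTower.algebraMap_eq, IsScalarTower.algebraMap_eq A B B', ← Ideal.comap_comap, hc]
    rw [show Q.comap (algebraMap A B) = P from (Q.over_def P).symm]
  haveI oyp : (y.map (algebraMap D (Localization.Away (w * algebraMap R D g)))).LiesOver (p.map (algebraMap R (Localization.Away g))) :=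
    ovr g p y hgp hyc
  haveI oqp : (q.map (algebraMap S (Localization.Away hX))).LiesOver (p.map (algebraMap R (Localization.Away g))) :=
    ovr g p q hgp hqc
  have ozq : (z.map (algebraMap C (Localization.Away hZ))).LiesOver (q.map (algebraMap S (Localization.Away hX))) :=
    ovr hX q z hXq hzc
  have ozy : (z.map (algebraMap C (Localization.Away hZ))).LiesOver (y.map (algebraMap D (Localization.Away (w * algebraMap R D g)))) :=
    ovr (w * algebraMap R D g) y z hY hzc
  have huX : IsUnit (algebraMap S (Localization.Away hX) u) :=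
    isUnit_of_dvd_unit (map_dvd _ ⟨algebraMap R S g * s, by simp only [hX]; ring⟩) (IsLocalization.Away.algebraMap_isUnit hX)
  haveI : IsLocalization (Algebra.algebraMapSubmonoid C (Submonoid.powers hX)) (Localization.Away hZ) := by
    rw [Algebra.algebraMapSubmonoid_powers]
    infer_instance
  haveI : IsLocalization (Algebra.algebraMapSubmonoid C (Submonoid.powers (w * algebraMap R D g))) (Localization.Away hZ) := by
    obtain ⟨m, hm⟩ : ∃ m : ℕ, algebraMap S C u ∣ algebraMap D C w ^ m := hrad.elim (fun h => ⟨1, by simpa using h⟩) id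
    rw [Algebra.algebraMapSubmonoid_powers]
    let c := algebraMap D C (w * algebraMap R D g)
    have hdiv : hZ ∣ c ^ (m + 2) := by
      have h1 : algebraMap S C u ∣ c ^ m := hm.trans (pow_dvd_pow_of_dvd (map_dvd _ (dvd_mul_right _ _)) m)
      have h2 : algebraMap S C (algebraMap R S g) ∣ c := by
        rw [← IsScalarTower.algebraMap_apply R S C, IsScalarTower.algebraMap_apply R D C]; exact map_dvd _ (dvd_mul_left _ _)
      have h3 := mul_dvd_mul (mul_dvd_mul h1 h2) (dvd_refl c)
      rw [show hZ = algebraMap S C u * algebraMap S C (algebraMap R S g) * c by simp only [hZ, hX, c, map_mul, hs']]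
      exact h3.trans (by rw [← pow_succ, ← pow_succ])
    exact away_of_dvd hZ c (m + 2) hdiv hYZ
  haveI : Algebra.IsPushout S (Localization.Away hX) C (Localization.Away hZ) :=
    ((Algebra.isLocalization_iff_isPushout (T := C) (B := Localization.Away hZ) (Submonoid.powers hX) (Localization.Away hX)).1 inferInstance).symm
  haveI : Algebra.IsPushout D (Localization.Away (w * algebraMap R D g)) C (Localization.Away hZ) :=
    ((Algebra.isLocalization_iff_isPushout (T := C) (B := Localization.Away hZ) (Submonoid.powers (w * algebraMap R D g)) (Localization.Away (w * algebraMap R D g))).1 inferInstance).symm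
  have hgi' := smooth_geomIrred (R' := Localization.Away g) (D' := Localization.Away (w * algebraMap R D g)) g w hgi hcov
  have hgN : IsBaseChange (Localization.Away hX) (LocalizedModule.mkLinearMap (Submonoid.powers hX) N) :=
    IsLocalizedModule.isBaseChange (Submonoid.powers hX) _ _
  have hgG : IsBaseChange (Localization.Away hZ) (LocalizedModule.mkLinearMap (Submonoid.powers hZ) G) :=
    IsLocalizedModule.isBaseChange (Submonoid.powers hZ) _ _
  haveI : Module.Finite (Localization.Away hZ) (LocalizedModule (Submonoid.powers hZ) G) := Module.Finite.equiv hgG.equiv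
  obtain ⟨hloc, hsd⟩ := localDim_and_supportDim g hX p (p.map (algebraMap R (Localization.Away g))) N
    (LocalizedModule (Submonoid.powers hX) N) _ hgN q (q.map (algebraMap S (Localization.Away hX))) h1
  refine ⟨g, hX, hZ, hgp, hXq, hZz, huX, iRS, tRS, iRC, tRC, iRD, tRD, iSC, tSC, tRSC, iDC, tDC, tRDC, mRN, tRN, mSG, tSG,
    hpp, hyp, oyp, ⟨⟨hgN.equiv.symm.trans ((LinearEquiv.baseChange S (Localization.Away hX) N G eN).trans
      ((Algebra.IsPushout.cancelBaseChange S (Localization.Away hX) C (Localization.Away hZ) G).symm.trans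
        (hgG.equiv.restrictScalars (Localization.Away hX))))⟩,
      CompleteDevBC.surjective_pushout (S := S) (C := C) hs,
      Algebra.FinitePresentation.equiv (Algebra.IsPushout.equiv S (Localization.Away hX) C (Localization.Away hZ)),
      Module.Finite.equiv (Algebra.IsPushout.equiv D (Localization.Away (w * algebraMap R D g)) C (Localization.Away hZ)).toLinearEquiv,
      inferInstance, hgi'.2 n hsm, hgi'.1, hsd hdim⟩, hloc, ozq, ozy, fun z₂ _ hz₂ => ?_, ?_⟩
  · rw [← IsLocalization.map_under (Submonoid.powers hZ) (Localization.Away hZ) z₂]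
    congr 1
    refine h3 _ ⟨?_⟩
    rw [Ideal.under, Ideal.under, Ideal.comap_comap, ← IsScalarTower.algebraMap_eq,
      IsScalarTower.algebraMap_eq D (Localization.Away (w * algebraMap R D g)) (Localization.Away hZ), ← Ideal.comap_comap,
      show z₂.comap (algebraMap (Localization.Away (w * algebraMap R D g)) (Localization.Away hZ)) = _ from hz₂.over.symm, hyc]
  · exact purelyTranscendental_of_surjective (D := D) p _ (surjective_residue_of_loc g p _) y _
      (surjective_residue_of_loc (w * algebraMap R D g) y _).2 h4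


open FlatMor in
theorem main12242
    (R S : Type u) [CommRing R] [CommRing S] [Algebra R S] [Algebra.FiniteType R S]
    (N : Type u) [AddCommGroup N] [Module S N] [Module R N] [IsScalarTower R S N] [Module.Finite S N]
    (p : Ideal R) [p.IsPrime] (q : Ideal S) [q.IsPrime] [q.LiesOver p]
    (C D G : Type u) [CommRing C] [CommRing D] [Algebra S C] [Algebra R C] [IsScalarTower R S C]
    [Algebra R D] [Algebra D C] [IsScalarTower R D C] [AddCommGroup G] [Module C G] [Module S G]
    [IsScalarTower S C G] (n : ℕ)
    (h : FlatCA.IsOneStepDevissage R S N p C D G n)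
    (z : Ideal C) [z.IsPrime] (y : Ideal D) [y.IsPrime] [z.LiesOver q] [z.LiesOver y] [y.LiesOver p]
    (h1 : ∃ (ξ : PrimeSpectrum (p.Fiber S)) (hξ : ξ ∈ Module.support (p.Fiber S) (FlatCA.fiberMod p S N)),
      ξ.asIdeal = FlatCA.fiberIdeal p q ∧
      FlatMor.localDim (Module.support (p.Fiber S) (FlatCA.fiberMod p S N)) ⟨ξ, hξ⟩ = n)
    (h3 : ∀ (z₁ : Ideal C) [z₁.IsPrime], z₁.LiesOver y → z₁ = z)
    (h4 : FlatCA.PurelyTranscendental p y)
    (w : D) (hw : w ∉ y) :
    ∃ (g : R) (hX : S) (hZ : C), g ∉ p ∧ hX ∉ q ∧ hZ ∉ z ∧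
      ∃ (_ : Algebra (Localization.Away g) (Localization.Away hX)) (_ : IsScalarTower R (Localization.Away g) (Localization.Away hX))
        (_ : Algebra (Localization.Away g) (Localization.Away hZ)) (_ : IsScalarTower R (Localization.Away g) (Localization.Away hZ))
        (_ : Algebra (Localization.Away g) (Localization.Away (w * algebraMap R D g))) (_ : IsScalarTower R (Localization.Away g) (Localization.Away (w * algebraMap R D g)))
        (_ : Algebra (Localization.Away hX) (Localization.Away hZ)) (_ : IsScalarTower S (Localization.Away hX) (Localization.Away hZ))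
        (_ : IsScalarTower (Localization.Away g) (Localization.Away hX) (Localization.Away hZ))
        (_ : Algebra (Localization.Away (w * algebraMap R D g)) (Localization.Away hZ)) (_ : IsScalarTower D (Localization.Away (w * algebraMap R D g)) (Localization.Away hZ))
        (_ : IsScalarTower (Localization.Away g) (Localization.Away (w * algebraMap R D g)) (Localization.Away hZ))
        (_ : Module (Localization.Away g) (LocalizedModule (Submonoid.powers hX) N)) (_ : IsScalarTower (Localization.Away g) (Localization.Away hX) (LocalizedModule (Submonoid.powers hX) N))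
        (_ : Module (Localization.Away hX) (LocalizedModule (Submonoid.powers hZ) G)) (_ : IsScalarTower (Localization.Away hX) (Localization.Away hZ) (LocalizedModule (Submonoid.powers hZ) G))
        (_ : (Ideal.map (algebraMap R (Localization.Away g)) p).IsPrime) (_ : (Ideal.map (algebraMap D (Localization.Away (w * algebraMap R D g))) y).IsPrime) (_ : (Ideal.map (algebraMap D (Localization.Away (w * algebraMap R D g))) y).LiesOver (Ideal.map (algebraMap R (Localization.Away g)) p)),
        FlatCA.IsOneStepDevissage (Localization.Away g) (Localization.Away hX) (LocalizedModule (Submonoid.powers hX) N) (Ideal.map (algebraMap R (Localization.Away g)) p) (Localization.Away hZ) (Localization.Away (w * algebraMap R D g)) (LocalizedModule (Submonoid.powers hZ) G) n ∧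
        (∃ (ξ : PrimeSpectrum ((Ideal.map (algebraMap R (Localization.Away g)) p).Fiber (Localization.Away hX)))
            (hξ : ξ ∈ Module.support ((Ideal.map (algebraMap R (Localization.Away g)) p).Fiber (Localization.Away hX)) (FlatCA.fiberMod (Ideal.map (algebraMap R (Localization.Away g)) p) (Localization.Away hX) (LocalizedModule (Submonoid.powers hX) N))),
          ξ.asIdeal = FlatCA.fiberIdeal (Ideal.map (algebraMap R (Localization.Away g)) p) (Ideal.map (algebraMap S (Localization.Away hX)) q) ∧
          FlatMor.localDim (Module.support ((Ideal.map (algebraMap R (Localization.Away g)) p).Fiber (Localization.Away hX)) (FlatCA.fiberMod (Ideal.map (algebraMap R (Localization.Away g)) p) (Localization.Away hX) (LocalizedModule (Submonoid.powers hX) N))) ⟨ξ, hξ⟩ = n) ∧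
        (Ideal.map (algebraMap C (Localization.Away hZ)) z).LiesOver (Ideal.map (algebraMap S (Localization.Away hX)) q) ∧ (Ideal.map (algebraMap C (Localization.Away hZ)) z).LiesOver (Ideal.map (algebraMap D (Localization.Away (w * algebraMap R D g))) y) ∧
        (∀ (z₂ : Ideal (Localization.Away hZ)) [z₂.IsPrime], z₂.LiesOver (Ideal.map (algebraMap D (Localization.Away (w * algebraMap R D g))) y) → z₂ = Ideal.map (algebraMap C (Localization.Away hZ)) z) ∧
        FlatCA.PurelyTranscendental (Ideal.map (algebraMap R (Localization.Away g)) p) (Ideal.map (algebraMap D (Localization.Away (w * algebraMap R D g))) y) := by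
  obtain ⟨g, hX, hZ, hg, h2, h3', -, rest⟩ := core R S N p q C D G n h z y h1 h3 h4 w hw 1
    (fun hm => ‹q.IsPrime›.ne_top ((Ideal.eq_top_iff_one q).2 hm)) (Or.inl (by rw [map_one]; exact one_dvd _))
  exact ⟨g, hX, hZ, hg, h2, h3', rest⟩

open FlatMor in
theorem main12241
    (R S : Type u) [CommRing R] [CommRing S] [Algebra R S] [Algebra.FiniteType R S]
    (N : Type u) [AddCommGroup N] [Module S N] [Module R N] [IsScalarTower R S N] [Module.Finite S N]
    (p : Ideal R) [p.IsPrime] (q : Ideal S) [q.IsPrime] [q.LiesOver p]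
    (C D G : Type u) [CommRing C] [CommRing D] [Algebra S C] [Algebra R C] [IsScalarTower R S C]
    [Algebra R D] [Algebra D C] [IsScalarTower R D C] [AddCommGroup G] [Module C G] [Module S G]
    [IsScalarTower S C G] (n : ℕ)
    (h : FlatCA.IsOneStepDevissage R S N p C D G n)
    (z : Ideal C) [z.IsPrime] (y : Ideal D) [y.IsPrime] [z.LiesOver q] [z.LiesOver y] [y.LiesOver p]
    (h1 : ∃ (ξ : PrimeSpectrum (p.Fiber S)) (hξ : ξ ∈ Module.support (p.Fiber S) (FlatCA.fiberMod p S N)),
      ξ.asIdeal = FlatCA.fiberIdeal p q ∧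
      FlatMor.localDim (Module.support (p.Fiber S) (FlatCA.fiberMod p S N)) ⟨ξ, hξ⟩ = n)
    (h3 : ∀ (z₁ : Ideal C) [z₁.IsPrime], z₁.LiesOver y → z₁ = z)
    (h4 : FlatCA.PurelyTranscendental p y)
    (u : S) (hu : u ∉ q) :
    ∃ (g : R) (hX : S) (hZ : C) (hY : D), g ∉ p ∧ hX ∉ q ∧ hZ ∉ z ∧ hY ∉ y ∧
      IsUnit (algebraMap S (Localization.Away hX) u) ∧
      ∃ (_ : Algebra (Localization.Away g) (Localization.Away hX)) (_ : IsScalarTower R (Localization.Away g) (Localization.Away hX))
        (_ : Algebra (Localization.Away g) (Localization.Away hZ)) (_ : IsScalarTower R (Localization.Away g) (Localization.Away hZ))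
        (_ : Algebra (Localization.Away g) (Localization.Away hY)) (_ : IsScalarTower R (Localization.Away g) (Localization.Away hY))
        (_ : Algebra (Localization.Away hX) (Localization.Away hZ)) (_ : IsScalarTower S (Localization.Away hX) (Localization.Away hZ))
        (_ : IsScalarTower (Localization.Away g) (Localization.Away hX) (Localization.Away hZ))
        (_ : Algebra (Localization.Away hY) (Localization.Away hZ)) (_ : IsScalarTower D (Localization.Away hY) (Localization.Away hZ))
        (_ : IsScalarTower (Localization.Away g) (Localization.Away hY) (Localization.Away hZ))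
        (_ : Module (Localization.Away g) (LocalizedModule (Submonoid.powers hX) N)) (_ : IsScalarTower (Localization.Away g) (Localization.Away hX) (LocalizedModule (Submonoid.powers hX) N))
        (_ : Module (Localization.Away hX) (LocalizedModule (Submonoid.powers hZ) G)) (_ : IsScalarTower (Localization.Away hX) (Localization.Away hZ) (LocalizedModule (Submonoid.powers hZ) G))
        (_ : (Ideal.map (algebraMap R (Localization.Away g)) p).IsPrime) (_ : (Ideal.map (algebraMap D (Localization.Away hY)) y).IsPrime) (_ : (Ideal.map (algebraMap D (Localization.Away hY)) y).LiesOver (Ideal.map (algebraMap R (Localization.Away g)) p)),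
        FlatCA.IsOneStepDevissage (Localization.Away g) (Localization.Away hX) (LocalizedModule (Submonoid.powers hX) N) (Ideal.map (algebraMap R (Localization.Away g)) p) (Localization.Away hZ) (Localization.Away hY) (LocalizedModule (Submonoid.powers hZ) G) n ∧
        (∃ (ξ : PrimeSpectrum ((Ideal.map (algebraMap R (Localization.Away g)) p).Fiber (Localization.Away hX)))
            (hξ : ξ ∈ Module.support ((Ideal.map (algebraMap R (Localization.Away g)) p).Fiber (Localization.Away hX)) (FlatCA.fiberMod (Ideal.map (algebraMap R (Localization.Away g)) p) (Localization.Away hX) (LocalizedModule (Submonoid.powers hX) N))),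
          ξ.asIdeal = FlatCA.fiberIdeal (Ideal.map (algebraMap R (Localization.Away g)) p) (Ideal.map (algebraMap S (Localization.Away hX)) q) ∧
          FlatMor.localDim (Module.support ((Ideal.map (algebraMap R (Localization.Away g)) p).Fiber (Localization.Away hX)) (FlatCA.fiberMod (Ideal.map (algebraMap R (Localization.Away g)) p) (Localization.Away hX) (LocalizedModule (Submonoid.powers hX) N))) ⟨ξ, hξ⟩ = n) ∧
        (Ideal.map (algebraMap C (Localization.Away hZ)) z).LiesOver (Ideal.map (algebraMap S (Localization.Away hX)) q) ∧ (Ideal.map (algebraMap C (Localization.Away hZ)) z).LiesOver (Ideal.map (algebraMap D (Localization.Away hY)) y) ∧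
        (∀ (z₂ : Ideal (Localization.Away hZ)) [z₂.IsPrime], z₂.LiesOver (Ideal.map (algebraMap D (Localization.Away hY)) y) → z₂ = Ideal.map (algebraMap C (Localization.Away hZ)) z) ∧
        FlatCA.PurelyTranscendental (Ideal.map (algebraMap R (Localization.Away g)) p) (Ideal.map (algebraMap D (Localization.Away hY)) y) := by
  haveI : Module.Finite D C := h.2.2.2.1
  obtain ⟨w, hw, m, hm⟩ : ∃ w ∉ y, ∃ m : ℕ, algebraMap S C u ∣ algebraMap D C w ^ m := by
    have hcl : IsClosed (PrimeSpectrum.comap (algebraMap D C) '' PrimeSpectrum.zeroLocus {algebraMap S C u}) :=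
      PrimeSpectrum.isClosedMap_comap_of_isIntegral _ (algebraMap_isIntegral_iff.2 inferInstance) _ (PrimeSpectrum.isClosed_zeroLocus _)
    have hy : (⟨y, ‹_›⟩ : PrimeSpectrum D) ∉ PrimeSpectrum.comap (algebraMap D C) '' PrimeSpectrum.zeroLocus {algebraMap S C u} := by
      rintro ⟨z₁, hz₁, e⟩
      have := h3 z₁.asIdeal ⟨(congrArg PrimeSpectrum.asIdeal e).symm⟩
      refine hu ((SetLike.ext_iff.1 (z.over_def q) u).2 ?_)
      rw [← this]
      exact hz₁ rfl
    obtain ⟨_, ⟨w, rfl⟩, hw, hsub⟩ := PrimeSpectrum.isTopologicalBasis_basic_opens.exists_subset_of_mem_open hy hcl.isOpen_compl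
    refine ⟨w, hw, ?_⟩
    have : algebraMap D C w ∈ (Ideal.span {algebraMap S C u}).radical := by
      rw [← PrimeSpectrum.vanishingIdeal_zeroLocus_eq_radical, PrimeSpectrum.zeroLocus_span, PrimeSpectrum.mem_vanishingIdeal]
      intro P hP
      by_contra hP'
      exact hsub (show PrimeSpectrum.comap (algebraMap D C) P ∈ PrimeSpectrum.basicOpen w from hP') ⟨P, hP, rfl⟩
    obtain ⟨m, hm⟩ := this
    exact ⟨m, Ideal.mem_span_singleton.1 hm⟩
  obtain ⟨g, hX, hZ, hg, h2, h3', h4', rest⟩ := core R S N p q C D G n h z y h1 h3 h4 w hw u hu (Or.inr ⟨m, hm⟩)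
  exact ⟨g, hX, hZ, w * algebraMap R D g, hg, h2, h3', (fun hm => (‹y.IsPrime›.mem_or_mem hm).elim hw fun hm => hg ((SetLike.ext_iff.1 (y.over_def p) g).2 hm)), h4', rest⟩

end Groth.Agent.FlatMor68.Shrink
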