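import Mathlib

set_option backward.isDefEq.respectTransparency.types false
set_option linter.style.haveILetI false
set_option autoImplicit false
universe u

open TensorProduct KaehlerDifferential

namespace Groth.Agent.FlatMor68.SliceAlg

variable {R B : Type u} [CommRing R] [CommRing B] [Algebra R B]

/-- If the differential of `h` has a retraction then `R[T] → B, T ↦ h` is smooth. -/
theorem smooth_polynomial [Algebra.Smooth R B] [Algebra (Polynomial R) B] [IsScalarTower R (Polynomial R) B]
    (ℓ : Ω[B⁄R] →ₗ[B] B) (hℓ : ℓ (D R B (algebraMap (Polynomial R) B Polynomial.X)) = 1) :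
    Algebra.Smooth (Polynomial R) B := by
  haveI : Algebra.FinitePresentation (Polynomial R) B :=
    Algebra.FinitePresentation.of_restrict_scalars_finitePresentation R (Polynomial R) B
  let P := Polynomial R
  let h := algebraMap P B Polynomial.X
  have hgen : ∀ z : B ⊗[P] Ω[P⁄R], z = ℓ (mapBaseChange R P B z) ⊗ₜ D R P Polynomial.X := by
    intro z
    induction z using TensorProduct.induction_on with
    | zero => simp
    | tmul b ω =>
      have hω : ω = (KaehlerDifferential.polynomialEquiv R ω) • D R P Polynomial.X :=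
        ((KaehlerDifferential.polynomialEquiv R).symm_apply_apply ω).symm
      rw [hω, ← smul_tmul, mapBaseChange_tmul, map_D, map_smul, hℓ, smul_eq_mul, mul_one]
    | add x y hx hy => rw [map_add, map_add, TensorProduct.add_tmul, ← hx, ← hy]
  have hinj : Function.Injective (mapBaseChange R P B) := by
    rw [injective_iff_map_eq_zero]
    intro z hz
    rw [hgen z, hz, map_zero, TensorProduct.zero_tmul]
  haveI : Subsingleton (Algebra.H1Cotangent P B) := by
    refine subsingleton_of_forall_eq 0 fun z => ?_
    have h1 : Algebra.H1Cotangent.δ R P B z = 0 := by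
      apply hinj
      rw [map_zero]
      exact (Algebra.H1Cotangent.exact_δ_mapBaseChange R P B _).2 ⟨z, rfl⟩
    obtain ⟨w, rfl⟩ := (Algebra.H1Cotangent.exact_map_δ R P B z).1 h1
    rw [Subsingleton.elim w 0, map_zero]
  haveI : Module.Projective B Ω[B⁄P] := by
    let π := KaehlerDifferential.map R P B B
    let p : Ω[B⁄R] →ₗ[B] Ω[B⁄R] := LinearMap.id - ℓ.smulRight (D R B h)
    have hp : LinearMap.ker π ≤ LinearMap.ker p := by
      intro ω hω
      obtain ⟨z, rfl⟩ := (KaehlerDifferential.exact_mapBaseChange_map R P B ω).1 hω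
      rw [hgen z, mapBaseChange_tmul, map_D]
      simp [p, h, hℓ]
      rw [hℓ, one_smul, sub_self, smul_zero]
    have hsurj : Function.Surjective π := KaehlerDifferential.map_surjective R P B
    refine Module.Projective.of_split
      ((Submodule.liftQ (LinearMap.ker π) p hp).comp (π.quotKerEquivOfSurjective hsurj).symm.toLinearMap) π ?_
    refine LinearMap.ext fun y => ?_
    obtain ⟨ω, rfl⟩ := hsurj y
    have : (π.quotKerEquivOfSurjective hsurj).symm (π ω) = Submodule.Quotient.mk ω :=
      (LinearEquiv.symm_apply_eq _).2 rfl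
    have hπh : π (D R B h) = 0 := by
      show KaehlerDifferential.map R P B B (D R B (algebraMap P B Polynomial.X)) = 0
      rw [map_D, Algebra.algebraMap_self, RingHom.id_apply, Derivation.map_algebraMap]
    simp [this, p, hπh]
  exact { formallySmooth := ⟨inferInstance, inferInstance⟩, finitePresentation := inferInstance }

/-- Smooth slice. -/
theorem slice [Algebra.Smooth R B] (h : B) (ℓ : Ω[B⁄R] →ₗ[B] B) (hℓ : ℓ (D R B h) = 1) :
    h ∈ nonZeroDivisors B ∧ Algebra.Smooth R (B ⧸ Ideal.span {h}) := by
  constructor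
  · letI : Algebra (Polynomial R) B := (Polynomial.aeval h).toRingHom.toAlgebra
    haveI : IsScalarTower R (Polynomial R) B := IsScalarTower.of_algebraMap_eq fun r => by
      show algebraMap R B r = Polynomial.aeval h (algebraMap R (Polynomial R) r)
      simp
    have hX : algebraMap (Polynomial R) B Polynomial.X = h := Polynomial.aeval_X h
    haveI := smooth_polynomial ℓ (by rw [hX]; exact hℓ)
    haveI : Module.Flat (Polynomial R) B := inferInstance
    rw [mem_nonZeroDivisors_iff_right]
    intro b hb
    have := Module.Flat.isSMulRegular_of_isRegular (R := Polynomial R) (M := B) (r := Polynomial.X)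
      Polynomial.monic_X.isRegular
    refine this.right_eq_zero_of_smul ?_
    rw [Algebra.smul_def, hX, mul_comm]; exact hb
  · set I := Ideal.span {h}
    have hhI : h ∈ I := Ideal.subset_span rfl
    have : Algebra.FinitePresentation R (B ⧸ I) :=
      Algebra.FinitePresentation.quotient ⟨{h}, by simp [I]⟩
    refine { formallySmooth := ?_, finitePresentation := this }
    rw [Algebra.FormallySmooth.iff_split_injection (P := B) Ideal.Quotient.mk_surjective]
    let κ := RingHom.ker (algebraMap B (B ⧸ I))
    have hker : h ∈ κ := by simpa [κ, RingHom.mem_ker, Ideal.Quotient.eq_zero_iff_mem] using hhI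
    let c : κ.Cotangent := κ.toCotangent ⟨h, hker⟩
    let μ : (B ⧸ I) →ₗ[B] κ.Cotangent := Submodule.liftQ I (LinearMap.toSpanSingleton B _ c) (by
      intro x hx
      rw [LinearMap.mem_ker, LinearMap.toSpanSingleton_apply, ← map_smul,
        Ideal.toCotangent_eq_zero, Submodule.coe_smul, pow_two, smul_eq_mul]
      exact Ideal.mul_mem_mul (by simpa [κ, RingHom.mem_ker, Ideal.Quotient.eq_zero_iff_mem] using hx) hker)
    let L : (B ⧸ I) ⊗[B] Ω[B⁄R] →ₗ[B] (B ⧸ I) :=
      (TensorProduct.rid B (B ⧸ I)).toLinearMap.comp (ℓ.lTensor (B ⧸ I))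
    refine ⟨μ.comp L, ?_⟩
    refine LinearMap.ext fun z => ?_
    obtain ⟨⟨x, hx⟩, rfl⟩ := κ.toCotangent_surjective z
    have hxI : x ∈ I := by simpa [κ, RingHom.mem_ker, Ideal.Quotient.eq_zero_iff_mem] using hx
    obtain ⟨y, rfl⟩ := Ideal.mem_span_singleton'.1 hxI
    rw [LinearMap.comp_apply, kerCotangentToTensor_toCotangent, LinearMap.comp_apply, LinearMap.id_apply]
    have : L (1 ⊗ₜ[B] D R B (y * h)) = Ideal.Quotient.mk I y := by
      show ℓ (D R B (y * h)) • (1 : B ⧸ I) = _
      rw [Derivation.leibniz, map_add, map_smul, map_smul, hℓ, Algebra.smul_def, mul_one,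
        Ideal.Quotient.algebraMap_eq, map_add]
      simp [Ideal.Quotient.eq_zero_iff_mem.2 hhI]
    rw [this]
    show μ (Submodule.Quotient.mk y) = _
    rw [Submodule.liftQ_apply, LinearMap.toSpanSingleton_apply, ← map_smul]
    rfl

/-- Nonvanishing differential gives a retraction after localization. -/
theorem exists_ell [Algebra.Smooth R B] (q : Ideal B) (h : B)
    (hd : D R B h ∉ q • (⊤ : Submodule B Ω[B⁄R])) :
    ∃ φ : Ω[B⁄R] →ₗ[B] B, φ (D R B h) ∉ q := by
  by_contra hc
  push Not at hc
  obtain ⟨s, hs⟩ := Module.projective_def'.1 (inferInstance : Module.Projective B Ω[B⁄R])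
  apply hd
  rw [show D R B h = Finsupp.linearCombination B (_root_.id : Ω[B⁄R] → Ω[B⁄R]) (s (D R B h)) from
    (LinearMap.congr_fun hs _).symm, Finsupp.linearCombination_apply, Finsupp.sum]
  exact Submodule.sum_mem _ fun t _ => Submodule.smul_mem_smul (hc ((Finsupp.lapply t).comp s)) trivial

/-- Nonvanishing differential gives a smooth slice after inverting one element. -/
theorem exists_slice [Algebra.Smooth R B] (q : Ideal B) (h : B)
    (hd : D R B h ∉ q • (⊤ : Submodule B Ω[B⁄R])) :
    ∃ g ∉ q, ∀ (B' : Type u) [CommRing B'] [Algebra B B'] [Algebra R B'] [IsScalarTower R B B'] [IsLocalization.Away g B'],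
      algebraMap B B' h ∈ nonZeroDivisors B' ∧ Algebra.Smooth R (B' ⧸ Ideal.span {algebraMap B B' h}) := by
  obtain ⟨φ, hφ⟩ := exists_ell q h hd
  refine ⟨φ (D R B h), hφ, fun B' _ _ _ _ _ => ?_⟩
  haveI : Algebra.Smooth B B' := Algebra.Smooth.of_isLocalization_Away (φ (D R B h))
  haveI : Algebra.Smooth R B' := Algebra.Smooth.comp R B B'
  let g := φ (D R B h)
  haveI := KaehlerDifferential.isLocalizedModule_map R B B' (Submonoid.powers g)
  let m : Ω[B⁄R] →ₗ[B] Ω[B'⁄R] := KaehlerDifferential.map R R B B'
  let φ' : Ω[B'⁄R] →ₗ[B] B' := IsLocalizedModule.lift (Submonoid.powers g) m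
    ((Algebra.linearMap B B').comp φ) (fun x => by
      rw [Module.End.isUnit_iff]
      have hu : IsUnit (algebraMap B B' x.1) := IsLocalization.map_units B' x
      refine ⟨fun a b hab => hu.mul_left_cancel (by simpa [Module.algebraMap_end_apply, Algebra.smul_def] using hab),
        fun c => ⟨↑hu.unit⁻¹ * c, ?_⟩⟩
      simp [Module.algebraMap_end_apply, Algebra.smul_def, ← mul_assoc])
  let φ'' : Ω[B'⁄R] →ₗ[B'] B' := φ'.extendScalarsOfIsLocalization (Submonoid.powers g) B'
  obtain ⟨u, hu⟩ : IsUnit (algebraMap B B' g) := IsLocalization.Away.algebraMap_isUnit g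
  refine slice (algebraMap B B' h) ((↑u⁻¹ : B') • φ'') ?_
  have h1 : φ'' (D R B' (algebraMap B B' h)) = algebraMap B B' g := by
    show φ' (D R B' (algebraMap B B' h)) = _
    rw [← KaehlerDifferential.map_D R R B B']
    exact IsLocalizedModule.lift_apply _ m _ _ _
  rw [LinearMap.smul_apply, h1, ← hu, smul_eq_mul, Units.inv_mul]

end Groth.Agent.FlatMor68.SliceAlg
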