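import Mathlib
import Groth.Agent.FlatMor68.SliceAlg
import Groth.Agent.FlatMor68.FlatSections

set_option backward.isDefEq.respectTransparency.types false
set_option linter.style.haveILetI false
set_option autoImplicit false
universe u

open CategoryTheory CategoryTheory.Limits AlgebraicGeometry TensorProduct KaehlerDifferential

namespace Groth.Agent.FlatMor68.Slice

theorem smooth_of_comp_mono {A B C : Scheme.{u}} (p : A ⟶ B) (j : B ⟶ C) [Mono j] (h : Smooth (p ≫ j)) : Smooth p := by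
  have hpb : IsPullback (𝟙 A) p (p ≫ j) j := by
    refine ⟨⟨by simp⟩, ⟨PullbackCone.IsLimit.mk _ (fun s => s.fst) (fun s => by simp) (fun s => ?_) (fun s m h1 _ => by simpa using h1)⟩⟩
    rw [← cancel_mono j, Category.assoc, s.condition]
  exact MorphismProperty.of_isPullback (P := @Smooth) hpb h

/-- Algebra to geometry. -/
theorem exists_slice {X S : Scheme.{u}} (f : X ⟶ S) (x : X)
    (W : X.Opens) (hxW : x ∈ W) (hW : Smooth (W.ι ≫ f))
    (h : ↑(X.presheaf.stalk x)) (_hm : h ∈ IsLocalRing.maximalIdeal ↑(X.presheaf.stalk x))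
    (hd : letI := (f.stalkMap x).hom.toAlgebra
      (1 : IsLocalRing.ResidueField ↑(X.presheaf.stalk x)) ⊗ₜ[↑(X.presheaf.stalk x)]
          (KaehlerDifferential.D ↑(S.presheaf.stalk (f x)) ↑(X.presheaf.stalk x) h) ≠ 0) :
    ∃ (U : X.Opens) (hU : IsAffineOpen U) (hx : x ∈ U) (h' : Γ(X, U)), X.presheaf.germ U x hx h' = h ∧
      h' ∈ nonZeroDivisors Γ(X, U) ∧
      Smooth (Spec.map (CommRingCat.ofHom (Ideal.Quotient.mk (Ideal.span {h'}))) ≫ hU.fromSpec ≫ f) := by
  obtain ⟨U₁, hx₁, t, ht⟩ := X.presheaf.exists_germ_eq h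
  obtain ⟨V, hV, hfV, -⟩ := exists_isAffineOpen_mem_and_subset (X := S) (x := f x) (U := ⊤) trivial
  obtain ⟨U₀, hU₀, hx₀, hle⟩ := exists_isAffineOpen_mem_and_subset (X := X) (x := x) (U := U₁ ⊓ W ⊓ f ⁻¹ᵁ V)
    ⟨⟨hx₁, hxW⟩, hfV⟩
  have hU₁ : U₀ ≤ U₁ := fun y hy => (hle hy).1.1
  have hUW : U₀ ≤ W := fun y hy => (hle hy).1.2
  have hUV : U₀ ≤ f ⁻¹ᵁ V := fun y hy => (hle hy).2
  let A : CommRingCat := Γ(S, V)
  let B : CommRingCat := Γ(X, U₀)
  let h₀ : B := X.presheaf.map (homOfLE hU₁).op t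
  have hh₀ : X.presheaf.germ U₀ x hx₀ h₀ = h := by
    rw [← ht]; exact TopCat.Presheaf.germ_res_apply X.presheaf (homOfLE hU₁) x hx₀ t
  letI : Algebra A B := (f.appLE V U₀ hUV).hom.toAlgebra
  have hsm : Smooth (Spec.map (f.appLE V U₀ hUV)) := by
    refine smooth_of_comp_mono _ hV.fromSpec ?_
    rw [hV.SpecMap_appLE_fromSpec f hU₀ hUV]
    have : hU₀.fromSpec ≫ f = hU₀.isoSpec.inv ≫ X.homOfLE hUW ≫ W.ι ≫ f := by
      rw [← Category.assoc, ← Category.assoc, Category.assoc hU₀.isoSpec.inv, X.homOfLE_ι, IsAffineOpen.isoSpec_inv_ι]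
    rw [this]
    infer_instance
  haveI : Algebra.Smooth A B := by
    rw [HasRingHomProperty.Spec_iff (P := @Smooth)] at hsm
    exact RingHom.smooth_algebraMap.1 hsm
  let Os : CommRingCat := S.presheaf.stalk (f x)
  let O : CommRingCat := X.presheaf.stalk x
  letI : Algebra Os O := (f.stalkMap x).hom.toAlgebra
  letI : Algebra A Os := (S.presheaf.germ V (f x) hfV).hom.toAlgebra
  letI : Algebra B O := (X.presheaf.germ U₀ x hx₀).hom.toAlgebra
  letI : Algebra A O := ((X.presheaf.germ U₀ x hx₀).hom.comp (f.appLE V U₀ hUV).hom).toAlgebra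
  haveI : IsScalarTower A B O := .of_algebraMap_eq' rfl
  haveI : IsScalarTower A Os O := .of_algebraMap_eq fun a => (FlatSections.stalkMap_germ_appLE f hUV hx₀ a).symm
  let q : Ideal B := (IsLocalRing.maximalIdeal O).comap (algebraMap B O)
  have hdq : D A B h₀ ∉ q • (⊤ : Submodule B Ω[B⁄A]) := by
    intro hmem
    apply hd
    let μ : Ω[B⁄A] →ₗ[B] Ω[O⁄Os] := KaehlerDifferential.map A Os B O
    have hμ : ∀ ω ∈ q • (⊤ : Submodule B Ω[B⁄A]),
        (1 : IsLocalRing.ResidueField O) ⊗ₜ[O] μ ω = 0 := by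
      intro ω hω
      refine Submodule.smul_induction_on hω (fun b hb n _ => ?_) (fun y z hy hz => by rw [map_add, TensorProduct.tmul_add, hy, hz, add_zero])
      rw [map_smul, ← algebraMap_smul O b (μ n), ← TensorProduct.smul_tmul, Algebra.smul_def, mul_one,
        IsLocalRing.ResidueField.algebraMap_eq, (IsLocalRing.residue_eq_zero_iff _).2 hb, TensorProduct.zero_tmul]
    have := hμ _ hmem
    rw [show μ (D A B h₀) = D Os O (algebraMap B O h₀) from KaehlerDifferential.map_D A Os B O h₀,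
      show algebraMap B O h₀ = h from hh₀] at this
    exact this
  obtain ⟨g, hg, hslice⟩ := SliceAlg.exists_slice q h₀ hdq
  let U := X.basicOpen g
  have hxU : x ∈ U := by
    rw [Scheme.mem_basicOpen X g x hx₀]
    by_contra hu
    exact hg hu
  have hU : IsAffineOpen U := hU₀.basicOpen g
  have hUle : U ≤ U₀ := X.basicOpen_le g
  let B' : CommRingCat := Γ(X, U)
  letI : Algebra B B' := (X.presheaf.map (homOfLE hUle).op).hom.toAlgebra
  letI : Algebra A B' := (f.appLE V U (hUle.trans hUV)).hom.toAlgebra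
  haveI : IsScalarTower A B B' := .of_algebraMap_eq' (by
    show (f.appLE V U (hUle.trans hUV)).hom = _
    rw [← f.appLE_map hUV (homOfLE hUle).op]; rfl)
  haveI : IsLocalization.Away g B' := hU₀.isLocalization_basicOpen g
  obtain ⟨hnzd, hsmB⟩ := hslice B'
  refine ⟨U, hU, hxU, algebraMap B B' h₀, ?_, hnzd, ?_⟩
  · rw [← hh₀]; exact TopCat.Presheaf.germ_res_apply X.presheaf (homOfLE hUle) x hxU h₀
  · haveI : Smooth (Spec.map (CommRingCat.ofHom (algebraMap A (B' ⧸ Ideal.span {algebraMap B B' h₀})))) := by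
      rw [HasRingHomProperty.Spec_iff (P := @Smooth)]
      exact RingHom.smooth_algebraMap.2 hsmB
    rw [← hV.SpecMap_appLE_fromSpec f hU (hUle.trans hUV), ← Category.assoc, ← Spec.map_comp]
    show Smooth (Spec.map (CommRingCat.ofHom (algebraMap A (B' ⧸ Ideal.span {algebraMap B B' h₀}))) ≫ hV.fromSpec)
    infer_instance

/-- t9751 -/
theorem t9751 {X S : Scheme.{u}} (f : X ⟶ S) (x : X)
    (W : X.Opens) (hxW : x ∈ W) (hW : Smooth (W.ι ≫ f))
    (hker : letI := (f.stalkMap x).hom.toAlgebra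
      letI := ((IsLocalRing.residue ↑(X.presheaf.stalk x)).comp (f.stalkMap x).hom).toAlgebra
      haveI : IsScalarTower ↑(S.presheaf.stalk (f x)) ↑(X.presheaf.stalk x) (IsLocalRing.ResidueField ↑(X.presheaf.stalk x)) :=
        IsScalarTower.of_algebraMap_eq (fun _ => rfl)
      LinearMap.ker (KaehlerDifferential.mapBaseChange ↑(S.presheaf.stalk (f x)) ↑(X.presheaf.stalk x)
        (IsLocalRing.ResidueField ↑(X.presheaf.stalk x))) ≠ ⊥) :
    ∃ (U : X.Opens) (hU : IsAffineOpen U) (hx : x ∈ U) (h' : Γ(X, U)), h' ∈ nonZeroDivisors Γ(X, U) ∧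
      X.presheaf.germ U x hx h' ∈ IsLocalRing.maximalIdeal ↑(X.presheaf.stalk x) ∧
      Smooth (Spec.map (CommRingCat.ofHom (Ideal.Quotient.mk (Ideal.span {h'}))) ≫ hU.fromSpec ≫ f) := by
  let Os : CommRingCat := S.presheaf.stalk (f x)
  let O : CommRingCat := X.presheaf.stalk x
  letI : Algebra Os O := (f.stalkMap x).hom.toAlgebra
  letI : Algebra Os (IsLocalRing.ResidueField O) := ((IsLocalRing.residue O).comp (f.stalkMap x).hom).toAlgebra
  haveI : IsScalarTower Os O (IsLocalRing.ResidueField O) := IsScalarTower.of_algebraMap_eq (fun _ => rfl)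
  obtain ⟨z, hz, hz0⟩ := (Submodule.ne_bot_iff _).1 hker
  obtain ⟨c, rfl⟩ := (KaehlerDifferential.exact_kerCotangentToTensor_mapBaseChange Os O (IsLocalRing.ResidueField O)
    Ideal.Quotient.mk_surjective z).1 hz
  obtain ⟨⟨h, hh⟩, rfl⟩ := Ideal.toCotangent_surjective _ c
  rw [KaehlerDifferential.kerCotangentToTensor_toCotangent] at hz0
  have hm : h ∈ IsLocalRing.maximalIdeal O := (IsLocalRing.residue_eq_zero_iff h).1 (RingHom.mem_ker.1 hh)
  obtain ⟨U, hU, hx, h', hgerm, hnzd, hsm⟩ := exists_slice f x W hxW hW h hm hz0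
  exact ⟨U, hU, hx, h', hnzd, hgerm ▸ hm, hsm⟩

theorem mem_sq_of_D_smul {Os O F κ : Type u} [CommRing Os] [CommRing O] [Algebra Os O] [IsLocalRing O]
    [CommRing F] [IsLocalRing F] [Algebra Os F] (π : O →ₐ[Os] F) (hπ : Function.Surjective π) [IsLocalHom π.toRingHom]
    [Field κ] [Algebra Os κ] (σ : κ →ₐ[Os] F ⧸ IsLocalRing.maximalIdeal F ^ 2) (res : O →ₐ[Os] κ)
    (hres : ∀ z ∈ IsLocalRing.maximalIdeal O, res z = 0)
    (hσ : ∀ z : O, Ideal.Quotient.mk (IsLocalRing.maximalIdeal F ^ 2) (π z) - σ (res z) ∈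
      (IsLocalRing.maximalIdeal F).map (Ideal.Quotient.mk _))
    (hD : ∀ h ∈ IsLocalRing.maximalIdeal O, D Os O h ∈ IsLocalRing.maximalIdeal O • (⊤ : Submodule O Ω[O⁄Os])) :
    IsLocalRing.maximalIdeal F ≤ IsLocalRing.maximalIdeal F ^ 2 := by
  let E := F ⧸ IsLocalRing.maximalIdeal F ^ 2
  let M : Ideal E := (IsLocalRing.maximalIdeal F).map (Ideal.Quotient.mk _)
  have hMM : ∀ a ∈ M, ∀ b ∈ M, a * b = 0 := by
    intro a ha b hb
    have : M * M = ⊥ := by
      rw [← Ideal.map_mul, ← pow_two, Ideal.map_quotient_self]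
    exact (Submodule.mem_bot E).1 (this ▸ Ideal.mul_mem_mul ha hb)
  let ρ : O →ₐ[Os] E := (Ideal.Quotient.mkₐ Os _).comp π
  letI : Algebra O E := ρ.toRingHom.toAlgebra
  haveI : IsScalarTower Os O E := .of_algebraMap_eq fun r => (ρ.commutes r).symm
  let δ₀ : O →ₗ[Os] E := ρ.toLinearMap - (σ.comp res).toLinearMap
  have hδ : ∀ a, δ₀ a ∈ M := hσ
  let δ : Derivation Os O E := Derivation.mk' δ₀ (fun a b => by
    have := hMM _ (hδ a) _ (hδ b)
    simp only [δ₀, LinearMap.sub_apply, AlgHom.toLinearMap_apply, AlgHom.comp_apply, map_mul, Algebra.smul_def] at this ⊢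
    show ρ a * ρ b - σ (res a) * σ (res b) = ρ a * (ρ b - σ (res b)) + ρ b * (ρ a - σ (res a))
    linear_combination -this)
  let L := δ.liftKaehlerDifferential
  have hL : ∀ ω, L ω ∈ M := by
    intro ω
    have : ω ∈ Submodule.span O (Set.range (D Os O)) := by rw [KaehlerDifferential.span_range_derivation]; trivial
    induction this using Submodule.span_induction with
    | mem v hv => obtain ⟨a, rfl⟩ := hv; rw [Derivation.liftKaehlerDifferential_comp_D]; exact hδ a
    | zero => simp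
    | add a b _ _ ha hb => rw [map_add]; exact add_mem ha hb
    | smul c a _ ha => rw [map_smul, Algebra.smul_def]; exact Ideal.mul_mem_left _ _ ha
  intro z hz
  obtain ⟨h, rfl⟩ := hπ z
  have hh : h ∈ IsLocalRing.maximalIdeal O := fun hu => hz (hu.map π)
  have h1 : L (D Os O h) = 0 := by
    refine Submodule.smul_induction_on (hD h hh) (fun a ha n _ => ?_) (fun y w hy hw => by rw [map_add, hy, hw, add_zero])
    rw [map_smul, Algebra.smul_def]
    refine hMM _ ?_ _ (hL n)
    exact Ideal.mem_map_of_mem _ (map_nonunit π.toRingHom a ha)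
  rw [Derivation.liftKaehlerDifferential_comp_D] at h1
  have h2 : ρ h - σ (res h) = 0 := h1
  rw [hres h hh, map_zero, sub_zero] at h2
  exact Ideal.Quotient.eq_zero_iff_mem.1 h2

/-- The two factorisations of a local map through the point. -/
theorem kill_aux {A B : Scheme.{u}} {K : CommRingCat.{u}} (hK : IsField K) (p : A ⟶ Spec K) (q : Spec K ⟶ B) (g : A ⟶ B)
    (hg : g = p ≫ q) (z : A) (r : B.presheaf.stalk (g z)) (hr : r ∈ IsLocalRing.maximalIdeal _) :
    g.stalkMap z r = 0 := by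
  subst hg
  rw [Scheme.Hom.stalkMap_comp]
  show p.stalkMap z (q.stalkMap (p z) r) = 0
  have h1 : q.stalkMap (p z) r = 0 := by
    letI := hK.toField
    have hpz : p z = IsLocalRing.closedPoint K := Subsingleton.elim (α := PrimeSpectrum K) _ _
    have hf : IsField ((Spec K).presheaf.stalk (p z)) := by
      rw [hpz]
      exact MulEquiv.isField (Field.toIsField K) (stalkClosedPointIso K).commRingCatIsoToRingEquiv.toMulEquiv
    have hm := IsLocalRing.isField_iff_maximalIdeal_eq.1 hf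
    have hn : q.stalkMap (p z) r ∈ IsLocalRing.maximalIdeal _ := map_nonunit (q.stalkMap (p z)).hom r hr
    rw [hm] at hn
    exact (Submodule.mem_bot _).1 hn
  rw [h1, map_zero]

theorem t9724 {X S : Scheme.{u}} (f : X ⟶ S) (x : X)
    (W : X.Opens) (hxW : x ∈ W) (hW : Smooth (W.ι ≫ f))
    (hsep : letI := (f.residueFieldMap x).hom.toAlgebra
      Algebra.FormallySmooth (S.residueField (f x)) (X.residueField x))
    (hgen : IsLocalRing.maximalIdeal ↑((f.fiber (f x)).presheaf.stalk (f.asFiber x)) ≠ ⊥) :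
    ∃ (U : X.Opens) (hU : IsAffineOpen U) (hx : x ∈ U) (h' : Γ(X, U)), h' ∈ nonZeroDivisors Γ(X, U) ∧
      X.presheaf.germ U x hx h' ∈ IsLocalRing.maximalIdeal ↑(X.presheaf.stalk x) ∧
      Smooth (Spec.map (CommRingCat.ofHom (Ideal.Quotient.mk (Ideal.span {h'}))) ≫ hU.fromSpec ≫ f) := by
  let s := f x
  let Y := f.fiber s
  let z : Y := f.asFiber x
  have hz : f.fiberι s z = x := f.fiberι_asFiber x
  let O : CommRingCat := X.presheaf.stalk x
  let Os : CommRingCat := S.presheaf.stalk s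
  let F : CommRingCat := Y.presheaf.stalk z
  let c : O ⟶ X.presheaf.stalk (f.fiberι s z) := (X.presheaf.stalkCongr (.of_eq hz.symm)).hom
  let π₀ : O ⟶ F := c ≫ (f.fiberι s).stalkMap z
  have hπsurj : Function.Surjective π₀ := ((f.fiberι s).stalkMap_surjective z).comp
    (ConcreteCategory.bijective_of_isIso c).2
  haveI : IsLocalHom π₀.hom := inferInstanceAs (IsLocalHom (c ≫ (f.fiberι s).stalkMap z).hom)
  have hkill : ∀ r ∈ IsLocalRing.maximalIdeal Os, π₀ (f.stalkMap x r) = 0 := by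
    intro r hr
    have h := congr($(Scheme.Hom.stalkMap_congr_point f x (f.fiberι s z) hz.symm) r)
    show (f.fiberι s).stalkMap z (c (f.stalkMap x r)) = 0
    rw [show c (f.stalkMap x r) = _ from h]
    set c' := (S.presheaf.stalkCongr (.of_eq (congrArg f hz.symm))).hom
    have hc' : c' r ∈ IsLocalRing.maximalIdeal _ := map_nonunit c'.hom r hr
    have := kill_aux (Field.toIsField (S.residueField s)) (f.fiberToSpecResidueField s) (S.fromSpecResidueField s)
      (f.fiberι s ≫ f) (f.fiber_fac s) z (c' r) hc'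
    rw [Scheme.Hom.stalkMap_comp] at this
    exact this
  haveI : IsNoetherianRing F := by
    let Y' : Y.Opens := f.fiberι s ⁻¹ᵁ W
    have hzY' : z ∈ Y' := by show f.fiberι s z ∈ W; rw [hz]; exact hxW
    have hpb : IsPullback (f.fiberι s ∣_ W) (Y'.ι ≫ f.fiberToSpecResidueField s) (W.ι ≫ f) (S.fromSpecResidueField s) :=
      (isPullback_morphismRestrict (f.fiberι s) W).paste_vert (IsPullback.of_hasPullback f (S.fromSpecResidueField s))
    haveI : LocallyOfFiniteType (Y'.ι ≫ f.fiberToSpecResidueField s) :=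
      MorphismProperty.of_isPullback (P := @LocallyOfFiniteType) hpb inferInstance
    haveI : IsLocallyNoetherian Y' := LocallyOfFiniteType.isLocallyNoetherian (Y'.ι ≫ f.fiberToSpecResidueField s)
    exact isNoetherianRing_of_ringEquiv _ (Y'.stalkIso ⟨z, hzY'⟩).commRingCatIsoToRingEquiv
  letI algO : Algebra Os O := (f.stalkMap x).hom.toAlgebra
  by_contra hcon
  have hall : ∀ h ∈ IsLocalRing.maximalIdeal O,
      (1 : IsLocalRing.ResidueField O) ⊗ₜ[O] (KaehlerDifferential.D Os O h) = 0 := by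
    intro h hh
    by_contra hne
    obtain ⟨U, hU, hx, h', hgerm, hnzd, hsm⟩ := exists_slice f x W hxW hW h hh hne
    exact hcon ⟨U, hU, hx, h', hnzd, hgerm ▸ hh, hsm⟩
  letI algF : Algebra Os F := (π₀.hom.comp (f.stalkMap x).hom).toAlgebra
  let π : O →ₐ[Os] F := { π₀.hom with commutes' := fun _ => rfl }
  haveI : IsLocalHom π.toRingHom := inferInstanceAs (IsLocalHom π₀.hom)
  let k := S.residueField s
  let κ := X.residueField x
  letI algk : Algebra k κ := (f.residueFieldMap x).hom.toAlgebra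
  haveI : Algebra.FormallySmooth k κ := hsep
  let E := F ⧸ IsLocalRing.maximalIdeal F ^ 2
  letI algE : Algebra k E := (Ideal.Quotient.lift (IsLocalRing.maximalIdeal Os) ((Ideal.Quotient.mk _).comp (algebraMap Os F))
    (fun r hr => by show Ideal.Quotient.mk _ (π₀ (f.stalkMap x r)) = 0; rw [hkill r hr, map_zero])).toAlgebra
  letI : Algebra Os k := (IsLocalRing.residue Os).toAlgebra
  letI : Algebra Os κ := ((IsLocalRing.residue O).comp (f.stalkMap x).hom).toAlgebra
  haveI : IsScalarTower Os k κ := .of_algebraMap_eq fun r => rfl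
  haveI : IsScalarTower Os k E := .of_algebraMap_eq fun r => rfl
  let ε₀ : E →+* IsLocalRing.ResidueField F := Ideal.Quotient.lift _ (IsLocalRing.residue F) (fun r hr => by
    rw [IsLocalRing.residue_eq_zero_iff]; exact Ideal.pow_le_self two_ne_zero hr)
  let ψ : κ →+* IsLocalRing.ResidueField F := IsLocalRing.ResidueField.map π.toRingHom
  letI : Algebra k (IsLocalRing.ResidueField F) := (ε₀.comp (algebraMap k E)).toAlgebra
  let g : E →ₐ[k] IsLocalRing.ResidueField F := { ε₀ with commutes' := fun _ => rfl }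
  have hψ : ∀ r : k, ψ (algebraMap k κ r) = algebraMap k (IsLocalRing.ResidueField F) r := fun r => by
    obtain ⟨r, rfl⟩ := IsLocalRing.residue_surjective (R := Os) r
    rfl
  let ψ' : κ →ₐ[k] IsLocalRing.ResidueField F := { ψ with commutes' := hψ }
  have hgsurj : Function.Surjective g := fun y => by
    obtain ⟨y, rfl⟩ := IsLocalRing.residue_surjective y
    exact ⟨Ideal.Quotient.mk _ y, rfl⟩
  have hker : RingHom.ker (g : E →+* IsLocalRing.ResidueField F) = (IsLocalRing.maximalIdeal F).map (Ideal.Quotient.mk _) := by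
    ext e
    obtain ⟨y, rfl⟩ := Ideal.Quotient.mk_surjective e
    rw [RingHom.mem_ker, Ideal.mem_map_iff_of_surjective _ Ideal.Quotient.mk_surjective]
    constructor
    · exact fun h => ⟨y, (IsLocalRing.residue_eq_zero_iff y).1 h, rfl⟩
    · rintro ⟨w, hw, hwy⟩
      show ε₀ (Ideal.Quotient.mk _ y) = 0
      rw [← hwy]
      exact (IsLocalRing.residue_eq_zero_iff w).2 hw
  have hnil : IsNilpotent (RingHom.ker (g : E →+* IsLocalRing.ResidueField F)) :=
    ⟨2, by rw [hker, ← Ideal.map_pow, Ideal.map_quotient_self]; rfl⟩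
  let σ₀ : κ →ₐ[k] E := Algebra.FormallySmooth.liftOfSurjective ψ' g hgsurj hnil
  let σ : κ →ₐ[Os] E := σ₀.restrictScalars Os
  let res : O →ₐ[Os] κ := { IsLocalRing.residue O with commutes' := fun _ => rfl }
  have hle := mem_sq_of_D_smul π hπsurj σ res (fun w hw => (IsLocalRing.residue_eq_zero_iff w).2 hw) (fun w => by
    rw [← hker, RingHom.mem_ker, map_sub, sub_eq_zero]
    exact (Algebra.FormallySmooth.liftOfSurjective_apply ψ' g hgsurj hnil (res w)).symm) (fun h hh => by
    have h0 := hall h hh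
    have h1 : TensorProduct.quotTensorEquivQuotSMul Ω[O⁄Os] (IsLocalRing.maximalIdeal O)
        (Ideal.Quotient.mk (IsLocalRing.maximalIdeal O) 1 ⊗ₜ[O] D Os O h) = 0 :=
      (LinearEquiv.map_eq_zero_iff _).2 h0
    have h2 : Submodule.Quotient.mk (p := IsLocalRing.maximalIdeal O • (⊤ : Submodule O Ω[O⁄Os])) (D Os O h) = 0 := by
      rw [← h1]
      show _ = TensorProduct.quotTensorEquivQuotSMul Ω[O⁄Os] (IsLocalRing.maximalIdeal O) (Ideal.Quotient.mk _ 1 ⊗ₜ _)
      rw [TensorProduct.quotTensorEquivQuotSMul_mk_tmul, one_smul]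
    exact (Submodule.Quotient.mk_eq_zero _).1 h2)
  apply hgen
  refine Submodule.eq_bot_of_le_smul_of_le_jacobson_bot (IsLocalRing.maximalIdeal F) _ (IsNoetherian.noetherian _) ?_
    (IsLocalRing.maximalIdeal_le_jacobson ⊥)
  rwa [smul_eq_mul, ← pow_two]

end Groth.Agent.FlatMor68.Slice
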