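import Groth.Agent.SchBasics.FibreSmooth
import Groth.Agent.SchBasics.UnramAt

set_option backward.isDefEq.respectTransparency.types false
set_option linter.style.haveILetI false
set_option autoImplicit false
universe u

open CategoryTheory CategoryTheory.Limits AlgebraicGeometry

namespace Groth.Agent.FlatMor68.SmoothFibreNhd

theorem t16049 {X Y S : Scheme.{u}} (g : Y ⟶ S) (h : X ⟶ S)
    [LocallyOfFinitePresentation g] [LocallyOfFinitePresentation h] [Flat h]
    (f : X ⟶ Y) (w : f ≫ g = h) (s : S) (hs : Smooth (pullback.snd f (g.fiberι s))) :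
    ∃ U : X.Opens, (∀ x : X, h.base x = s → x ∈ U) ∧ Smooth (U.ι ≫ f) := by
  have hsq := (SchBasics.isPullback_fiberMapOver g h f w s).flip
  haveI := hs
  have hφ : Smooth (CohIII.fiberMapOver f h g w s) := by
    rw [← hsq.isoPullback_hom_snd]
    infer_instance
  have key : ∀ x : {x : X // h.base x = s}, ∃ U : X.Opens, x.1 ∈ U ∧ Smooth (U.ι ≫ f) := by
    rintro ⟨x, rfl⟩
    refine (SchBasics.smooth_nhd_iff_smooth_fiber_nhd g h f w x (Flat.stalkMap h x) (h.asFiber x)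
      (h.fiberι_asFiber x)).2 ⟨⊤, trivial, ?_⟩
    infer_instance
  choose U hxU hU using key
  refine ⟨⨆ x, U x, fun x hx => TopologicalSpace.Opens.mem_iSup.2 ⟨⟨x, hx⟩, hxU ⟨x, hx⟩⟩, ?_⟩
  refine IsZariskiLocalAtSource.of_iSup_eq_top (P := (@Smooth : MorphismProperty Scheme.{u}))
    (fun x => (⨆ y, U y).ι ⁻¹ᵁ U x) ?_ fun x => ?_
  · refine top_le_iff.1 fun z _ => ?_
    obtain ⟨x, hx⟩ := TopologicalSpace.Opens.mem_iSup.1 z.2
    exact TopologicalSpace.Opens.mem_iSup.2 ⟨x, hx⟩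
  · have hfac : ((⨆ y, U y).ι ⁻¹ᵁ U x).ι ≫ (⨆ y, U y).ι ≫ f =
        ((⨆ y, U y).ι ∣_ U x) ≫ (U x).ι ≫ f := by
      rw [morphismRestrict_ι_assoc]
    haveI := hU x
    rw [hfac]
    infer_instance

end Groth.Agent.FlatMor68.SmoothFibreNhd
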