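import Groth.Agent.FlatMor68.StrataChain
import Groth.Agent.FlatMor67.StratSection
import Groth.Agent.LimTop61.IdealGlue
import Groth.Agent.Lim60.Props
import Groth.Agent.Approx60.ImmStage
import Groth.Agent.S7632

/-!
Smooth stratifications of a morphism after a finite locally free radicial cover of the base.
-/

set_option autoImplicit false
set_option backward.isDefEq.respectTransparency.types false
set_option linter.style.haveILetI false
universe u

open CategoryTheory CategoryTheory.Limits AlgebraicGeometry TopologicalSpace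

noncomputable section

namespace Groth.Agent.FlatMor68.SmoothStrat

open StrataChain

/-- The source has a stratification by closed subschemes with smooth strata. -/
def Strat : MorphismProperty Scheme.{u} := fun Y _ g =>
  ∃ (t : ℕ) (J : Fin (t + 1) → Y.IdealSheafData), Monotone J ∧ J (Fin.last t) = ⊤ ∧
    ((J 0).support : Set Y) = Set.univ ∧ (∀ i, FG (J i)) ∧
    ∀ i : Fin t, Smooth (((J i.castSucc).subschemeι ⁻¹ᵁ (J i.succ).support.compl).ι ≫
      (J i.castSucc).subschemeι ≫ g)

theorem smooth_strata_of_isPullback {Y T Y' T' : Scheme.{u}} {g : Y ⟶ T} {g' : Y' ⟶ T'} {m : Y' ⟶ Y}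
    {b : T' ⟶ T} (h : IsPullback m g' g b) (I J : Y.IdealSheafData) (hsm : Smooth (strι I J ≫ g)) :
    Smooth (strι (I.comap m) (J.comap m) ≫ g') := by
  obtain ⟨l, hl⟩ := exists_isPullback m I J
  exact MorphismProperty.of_isPullback (hl.paste_vert h) hsm

theorem strat_stable : (Strat.{u}).IsStableUnderBaseChange := by
  refine ⟨fun {T' Y Y' T b g m g'} h hg => ?_⟩
  obtain ⟨t, J, hmono, hlast, h0, hfg, hsm⟩ := hg
  refine ⟨t, fun i => (J i).comap m, fun i j hij => Scheme.IdealSheafData.comap_mono m (hmono hij), ?_, ?_,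
    fun i => (hfg i).comap m, fun i => ?_⟩
  · show (J (Fin.last t)).comap m = ⊤
    rw [hlast]
    exact (comap_eq_top_iff _ _).2 fun x h => by simp at h; exact h
  · show (((J 0).comap m).support : Set Y') = _
    rw [Scheme.IdealSheafData.support_comap]
    show m ⁻¹' ((J 0).support : Set Y) = _
    rw [h0, Set.preimage_univ]
  · have := smooth_strata_of_isPullback h.flip.flip (J i.castSucc) (J i.succ)
      (by rw [Category.assoc]; exact hsm i)
    rwa [Category.assoc] at this

theorem strat_of_isEmpty {Y T : Scheme.{u}} (g : Y ⟶ T) [IsEmpty Y] : Strat g := by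
  refine ⟨0, fun _ => ⊤, monotone_const, rfl, ?_, fun _ => fg_top, fun i => i.elim0⟩
  exact Set.eq_univ_of_forall fun y => isEmptyElim y

/-- A stratum cut out by ideals of finite type is of finite presentation. -/
theorem strι_lfp {Y : Scheme.{u}} {I : Y.IdealSheafData} (J : Y.IdealSheafData) (hI : FG I) :
    LocallyOfFinitePresentation (strι I J) := by
  have := LimTop61.lfp_of_fg_ideal I hI
  infer_instance

theorem isCompact_compl_support {Y : Scheme.{u}} [CompactSpace Y] {J : Y.IdealSheafData} (hJ : FG J) :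
    IsCompact ((J.support : Set Y)ᶜ) := by
  obtain ⟨K, hK⟩ := isCompact_univ.elim_finite_subcover (fun W : Y.affineOpens => (W.1 : Set Y))
    (fun W => W.1.2) fun x _ => by
      obtain ⟨W, hxW, -⟩ := Div89.exists_affine_le (U := ⊤) (x := x) trivial
      exact Set.mem_iUnion.2 ⟨W, hxW⟩
  choose s hs using fun W : Y.affineOpens => hJ W
  have e : (J.support : Set Y)ᶜ = ⋃ W ∈ K, ⋃ a ∈ s W, (Y.basicOpen a : Set Y) := by
    ext x
    simp only [Set.mem_compl_iff, Set.mem_iUnion]
    constructor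
    · intro hx
      obtain ⟨W, hWK, hxW⟩ := Set.mem_iUnion₂.1 (hK (Set.mem_univ x))
      rw [SetLike.mem_coe, Scheme.IdealSheafData.mem_support_iff_of_mem hxW, ← hs W,
        Scheme.mem_zeroLocus_iff] at hx
      push Not at hx
      obtain ⟨a, ha, hxa⟩ := hx
      refine ⟨W, hWK, ?_⟩
      by_contra! h
      have hsub : (Ideal.span (s W : Set Γ(Y, W.1))) ≤
          Ideal.comap (Y.presheaf.germ W.1 x hxW).hom (IsLocalRing.maximalIdeal _) := Ideal.span_le.2 fun b hb => by
        show Y.presheaf.germ W.1 x hxW b ∈ IsLocalRing.maximalIdeal _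
        exact fun hu => h b hb ((Y.mem_basicOpen _ x hxW).2 hu)
      exact hsub ha ((Y.mem_basicOpen a x hxW).1 hxa)
    · rintro ⟨W, -, a, ha, hxa⟩ hx
      have hxW : x ∈ W.1 := Y.basicOpen_le a hxa
      rw [SetLike.mem_coe, Scheme.IdealSheafData.mem_support_iff_of_mem hxW] at hx
      exact (Scheme.mem_zeroLocus_iff _ _ _).1 hx a (hs W ▸ Ideal.subset_span ha) hxa
  rw [e]
  exact K.finite_toSet.isCompact_biUnion fun W _ => (s W).finite_toSet.isCompact_biUnion fun a _ =>
    (W.2.basicOpen a).isCompact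

theorem strι_qcqs {Y : Scheme.{u}} [CompactSpace Y] [QuasiSeparatedSpace Y] (I : Y.IdealSheafData)
    {J : Y.IdealSheafData} (hJ : FG J) : QuasiCompact (strι I J) ∧ QuasiSeparated (strι I J) := by
  have hc : IsCompact (J.support.compl : Set Y) := isCompact_compl_support hJ
  have h : IsCompact ((I.subschemeι ⁻¹ᵁ J.support.compl : I.subscheme.Opens) : Set I.subscheme) :=
    I.subschemeι.isCompact_preimage hc
  have : CompactSpace ((I.subschemeι ⁻¹ᵁ J.support.compl : I.subscheme.Opens) : Scheme.{u}) :=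
    isCompact_iff_compactSpace.mp h
  exact ⟨inferInstance, inferInstance⟩

/-- Stratifications with smooth strata descend to a stage. -/
theorem descProp_strat : LimDesc62.DescProp.{u} @LocallyOfFinitePresentation Strat := by
  constructor
  intro I _ _ D c hc _ i _ _ T a _ _ ha h
  obtain ⟨t, J, hmono, hlast, h0, hfg, hsm⟩ := h
  have : LocallyOfFinitePresentation a := ha
  have : CompactSpace T := QuasiCompact.compactSpace_of_compactSpace a
  have : QuasiSeparatedSpace T := quasiSeparatedSpace_of_quasiSeparated a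
  let DY := LimTop61.bcDiagram D a
  let cY := LimTop61.bcCone D c a (pullback.fst a (c.π.app i)) (pullback.snd a (c.π.app i))
    pullback.condition
  let hcY : IsLimit cY :=
    LimTop61.isLimitBcCone D c hc a _ _ (IsPullback.of_hasPullback a (c.π.app i))
  -- each ideal descends
  have key : ∀ k, ∃ (n : Over i) (K : (DY.obj n).IdealSheafData), FG K ∧ K.comap (cY.π.app n) = J k := by
    intro k
    have : LocallyOfFinitePresentation (show cY.pt.IdealSheafData from J k).subschemeι :=
      LimTop61.lfp_of_fg_ideal _ (hfg k)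
    obtain ⟨n, K, hK, hKc⟩ := LimTop61.exists_idealSheaf_descend DY cY hcY (J k)
    exact ⟨n, K, fun U => LimTop61.fg_ideal_of_lfp K U, hKc⟩
  choose n K hK hKc using key
  obtain ⟨o, χ, -⟩ : ∃ (o : Over i) (χ : ∀ k, o ⟶ n k), True := by
    obtain ⟨m, ψ, χ, hχ⟩ := LimDesc62.DescProp.exists_common (fun k => (n k).hom)
    exact ⟨Over.mk ψ, fun k => Over.homMk (χ k) (hχ k), trivial⟩
  let L : Fin (t + 1) → (DY.obj o).IdealSheafData :=
    fun l => (Finset.univ.filter fun k => k ≤ l).sup fun k => (K k).comap (DY.map (χ k))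
  have hLfg : ∀ l, FG (L l) := fun l =>
    Finset.sup_induction fg_bot (fun _ h1 _ h2 => h1.sup h2) fun k _ => (hK k).comap _
  have hLc : ∀ l, (L l).comap (cY.π.app o) = J l := by
    intro l
    have e : ∀ k, ((K k).comap (DY.map (χ k))).comap (cY.π.app o) = J k := fun k => by
      rw [← Scheme.IdealSheafData.comap_comp, cY.w, hKc]
    rw [Finset.apply_sup_eq_sup_comp (fun Z : (DY.obj o).IdealSheafData => Z.comap (cY.π.app o))
      (fun x y => Scheme.IdealSheafData.comap_sup x y _) (Scheme.IdealSheafData.comap_bot _)]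
    exact le_antisymm (Finset.sup_le fun k hk => (e k).le.trans (hmono (Finset.mem_filter.1 hk).2))
      ((e l).ge.trans (Finset.le_sup (f := (fun Z : (DY.obj o).IdealSheafData => Z.comap (cY.π.app o)) ∘
        fun k => (K k).comap (DY.map (χ k))) (Finset.mem_filter.2 ⟨Finset.mem_univ _, le_rfl⟩)))
  have hLmono : Monotone L := fun l l' h => Finset.sup_mono fun k hk =>
    Finset.mem_filter.2 ⟨Finset.mem_univ _, (Finset.mem_filter.1 hk).2.trans h⟩
  -- the last ideal becomes the unit ideal
  have hbot : ∀ (W : (DY.obj o).IdealSheafData), FG W → W.comap (cY.π.app o) = ⊤ →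
      ∃ (q : Over i) (φ : q ⟶ o), W.comap (DY.map φ) = ⊤ := by
    intro W _ hWc
    obtain ⟨q, φ, hq⟩ := exists_map_eq_top DY cY hcY W.support.compl (by
      ext x
      simp only [TopologicalSpace.Opens.coe_top, Set.mem_univ, iff_true]
      exact (comap_eq_top_iff _ _).1 hWc x)
    exact ⟨q, φ, (comap_eq_top_iff _ _).2 fun x => (hq.ge (Set.mem_univ x) :)⟩
  obtain ⟨q₁, φ₁, hq₁⟩ := hbot _ (hLfg _) ((hLc _).trans hlast)
  -- the first ideal cuts out everything
  obtain ⟨q₂, φ₂, hq₂⟩ : ∃ (q : Over i) (φ : q ⟶ o), (DY.map φ) ⁻¹' ((L 0).support : Set _) = Set.univ := by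
    have hE : cY.π.app o ⁻¹ᵁ (L 0).support.compl ≤ cY.π.app o ⁻¹ᵁ ⊥ := by
      intro x hx
      refine (hx ?_).elim
      have : x ∈ ((L 0).comap (cY.π.app o)).support := by
        rw [hLc 0]
        exact h0.ge (Set.mem_univ x)
      rwa [Scheme.IdealSheafData.support_comap] at this
    obtain ⟨q, φ, hq⟩ := LimDesc62.exists_preimage_subset DY cY hcY
      (isCompact_compl_support (hLfg 0)) hE
    refine ⟨q, φ, Set.eq_univ_of_forall fun x => ?_⟩
    by_contra hx
    exact (hq (show x ∈ DY.map φ ⁻¹ᵁ (L 0).support.compl from hx)).elim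
  -- the strata become smooth
  have hs' : ∀ l : Fin t, ∃ (j : I) (φ : j ⟶ o.left),
      Smooth (pullback.snd (strι (L l.castSucc) (L l.succ) ≫ pullback.snd a (D.map o.hom)) (D.map φ)) := by
    intro l
    have : CompactSpace (D.obj o.left) := QuasiCompact.compactSpace_of_compactSpace (D.map o.hom)
    have : QuasiSeparatedSpace (D.obj o.left) := quasiSeparatedSpace_of_quasiSeparated (D.map o.hom)
    have : LocallyOfFinitePresentation (strι (L l.castSucc) (L l.succ)) := strι_lfp _ (hLfg _)
    obtain ⟨_, _⟩ := strι_qcqs (L l.castSucc) (hLfg l.succ)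
    have hlfp : LocallyOfFinitePresentation (strι (L l.castSucc) (L l.succ) ≫
        (show DY.obj o ⟶ D.obj o.left from pullback.snd a (D.map o.hom))) :=
      MorphismProperty.comp_mem @LocallyOfFinitePresentation _ _ ‹_›
        (MorphismProperty.pullback_snd (P := @LocallyOfFinitePresentation) _ _ ha)
    refine Lim60.descProp_smooth.desc D c hc o.left
      (strι (L l.castSucc) (L l.succ) ≫ pullback.snd a (D.map o.hom)) hlfp ?_
    obtain ⟨l', hl'⟩ := exists_isPullback (cY.π.app o) (L l.castSucc) (L l.succ)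
    have hY : IsPullback (cY.π.app o) (pullback.snd a (c.π.app i)) (pullback.snd a (D.map o.hom))
        (c.π.app o.left) := by
      refine IsPullback.of_right (h₁₂ := pullback.fst a (D.map o.hom)) (h₂₂ := D.map o.hom) (v₁₃ := a)
        ?_ (pullback.lift_snd _ _ _) (IsPullback.of_hasPullback a (D.map o.hom))
      rw [c.w]
      have e : cY.π.app o ≫ pullback.fst a (D.map o.hom) = pullback.fst a (c.π.app i) := pullback.lift_fst _ _ _
      erw [e]
      exact IsPullback.of_hasPullback a (c.π.app i)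
    refine (LimDesc62.prop_iff_of_isPullback (hl'.paste_vert hY)).1 ?_
    have h := hsm l
    rw [← Category.assoc] at h
    rw [hLc, hLc]
    exact h
  choose j φ hj using hs'
  obtain ⟨m, ψ, ξ, hξ⟩ := LimDesc62.DescProp.exists_common φ
  -- a common stage
  let o₃ : Over i := Over.mk (ψ ≫ o.hom)
  let φ₃ : o₃ ⟶ o := Over.homMk ψ rfl
  obtain ⟨r, a₁, a₂, a₃, ⟨e₁₂, e₁₃⟩⟩ : ∃ (r : Over i) (a₁ : r ⟶ q₁) (a₂ : r ⟶ q₂) (a₃ : r ⟶ o₃),
      a₁ ≫ φ₁ = a₂ ≫ φ₂ ∧ a₁ ≫ φ₁ = a₃ ≫ φ₃ := by
    obtain ⟨r₀, b₁, b₂, hb⟩ := IsCofiltered.cospan φ₁ φ₂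
    obtain ⟨r, b₃, a₃, hb'⟩ := IsCofiltered.cospan (b₁ ≫ φ₁) φ₃
    exact ⟨r, b₃ ≫ b₁, b₃ ≫ b₂, a₃, by simp [hb], by simpa using hb'⟩
  refine ⟨r.left, r.hom, t, fun l => (L l).comap (DY.map (a₃ ≫ φ₃)),
    fun l l' h => Scheme.IdealSheafData.comap_mono _ (hLmono h), ?_, ?_, fun l => (hLfg l).comap _,
    fun l => ?_⟩
  · show (L (Fin.last t)).comap _ = ⊤
    rw [← e₁₃, DY.map_comp]
    erw [Scheme.IdealSheafData.comap_comp, hq₁]
    exact (comap_eq_top_iff _ _).2 fun x h => by simp at h; exact h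
  · refine Set.eq_univ_of_forall fun x => ?_
    show x ∈ ((L 0).comap _).support
    rw [Scheme.IdealSheafData.support_comap]
    show DY.map (a₃ ≫ φ₃) x ∈ (L 0).support
    rw [← e₁₃, e₁₂, DY.map_comp, Scheme.Hom.comp_apply]
    exact hq₂.ge (Set.mem_univ _)
  · obtain ⟨l', hl'⟩ := exists_isPullback (DY.map (a₃ ≫ φ₃)) (L l.castSucc) (L l.succ)
    have hsq := hl'.paste_vert (LimTop61.bcDiagram_map_isPullback D a (a₃ ≫ φ₃))
    have hw : (a₃.left ≫ ξ l) ≫ φ l = (a₃ ≫ φ₃).left := by
      rw [Category.assoc, hξ l]; rfl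
    have hj' := LimDesc62.DescProp.snd_map (P := @Smooth) D
      (strι (L l.castSucc) (L l.succ) ≫ pullback.snd a (D.map o.hom)) (φ l) (a₃.left ≫ ξ l) (hj l)
    rw [hw] at hj'
    have := (LimDesc62.prop_iff_of_isPullback (P := @Smooth) hsq).2 hj'
    erw [Category.assoc] at this
    exact this

end Groth.Agent.FlatMor68.SmoothStrat
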