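import Groth.Agent.FlatMor68.SmoothStrat

/-!
Every morphism of finite presentation has, over a stratification of the base, a smooth stratification
after a finite locally free radicial cover.
-/

set_option autoImplicit false
set_option backward.isDefEq.respectTransparency.types false
set_option linter.style.haveILetI false
universe u

open CategoryTheory CategoryTheory.Limits AlgebraicGeometry TopologicalSpace

noncomputable section

namespace Groth.Agent.FlatMor68.SmoothStratBase

open StrataChain SmoothStrat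

variable {X S : Scheme.{u}} (f : X ⟶ S)

/-- After a finite locally free radicial cover the pullback has a smooth stratification. -/
def Q {Z : Scheme.{u}} (t : Z ⟶ S) : Prop :=
  ∃ (T : Scheme.{u}) (v : T ⟶ Z), Surjective v ∧ UniversallyInjective v ∧ Mor2.IsFinLocFree v ∧
    Strat (pullback.snd f (v ≫ t))

theorem strat_of_isPullback {Y T Y' T' : Scheme.{u}} {g : Y ⟶ T} {g' : Y' ⟶ T'} {m : Y' ⟶ Y}
    {b : T' ⟶ T} (h : IsPullback m g' g b) (hg : Strat g) : Strat g' :=
  strat_stable.of_isPullback h hg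

/-- Pullbacks along composites. -/
theorem map_isPullback {Z Z' : Scheme.{u}} (w : Z' ⟶ Z) (a : Z ⟶ S) :
    IsPullback (pullback.map f (w ≫ a) f a (𝟙 X) w (𝟙 S) (by simp) (by simp)) (pullback.snd f (w ≫ a))
      (pullback.snd f a) w := by
  refine IsPullback.of_right (h₁₂ := pullback.fst f a) (h₂₂ := a) (v₁₃ := f) ?_
    (pullback.lift_snd _ _ _) (IsPullback.of_hasPullback f a)
  rw [pullback.lift_fst, Category.comp_id]
  exact IsPullback.of_hasPullback f (w ≫ a)

theorem strat_comp {Z Z' : Scheme.{u}} (w : Z' ⟶ Z) (a : Z ⟶ S) (h : Strat (pullback.snd f a)) :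
    Strat (pullback.snd f (w ≫ a)) :=
  strat_of_isPullback (map_isPullback f w a) h

theorem strat_congr {Z : Scheme.{u}} {a a' : Z ⟶ S} (h : a = a') (hs : Strat (pullback.snd f a)) :
    Strat (pullback.snd f a') := by
  subst h; exact hs

theorem stable : FlatMor67.StratLocal.Stable (S := S) (fun {Z} t => Q f (Z := Z) t) := by
  rintro Z Z' w t ⟨T, v, hs, hu, ⟨hfin, hflat, hlfp⟩, hstr⟩
  refine ⟨pullback v w, pullback.snd v w, inferInstance,
    MorphismProperty.pullback_snd (P := @UniversallyInjective) _ _ hu,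
    ⟨MorphismProperty.pullback_snd (P := @IsFinite) _ _ hfin,
      MorphismProperty.pullback_snd (P := @Flat) _ _ hflat,
      MorphismProperty.pullback_snd (P := @LocallyOfFinitePresentation) _ _ hlfp⟩, ?_⟩
  exact strat_congr f (pullback.condition_assoc _) (strat_comp f _ _ hstr)

theorem of_isEmpty {Z : Scheme.{u}} (t : Z ⟶ S) [IsEmpty Z] : Q f t := by
  have : IsEmpty (pullback f (𝟙 Z ≫ t) : Scheme.{u}) := Function.isEmpty (pullback.snd f (𝟙 Z ≫ t))
  exact ⟨Z, 𝟙 Z, inferInstance, inferInstance, ⟨inferInstance, inferInstance, inferInstance⟩,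
    strat_of_isEmpty _⟩

/-- Over a field. -/
theorem of_field [LocallyOfFinitePresentation f] [QuasiCompact f] {K : Type u} [Field K]
    (t : Spec (CommRingCat.of K) ⟶ S) : Q f t := by
  let F : Scheme.{u} := pullback f t
  letI : F.Over (Spec (CommRingCat.of K)) := ⟨pullback.snd f t⟩
  have : LocallyOfFiniteType (F ↘ Spec (CommRingCat.of K)) :=
    inferInstanceAs (LocallyOfFiniteType (pullback.snd f t))
  have : QuasiCompact (F ↘ Spec (CommRingCat.of K)) := inferInstanceAs (QuasiCompact (pullback.snd f t))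
  obtain ⟨K', _, _, _, _, n, I, hmono, h0, hlast, hsm⟩ := S7632.result K F
  let v : Spec (CommRingCat.of K') ⟶ Spec (CommRingCat.of K) := Spec.map (CommRingCat.ofHom (algebraMap K K'))
  have hfp : Algebra.FinitePresentation K K' :=
    (Algebra.FinitePresentation.of_finiteType).1 inferInstance
  have hv : IsFinite v := (IsFinite.SpecMap_iff _).2 (RingHom.finite_algebraMap.2 inferInstance)
  refine ⟨_, v, ⟨fun x => ⟨(⊥ : PrimeSpectrum K'), Subsingleton.elim (α := PrimeSpectrum K) _ x⟩⟩, ?_,
    ⟨hv, (HasRingHomProperty.Spec_iff (P := @Flat)).2 (RingHom.flat_algebraMap_iff.2 inferInstance),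
      (HasRingHomProperty.Spec_iff (P := @LocallyOfFinitePresentation)).2
        (RingHom.finitePresentation_algebraMap.2 hfp)⟩, ?_⟩
  · refine ((tfae_universallyInjective v).out 0 1).mpr ?_
    intro k _ g₁ g₂ e
    obtain ⟨a, rfl⟩ := Spec.map_surjective g₁
    obtain ⟨b, rfl⟩ := Spec.map_surjective g₂
    replace e := Spec.map_injective ((Spec.map_comp _ _).trans (e.trans (Spec.map_comp _ _).symm))
    congr 1
    exact CommRingCat.hom_ext (IsPurelyInseparable.injective_comp_algebraMap K K' k
      (congrArg (fun w => w.hom) e))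
  have hY : IsPullback (Curv2.bcFst K F K' ≫ pullback.fst f t) (Curv2.bcSnd K F K') f (v ≫ t) :=
    (IsPullback.of_hasPullback (pullback.snd f t) v).paste_horiz (IsPullback.of_hasPullback f t)
  have : IsLocallyNoetherian (Curv2.bc K F K') := by
    have : LocallyOfFiniteType (Curv2.bcSnd K F K') :=
      inferInstanceAs (LocallyOfFiniteType (pullback.snd (F ↘ Spec (CommRingCat.of K)) v))
    exact LocallyOfFiniteType.isLocallyNoetherian (Curv2.bcSnd K F K')
  refine strat_of_isPullback (g := Curv2.bcSnd K F K') (m := hY.isoPullback.inv) (b := 𝟙 _)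
    (IsPullback.of_horiz_isIso ⟨by simp⟩) ⟨n, I, hmono, hlast, ?_, fun i => fg_of_locallyNoetherian _, hsm⟩
  rw [h0, Scheme.IdealSheafData.coe_support_vanishingIdeal]
  rfl

section Descent

variable {I : Type u} [SmallCategory I] [IsCofiltered I] (D : I ⥤ Scheme.{u}) (c : Cone D) (hc : IsLimit c)
  [∀ (i j : I) (f : i ⟶ j), IsAffineHom (D.map f)] [∀ i, CompactSpace (D.obj i)]
  [∀ i, QuasiSeparatedSpace (D.obj i)] (tS : D ⟶ (Functor.const I).obj S)

include hc in
/-- The condition over a limit comes from a stage. -/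
theorem exists_stage [LocallyOfFinitePresentation f] [QuasiCompact f] [QuasiSeparated f]
    (h : ∀ i, Q f (c.π.app i ≫ tS.app i)) : ∃ j : I, Q f (tS.app j) := by
  obtain ⟨i₀⟩ := IsCofiltered.nonempty (C := I)
  obtain ⟨T, v, hsur, hui, ⟨hfin, hflat, hlfp⟩, hstr⟩ := h i₀
  obtain ⟨i₁, T₁, v₁, q, hv1, hv2, hv3, sq⟩ := Approx60.S0591 D c hc T v
  obtain ⟨ja, φa, hja⟩ := Lim60.descProp_isFinite.desc D c hc i₁ v₁
    (inferInstanceAs (LocallyOfFiniteType v₁)) ((LimDesc62.prop_iff_of_isPullback (P := @IsFinite) sq).1 hfin)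
  obtain ⟨jb, φb, hjb⟩ := Approx60.descProp_flat.desc D c hc i₁ v₁ hv1
    ((LimDesc62.prop_iff_of_isPullback (P := @Flat) sq).1 hflat)
  obtain ⟨jc, φc, hjc⟩ := LimDesc62.descProp_surjective.desc D c hc i₁ v₁ hv1
    ((LimDesc62.prop_iff_of_isPullback (P := @Surjective) sq).1 hsur)
  obtain ⟨jd, φd, hjd⟩ := LimDesc62.descProp_universallyInjective.desc D c hc i₁ v₁
    (inferInstanceAs (LocallyOfFiniteType v₁))
    ((LimDesc62.prop_iff_of_isPullback (P := @UniversallyInjective) sq).1 hui)
  -- common stage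
  obtain ⟨m, ψ, χ, hχ⟩ := LimDesc62.DescProp.exists_common (j := ![ja, jb, jc, jd]) (i := i₁)
    (fun n => match n with | 0 => φa | 1 => φb | 2 => φc | 3 => φd)
  obtain ⟨e₀, b, b', -⟩ := IsCofilteredOrEmpty.cone_objs m i₀
  let o : I := e₀
  let ψ' : o ⟶ i₁ := b ≫ ψ
  have eh : ∀ {P : MorphismProperty Scheme.{u}} [P.IsStableUnderBaseChange] {j} (φ : j ⟶ i₁)
      (χ₀ : m ⟶ j), χ₀ ≫ φ = ψ → P (pullback.snd v₁ (D.map φ)) → P (pullback.snd v₁ (D.map ψ')) :=
    fun φ χ₀ he hp => by
      show _
      have := LimDesc62.DescProp.snd_map D v₁ φ (b ≫ χ₀) hp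
      rwa [Category.assoc, he] at this
  let To := pullback v₁ (D.map ψ')
  let vo : To ⟶ D.obj o := pullback.snd v₁ (D.map ψ')
  have : IsFinite vo := eh φa (χ 0) (hχ 0) hja
  have : Flat vo := eh φb (χ 1) (hχ 1) hjb
  have : Surjective vo := eh φc (χ 2) (hχ 2) hjc
  have hu : UniversallyInjective vo := eh φd (χ 3) (hχ 3) hjd
  have : LocallyOfFinitePresentation vo :=
    MorphismProperty.pullback_snd (P := @LocallyOfFinitePresentation) _ _ hv1
  have : CompactSpace To := QuasiCompact.compactSpace_of_compactSpace vo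
  have : QuasiSeparatedSpace To := quasiSeparatedSpace_of_quasiSeparated vo
  let qo : T ⟶ To := pullback.lift q (v ≫ c.π.app o) (by rw [sq.w, Category.assoc, c.w])
  have sqo : IsPullback qo v vo (c.π.app o) := by
    refine IsPullback.of_right (h₁₂ := pullback.fst v₁ (D.map ψ')) (h₂₂ := D.map ψ') (v₁₃ := v₁) ?_
      (pullback.lift_snd _ _ _) (IsPullback.of_hasPullback v₁ (D.map ψ'))
    rw [c.w, pullback.lift_fst]
    exact sq
  -- the pullback of `f` over the diagram above `o`
  let ao : pullback f (vo ≫ tS.app o) ⟶ To := pullback.snd f (vo ≫ tS.app o)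
  have hk : c.π.app o ≫ tS.app o = c.π.app i₀ ≫ tS.app i₀ := by
    have := tS.naturality b'
    simp only [Functor.const_obj_obj, Functor.const_obj_map, Category.comp_id] at this
    rw [← this, c.w_assoc]
  have hlim : Strat (pullback.snd ao (pullback.fst vo (c.π.app o))) := by
    have := strat_stable.{u}
    refine (LimDesc62.prop_iff_of_isPullback (P := Strat)
      (map_isPullback f (pullback.fst vo (c.π.app o)) (vo ≫ tS.app o))).1 ?_
    have e : pullback.fst vo (c.π.app o) ≫ vo ≫ tS.app o =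
        sqo.isoPullback.inv ≫ v ≫ c.π.app i₀ ≫ tS.app i₀ := by
      rw [IsPullback.isoPullback_inv_snd_assoc, pullback.condition_assoc, hk]
    exact strat_congr f e.symm (strat_comp f _ _ hstr)
  have := strat_stable.{u}
  have : LocallyOfFinitePresentation ao := inferInstanceAs (LocallyOfFinitePresentation (pullback.snd f _))
  have : QuasiCompact ao := inferInstanceAs (QuasiCompact (pullback.snd f _))
  have : QuasiSeparated ao := inferInstanceAs (QuasiSeparated (pullback.snd f _))
  obtain ⟨p, π, hp⟩ := descProp_strat.rel D c hc o vo ao ‹_› hlim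
  refine ⟨p, pullback vo (D.map π), pullback.snd vo (D.map π), inferInstance,
    MorphismProperty.pullback_snd (P := @UniversallyInjective) _ _ hu,
    ⟨inferInstance, inferInstance, inferInstance⟩, ?_⟩
  have hn : D.map π ≫ tS.app o = tS.app p := by
    have := tS.naturality π
    simpa only [Functor.const_obj_obj, Functor.const_obj_map, Category.comp_id] using this
  exact strat_congr f ((pullback.condition_assoc _).trans (congrArg (_ ≫ ·) hn))
    ((LimDesc62.prop_iff_of_isPullback (P := Strat)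
      (map_isPullback f (pullback.fst vo (D.map π)) (vo ≫ tS.app o))).2 hp)

end Descent

theorem local_q [LocallyOfFinitePresentation f] [QuasiCompact f] [QuasiSeparated f] :
    FlatMor67.StratLocal.Local (S := S) (fun {Z} t => Q f (Z := Z) t) := by
  intro A _ u _ p
  have : ∀ i, CompactSpace ((Cons62.ResLimit.D p.asIdeal).obj i) :=
    fun i => inferInstanceAs (CompactSpace (Spec (_ : CommRingCat)))
  have : ∀ i, QuasiSeparatedSpace ((Cons62.ResLimit.D p.asIdeal).obj i) :=
    fun i => inferInstanceAs (QuasiSeparatedSpace (Spec (_ : CommRingCat)))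
  let tS : Cons62.ResLimit.D p.asIdeal ⟶ (Functor.const _).obj S :=
    { app := fun i => Cons62.ResLimit.toBase p.asIdeal i ≫ u
      naturality := fun i j a => by simp [reassoc_of% (Cons62.ResLimit.map_toBase p.asIdeal a)] }
  obtain ⟨j, hj⟩ := exists_stage f _ (Cons62.ResLimit.c p.asIdeal) (Cons62.ResLimit.isLimit p.asIdeal) tS
    (fun i => of_field f (K := p.asIdeal.ResidueField) _)
  exact FlatMor67.StratLocal.exists_piece_of_stage _ (stable f) u p j hj

/-- The stratification of the base. -/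
theorem t9789 [LocallyOfFinitePresentation f] [QuasiCompact f] [QuasiSeparated f]
    [CompactSpace S] [QuasiSeparatedSpace S] :
    ∃ (t : ℕ) (I : Fin (t + 1) → S.IdealSheafData), Monotone I ∧ I (Fin.last t) = ⊤ ∧ ((I 0).support : Set ↑S) = Set.univ ∧
      (∀ i, ∀ U : S.affineOpens, ((I i).ideal U).FG) ∧
      ∀ i : Fin t, ∃ (T : Scheme.{u}) (v : T ⟶ ↑((I i.castSucc).subschemeι ⁻¹ᵁ (I i.succ).support.compl)),
        Surjective v ∧ Mor2.IsFinLocFree v ∧
        ∃ (t' : ℕ) (J : Fin (t' + 1) → (pullback f (v ≫ ((I i.castSucc).subschemeι ⁻¹ᵁ (I i.succ).support.compl).ι ≫ (I i.castSucc).subschemeι)).IdealSheafData),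
          Monotone J ∧ J (Fin.last t') = ⊤ ∧ ((J 0).support : Set ↑(pullback f (v ≫ ((I i.castSucc).subschemeι ⁻¹ᵁ (I i.succ).support.compl).ι ≫ (I i.castSucc).subschemeι))) = Set.univ ∧
          (∀ j, ∀ O : (pullback f (v ≫ ((I i.castSucc).subschemeι ⁻¹ᵁ (I i.succ).support.compl).ι ≫ (I i.castSucc).subschemeι)).affineOpens, ((J j).ideal O).FG) ∧
          ∀ j : Fin t', Smooth (((J j.castSucc).subschemeι ⁻¹ᵁ (J j.succ).support.compl).ι ≫ (J j.castSucc).subschemeι ≫ pullback.snd f (v ≫ ((I i.castSucc).subschemeι ⁻¹ᵁ (I i.succ).support.compl).ι ≫ (I i.castSucc).subschemeι)) := by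
  obtain ⟨t, I, hmono, h0, hlast, hfg, hQ⟩ := exists_stratification (fun {Z} t => Q f (Z := Z) t)
    (stable f) (fun z => of_isEmpty f z) (local_q f)
  refine ⟨t, I, hmono, hlast, ?_, hfg, fun i => ?_⟩
  · rw [h0]; simp
  · obtain ⟨T, v, h1, -, h3, h4⟩ := hQ i
    exact ⟨T, v, h1, h3, h4⟩

/-- The statement near a generic point of the base. -/
theorem t1456 [LocallyOfFinitePresentation f] [QuasiCompact f] [QuasiSeparated f] [IsReduced S]
    (η : S) (W : Set ↑S) (hW : W ∈ irreducibleComponents ↑S) (hη : IsGenericPoint η W) :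
    ∃ (U : S.Opens) (V : Scheme.{u}) (v : V ⟶ (U : Scheme.{u})), η ∈ U ∧ Surjective v ∧ UniversallyInjective v ∧ Mor2.IsFinLocFree v ∧
      ∃ (t : ℕ) (J : Fin (t + 1) → (pullback f (v ≫ U.ι)).IdealSheafData), Monotone J ∧ J (Fin.last t) = ⊤ ∧
        ((J 0).support : Set ↑(pullback f (v ≫ U.ι))) = Set.univ ∧ (∀ i, ∀ O : (pullback f (v ≫ U.ι)).affineOpens, ((J i).ideal O).FG) ∧
        ∀ i : Fin t, Smooth (((J i.castSucc).subschemeι ⁻¹ᵁ (J i.succ).support.compl).ι ≫ (J i.castSucc).subschemeι ≫ pullback.snd f (v ≫ U.ι)) := by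
  classical
  obtain ⟨_, ⟨U₀, hU₀, rfl⟩, hηU, -⟩ := S.isBasis_affineOpens.exists_subset_of_mem_open (Set.mem_univ η) isOpen_univ
  let A : Type u := Γ(S, U₀)
  have : _root_.IsReduced A := IsReduced.component_reduced U₀
  let u : Spec (CommRingCat.of A) ⟶ S := hU₀.fromSpec
  have : IsOpenImmersion u := hU₀.isOpenImmersion_fromSpec
  obtain ⟨p, hp⟩ : ∃ p : PrimeSpectrum A, u p = η := hU₀.range_fromSpec.ge hηU
  have hpmin : p.asIdeal ∈ minimalPrimes A := by
    rw [minimalPrimes_eq_minimals]
    refine ⟨p.2, fun q hq hle => ?_⟩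
    have hsp : (⟨q, hq⟩ : PrimeSpectrum A) ⤳ p := (PrimeSpectrum.le_iff_specializes _ _).1 hle
    have hsp' : u (⟨q, hq⟩ : PrimeSpectrum A) ⤳ η := hp ▸ hsp.map u.continuous
    have hc : W ⊆ closure {u (⟨q, hq⟩ : PrimeSpectrum A)} := by
      rw [← hη]
      exact closure_minimal (Set.singleton_subset_iff.2 (specializes_iff_mem_closure.1 hsp'))
        isClosed_closure
    have e : W = closure {u (⟨q, hq⟩ : PrimeSpectrum A)} :=
      subset_antisymm hc (hW.2 isIrreducible_singleton.closure hc)
    have hh : IsGenericPoint (u (⟨q, hq⟩ : PrimeSpectrum A)) W := e.symm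
    have := u.isOpenEmbedding.injective ((hh.eq hη).trans hp.symm)
    rw [← this]
  obtain ⟨q, hpq, hq⟩ := local_q f A u p
  have hkill : ∀ g ∈ q.2, ∃ h ∉ p.asIdeal, h * g = 0 := by
    intro g hg
    have : Ideal.IsPrime p.asIdeal := p.2
    have : Subsingleton (PrimeSpectrum (Localization.AtPrime p.asIdeal)) := by
      refine ⟨fun a b => ?_⟩
      refine PrimeSpectrum.localization_comap_injective (Localization.AtPrime p.asIdeal) p.asIdeal.primeCompl ?_
      have key : ∀ a : PrimeSpectrum (Localization.AtPrime p.asIdeal),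
          (PrimeSpectrum.comap (algebraMap A _) a).asIdeal = p.asIdeal := by
        intro a
        have hle : (PrimeSpectrum.comap (algebraMap A _) a).asIdeal ≤ p.asIdeal := by
          intro x hx
          by_contra hxp
          exact a.2.ne_top (Ideal.eq_top_of_isUnit_mem _ hx
            (IsLocalization.map_units (M := p.asIdeal.primeCompl) (Localization.AtPrime p.asIdeal) ⟨x, hxp⟩))
        exact le_antisymm hle (hpmin.2 ⟨(PrimeSpectrum.comap (algebraMap A _) a).2, bot_le⟩ hle)
      exact PrimeSpectrum.ext ((key a).trans (key b).symm)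
    have hnil : IsNilpotent (algebraMap A (Localization.AtPrime p.asIdeal) g) := by
      rw [nilpotent_iff_mem_prime]
      intro J hJ
      have e : (⟨J, hJ⟩ : PrimeSpectrum (Localization.AtPrime p.asIdeal)) = IsLocalRing.closedPoint _ :=
        Subsingleton.elim _ _
      have hJ' : J = IsLocalRing.maximalIdeal _ := congrArg PrimeSpectrum.asIdeal e
      rw [hJ']
      exact (IsLocalization.AtPrime.to_map_mem_maximal_iff _ p.asIdeal g).2 (hpq.2 hg)
    obtain ⟨⟨h, hh⟩, he⟩ := (IsLocalization.map_eq_zero_iff p.asIdeal.primeCompl _ g).1 hnil.eq_zero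
    exact ⟨h, hh, he⟩
  choose! h hhp hh0 using hkill
  let c : A := q.1 * ∏ g ∈ q.2, h g
  have hc : c ∉ p.asIdeal := fun hm => by
    rcases p.2.mem_or_mem hm with hm | hm
    · exact hpq.1 hm
    · obtain ⟨g, hg, hgm⟩ := Ideal.IsPrime.prod_mem_iff.mp hm
      exact hhp g hg hgm
  let O : (Spec (CommRingCat.of A)).Opens := PrimeSpectrum.basicOpen c
  refine (?_ : ∀ U : S.Opens, η ∈ U → Q f U.ι → _) (u ''ᵁ O) ⟨p, hc, hp⟩ ?_
  · rintro U hU ⟨V, v, h1, h2, h3, h4⟩
    exact ⟨U, V, v, hU, h1, h2, h3, h4⟩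
  have hc' : IsUnit (algebraMap A (Localization.Away c) c) := IsLocalization.Away.algebraMap_isUnit c
  let l0 : Localization.Away q.1 →ₐ[A] Localization.Away c :=
    IsLocalization.liftAlgHom (M := Submonoid.powers q.1) (f := Algebra.ofId A (Localization.Away c)) (by
      rintro ⟨_, k, rfl⟩
      have : IsUnit (algebraMap A (Localization.Away c) q.1) :=
        isUnit_of_dvd_unit (map_dvd _ (dvd_mul_right _ _)) hc'
      show IsUnit (algebraMap A (Localization.Away c) (q.1 ^ k))
      rw [map_pow]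
      exact this.pow k)
  let l : FlatMor66.CDStrat.Piece q.1 q.2 →ₐ[A] Localization.Away c :=
    Ideal.Quotient.liftₐ _ l0 fun x hx => by
      refine (Ideal.map_le_iff_le_comap.2 (Ideal.span_le.2 fun g hg => ?_) : _ ≤ RingHom.ker l0.toRingHom) hx
      show l0 (algebraMap A (Localization.Away q.1) g) = 0
      rw [AlgHom.commutes]
      have hu : IsUnit (algebraMap A (Localization.Away c) (h g)) :=
        isUnit_of_dvd_unit (map_dvd _ ((Finset.dvd_prod_of_mem _ (Finset.mem_coe.1 hg)).trans
          (dvd_mul_left _ _))) hc'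
      exact (hu.mul_right_eq_zero).1 (by rw [← map_mul, hh0 g (Finset.mem_coe.1 hg), map_zero])
  let j : Spec (CommRingCat.of (Localization.Away c)) ⟶ S :=
    Spec.map (CommRingCat.ofHom (algebraMap A (Localization.Away c))) ≫ u
  have : IsOpenImmersion (Spec.map (CommRingCat.ofHom (algebraMap A (Localization.Away c)))) :=
    IsOpenImmersion.of_isLocalization c
  have : IsOpenImmersion j := inferInstanceAs (IsOpenImmersion (_ ≫ _))
  have hj : Q f j := by
    have e : j = Spec.map (CommRingCat.ofHom l.toRingHom) ≫ FlatMor67.StratLocal.pieceι q ≫ u := by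
      show _ ≫ u = _
      rw [← Category.assoc, ← Spec.map_comp]
      congr 2
      exact CommRingCat.hom_ext (RingHom.ext fun a => (l.commutes a).symm)
    rw [e]
    exact stable f _ _ hq
  have hr : Set.range (u ''ᵁ O).ι ⊆ Set.range j := by
    rw [Scheme.Opens.range_ι]
    rintro _ ⟨x, hx, rfl⟩
    obtain ⟨y, rfl⟩ : x ∈ Set.range (PrimeSpectrum.comap (algebraMap A (Localization.Away c))) := by
      rw [PrimeSpectrum.localization_away_comap_range (Localization.Away c) c]
      exact hx
    exact ⟨y, rfl⟩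
  rw [← IsOpenImmersion.lift_fac j (u ''ᵁ O).ι hr]
  exact stable f _ _ hj

end Groth.Agent.FlatMor68.SmoothStratBase
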