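import Groth.Agent.FlatMor68.PullbackNatural
import Groth.Agent.FlatMor68.FibreFree
import Groth.Agent.Div89.HomSheaf
import Groth.Prelude.Def_CohB1

set_option backward.isDefEq.respectTransparency.types false
set_option linter.style.haveILetI false
set_option autoImplicit false
universe u

open CategoryTheory CategoryTheory.Limits AlgebraicGeometry TopologicalSpace TensorProduct IsLocalRing
open Groth.Agent.QC70

namespace Groth.Agent.FlatMor68.SplitMono

variable {X Y Z : Scheme.{u}}

/-- A locally split monomorphism of modules. -/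
def LocSplit {F V : X.Modules} (u : F ⟶ V) : Prop :=
  ∀ x : X, ∃ U : X.Opens, x ∈ U ∧
    ∃ r : (Scheme.Modules.pullback U.ι).obj V ⟶ (Scheme.Modules.pullback U.ι).obj F,
      (Scheme.Modules.pullback U.ι).map u ≫ r = 𝟙 _

theorem split_congr {C D : Type*} [Category C] [Category D] {A B : C ⥤ D} (η : A ≅ B) {F V : C} (u : F ⟶ V)
    (h : ∃ r : A.obj V ⟶ A.obj F, A.map u ≫ r = 𝟙 _) : ∃ r : B.obj V ⟶ B.obj F, B.map u ≫ r = 𝟙 _ := by
  obtain ⟨r, hr⟩ := h
  refine ⟨η.inv.app V ≫ r ≫ η.hom.app F, ?_⟩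
  rw [← Category.assoc, η.inv.naturality, Category.assoc, ← Category.assoc (A.map u), hr, Category.id_comp,
    ← NatTrans.comp_app, η.inv_hom_id, NatTrans.id_app]

theorem split_map {C D : Type*} [Category C] [Category D] (A : C ⥤ D) {F V : C} {u : F ⟶ V}
    (h : ∃ r : V ⟶ F, u ≫ r = 𝟙 _) : ∃ r : A.obj V ⟶ A.obj F, A.map u ≫ r = 𝟙 _ := by
  obtain ⟨r, hr⟩ := h
  exact ⟨A.map r, by rw [← A.map_comp, hr, A.map_id]⟩

theorem split_pullback_comp {F V : Z.Modules} (f : X ⟶ Y) (g : Y ⟶ Z) (k : X ⟶ Z) (hk : f ≫ g = k) (u : F ⟶ V)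
    (h : ∃ r : (Scheme.Modules.pullback g).obj V ⟶ (Scheme.Modules.pullback g).obj F,
      (Scheme.Modules.pullback g).map u ≫ r = 𝟙 _) :
    ∃ r : (Scheme.Modules.pullback k).obj V ⟶ (Scheme.Modules.pullback k).obj F,
      (Scheme.Modules.pullback k).map u ≫ r = 𝟙 _ :=
  split_congr (Scheme.Modules.pullbackComp f g ≪≫ Scheme.Modules.pullbackCongr hk) u
    (split_map (Scheme.Modules.pullback f) h)

/-- Locally split monomorphisms pull back. -/
theorem locSplit_pullback (h : Y ⟶ X) {F V : X.Modules} {u : F ⟶ V} (hu : LocSplit u) :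
    LocSplit ((Scheme.Modules.pullback h).map u) := by
  intro y
  obtain ⟨U, hxU, hr⟩ := hu (h y)
  refine ⟨h ⁻¹ᵁ U, hxU, ?_⟩
  exact split_congr (Scheme.Modules.pullbackComp (h ⁻¹ᵁ U).ι h).symm u
    (split_pullback_comp (h ∣_ U) U.ι _ (morphismRestrict_ι h U) u hr)

theorem locSplit_congr {A B : X.Modules ⥤ Y.Modules} (η : A ≅ B) {F V : X.Modules} {u : F ⟶ V}
    (h : LocSplit (A.map u)) : LocSplit (B.map u) := by
  intro y
  obtain ⟨U, hyU, hr⟩ := h y
  exact ⟨U, hyU, split_congr (Functor.isoWhiskerRight η (Scheme.Modules.pullback U.ι)) u hr⟩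

/-- At a point with a local retraction after pull back, the map on the residue field is injective. -/
theorem injective_residue (h : Y ⟶ X) {F V : X.Modules} [F.IsQuasicoherent] [V.IsQuasicoherent] (u : F ⟶ V) (y : Y)
    (hr : ∃ r : (Scheme.Modules.pullback h).obj V ⟶ (Scheme.Modules.pullback h).obj F,
      (Scheme.Modules.pullback h).map u ≫ r = 𝟙 _) :
    Function.Injective ((stalkLinear u (h y)).lTensor (ResidueField (X.presheaf.stalk (h y)))) := by
  obtain ⟨r, hr⟩ := hr
  obtain ⟨U, W, hU, hW, hyW, e⟩ := QCPull72.exists_affine_le h y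
  letI := (h.stalkMap y).hom.toAlgebra
  let A := X.presheaf.stalk (h y)
  let B := Y.presheaf.stalk y
  let v := stalkLinear u (h y)
  let eF := PullbackNatural.stalkEquiv h hU hW e F hyW
  let eV := PullbackNatural.stalkEquiv h hU hW e V hyW
  have hid : ∀ t, stalkMapM r y (stalkMapM ((Scheme.Modules.pullback h).map u) y t) = t := by
    intro t
    obtain ⟨O, hO, m, rfl⟩ := germM_exist t
    rw [stalkMapM_germ, stalkMapM_germ]
    have h1 := congrArg (fun φ : (Scheme.Modules.pullback h).obj F ⟶ (Scheme.Modules.pullback h).obj F => φ.app O m) hr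
    exact congrArg (germM _ O y hO) h1
  let L : B ⊗[A] V.presheaf.stalk (h y) →ₗ[B] B ⊗[A] F.presheaf.stalk (h y) :=
    eF.toLinearMap ∘ₗ stalkLinear r y ∘ₗ eV.symm.toLinearMap
  have hL : ∀ t, L (v.baseChange B t) = t := by
    intro t
    obtain ⟨t, rfl⟩ := eF.surjective t
    have h1 : v.baseChange B (eF t) = eV (stalkMapM ((Scheme.Modules.pullback h).map u) y t) :=
      (PullbackNatural.stalkEquiv_natural h u hU hW e hyW t).symm
    rw [h1]
    show eF (stalkMapM r y (eV.symm (eV _))) = eF t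
    rw [LinearEquiv.symm_apply_apply, hid]
  haveI : IsLocalHom (algebraMap A B) := h.toLRSHom.prop y
  let k := ResidueField A
  let K := ResidueField B
  have hK : Function.Injective (v.lTensor K) := by
    let cF := AlgebraTensorModule.cancelBaseChange A B B K (F.presheaf.stalk (h y))
    let cV := AlgebraTensorModule.cancelBaseChange A B B K (V.presheaf.stalk (h y))
    have hi : Function.Injective ((v.baseChange B).lTensor K) := by
      have : L.lTensor K ∘ₗ (v.baseChange B).lTensor K = .id := by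
        rw [← LinearMap.lTensor_comp, show L ∘ₗ v.baseChange B = .id from LinearMap.ext hL, LinearMap.lTensor_id]
      exact Function.HasLeftInverse.injective ⟨_, LinearMap.congr_fun this⟩
    have key : ∀ t, cV ((v.baseChange B).lTensor K t) = v.lTensor K (cF t) := by
      intro t
      induction t using TensorProduct.induction_on with
      | zero => simp
      | add a b ha hb => simp only [map_add, ha, hb]
      | tmul a b =>
        induction b using TensorProduct.induction_on with
        | zero => simp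
        | add c d hc hd => simp only [tmul_add, map_add, hc, hd]
        | tmul c d => rfl
    intro a b hab
    obtain ⟨a, rfl⟩ := cF.surjective a
    obtain ⟨b, rfl⟩ := cF.surjective b
    rw [← key, ← key] at hab
    exact congrArg cF (hi (cV.injective hab))
  let ι : k →ₗ[A] K := (IsScalarTower.toAlgHom A k K).toLinearMap
  have hι : ∀ M : Type u, ∀ [AddCommGroup M] [Module A M], Function.Injective (ι.rTensor M) := by
    intro M _ _
    let c := AlgebraTensorModule.cancelBaseChange A k k K M
    have h1 : Function.Injective (fun t : k ⊗[A] M => (1 : K) ⊗ₜ[k] t) :=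
      Module.FaithfullyFlat.tensorProduct_mk_injective (A := k) (B := K) (k ⊗[A] M)
    have key : ∀ t : k ⊗[A] M, ι.rTensor M t = c ((1 : K) ⊗ₜ[k] t) := by
      intro t
      induction t using TensorProduct.induction_on with
      | zero => simp
      | add a b ha hb => simp only [map_add, tmul_add, ha, hb]
      | tmul a b => simp [c, ι, Algebra.smul_def]
    intro a b hab
    rw [key, key] at hab
    exact h1 (c.injective hab)
  intro a b hab
  apply hι (F.presheaf.stalk (h y))
  apply hK
  show (v.lTensor K ∘ₗ ι.rTensor _) a = (v.lTensor K ∘ₗ ι.rTensor _) b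
  rw [LinearMap.lTensor_comp_rTensor, ← LinearMap.rTensor_comp_lTensor]
  exact congrArg (ι.rTensor _) hab

theorem homOn_mono_stalk {F G : X.Modules} {U V : X.Opens} (φ : HomOn F G U) (h : V ≤ U) (x : X) (hx : x ∈ V) :
    Div89.homOnStalk (φ.mono h) x hx = Div89.homOnStalk φ x (h hx) := by
  refine LinearMap.ext fun t => ?_
  obtain ⟨W, hxW, m, rfl⟩ := germM_exist t
  rw [← germM_res (inf_le_left : W ⊓ V ≤ W) (show x ∈ W ⊓ V from ⟨hxW, hx⟩) m]
  exact (Div89.homOnStalk_germ (φ.mono h) inf_le_right x ⟨hxW, hx⟩ _).trans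
    (Div89.homOnStalk_germ φ (inf_le_right.trans h) x ⟨hxW, hx⟩ _).symm

set_option maxHeartbeats 800000 in
/-- Injectivity on residue fields gives a local retraction. -/
theorem exists_retraction {F V : X.Modules} [F.IsQuasicoherent] [F.IsFiniteType] (hV : FlatMod.IsFinLocFree V)
    (u : F ⟶ V) (x : X)
    (h : Function.Injective ((stalkLinear u x).lTensor (ResidueField (X.presheaf.stalk x)))) :
    ∃ U : X.Opens, x ∈ U ∧ ∃ r : (Scheme.Modules.pullback U.ι).obj V ⟶ (Scheme.Modules.pullback U.ι).obj F,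
      (Scheme.Modules.pullback U.ι).map u ≫ r = 𝟙 _ := by
  haveI : CohB1.IsFP V := Props58.LocFree.isFP_of_isFinLocFree hV
  haveI : Module.Free (X.presheaf.stalk x) (V.presheaf.stalk x) := Props58.LocFree.free_stalk_of_isFinLocFree hV x
  haveI : Module.FinitePresentation (X.presheaf.stalk x) (V.presheaf.stalk x) := FibreFree.finitePresentation_stalk V x
  haveI : Module.Finite (X.presheaf.stalk x) (F.presheaf.stalk x) := Props58.LocFree.finite_stalk_of_isFiniteType (M := F) x
  obtain ⟨ρ, hρ⟩ := (IsLocalRing.split_injective_iff_lTensor_residueField_injective _).2 h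
  obtain ⟨θ, hθ⟩ := Div89.evalStalk_surjective V F x ρ
  obtain ⟨U, hxU, g, rfl⟩ := germM_exist θ
  rw [Div89.evalStalk_germ'] at hθ
  let φ := Div89.homOnOfSec g
  have hφ : Div89.homOnStalk φ x hxU = ρ :=
    (congrArg (fun s : Γ(RefHull.homSh V F, U) => s.1 ⟨x, hxU⟩) (Div89.secOfHomOn_homOnOfSec g)).trans hθ
  let ψ : HomOn F F U := (HomOn.ofHom u U).comp φ
  have hψ : Div89.homOnStalk ψ x hxU = Div89.homOnStalk (HomOn.ofHom (𝟙 F) U) x hxU := by
    refine LinearMap.ext fun t => ?_
    obtain ⟨W, hxW, m, rfl⟩ := germM_exist t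
    rw [← germM_res (inf_le_left : W ⊓ U ≤ W) (show x ∈ W ⊓ U from ⟨hxW, hxU⟩) m]
    set m' := res F (inf_le_left : W ⊓ U ≤ W) m
    rw [Div89.homOnStalk_germ ψ inf_le_right x ⟨hxW, hxU⟩, Div89.homOnStalk_germ _ inf_le_right x ⟨hxW, hxU⟩]
    show germM F _ x _ (φ.app _ inf_le_right (u.app _ m')) = germM F _ x _ m'
    rw [← Div89.homOnStalk_germ φ inf_le_right x ⟨hxW, hxU⟩, hφ, ← stalkMapM_germ u]
    exact LinearMap.congr_fun hρ _
  have h1 : germM (RefHull.homSh F F) U x hxU (Div89.secOfHomOn ψ) =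
      germM (RefHull.homSh F F) U x hxU (Div89.secOfHomOn (HomOn.ofHom (𝟙 F) U)) :=
    Div89.evalStalk_injective F F x (by rw [Div89.evalStalk_germ', Div89.evalStalk_germ']; exact hψ)
  obtain ⟨(W : X.Opens), hxW, i₁, i₂, he⟩ := TopCat.Presheaf.germ_eq (RefHull.homSh F F).presheaf x hxU hxU _ _ h1
  have hW : W ≤ U := i₁.le
  have hψW : ψ.mono hW = HomOn.ofHom (𝟙 F) W := by
    rw [← Div89.homOnOfSec_secOfHomOn (ψ.mono hW), ← Div89.homOnOfSec_secOfHomOn (HomOn.ofHom (𝟙 F) W)]
    refine congrArg _ (Div89.sec_ext _ _ fun z hz => ?_)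
    have h2 := congrArg (fun s : Γ(RefHull.homSh F F, W) => s.1 ⟨z, hz⟩) he
    exact (homOn_mono_stalk ψ hW z hz).trans (h2.trans
      (homOn_mono_stalk (HomOn.ofHom (𝟙 F) U) hW z hz).symm)
  refine ⟨W, hxW, split_congr (Scheme.Modules.restrictFunctorIsoPullback W.ι) u ⟨(φ.mono hW).toRestrictHom, ?_⟩⟩
  refine Scheme.Modules.hom_ext _ _ fun O => ?_
  ext m
  apply (F.restrictAppIso W.ι O).addCommGroupIsoToAddEquiv.injective
  show (F.restrictAppIso W.ι O).hom ((φ.mono hW).toRestrictHom.app O
    (((Scheme.Modules.restrictFunctor W.ι).map u).app O m)) = _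
  rw [HomOn.toRestrictHom_app]
  have h3 := congrArg (fun a : HomOn F F W => a.app (W.ι ''ᵁ O) (HomOn.range_le O) ((F.restrictAppIso W.ι O).hom m)) hψW
  exact h3

theorem t14618 {X S : Scheme.{u}} (f : X ⟶ S) {F V : X.Modules} (u : F ⟶ V)
    (hF : Coh.IsQCoh F) (hFt : CohB1.IsFT F) (hV : FlatMod.IsFinLocFree V) :
    [ LocSplit u,
      ∀ (s : S), LocSplit ((Scheme.Modules.pullback (f.fiberι s)).map u),
      ∀ (s : S), LocSplit ((Scheme.Modules.pullback (pullback.fst f
            (Spec.map (CommRingCat.ofHom (algebraMap (S.residueField s) (AlgebraicClosure (S.residueField s)))) ≫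
              S.fromSpecResidueField s))).map u) ].TFAE := by
  haveI : F.IsQuasicoherent := hF
  haveI : F.IsFiniteType := hFt
  haveI : V.IsQuasicoherent := Props58.LocFree.isQuasicoherent_of_isFinLocFree hV
  tfae_have 1 → 2 := fun h s => locSplit_pullback _ h
  tfae_have 2 → 3 := by
    intro h s
    let a := Spec.map (CommRingCat.ofHom (algebraMap (S.residueField s) (AlgebraicClosure (S.residueField s))))
    let l : pullback f (a ≫ S.fromSpecResidueField s) ⟶ f.fiber s :=
      pullback.lift (pullback.fst _ _) (pullback.snd _ _ ≫ a) (by rw [Category.assoc]; exact pullback.condition)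
    have hl : l ≫ f.fiberι s = pullback.fst _ _ := pullback.lift_fst _ _ _
    exact locSplit_congr (Scheme.Modules.pullbackComp l (f.fiberι s) ≪≫ Scheme.Modules.pullbackCongr hl)
      (locSplit_pullback l (h s))
  tfae_have 3 → 1 := by
    intro h x
    let a := Spec.map (CommRingCat.ofHom (algebraMap (S.residueField (f x)) (AlgebraicClosure (S.residueField (f x)))))
    obtain ⟨z, hz, -⟩ := Scheme.Pullback.exists_preimage_pullback (f := f) (g := a ≫ S.fromSpecResidueField (f x))
      x (IsLocalRing.closedPoint (AlgebraicClosure (S.residueField (f x))))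
      (by rw [Scheme.Hom.comp_apply, Scheme.fromSpecResidueField_apply])
    obtain ⟨O, hzO, hr⟩ := h (f x) z
    have h1 := injective_residue (O.ι ≫ pullback.fst f (a ≫ S.fromSpecResidueField (f x))) u ⟨z, hzO⟩
      (split_congr (Scheme.Modules.pullbackComp O.ι _) u hr)
    rw [show (O.ι ≫ pullback.fst f (a ≫ S.fromSpecResidueField (f x))) ⟨z, hzO⟩ = x from hz] at h1
    exact exists_retraction hV u x h1
  tfae_finish

end Groth.Agent.FlatMor68.SplitMono
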