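import Mathlib.AlgebraicGeometry.IdealSheaf.Functorial
import Groth.Agent.MP99.Ops
import Groth.Agent.LimTop61.IdealLfp
import Groth.Agent.Div89.IdealExtend
import Groth.Agent.H98Strict.Admissible
import Groth.Agent.FlatMor67.StratLocal
import Groth.Agent.LimDesc62.Points

/-!
Stratifications by locally closed strata of the form `V(I) ∖ V(J)` for ideal sheaves of finite type.
-/

set_option autoImplicit false
set_option backward.isDefEq.respectTransparency.types false
set_option linter.style.haveILetI false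
universe u

open CategoryTheory CategoryTheory.Limits AlgebraicGeometry TopologicalSpace

noncomputable section

namespace Groth.Agent.FlatMor68.StrataChain

variable {S : Scheme.{u}}

/-- The inclusion of the stratum `V(I) ∖ V(J)`. -/
abbrev strι (I J : S.IdealSheafData) :
    ((I.subschemeι ⁻¹ᵁ J.support.compl : I.subscheme.Opens) : Scheme.{u}) ⟶ S :=
  (I.subschemeι ⁻¹ᵁ J.support.compl).ι ≫ I.subschemeι

/-- Ideal sheaves of finite type. -/
def FG (I : S.IdealSheafData) : Prop := ∀ U : S.affineOpens, (I.ideal U).FG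

theorem fg_bot : FG (⊥ : S.IdealSheafData) := fun U => ⟨∅, by simp⟩

theorem fg_top : FG (⊤ : S.IdealSheafData) := fun U => by
  simpa using (Ideal.fg_top Γ(S, U.1))

theorem FG.sup {I J : S.IdealSheafData} (hI : FG I) (hJ : FG J) : FG (I ⊔ J) := fun U => by
  rw [Scheme.IdealSheafData.ideal_sup]
  exact Submodule.FG.sup (hI U) (hJ U)

theorem FG.mul {I J : S.IdealSheafData} (hI : FG I) (hJ : FG J) : FG (I * J) := fun U => by
  rw [Scheme.IdealSheafData.ideal_mul]
  exact Submodule.FG.mul (hI U) (hJ U)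

theorem FG.comap {T : Scheme.{u}} {I : S.IdealSheafData} (hI : FG I) (f : T ⟶ S) : FG (I.comap f) := by
  have := LimTop61.lfp_of_fg_ideal I hI
  have := LimTop61.lfp_comap I f
  exact LimTop61.fg_ideal_of_lfp _

theorem fg_of_locallyNoetherian [IsLocallyNoetherian S] (I : S.IdealSheafData) : FG I := fun U => by
  have := IsLocallyNoetherian.component_noetherian U
  exact (inferInstance : IsNoetherian Γ(S, U.1) Γ(S, U.1)).noetherian _

theorem comap_eq_top_iff {T : Scheme.{u}} (J : S.IdealSheafData) (f : T ⟶ S) :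
    J.comap f = ⊤ ↔ ∀ x, f x ∉ J.support := by
  rw [← Scheme.IdealSheafData.support_eq_bot_iff, Scheme.IdealSheafData.support_comap]
  constructor
  · intro h x hx
    have : x ∈ J.support.preimage f.continuous := hx
    rw [h] at this
    exact this
  · intro h
    ext x
    exact ⟨fun hx => (h x hx).elim, fun hx => hx.elim⟩

theorem comap_eq_bot_iff {T : Scheme.{u}} (I : S.IdealSheafData) (f : T ⟶ S) :
    I.comap f = ⊥ ↔ I ≤ f.ker := by
  rw [← le_bot_iff, ← Scheme.IdealSheafData.le_map_iff_comap_le, Scheme.IdealSheafData.map_bot]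

/-- A morphism killing `I` and avoiding `V(J)` factors through the stratum. -/
theorem exists_lift {T : Scheme.{u}} {I J : S.IdealSheafData} (z : T ⟶ S) (hI : I.comap z = ⊥)
    (hJ : J.comap z = ⊤) : ∃ l, l ≫ strι I J = z := by
  have h : I.subschemeι.ker ≤ z.ker := by
    rw [Scheme.IdealSheafData.ker_subschemeι]; exact (comap_eq_bot_iff I z).1 hI
  let l0 := IsClosedImmersion.lift I.subschemeι z h
  have hl0 : l0 ≫ I.subschemeι = z := IsClosedImmersion.lift_fac _ _ _
  have hr : Set.range l0 ⊆ Set.range (I.subschemeι ⁻¹ᵁ J.support.compl).ι := by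
    rw [Scheme.Opens.range_ι]
    rintro _ ⟨x, rfl⟩
    show I.subschemeι (l0 x) ∉ J.support
    rw [← Scheme.Hom.comp_apply, hl0]
    exact (comap_eq_top_iff J z).1 hJ x
  refine ⟨IsOpenImmersion.lift _ l0 hr, ?_⟩
  rw [← Category.assoc, IsOpenImmersion.lift_fac, hl0]

theorem comap_strι_bot (I J : S.IdealSheafData) : I.comap (strι I J) = ⊥ := by
  rw [comap_eq_bot_iff]
  conv_lhs => rw [← I.ker_subschemeι]
  exact Scheme.Hom.le_ker_comp _ _

theorem comap_strι_top (I J : S.IdealSheafData) : J.comap (strι I J) = ⊤ :=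
  (comap_eq_top_iff J _).2 fun x => x.2

/-- Strata pull back to strata. -/
theorem exists_isPullback {T : Scheme.{u}} (m : T ⟶ S) (I J : S.IdealSheafData) :
    ∃ l, IsPullback l (strι (I.comap m) (J.comap m)) (strι I J) m := by
  obtain ⟨l, hl⟩ := exists_lift (I := I) (J := J) (strι (I.comap m) (J.comap m) ≫ m)
    (by rw [Scheme.IdealSheafData.comap_comp, comap_strι_bot])
    (by rw [Scheme.IdealSheafData.comap_comp, comap_strι_top])
  have key : ∀ s : PullbackCone (strι I J) m,
      ∃ k, k ≫ strι (I.comap m) (J.comap m) = s.snd := fun s =>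
    exists_lift (I := I.comap m) (J := J.comap m) s.snd
      (by rw [← Scheme.IdealSheafData.comap_comp, ← s.condition, Scheme.IdealSheafData.comap_comp,
        comap_strι_bot, Scheme.IdealSheafData.comap_bot])
      (by rw [← Scheme.IdealSheafData.comap_comp, ← s.condition, Scheme.IdealSheafData.comap_comp,
        comap_strι_top]
          exact (comap_eq_top_iff _ _).2 fun x h => by simp at h; exact h)
  refine ⟨l, ⟨hl⟩, ⟨PullbackCone.IsLimit.mk _ (fun s => (key s).choose) (fun s => ?_)
    (fun s => (key s).choose_spec) (fun s k _ hk => ?_)⟩⟩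
  · rw [← cancel_mono (strι I J), Category.assoc, hl, ← Category.assoc, (key s).choose_spec, s.condition]
  · rw [← cancel_mono (strι (I.comap m) (J.comap m)), hk, (key s).choose_spec]

theorem range_strι (I J : S.IdealSheafData) :
    Set.range (strι I J) = (I.support : Set S) \ J.support := by
  ext x
  constructor
  · rintro ⟨y, rfl⟩
    refine ⟨?_, y.2⟩
    rw [← I.range_subschemeι]
    exact ⟨y.1, rfl⟩
  · rintro ⟨hx, hx'⟩
    rw [← I.range_subschemeι] at hx
    obtain ⟨y, rfl⟩ := hx
    exact ⟨⟨y, hx'⟩, rfl⟩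

/-- Chains of ideal sheaves of finite type with all strata satisfying `Q`. -/
inductive Chain (Q : ∀ (Z : Scheme.{u}), (Z ⟶ S) → Prop) : S.IdealSheafData → S.IdealSheafData → Prop
  | refl (I : S.IdealSheafData) : Chain Q I I
  | step {I J K : S.IdealSheafData} (hle : I ≤ J) (hfg : FG J) (hq : Q _ (strι I J)) (h : Chain Q J K) :
      Chain Q I K

theorem Chain.trans {Q : ∀ (Z : Scheme.{u}), (Z ⟶ S) → Prop} {I J K : S.IdealSheafData}
    (h : Chain Q I J) (h' : Chain Q J K) : Chain Q I K := by
  induction h with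
  | refl => exact h'
  | step hle hfg hq _ ih => exact Chain.step hle hfg hq (ih h')

theorem Chain.exists_fin {Q : ∀ (Z : Scheme.{u}), (Z ⟶ S) → Prop} {I K : S.IdealSheafData}
    (h : Chain Q I K) (hI : FG I) :
    ∃ (t : ℕ) (f : Fin (t + 1) → S.IdealSheafData), Monotone f ∧ f 0 = I ∧ f (Fin.last t) = K ∧
      (∀ i, FG (f i)) ∧ ∀ i : Fin t, Q _ (strι (f i.castSucc) (f i.succ)) := by
  induction h with
  | refl I => exact ⟨0, fun _ => I, monotone_const, rfl, rfl, fun _ => hI, fun i => i.elim0⟩
  | @step I J K hle hfg hq _ ih =>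
    obtain ⟨t, f, hmono, h0, hlast, hf, hQ⟩ := ih hfg
    refine ⟨t + 1, Fin.cons I f, ?_, rfl, ?_, ?_, ?_⟩
    · rw [Fin.monotone_iff_le_succ]
      intro i
      induction i using Fin.cases with
      | zero => simpa [h0] using hle
      | succ i =>
        rw [← Fin.succ_castSucc]
        simpa using hmono (Fin.castSucc_le_succ i)
    · rw [← Fin.succ_last]
      simpa using hlast
    · intro i
      induction i using Fin.cases with
      | zero => simpa using hI
      | succ i => simpa using hf i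
    · intro i
      have key : ∀ a b a' b' : S.IdealSheafData, a = a' → b = b' → Q _ (strι a' b') → Q _ (strι a b) := by
        intro a b a' b' ha hb h
        subst ha hb
        exact h
      induction i using Fin.cases with
      | zero => exact key _ _ _ _ (by simp) (by simp [h0]) hq
      | succ i => exact key _ _ _ _ (by simp) (by simp) (hQ i)

variable (Q : ∀ {Z : Scheme.{u}}, (Z ⟶ S) → Prop) (hs : FlatMor67.StratLocal.Stable (S := S) Q)
  (hemp : ∀ {Z : Scheme.{u}} (z : Z ⟶ S) [IsEmpty Z], Q z)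

include hs hemp

/-- A stratum covered by finitely many good strata has a chain with good strata. -/
theorem exists_chain_of_cover (L : List (S.IdealSheafData × S.IdealSheafData)) :
    (∀ p ∈ L, FG p.1 ∧ FG p.2 ∧ Q (strι p.1 p.2)) → ∀ I J : S.IdealSheafData, FG I → FG J → I ≤ J →
      (∀ x ∈ (I.support : Set S) \ J.support, ∃ p ∈ L, x ∈ (p.1.support : Set S) \ p.2.support) →
      Chain (fun _ z => Q z) I J := by
  induction L with
  | nil =>
    intro _ I J _ hJ hle hcov
    refine Chain.step hle hJ ?_ (Chain.refl J)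
    have : IsEmpty ((I.subschemeι ⁻¹ᵁ J.support.compl : I.subscheme.Opens) : Scheme.{u}) :=
      ⟨fun y => by
        obtain ⟨p, hp, -⟩ := hcov _ ((range_strι I J).le ⟨y, rfl⟩)
        exact List.not_mem_nil hp⟩
    exact hemp _
  | cons q L ih =>
    obtain ⟨G, W⟩ := q
    intro hL I J hI hJ hle hcov
    obtain ⟨hG, hW, hQ⟩ := hL (G, W) List.mem_cons_self
    have hL' : ∀ p ∈ L, FG p.1 ∧ FG p.2 ∧ Q (strι p.1 p.2) := fun p hp => hL p (List.mem_cons_of_mem _ hp)
    have hf1 : FG (I ⊔ G * J) := hI.sup (hG.mul hJ)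
    have hf2 : FG (I ⊔ (G ⊔ W) * J) := hI.sup ((hG.sup hW).mul hJ)
    have e1 : I ≤ I ⊔ G * J := le_sup_left
    have e2 : I ⊔ G * J ≤ I ⊔ (G ⊔ W) * J := by
      rw [Scheme.IdealSheafData.inf_mul]
      exact sup_le le_sup_left (le_sup_left.trans le_sup_right)
    have e3 : I ⊔ (G ⊔ W) * J ≤ J := by
      refine sup_le hle ?_
      intro U
      rw [Scheme.IdealSheafData.ideal_mul]
      exact Ideal.mul_le.2 fun r _ s hs' => Ideal.mul_mem_left _ r hs'
    have c1 : Chain (fun _ z => Q z) I (I ⊔ G * J) := ih hL' I _ hI hf1 e1 fun x ⟨hx, hx'⟩ => by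
      have hx'' : x ∉ G.support ∧ x ∉ J.support := by
        constructor <;> intro h <;> apply hx' <;>
          simp only [Scheme.IdealSheafData.support_sup, Scheme.IdealSheafData.support_mul,
            SetLike.mem_coe]
        · exact ⟨hx, Or.inl h⟩
        · exact ⟨hx, Or.inr h⟩
      obtain ⟨p, hp, hxp⟩ := hcov x ⟨hx, hx''.2⟩
      rcases List.mem_cons.1 hp with rfl | hp
      · exact (hx''.1 hxp.1).elim
      · exact ⟨p, hp, hxp⟩
    have c3 : Chain (fun _ z => Q z) (I ⊔ (G ⊔ W) * J) J := ih hL' _ J hf2 hJ e3 fun x ⟨hx, hx'⟩ => by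
      simp only [Scheme.IdealSheafData.support_sup, Scheme.IdealSheafData.support_mul,
        SetLike.mem_coe] at hx
      obtain ⟨hxI, (⟨-, hxW⟩ | hxJ)⟩ := hx
      · obtain ⟨p, hp, hxp⟩ := hcov x ⟨hxI, hx'⟩
        rcases List.mem_cons.1 hp with rfl | hp
        · exact (hxp.2 hxW).elim
        · exact ⟨p, hp, hxp⟩
      · exact (hx' hxJ).elim
    refine c1.trans (Chain.step e2 hf2 ?_ c3)
    set z := strι (I ⊔ G * J) (I ⊔ (G ⊔ W) * J)
    have h1 := comap_strι_bot (I ⊔ G * J) (I ⊔ (G ⊔ W) * J)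
    have h2 := comap_strι_top (I ⊔ G * J) (I ⊔ (G ⊔ W) * J)
    change (I ⊔ G * J).comap z = ⊥ at h1
    change (I ⊔ (G ⊔ W) * J).comap z = ⊤ at h2
    rw [Scheme.IdealSheafData.comap_sup, sup_eq_bot_iff, MP99.comap_mul] at h1
    have hJz : J.comap z = ⊤ := top_le_iff.1 (h2 ▸ Scheme.IdealSheafData.comap_mono z e3)
    obtain ⟨hIz, hGz⟩ := h1
    rw [hJz, Scheme.IdealSheafData.mul_top] at hGz
    rw [Scheme.IdealSheafData.comap_sup, hIz, bot_sup_eq, MP99.comap_mul, hJz,
      Scheme.IdealSheafData.mul_top, Scheme.IdealSheafData.comap_sup, hGz, bot_sup_eq] at h2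
    obtain ⟨l, hl⟩ := exists_lift (I := G) (J := W) z hGz h2
    rw [← hl]
    exact hs l _ hQ

omit hemp in
/-- A quasi-compact immersion of finite presentation with property `Q` is contained in a good stratum. -/
theorem exists_piece_of_immersion [CompactSpace S] [QuasiSeparatedSpace S] {T : Scheme.{u}}
    [CompactSpace T] (e : T ⟶ S) [IsImmersion e] [LocallyOfFinitePresentation e] (hQ : Q e) :
    ∃ G W : S.IdealSheafData, FG G ∧ FG W ∧ Q (strι G W) ∧
      Set.range e ⊆ (G.support : Set S) \ W.support := by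
  obtain ⟨V, hVc, heV, hVle⟩ : ∃ V : S.Opens, IsCompact (V : Set S) ∧ Set.range e ⊆ V ∧
      (V : Set S) ⊆ e.coborderRange := by
    obtain ⟨K, hKf, hf, hK⟩ := (isCompact_range e.continuous).elim_finite_subcover_image
      (b := {U : S.Opens | IsAffineOpen U ∧ (U : Set S) ⊆ e.coborderRange}) (c := fun U => (U : Set S))
      (fun U _ => U.2) (fun x hx => by
        have hx' : x ∈ e.coborderRange := subset_coborder hx
        obtain ⟨_, ⟨U, hU, rfl⟩, hxU, hUle⟩ :=
          S.isBasis_affineOpens.exists_subset_of_mem_open hx' e.coborderRange.2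
        exact Set.mem_biUnion (show U ∈ {U : S.Opens | IsAffineOpen U ∧ (U : Set S) ⊆ e.coborderRange} from
          ⟨hU, hUle⟩) hxU)
    refine ⟨⟨⋃ U ∈ K, (U : Set S), isOpen_biUnion fun U _ => U.2⟩, ?_, hK, ?_⟩
    · exact hf.isCompact_biUnion fun U hU => (hKf hU).1.isCompact
    · exact Set.iUnion₂_subset fun U hU => (hKf hU).2
  have : CompactSpace (V : Scheme.{u}) := isCompact_iff_compactSpace.mp hVc
  have hVq : QuasiCompact V.ι := inferInstance
  obtain ⟨W, hWfg, hW⟩ := H98Strict.exists_ideal_support V hVc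
  let e' : T ⟶ V := IsOpenImmersion.lift V.ι e (by rw [Scheme.Opens.range_ι]; exact heV)
  have he' : e' ≫ V.ι = e := IsOpenImmersion.lift_fac _ _ _
  let e'' : (V : Scheme.{u}) ⟶ e.coborderRange := S.homOfLE hVle
  have : IsClosedImmersion e' := by
    have h1 : e' ≫ e'' = e.liftCoborder := by
      rw [← cancel_mono e.coborderRange.ι, Category.assoc, Scheme.homOfLE_ι, he',
        Scheme.Hom.liftCoborder_ι]
    have : IsClosedImmersion (e' ≫ e'') := h1 ▸ inferInstance
    exact IsClosedImmersion.of_comp e' e''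
  have : LocallyOfFinitePresentation (e' ≫ V.ι) := he' ▸ inferInstance
  have : LocallyOfFinitePresentation e' := LimDesc62.lfp_of_comp e' V.ι
  have hfg : FG e'.ker := by
    have : LocallyOfFinitePresentation e'.imageι := by
      have h := e'.toImage_imageι
      have : IsIso e'.toImage := inferInstance
      rw [show e'.imageι = inv e'.toImage ≫ e' from (IsIso.eq_inv_comp _).2 h]
      infer_instance
    exact LimTop61.fg_ideal_of_lfp e'.ker
  obtain ⟨G, ⟨hGfg, -⟩, hGV⟩ := Div89.exists_admissible_extension (⊥ : S.Opens) V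
    (by simp) hVc e'.ker ⟨hfg, by simp⟩
  refine ⟨G, W, hGfg, hWfg, ?_, ?_⟩
  · have hr : Set.range (strι G W) ⊆ Set.range V.ι := by
      rw [range_strι, Scheme.Opens.range_ι, hW]
      rintro x ⟨-, hx⟩
      exact not_not.1 hx
    let z := IsOpenImmersion.lift V.ι (strι G W) hr
    have hz : z ≫ V.ι = strι G W := IsOpenImmersion.lift_fac _ _ _
    have hk : e'.ker ≤ z.ker := by
      rw [← comap_eq_bot_iff, ← hGV, ← Scheme.IdealSheafData.comap_comp, hz, comap_strι_bot]
    rw [← hz, ← IsClosedImmersion.lift_fac e' z hk, Category.assoc, he']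
    exact hs _ _ hQ
  · rintro _ ⟨x, rfl⟩
    refine ⟨?_, ?_⟩
    · have h : e' x ∈ (G.comap V.ι).support := by
        rw [hGV]
        exact e'.range_subset_ker_support ⟨x, rfl⟩
      rw [Scheme.IdealSheafData.support_comap] at h
      rw [← he', Scheme.Hom.comp_apply]
      exact h
    · rw [hW]
      exact fun h => h (heV ⟨x, rfl⟩)

/-- A stable condition that is local gives a finite stratification by ideal sheaves of finite type. -/
theorem exists_stratification [CompactSpace S] [QuasiSeparatedSpace S]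
    (hloc : FlatMor67.StratLocal.Local (S := S) Q) :
    ∃ (t : ℕ) (f : Fin (t + 1) → S.IdealSheafData), Monotone f ∧ f 0 = ⊥ ∧ f (Fin.last t) = ⊤ ∧
      (∀ i, FG (f i)) ∧ ∀ i : Fin t, Q (strι (f i.castSucc) (f i.succ)) := by
  obtain ⟨ι, _, T, e, he, -, hcov, hQ⟩ := FlatMor67.StratLocal.exists_strata Q hs hloc
  have := Fintype.ofFinite ι
  have key : ∀ i, ∃ G W : S.IdealSheafData, FG G ∧ FG W ∧ Q (strι G W) ∧
      Set.range (e i) ⊆ (G.support : Set S) \ W.support := fun i => by
    obtain ⟨_, _, _, _⟩ := he i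
    exact exists_piece_of_immersion Q hs (e i) (hQ i)
  choose G W hG hW hGW hr using key
  refine (exists_chain_of_cover Q hs hemp (Finset.univ.toList.map fun i => (G i, W i)) ?_ ⊥ ⊤
    fg_bot fg_top bot_le ?_).exists_fin fg_bot
  · intro p hp
    obtain ⟨i, -, rfl⟩ := List.mem_map.1 hp
    exact ⟨hG i, hW i, hGW i⟩
  · intro x _
    obtain ⟨i, hi⟩ := Set.mem_iUnion.1 (hcov ▸ Set.mem_univ x)
    exact ⟨(G i, W i), List.mem_map.2 ⟨i, Finset.mem_toList.2 (Finset.mem_univ i), rfl⟩, hr i hi⟩

end Groth.Agent.FlatMor68.StrataChain
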