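import Mathlib
import Groth.Agent.RelGCI94.Fibres
import Groth.Agent.FlatMor68.FibDimBC
import Groth.Agent.FlatMor68.NoethFlat

set_option backward.isDefEq.respectTransparency.types false
set_option linter.style.haveILetI false
set_option autoImplicit false
universe u

open CategoryTheory CategoryTheory.Limits AlgebraicGeometry MvPolynomial TensorProduct
open Groth.Agent.RelGCI94

namespace Groth.Agent.FlatMor68.SyntModel

variable {R : Type u} [CommRing R] {n c : ℕ} (F : Fin c → MvPolynomial (Fin n) R)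
variable (A : Type u) [CommRing A] [Algebra R A]

/-- The relations base changed. -/
noncomputable abbrev bcF : Fin c → MvPolynomial (Fin n) A := fun i => MvPolynomial.map (algebraMap R A) (F i)

/-- Base change of a presentation. -/
noncomputable def baseEquiv : A ⊗[R] Synt.RelGCIRing R n c F ≃ₐ[A] Synt.RelGCIRing A n c (bcF F A) :=
  (Algebra.TensorProduct.tensorQuotientEquiv (R := R) A (MvPolynomial (Fin n) R) A
    (Ideal.span (Set.range F))).trans
    (Ideal.quotientEquivAlg _ _ (algebraTensorAlgEquiv (σ := Fin n) R A) (by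
      rw [Ideal.map_span, Ideal.map_span, ← Set.range_comp, ← Set.range_comp]
      exact congrArg Ideal.span (congrArg Set.range (funext fun i => by simp [bcF]))))

/-- The comparison map. -/
noncomputable def bcMap : Synt.RelGCIRing R n c F →+* Synt.RelGCIRing A n c (bcF F A) :=
  Ideal.quotientMap _ (MvPolynomial.map (algebraMap R A)) (Ideal.span_le.2 (by
    rintro _ ⟨i, rfl⟩
    exact Ideal.subset_span ⟨i, rfl⟩))

theorem isPullback : IsPullback (Spec.map (CommRingCat.ofHom (bcMap F A)))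
    (str (R := A) (Synt.RelGCIRing A n c (bcF F A))) (str (R := R) (Synt.RelGCIRing R n c F))
    (Spec.map (CommRingCat.ofHom (algebraMap R A))) := by
  have h := isPullback_SpecMap_of_isPushout _ _ _ _
    (CommRingCat.isPushout_tensorProduct R A (Synt.RelGCIRing R n c F)).flip
  refine h.of_iso (asIso (Spec.map (baseEquiv F A).toRingEquiv.toCommRingCatIso.inv)) (Iso.refl _) (Iso.refl _) (Iso.refl _) ?_ ?_ (by simp) (by simp)
  · simp only [Iso.refl_hom, Category.comp_id, asIso_hom]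
    rw [← Spec.map_comp, Spec.map_inj, ← cancel_mono (baseEquiv F A).toRingEquiv.toCommRingCatIso.hom]
    simp only [Category.assoc, Iso.inv_hom_id, Category.comp_id]
    refine CommRingCat.hom_ext (RingHom.ext fun x => ?_)
    obtain ⟨y, rfl⟩ := Ideal.Quotient.mk_surjective x
    show baseEquiv F A (1 ⊗ₜ Ideal.Quotient.mk _ y) = _
    simp [baseEquiv, bcMap]
  · simp only [Iso.refl_hom, Category.comp_id, asIso_hom]
    rw [← Spec.map_comp, Spec.map_inj, ← cancel_mono (baseEquiv F A).toRingEquiv.toCommRingCatIso.hom]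
    simp only [Category.assoc, Iso.inv_hom_id, Category.comp_id]
    refine CommRingCat.hom_ext (RingHom.ext fun a => ?_)
    exact (baseEquiv F A).commutes a

theorem dim_fiber_str (S : Type u) [CommRing S] [Algebra R S] (p : PrimeSpectrum R) :
    topologicalKrullDim ↥((str (R := R) S).fiber p) = ringKrullDim (p.asIdeal.Fiber S) := by
  rw [← dim_fibre_eq R S p]
  exact IsHomeomorph.topologicalKrullDim_eq _ ((str (R := R) S).fiberHomeo p).isHomeomorph

theorem dim_fiber_bc (p : PrimeSpectrum A) :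
    ringKrullDim (p.asIdeal.Fiber (Synt.RelGCIRing A n c (bcF F A))) =
      ringKrullDim ((PrimeSpectrum.comap (algebraMap R A) p).asIdeal.Fiber (Synt.RelGCIRing R n c F)) := by
  haveI := locallyOfFiniteType_str R (Synt.RelGCIRing R n c F)
  haveI : QuasiCompact (str (R := R) (Synt.RelGCIRing R n c F)) := inferInstance
  rw [← dim_fiber_str, ← dim_fiber_str]
  exact FibDimBC.t9777 _ _ _ _ (isPullback F A) p

theorem exists_over (p : PrimeSpectrum A) (q₁ : PrimeSpectrum (Synt.RelGCIRing R n c F))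
    (h : PrimeSpectrum.comap (algebraMap R _) q₁ = PrimeSpectrum.comap (algebraMap R A) p) :
    ∃ q : PrimeSpectrum (Synt.RelGCIRing A n c (bcF F A)), PrimeSpectrum.comap (bcMap F A) q = q₁ := by
  obtain ⟨q, hq, -⟩ := Scheme.exists_preimage_of_isPullback (isPullback F A) q₁ p h
  exact ⟨q, hq⟩

/-- an ideal of polynomials that becomes trivial does so at a finitely generated stage. -/
theorem exists_stage {R₀ B : Type u} [CommRing R₀] [CommRing B] [Algebra R₀ B]
    (I : Ideal (MvPolynomial (Fin n) R₀)) (h : I.map (MvPolynomial.map (algebraMap R₀ B)) = ⊤) :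
    ∃ C : Subalgebra R₀ B, C.FG ∧ I.map (MvPolynomial.map (algebraMap R₀ C)) = ⊤ := by
  classical
  have h1 : (1 : MvPolynomial (Fin n) B) ∈ Ideal.span (MvPolynomial.map (algebraMap R₀ B) '' (I : Set _)) := by
    show (1 : MvPolynomial (Fin n) B) ∈ I.map (MvPolynomial.map (algebraMap R₀ B))
    rw [h]; trivial
  obtain ⟨l, hl⟩ := Finsupp.mem_span_iff_linearCombination _ _ _ |>.1 h1
  let cs : Finset B := l.support.biUnion fun v => (l v).coeffs
  let C := Algebra.adjoin R₀ (cs : Set B)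
  refine ⟨C, ⟨cs, rfl⟩, ?_⟩
  have hg : ∀ v ∈ l.support, ∃ g : MvPolynomial (Fin n) C, MvPolynomial.map (algebraMap C B) g = l v := fun v hv => by
    obtain ⟨g, hg⟩ : l v ∈ Set.range (MvPolynomial.map (algebraMap C B)) := by
      rw [MvPolynomial.mem_range_map_iff_coeffs_subset]
      exact fun x hx => ⟨⟨x, Algebra.subset_adjoin (Finset.mem_biUnion.2 ⟨v, hv, hx⟩)⟩, rfl⟩
    exact ⟨g, hg⟩
  choose! g hg using hg
  choose j hj hj' using fun v : ↥(MvPolynomial.map (algebraMap R₀ B) '' (I : Set (MvPolynomial (Fin n) R₀))) => v.2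
  have hinj : Function.Injective (MvPolynomial.map (σ := Fin n) (algebraMap C B)) :=
    MvPolynomial.map_injective _ Subtype.val_injective
  rw [Ideal.eq_top_iff_one]
  have : (1 : MvPolynomial (Fin n) C) = l.sum fun v _ => g v * MvPolynomial.map (algebraMap R₀ C) (j v) := by
    apply hinj
    rw [map_one, map_finsuppSum, ← hl, Finsupp.linearCombination_apply]
    refine Finsupp.sum_congr fun v hv => ?_
    rw [map_mul, hg v hv, MvPolynomial.map_map, ← IsScalarTower.algebraMap_eq R₀ C B, hj' v, smul_eq_mul]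
  rw [this]
  exact Ideal.sum_mem _ fun v _ => Ideal.mul_mem_left _ _ (Ideal.mem_map_of_mem _ (hj v))

omit [CommRing R] in
set_option maxHeartbeats 1000000 in
theorem exists_model {R : Type u} [CommRing R] {n c : ℕ} (F : Fin c → MvPolynomial (Fin n) R)
    (hF : Synt.IsRelGCI R n c F) :
    ∃ (R₂ : Subalgebra ℤ R) (F₂ : Fin c → MvPolynomial (Fin n) R₂), R₂.FG ∧ bcF F₂ R = F ∧ Synt.IsRelGCI R₂ n c F₂ := by
  classical
  let cs : Finset R := Finset.univ.biUnion fun i => (F i).coeffs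
  let R₁ := Algebra.adjoin ℤ (cs : Set R)
  haveI : Algebra.FiniteType ℤ R₁ := (Subalgebra.fg_iff_finiteType R₁).mp ⟨cs, rfl⟩
  have hF₁ : ∀ i, ∃ G : MvPolynomial (Fin n) R₁, MvPolynomial.map (algebraMap R₁ R) G = F i := fun i => by
    obtain ⟨g, hg⟩ : F i ∈ Set.range (MvPolynomial.map (algebraMap R₁ R)) := by
      rw [MvPolynomial.mem_range_map_iff_coeffs_subset]
      exact fun x hx => ⟨⟨x, Algebra.subset_adjoin (Finset.mem_biUnion.2 ⟨i, Finset.mem_univ _, hx⟩)⟩, rfl⟩
    exact ⟨g, hg⟩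
  choose F₁ hF₁ using hF₁
  have hbc : bcF F₁ R = F := funext hF₁
  let G₁ := Synt.RelGCIRing R₁ n c F₁
  obtain ⟨J₀, hJ₀⟩ := exists_ideal_small R₁ n c F₁ (n - c)
  let J : Ideal G₁ := if c ≤ n then J₀ else ⊥
  have hJR : J.map (bcMap F₁ R) = ⊤ := by
    by_contra hne
    obtain ⟨m, hm, hle⟩ := Ideal.exists_le_maximal _ hne
    let q : PrimeSpectrum (Synt.RelGCIRing R n c (bcF F₁ R)) := ⟨m, hm.isPrime⟩
    let p := PrimeSpectrum.comap (algebraMap R _) q
    haveI : Nontrivial (p.asIdeal.Fiber (Synt.RelGCIRing R n c (bcF F₁ R))) :=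
      PrimeSpectrum.nonempty_iff_nontrivial.1 ⟨PrimeSpectrum.preimageOrderIsoFiber R _ p ⟨q, rfl⟩⟩
    obtain ⟨hcn, hdim⟩ := (show Synt.IsRelGCI R n c (bcF F₁ R) by rw [hbc]; exact hF) p inferInstance
    let q₁ := PrimeSpectrum.comap (bcMap F₁ R) q
    have hp : PrimeSpectrum.comap (algebraMap R₁ G₁) q₁ = PrimeSpectrum.comap (algebraMap R₁ R) p := by
      have := (isPullback F₁ R).w
      exact congr(($this) q)
    have hJle : J₀ ≤ q₁.asIdeal := by
      have : J ≤ q₁.asIdeal := Ideal.map_le_iff_le_comap.1 hle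
      simpa [J, hcn] using this
    refine (hJ₀ q₁).1 (fibreDimAt_le_of_dim R₁ n c F₁ (n - c) q₁ ?_) hJle
    rw [hp, ← dim_fiber_bc F₁ R p]
    exact hdim.le
  obtain ⟨C, hC, hCtop⟩ := exists_stage (B := R) (J.comap (Ideal.Quotient.mk (Ideal.span (Set.range F₁)))) (by
    have hle : Ideal.span (Set.range (bcF F₁ R)) ≤
        (J.comap (Ideal.Quotient.mk (Ideal.span (Set.range F₁)))).map (MvPolynomial.map (algebraMap R₁ R)) := by
      rw [Ideal.span_le]
      rintro _ ⟨i, rfl⟩
      refine Ideal.mem_map_of_mem _ ?_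
      rw [Ideal.mem_comap, Ideal.Quotient.eq_zero_iff_mem.2 (Ideal.subset_span (Set.mem_range_self i))]
      exact J.zero_mem
    rw [← sup_eq_left.2 hle, ← Ideal.mk_ker (I := Ideal.span (Set.range (bcF F₁ R))), RingHom.ker_eq_comap_bot,
      ← Ideal.comap_map_of_surjective _ Ideal.Quotient.mk_surjective, Ideal.map_map]
    have hcomm : (Ideal.Quotient.mk (Ideal.span (Set.range (bcF F₁ R)))).comp (MvPolynomial.map (algebraMap R₁ R)) =
        (bcMap F₁ R).comp (Ideal.Quotient.mk _) := RingHom.ext fun x => rfl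
    rw [hcomm, ← Ideal.map_map, Ideal.map_comap_of_surjective _ Ideal.Quotient.mk_surjective, hJR, Ideal.comap_top])
  have hCJ : J.map (bcMap F₁ C) = ⊤ := by
    rw [← Ideal.map_comap_of_surjective (Ideal.Quotient.mk (Ideal.span (Set.range F₁))) Ideal.Quotient.mk_surjective J,
      Ideal.map_map]
    have hcomm : (bcMap F₁ C).comp (Ideal.Quotient.mk _) =
        (Ideal.Quotient.mk (Ideal.span (Set.range (bcF F₁ C)))).comp (MvPolynomial.map (algebraMap R₁ C)) :=
      RingHom.ext fun x => rfl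
    rw [hcomm, ← Ideal.map_map, hCtop, Ideal.map_top]
  let R₂ : Subalgebra ℤ R := C.restrictScalars ℤ
  have hbc₂ : bcF (R := C) (bcF F₁ C) R = F := funext fun i => by
    show MvPolynomial.map (algebraMap C R) (MvPolynomial.map (algebraMap R₁ C) (F₁ i)) = F i
    rw [MvPolynomial.map_map, ← IsScalarTower.algebraMap_eq]
    exact hF₁ i
  have hgci : Synt.IsRelGCI C n c (bcF F₁ C) := by
    intro p₂ hp₂
    let p₁ := PrimeSpectrum.comap (algebraMap R₁ C) p₂
    have hno : ∀ q₁ : PrimeSpectrum G₁, PrimeSpectrum.comap (algebraMap R₁ G₁) q₁ = p₁ → ¬ J ≤ q₁.asIdeal := by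
      intro q₁ hq₁ hle
      obtain ⟨q₂, rfl⟩ := exists_over F₁ C p₂ q₁ hq₁
      exact q₂.2.ne_top (top_le_iff.1 (hCJ ▸ Ideal.map_le_iff_le_comap.2 hle))
    have hcn : c ≤ n := by
      by_contra hcn
      obtain ⟨Q⟩ : Nonempty (PrimeSpectrum (p₂.asIdeal.Fiber (Synt.RelGCIRing C n c (bcF F₁ C)))) := inferInstance
      let q₂ := ((PrimeSpectrum.preimageOrderIsoFiber C _ p₂).symm Q).1
      refine q₂.2.ne_top (top_le_iff.1 (hCJ ▸ ?_))
      simp [J, hcn]
    refine ⟨hcn, le_antisymm ?_ (le_dim_fiber C n c _ p₂)⟩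
    rw [dim_fiber_bc F₁ C p₂, ringKrullDim, Order.krullDim]
    refine iSup_le fun l => ?_
    let φ : PrimeSpectrum (p₁.asIdeal.Fiber G₁) → PrimeSpectrum G₁ := fun a =>
      ((PrimeSpectrum.preimageOrderIsoFiber R₁ G₁ p₁).symm a).1
    have hφ : StrictMono φ := fun a b hab => (PrimeSpectrum.preimageOrderIsoFiber R₁ G₁ p₁).symm.strictMono hab
    have hov : ∀ a, PrimeSpectrum.comap (algebraMap R₁ G₁) (φ a) = p₁ := fun a =>
      ((PrimeSpectrum.preimageOrderIsoFiber R₁ G₁ p₁).symm a).2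
    have h0 : ¬ J₀ ≤ (φ l.head).asIdeal := by simpa [J, hcn] using hno _ (hov l.head)
    have := length_le_of_fibreDimAt_le R₁ G₁ (n - c) (l.map φ hφ) (fun i => (hov _).trans (hov _).symm) ((hJ₀ _).2 h0)
    exact_mod_cast this
  refine ⟨R₂, bcF F₁ C, ?_, hbc₂, hgci⟩
  haveI : Algebra.FiniteType R₁ C := (Subalgebra.fg_iff_finiteType C).mp hC
  have h : (algebraMap ℤ R₂).FiniteType := by
    rw [Subsingleton.elim (algebraMap ℤ R₂) ((algebraMap R₁ C).comp (algebraMap ℤ R₁))]
    exact (RingHom.finiteType_algebraMap.2 ‹Algebra.FiniteType R₁ C›).comp (RingHom.finiteType_algebraMap.2 ‹Algebra.FiniteType ℤ R₁›)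
  exact (Subalgebra.fg_iff_finiteType R₂).mpr (RingHom.finiteType_algebraMap.1 h)

theorem t9736 {X S : Scheme.{u}} (f : X ⟶ S) [IsAffine X] [IsAffine S] (hf : Synt.IsStandardSyntomic f) :
    ∃ (X₀ S₀ : Scheme.{u}) (f₀ : X₀ ⟶ S₀) (g : S ⟶ S₀) (g' : X ⟶ X₀), IsAffine X₀ ∧ IsAffine S₀ ∧ IsPullback g' f f₀ g ∧
      Algebra.FiniteType ℤ Γ(S₀, ⊤) ∧ LocallyOfFiniteType f₀ ∧ Synt.IsStandardSyntomic f₀ := by
  obtain ⟨R, _, n, c, F, hF, e₁, e₂, he⟩ := hf
  obtain ⟨R₂, F₂, hfg, rfl, hF₂⟩ := exists_model F hF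
  haveI : Algebra.FiniteType ℤ R₂ := (Subalgebra.fg_iff_finiteType R₂).mp hfg
  refine ⟨Spec (CommRingCat.of (Synt.RelGCIRing R₂ n c F₂)), Spec (CommRingCat.of R₂), str (R := R₂) _,
    e₂.hom ≫ Spec.map (CommRingCat.ofHom (algebraMap R₂ R)), e₁.hom ≫ Spec.map (CommRingCat.ofHom (bcMap F₂ R)),
    inferInstance, inferInstance, ?_, NoethFlat.finiteType_Spec_top, locallyOfFiniteType_str R₂ _,
    R₂, inferInstance, n, c, F₂, hF₂, Iso.refl _, Iso.refl _, ?_⟩
  · refine (isPullback F₂ R).of_iso e₁.symm (Iso.refl _) e₂.symm (Iso.refl _) (by simp) ?_ (by simp) (by simp)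
    simp only [Iso.symm_hom]
    rw [Iso.comp_inv_eq, Category.assoc, ← he, Iso.inv_hom_id_assoc]
  · simp

end Groth.Agent.FlatMor68.SyntModel
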