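import Groth.Statements.S14887
import Mathlib.RingTheory.ZariskisMainTheorem
import Mathlib.RingTheory.AlgebraicIndependent.TranscendenceBasis
import Mathlib.RingTheory.Algebraic.Integral
import Mathlib.RingTheory.Valuation.ValuationRing
import Mathlib.RingTheory.Spectrum.Prime.Jacobson
import Mathlib.AlgebraicGeometry.Morphisms.FinitePresentation

set_option autoImplicit false
set_option linter.style.haveILetI false
universe u
open CategoryTheory CategoryTheory.Limits AlgebraicGeometry TopologicalSpace MvPolynomial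

namespace Groth.Agent.FlatMor68.ValFibreGeneric

theorem forall_coeff_mem_of_le {R : Type u} [CommRing R] [IsDomain R] [ValuationRing R] {σ : Type u}
    (P : Ideal (MvPolynomial σ R)) [P.IsPrime] (p : Ideal R) [p.IsPrime]
    (hP : ∀ f, f ∈ P → ∀ m, coeff m f ∈ p)
    (Q : Ideal (MvPolynomial σ R)) [Q.IsPrime] (hQP : Q ≤ P) (f : MvPolynomial σ R) (hf : f ∈ Q)
    (m : σ →₀ ℕ) : coeff m f ∈ Q.comap C := by
  classical
  by_cases h0 : f = 0
  · simp [h0]
  have hsup : ∀ s : Finset (σ →₀ ℕ), s.Nonempty → ∃ a ∈ s, ∀ b ∈ s, coeff a f ∣ coeff b f := by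
    intro s hs
    induction hs using Finset.Nonempty.cons_induction with
    | singleton a => exact ⟨a, Finset.mem_singleton_self a, fun b hb => by rw [Finset.mem_singleton.1 hb]⟩
    | cons a s ha hs ih =>
      obtain ⟨b, hb, hbd⟩ := ih
      rcases ValuationRing.dvd_total (coeff a f) (coeff b f) with h | h
      · exact ⟨a, Finset.mem_cons_self a s, fun c hc => by
          rcases Finset.mem_cons.1 hc with rfl | hc
          · rfl
          · exact h.trans (hbd c hc)⟩
      · exact ⟨b, Finset.mem_cons_of_mem hb, fun c hc => by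
          rcases Finset.mem_cons.1 hc with rfl | hc
          · exact h
          · exact hbd c hc⟩
  obtain ⟨m₀, hm₀, hdvd⟩ := hsup f.support (support_nonempty.2 h0)
  have hc : coeff m₀ f ≠ 0 := mem_support_iff.1 hm₀
  have hall : ∀ n, coeff m₀ f ∣ coeff n f := fun n => by
    by_cases hn : n ∈ f.support
    · exact hdvd n hn
    · rw [notMem_support_iff.1 hn]; exact dvd_zero _
  obtain ⟨g, hg⟩ := (C_dvd_iff_dvd_coeff (coeff m₀ f) f).2 hall
  have hg0 : coeff m₀ g = 1 := by
    have := congrArg (coeff m₀) hg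
    rw [coeff_C_mul] at this
    exact (mul_right_eq_self₀.1 this.symm).resolve_right hc
  have hgQ : g ∉ Q := fun h => by
    have := hP g (hQP h) m₀
    rw [hg0] at this
    exact (inferInstance : p.IsPrime).ne_top ((Ideal.eq_top_iff_one p).2 this)
  have hC : C (coeff m₀ f) ∈ Q := ((inferInstance : Q.IsPrime).mem_or_mem (hg ▸ hf)).resolve_right hgQ
  exact Ideal.mem_of_dvd _ (hall m) (show coeff m₀ f ∈ Q.comap C from hC)

theorem isAlgebraic_of_fractions {A L : Type u} [CommRing A] [IsDomain A] [Field L] [Algebra A L]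
    {K : Type u} [Field K] [Algebra K L] (T : Set L)
    (hT : ∀ t ∈ T, IsAlgebraic A t)
    (hK : ∀ k : K, ∃ r c : A, algebraMap A L c ≠ 0 ∧ algebraMap K L k * algebraMap A L c = algebraMap A L r)
    [Algebra.IsAlgebraic (Algebra.adjoin K T) L] (x : L) : IsAlgebraic A x := by
  let Acl := Subalgebra.algebraicClosure A L
  have hle : ∀ y, y ∈ Algebra.adjoin K T → y ∈ Acl := by
    intro y hy
    induction hy using Algebra.adjoin_induction with
    | mem t ht => exact hT t ht
    | algebraMap k =>
      obtain ⟨r, c, hc, h⟩ := hK k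
      show IsAlgebraic A _
      rw [show algebraMap K L k = algebraMap A L r * (algebraMap A L c)⁻¹ from (eq_mul_inv_iff_mul_eq₀ hc).2 h]
      exact (isAlgebraic_algebraMap r).mul (isAlgebraic_algebraMap c).inv
    | add a b _ _ ha hb => exact add_mem ha hb
    | mul a b _ _ ha hb => exact mul_mem ha hb
  let ι : Algebra.adjoin K T →+* Acl :=
    (Algebra.adjoin K T).subtype.codRestrict Acl (fun y => hle y.1 y.2)
  have hx : IsAlgebraic Acl x := (Algebra.IsAlgebraic.isAlgebraic (R := Algebra.adjoin K T) x).ringHom_of_comp_eq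
    ι (RingHom.id L) (fun a b e => Subtype.ext (congrArg (fun z : Acl => (z : L)) e)) rfl
  exact hx.restrictScalars A

theorem exists_quasiFiniteAt_mvPolynomial {R B : Type u} [CommRing R] [CommRing B] [Algebra R B]
    [Algebra.FiniteType R B] (q : Ideal B) [q.IsPrime]
    (hmin : ∀ q' : Ideal B, q'.IsPrime → q' ≤ q →
      q'.comap (algebraMap R B) = q.comap (algebraMap R B) → q' = q) :
    ∃ (σ : Type u) (φ : MvPolynomial σ R →ₐ[R] B),
      (∀ f, f ∈ q.comap φ.toRingHom → ∀ m, coeff m f ∈ q.comap (algebraMap R B)) ∧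
      letI := φ.toRingHom.toAlgebra
      Algebra.QuasiFiniteAt (MvPolynomial σ R) q := by
  set p := q.comap (algebraMap R B) with hp
  let K := p.ResidueField
  let L := q.ResidueField
  letI : Algebra K L := (Ideal.ResidueField.map p q (algebraMap R B) hp).toAlgebra
  haveI : IsScalarTower R K L := IsScalarTower.of_algebraMap_eq fun r => by
    rw [IsScalarTower.algebraMap_apply R B L]
    exact (Ideal.ResidueField.map_algebraMap p q (algebraMap R B) hp r).symm
  let s : Set L := Set.range (algebraMap B L)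
  have hfrac : ∀ x : L, ∃ a b : B, algebraMap B L b ≠ 0 ∧ x * algebraMap B L b = algebraMap B L a := by
    intro x
    obtain ⟨a', b', hb', rfl⟩ := IsFractionRing.div_surjective (B ⧸ q) x
    obtain ⟨a, rfl⟩ := Ideal.Quotient.mk_surjective a'
    obtain ⟨b, rfl⟩ := Ideal.Quotient.mk_surjective b'
    have hb : algebraMap B L b ≠ 0 := by
      rw [IsScalarTower.algebraMap_apply B (B ⧸ q) L]
      exact IsFractionRing.to_map_ne_zero_of_mem_nonZeroDivisors hb'
    refine ⟨a, b, hb, ?_⟩
    rw [IsScalarTower.algebraMap_apply B (B ⧸ q) L b, IsScalarTower.algebraMap_apply B (B ⧸ q) L a]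
    rw [IsScalarTower.algebraMap_apply B (B ⧸ q) L] at hb
    exact div_mul_cancel₀ _ hb
  haveI : Algebra.IsAlgebraic (Algebra.adjoin K s) L := by
    refine ⟨fun x => ?_⟩
    obtain ⟨a, b, hb, hx⟩ := hfrac x
    let a' : Algebra.adjoin K s := ⟨_, Algebra.subset_adjoin ⟨a, rfl⟩⟩
    let b' : Algebra.adjoin K s := ⟨_, Algebra.subset_adjoin ⟨b, rfl⟩⟩
    refine ⟨Polynomial.C b' * Polynomial.X - Polynomial.C a', fun h => hb ?_, ?_⟩
    · have := congrArg (fun P : Polynomial (Algebra.adjoin K s) => P.coeff 1) h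
      simp only [Polynomial.coeff_sub, Polynomial.coeff_C_mul, Polynomial.coeff_X_one, mul_one,
        Polynomial.coeff_C, one_ne_zero, if_false, sub_zero, Polynomial.coeff_zero] at this
      exact congrArg Subtype.val this
    · simp only [map_sub, map_mul, Polynomial.aeval_C, Polynomial.aeval_X]
      show algebraMap B L b * x - algebraMap B L a = 0
      rw [mul_comm, hx, sub_self]
  obtain ⟨t, hts, ht⟩ := exists_isTranscendenceBasis_subset (R := K) s
  choose b hb using fun i : t => hts i.2
  refine ⟨t, MvPolynomial.aeval b, ?_⟩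
  set φ : MvPolynomial t R →ₐ[R] B := MvPolynomial.aeval b with hφ
  have heval : ∀ f, algebraMap B L (φ f) = MvPolynomial.aeval (fun i : t => (i : L)) (MvPolynomial.map (algebraMap R K) f) := by
    intro f
    rw [aeval_map_algebraMap, hφ, ← MvPolynomial.aeval_algebraMap_apply]
    exact congrArg (fun z => MvPolynomial.aeval z f) (funext hb)
  have hP : ∀ f, f ∈ q.comap φ.toRingHom ↔ ∀ m, coeff m f ∈ p := by
    intro f
    rw [Ideal.mem_comap, show φ.toRingHom f = φ f from rfl,
      ← Ideal.algebraMap_residueField_eq_zero (I := q), heval,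
      map_eq_zero_iff _ ht.1, MvPolynomial.ext_iff]
    refine forall_congr' fun m => ?_
    rw [coeff_map, coeff_zero, Ideal.algebraMap_residueField_eq_zero]
  refine ⟨fun f hf => (hP f).1 hf, ?_⟩
  letI := φ.toRingHom.toAlgebra
  haveI : IsScalarTower R (MvPolynomial t R) B := IsScalarTower.of_algebraMap_eq fun r => (φ.commutes r).symm
  haveI : Algebra.FiniteType (MvPolynomial t R) B := Algebra.FiniteType.of_restrictScalars_finiteType R _ B
  let A' := ((algebraMap B L).comp φ.toRingHom).range
  have hmem : ∀ f, algebraMap B L (φ f) ∈ A' := fun f => ⟨f, rfl⟩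
  have halg : ∀ x : L, IsAlgebraic A' x := by
    haveI : Algebra.IsAlgebraic (Algebra.adjoin K (Set.range fun i : t => (i : L))) L := ht.isAlgebraic
    refine isAlgebraic_of_fractions (K := K) (Set.range fun i : t => (i : L)) ?_ ?_
    · rintro _ ⟨i, rfl⟩
      exact isAlgebraic_algebraMap (⟨(i : L), ⟨X i, by simp [hφ, hb]⟩⟩ : A')
    · intro k
      obtain ⟨r', c', hc', rfl⟩ := IsFractionRing.div_surjective (R ⧸ p) k
      obtain ⟨r, rfl⟩ := Ideal.Quotient.mk_surjective r'
      obtain ⟨c, rfl⟩ := Ideal.Quotient.mk_surjective c'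
      have hR : ∀ a : R, algebraMap K L (algebraMap (R ⧸ p) K (Ideal.Quotient.mk p a)) = algebraMap R L a := by
        intro a
        rw [IsScalarTower.algebraMap_apply R K L, IsScalarTower.algebraMap_apply R (R ⧸ p) K]
        rfl
      have hC : ∀ a : R, algebraMap B L (φ (C a)) = algebraMap R L a := by
        intro a
        rw [hφ, aeval_C, ← IsScalarTower.algebraMap_apply]
      refine ⟨⟨_, hmem (C r)⟩, ⟨_, hmem (C c)⟩, ?_, ?_⟩
      · show algebraMap B L (φ (C c)) ≠ 0
        rw [hC, ← hR]
        exact (map_ne_zero _).2 (IsFractionRing.to_map_ne_zero_of_mem_nonZeroDivisors hc')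
      · show algebraMap K L _ * algebraMap B L (φ (C c)) = algebraMap B L (φ (C r))
        rw [hC, hC, ← hR, ← hR, ← map_mul,
          div_mul_cancel₀ _ (IsFractionRing.to_map_ne_zero_of_mem_nonZeroDivisors hc')]
  have hmax : ∀ q' : Ideal B, q'.IsPrime → q ≤ q' →
      q'.comap (algebraMap (MvPolynomial t R) B) = q.comap (algebraMap (MvPolynomial t R) B) → q' = q := by
    intro q' _ hle he
    refine le_antisymm (fun x hx => ?_) hle
    by_contra hxq
    have hx0 : algebraMap B L x ≠ 0 := fun h => hxq (Ideal.algebraMap_residueField_eq_zero.1 h)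
    obtain ⟨w, hw, r, hr, hxw⟩ := (halg (algebraMap B L x)).exists_nonzero_eq_adjoin_mul
      (mem_nonZeroDivisors_of_ne_zero hx0)
    obtain ⟨f, hf⟩ := r.2
    have hw' : w ∈ (algebraMap B L).range := by
      clear hxw
      induction hw using Algebra.adjoin_induction with
      | mem a ha => exact ⟨x, (Set.mem_singleton_iff.1 ha).symm⟩
      | algebraMap a => obtain ⟨g, hg⟩ := a.2; exact ⟨φ g, hg⟩
      | add a b _ _ ha hb => exact add_mem ha hb
      | mul a b _ _ ha hb => exact mul_mem ha hb
    obtain ⟨w', rfl⟩ := hw'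
    have hmemq : x * w' - φ f ∈ q := by
      rw [← Ideal.algebraMap_residueField_eq_zero (I := q), map_sub, map_mul, hxw]
      show (r : L) - algebraMap B L (φ f) = 0
      rw [← hf]; exact sub_self _
    have hfq : f ∈ q'.comap (algebraMap (MvPolynomial t R) B) := by
      show φ f ∈ q'
      have := q'.sub_mem (q'.mul_mem_right w' hx) (hle hmemq)
      rwa [sub_sub_cancel] at this
    rw [he] at hfq
    apply hr
    refine Subtype.ext (hf.symm.trans ?_)
    exact Ideal.algebraMap_residueField_eq_zero.2 hfq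
  refine Algebra.QuasiFiniteAt.of_isOpen_singleton_fiber ⟨q, inferInstance⟩ ?_
  set P := PrimeSpectrum.comap (algebraMap (MvPolynomial t R) B) ⟨q, inferInstance⟩
  let e := PrimeSpectrum.preimageHomeomorphFiber (MvPolynomial t R) B P
  rw [← e.isOpen_image, Set.image_singleton]
  haveI : IsJacobsonRing (P.asIdeal.Fiber B) := isJacobsonRing_of_finiteType (A := P.asIdeal.ResidueField)
  haveI : IsNoetherianRing (P.asIdeal.Fiber B) := Algebra.FiniteType.isNoetherianRing P.asIdeal.ResidueField _
  refine ((PrimeSpectrum.isOpen_singleton_tfae_of_isNoetherian_of_isJacobsonRing _).out 2 0 rfl rfl).1 ⟨?_, ?_⟩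
  · rw [← Set.image_singleton, e.isClosed_image]
    refine isClosed_induced_iff.2 ⟨PrimeSpectrum.zeroLocus q, PrimeSpectrum.isClosed_zeroLocus _, ?_⟩
    ext z
    simp only [Set.mem_preimage, PrimeSpectrum.mem_zeroLocus, SetLike.coe_subset_coe, Set.mem_singleton_iff]
    refine ⟨fun h => ?_, fun h => by rw [h]⟩
    refine Subtype.ext (PrimeSpectrum.ext ?_)
    exact hmax z.1.asIdeal z.1.2 h (congrArg PrimeSpectrum.asIdeal z.2)
  · rw [PrimeSpectrum.stableUnderGeneralization_singleton, ← PrimeSpectrum.isMin_iff]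
    intro z hz
    have h1 := (PrimeSpectrum.le_iff_specializes _ _).1 hz
    have h2 : (e.symm z).1.asIdeal ≤ q := by
      have := (h1.map e.symm.continuous).map continuous_subtype_val
      rw [e.symm_apply_apply] at this
      exact (PrimeSpectrum.le_iff_specializes _ _).2 this
    have h3 := hmin _ (e.symm z).1.2 h2 (by
      rw [IsScalarTower.algebraMap_eq R (MvPolynomial t R) B, ← Ideal.comap_comap,
        show (e.symm z).1.asIdeal.comap (algebraMap (MvPolynomial t R) B) = P.asIdeal from
          congrArg PrimeSpectrum.asIdeal (e.symm z).2]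
      show (q.comap (algebraMap (MvPolynomial t R) B)).comap (algebraMap R (MvPolynomial t R)) = p
      rw [Ideal.comap_comap, ← IsScalarTower.algebraMap_eq, hp])
    have h4 : z = e ⟨⟨q, inferInstance⟩, rfl⟩ := by
      rw [← e.apply_symm_apply z]
      exact congrArg e (Subtype.ext (PrimeSpectrum.ext h3))
    rw [h4]

theorem eq_of_le_le {R B : Type u} [CommRing R] [IsDomain R] [ValuationRing R] [CommRing B] [Algebra R B]
    [Algebra.FiniteType R B] (q a a' : Ideal B) [q.IsPrime] [a.IsPrime] [a'.IsPrime]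
    (hmin : ∀ q' : Ideal B, q'.IsPrime → q' ≤ q →
      q'.comap (algebraMap R B) = q.comap (algebraMap R B) → q' = q)
    (h1 : a ≤ a') (h2 : a' ≤ q) (h3 : a.comap (algebraMap R B) = a'.comap (algebraMap R B)) : a = a' := by
  obtain ⟨σ, φ, hcoef, hqf⟩ := exists_quasiFiniteAt_mvPolynomial q hmin
  letI := φ.toRingHom.toAlgebra
  haveI := hqf
  haveI : Algebra.QuasiFiniteAt (MvPolynomial σ R) a' := Algebra.QuasiFiniteAt.of_le h2
  refine Algebra.QuasiFiniteAt.eq_of_le_of_under_eq (R := MvPolynomial σ R) h1 ?_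
  refine le_antisymm (Ideal.comap_mono h1) fun f hf => ?_
  have hC : ∀ m, coeff m f ∈ a.comap (algebraMap R B) := fun m => by
    rw [h3]
    have := forall_coeff_mem_of_le (q.comap φ.toRingHom) (q.comap (algebraMap R B)) hcoef
      (a'.comap φ.toRingHom) (Ideal.comap_mono h2) f hf m
    show algebraMap R B _ ∈ a'
    rw [← φ.commutes]
    exact this
  show φ f ∈ a
  rw [f.as_sum, map_sum]
  refine Ideal.sum_mem a fun m _ => ?_
  rw [monomial_eq, map_mul]
  refine a.mul_mem_right _ ?_
  rw [show φ (C (coeff m f)) = algebraMap R B (coeff m f) from φ.commutes _]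
  exact hC m

end Groth.Agent.FlatMor68.ValFibreGeneric
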