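import Groth.Agent.FlatMor67.FlatAtBC
import Groth.Agent.FlatMor68.FibreBasisTFAE
import Groth.Agent.RG29.StepFlat
import Groth.Agent.RG29.DevBaseChange
import Groth.Agent.RG29.SectionML
import Groth.Agent.FCx40.Valuative
import Groth.Agent.E4O.DvrDom
import Mathlib.RingTheory.Unramified.Finite
import Mathlib.RingTheory.TensorProduct.IsBaseChangePi

/-!
# Flatness after base change to a valuation ring: basic lemmas
-/

set_option autoImplicit false
set_option linter.style.haveILetI false
set_option maxHeartbeats 800000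
set_option synthInstance.maxHeartbeats 200000

universe u

open TensorProduct

namespace Groth.Agent.FlatMor68.ValFlatBase

/-- The base change of `M` to `V` is flat over `V`, in terms of tensor products over `A`. -/
def VFlat (A V M : Type u) [CommRing A] [CommRing V] [Algebra A V] [AddCommGroup M] [Module A M] :
    Prop :=
  ∀ (X Y : Type u) [AddCommGroup X] [Module V X] [Module A X] [IsScalarTower A V X]
    [AddCommGroup Y] [Module V Y] [Module A Y] [IsScalarTower A V Y] (u : X →ₗ[V] Y),
    Function.Injective u → Function.Injective ((u.restrictScalars A).lTensor M)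

/-- The residue field of `V` is algebraic over that of the prime `p` of the base. -/
def AlgRes {A : Type u} [CommRing A] (p : Ideal A) [p.IsPrime] (V : Type u) [CommRing V] [IsLocalRing V]
    [Algebra A V] : Prop :=
  ∃ g : Localization.AtPrime p →+* IsLocalRing.ResidueField V,
    (∀ a : A, g (algebraMap A (Localization.AtPrime p) a) = IsLocalRing.residue V (algebraMap A V a)) ∧
      g.IsIntegral

section

variable {A V M : Type u} [CommRing A] [CommRing V] [Algebra A V] [AddCommGroup M] [Module A M]

theorem vflat_iff_flat : VFlat A V M ↔ Module.Flat V (V ⊗[A] M) := by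
  let c := fun (X : Type u) [AddCommGroup X] [Module V X] [Module A X] [IsScalarTower A V X] =>
    (AlgebraTensorModule.cancelBaseChange A V V X M).toAddEquiv.trans
      (TensorProduct.comm A X M).toAddEquiv
  have hc : ∀ (X Y : Type u) [AddCommGroup X] [Module V X] [Module A X] [IsScalarTower A V X]
      [AddCommGroup Y] [Module V Y] [Module A Y] [IsScalarTower A V Y] (u : X →ₗ[V] Y)
      (w : X ⊗[V] (V ⊗[A] M)),
      c Y (u.rTensor (V ⊗[A] M) w) = (u.restrictScalars A).lTensor M (c X w) := by
    intro X Y _ _ _ _ _ _ _ _ u w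
    induction w using TensorProduct.induction_on with
    | zero => simp
    | tmul x z =>
      induction z using TensorProduct.induction_on with
      | zero => simp
      | tmul a m => simp [c]
      | add a b ha hb => simp only [tmul_add, map_add, ha, hb]
    | add a b ha hb => simp only [map_add, ha, hb]
  constructor
  · intro h
    rw [Module.Flat.iff_rTensor_preserves_injective_linearMap]
    intro X Y _ _ _ _ u hu
    letI : Module A X := Module.compHom X (algebraMap A V)
    letI : Module A Y := Module.compHom Y (algebraMap A V)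
    haveI : IsScalarTower A V X := IsScalarTower.of_algebraMap_smul fun _ _ => rfl
    haveI : IsScalarTower A V Y := IsScalarTower.of_algebraMap_smul fun _ _ => rfl
    refine fun a b hab => (c X).injective (h X Y u hu ?_)
    rw [← hc, ← hc, hab]
  · intro h X Y _ _ _ _ _ _ _ _ u hu a b hab
    obtain ⟨a, rfl⟩ := (c X).surjective a
    obtain ⟨b, rfl⟩ := (c X).surjective b
    rw [← hc, ← hc] at hab
    rw [Module.Flat.rTensor_preserves_injective_linearMap u hu ((c Y).injective hab)]

end

section At

variable {A V B M : Type u} [CommRing A] [CommRing V] [Algebra A V] [CommRing B] [Algebra A B]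
  [AddCommGroup M] [Module A M] [Module B M] [IsScalarTower A B M]

variable (A V) in
/-- The base change of the localization of `M` at `q` to `V` is flat over `V`, elementwise. -/
def VFlatAt (q : Ideal B) (M : Type u) [AddCommGroup M] [Module A M] [Module B M] [IsScalarTower A B M] :
    Prop :=
  ∀ (X Y : Type u) [AddCommGroup X] [Module V X] [Module A X] [IsScalarTower A V X]
    [AddCommGroup Y] [Module V Y] [Module A Y] [IsScalarTower A V Y] (u : X →ₗ[V] Y),
    Function.Injective u → ∀ z : M ⊗[A] X, (u.restrictScalars A).lTensor M z = 0 → ∃ s ∉ q, s • z = 0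

theorem vflatAt_of_vflat (q : Ideal B) [hq : q.IsPrime] (h : VFlat A V M) : VFlatAt A V q M :=
  fun X Y _ _ _ _ _ _ _ _ u hu z hz =>
    ⟨1, fun h1 => hq.ne_top ((Ideal.eq_top_iff_one q).2 h1),
      by rw [show z = 0 from h X Y u hu (hz.trans (map_zero _).symm), smul_zero]⟩

theorem vflatAt_of_equiv {q : Ideal B} {M' : Type u} [AddCommGroup M'] [Module A M'] [Module B M']
    [IsScalarTower A B M'] (e : M ≃ₗ[B] M') (h : VFlatAt A V q M) : VFlatAt A V q M' := by
  intro X Y _ _ _ _ _ _ _ _ u hu z hz
  let E := fun (Z : Type u) [AddCommGroup Z] [Module A Z] =>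
    AlgebraTensorModule.congr (A := B) e (LinearEquiv.refl A Z)
  have hnat : ∀ w, E Y ((u.restrictScalars A).lTensor M w) = (u.restrictScalars A).lTensor M' (E X w) :=
    fun w => by
      induction w using TensorProduct.induction_on with
      | zero => simp
      | tmul m x => simp [E]
      | add a b ha hb => simp only [map_add, ha, hb]
  obtain ⟨w, rfl⟩ := (E X).surjective z
  rw [← hnat, LinearEquiv.map_eq_zero_iff] at hz
  obtain ⟨s, hs, hsw⟩ := h X Y u hu w hz
  exact ⟨s, hs, by rw [← map_smul, hsw, map_zero]⟩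

/-- A cokernel of a map universally injective after base change keeps flatness. -/
theorem vflatAt_coker {q : Ideal B} {P Q : Type u} [AddCommGroup P] [Module A P] [AddCommGroup Q] [Module A Q]
    [Module B Q] [IsScalarTower A B Q]
    (a : P →ₗ[A] M) (g : M →ₗ[B] Q) (hex : Function.Exact a g) (hg : Function.Surjective g)
    (ha : ∀ (X : Type u) [AddCommGroup X] [Module V X] [Module A X] [IsScalarTower A V X],
      Function.Injective (a.rTensor X))
    (h : VFlatAt A V q M) : VFlatAt A V q Q := by
  intro X Y _ _ _ _ _ _ _ _ u hu z hz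
  let gA : M →ₗ[A] Q := g.restrictScalars A
  obtain ⟨m, rfl⟩ := LinearMap.rTensor_surjective X (g := gA) hg z
  let uA := u.restrictScalars A
  have hm : gA.rTensor Y (uA.lTensor M m) = 0 := by
    rw [← LinearMap.comp_apply (gA.rTensor Y), LinearMap.rTensor_comp_lTensor,
      ← LinearMap.lTensor_comp_rTensor, LinearMap.comp_apply]
    exact hz
  obtain ⟨v, hv⟩ := (rTensor_exact Y (g := gA) hex hg _).1 hm
  let C := Y ⧸ LinearMap.range u
  let π := ((LinearMap.range u).mkQ).restrictScalars A
  have hπ : Function.Exact uA π := fun y => by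
    show Submodule.Quotient.mk y = 0 ↔ y ∈ Set.range u
    rw [Submodule.Quotient.mk_eq_zero]
    rfl
  have hπs : Function.Surjective π := Submodule.mkQ_surjective _
  have hv0 : π.lTensor P v = 0 := ha C (by
    rw [map_zero, ← LinearMap.comp_apply (a.rTensor C), LinearMap.rTensor_comp_lTensor,
      ← LinearMap.lTensor_comp_rTensor, LinearMap.comp_apply, hv, ← LinearMap.lTensor_comp_apply,
      hπ.linearMap_comp_eq_zero, LinearMap.lTensor_zero, LinearMap.zero_apply])
  obtain ⟨v', hv'⟩ := (lTensor_exact P hπ hπs _).1 hv0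
  obtain ⟨s, hs, hsm⟩ := h X Y u hu (m - a.rTensor X v') (by
    rw [map_sub, ← hv, ← hv', ← LinearMap.comp_apply (a.rTensor Y), ← LinearMap.comp_apply _ (a.rTensor X),
      LinearMap.rTensor_comp_lTensor, LinearMap.lTensor_comp_rTensor, sub_self])
  refine ⟨s, hs, ?_⟩
  have hlin : ∀ w, gA.rTensor X (s • w) = s • gA.rTensor X w :=
    fun w => map_smul (AlgebraTensorModule.rTensor A X g) s w
  have h0 : gA.rTensor X (a.rTensor X v') = 0 := by
    rw [← LinearMap.rTensor_comp_apply, hex.linearMap_comp_eq_zero (g := gA), LinearMap.rTensor_zero,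
      LinearMap.zero_apply]
  rw [show gA.rTensor X m = gA.rTensor X (m - a.rTensor X v') by rw [map_sub, h0, sub_zero], ← hlin, hsm,
    map_zero]

end At

/-- Flatness at a prime may be tested over a smaller algebra. -/
theorem vflatAt_iff_of_algebra {A V D C M : Type u} [CommRing A] [CommRing V] [Algebra A V] [CommRing D]
    [CommRing C] [Algebra A D] [Algebra A C] [Algebra D C] [AddCommGroup M] [Module C M] [Module D M]
    [Module A M] [IsScalarTower D C M] [IsScalarTower A C M] [IsScalarTower A D M]
    (z : Ideal C) (y : Ideal D) (hzy : z.comap (algebraMap D C) = y)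
    (h : ∀ J : Ideal C, ¬ J ≤ z → ∃ d : D, d ∉ y ∧ algebraMap D C d ∈ J) :
    VFlatAt A V z M ↔ VFlatAt A V y M := by
  constructor
  · intro hz X Y _ _ _ _ _ _ _ _ u hu w hw
    obtain ⟨c, hc, hcw⟩ := hz X Y u hu w hw
    obtain ⟨d, hd, hdJ⟩ := h (LinearMap.ker (LinearMap.toSpanSingleton C _ w)) fun hle => hc (hle (by
      rw [LinearMap.mem_ker, LinearMap.toSpanSingleton_apply, hcw]))
    refine ⟨d, hd, ?_⟩
    rw [LinearMap.mem_ker, LinearMap.toSpanSingleton_apply, algebraMap_smul] at hdJ
    exact hdJ
  · intro hy X Y _ _ _ _ _ _ _ _ u hu w hw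
    obtain ⟨d, hd, hdw⟩ := hy X Y u hu w hw
    exact ⟨algebraMap D C d, fun h' => hd (hzy.le h'), by rw [algebraMap_smul, hdw]⟩

/-- Base change along a flat algebra upstairs. -/
theorem vflatAt_flat_algebra {A V B B' : Type u} [CommRing A] [CommRing V] [Algebra A V] [CommRing B]
    [CommRing B'] [Algebra A B] [Algebra B B'] [Algebra A B'] [IsScalarTower A B B'] [Module.Flat B B']
    {M : Type u} [AddCommGroup M] [Module A M] [Module B M] [IsScalarTower A B M]
    (q : Ideal B) [q.IsPrime] (q' : Ideal B') [q'.IsPrime] [hq : q'.LiesOver q]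
    (h : VFlatAt A V q M) : VFlatAt A V q' (B' ⊗[B] M) := by
  intro X Y _ _ _ _ _ _ _ _ u hu z hz
  let uA := u.restrictScalars A
  let aX := AlgebraTensorModule.assoc A B B' B' M X
  let aY := AlgebraTensorModule.assoc A B B' B' M Y
  let K : M ⊗[A] X →ₗ[B] M ⊗[A] Y := AlgebraTensorModule.lTensor B M uA
  have hassoc : ∀ w, aY (uA.lTensor (B' ⊗[B] M) w) = K.lTensor B' (aX w) := fun w => by
    induction w using TensorProduct.induction_on with
    | zero => simp
    | tmul y n =>
      induction y using TensorProduct.induction_on with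
      | zero => simp
      | add a b ha hb => simp only [TensorProduct.add_tmul, map_add, ha, hb]
      | tmul l m => rfl
    | add a b ha hb => simp only [map_add, ha, hb]
  have hK : K.lTensor B' (aX z) = 0 := by
    rw [← hassoc, show uA.lTensor (B' ⊗[B] M) z = 0 from hz, map_zero]
  obtain ⟨w, hw⟩ := (Module.Flat.lTensor_exact B' (LinearMap.exact_subtype_ker_map K) (aX z)).1 hK
  suffices ∀ w : B' ⊗[B] LinearMap.ker K, ∃ t ∉ q, t • (LinearMap.ker K).subtype.lTensor B' w = 0 by
    obtain ⟨t, ht, htw⟩ := this w
    refine ⟨algebraMap B B' t, fun h' => ht (hq.over.ge h'), aX.injective ?_⟩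
    rw [map_smul, ← hw, algebraMap_smul, htw, map_zero]
  intro w
  induction w using TensorProduct.induction_on with
  | zero => exact ⟨1, fun h1 => ‹q.IsPrime›.ne_top ((Ideal.eq_top_iff_one q).2 h1), by simp⟩
  | tmul s k =>
    obtain ⟨t, ht, htk⟩ := h X Y u hu k k.2
    refine ⟨t, ht, ?_⟩
    rw [LinearMap.lTensor_tmul, Submodule.subtype_apply, ← TensorProduct.tmul_smul, htk, tmul_zero]
  | add a b ha hb =>
    obtain ⟨t₁, ht₁, h₁⟩ := ha
    obtain ⟨t₂, ht₂, h₂⟩ := hb
    refine ⟨t₁ * t₂, ‹q.IsPrime›.mul_notMem ht₁ ht₂, ?_⟩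
    rw [map_add, smul_add, mul_smul t₁ t₂ ((LinearMap.ker K).subtype.lTensor B' b), h₂, smul_zero, add_zero,
      mul_comm, mul_smul, h₁, smul_zero]

section Unramified

variable {A A' : Type u} [CommRing A] [CommRing A'] [Algebra A A']
  (N X : Type u) [AddCommGroup N] [Module A N] [Module A' N] [IsScalarTower A A' N]
  [AddCommGroup X] [Module A X] [Module A' X] [IsScalarTower A A' X]

/-- The action of `A' ⊗ A'` on `N ⊗ X`. -/
noncomputable def act : A' ⊗[A] A' →ₗ[A] Module.End A (N ⊗[A] X) :=
  TensorProduct.lift ((TensorProduct.mapBilinear (RingHom.id A) N X N X).compl₁₂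
    (Algebra.lsmul A A N).toLinearMap (Algebra.lsmul A A X).toLinearMap)

theorem act_tmul (a b : A') (n : N) (x : X) : act N X (a ⊗ₜ b) (n ⊗ₜ[A] x) = (a • n) ⊗ₜ (b • x) := by
  simp [act]

theorem act_mul (s t : A' ⊗[A] A') : act N X (s * t) = act N X s * act N X t := by
  induction s using TensorProduct.induction_on with
  | zero => simp
  | tmul a b =>
    induction t using TensorProduct.induction_on with
    | zero => simp
    | tmul c d =>
      refine TensorProduct.ext' fun n x => ?_
      simp [act_tmul, Algebra.TensorProduct.tmul_mul_tmul, mul_smul]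
    | add p q hp hq => simp only [mul_add, map_add, hp, hq]
  | add p q hp hq => simp only [add_mul, map_add, hp, hq]

theorem vflatAt_of_unramified [Algebra.FormallyUnramified A A'] [Algebra.EssFiniteType A A'] {V : Type u}
    [CommRing V] [Algebra A V] [Algebra A' V] [IsScalarTower A A' V] {B : Type u} [CommRing B] [Algebra A B]
    [Algebra A' B] [IsScalarTower A A' B] [Module B N] [IsScalarTower A B N] [IsScalarTower A' B N]
    (q : Ideal B) (h : VFlatAt A V q N) : VFlatAt A' V q N := by
  intro X Y _ _ _ _ _ _ _ _ u hu z hz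
  letI : Module A X := Module.compHom X (algebraMap A V)
  letI : Module A Y := Module.compHom Y (algebraMap A V)
  haveI : IsScalarTower A V X := IsScalarTower.of_algebraMap_smul fun _ _ => rfl
  haveI : IsScalarTower A V Y := IsScalarTower.of_algebraMap_smul fun _ _ => rfl
  haveI : IsScalarTower A A' X := IsScalarTower.of_algebraMap_smul fun c x => by
    rw [← algebraMap_smul V (algebraMap A A' c), ← IsScalarTower.algebraMap_apply, algebraMap_smul]
  haveI : IsScalarTower A A' Y := IsScalarTower.of_algebraMap_smul fun c x => by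
    rw [← algebraMap_smul V (algebraMap A A' c), ← IsScalarTower.algebraMap_apply, algebraMap_smul]
  let e := Algebra.FormallyUnramified.elem A A'
  have hbal : ∀ (Z : Type u) [AddCommGroup Z] [Module A Z] [Module A' Z] [IsScalarTower A A' Z]
      (r : A') (n : N) (z : Z), act N Z e ((r • n) ⊗ₜ z) = act N Z e (n ⊗ₜ (r • z)) := by
    intro Z _ _ _ _ r n z
    have h1 : (r • n) ⊗ₜ[A] z = act N Z (r ⊗ₜ 1) (n ⊗ₜ z) := by rw [act_tmul, one_smul]
    have h2 : n ⊗ₜ[A] (r • z) = act N Z (1 ⊗ₜ r) (n ⊗ₜ z) := by rw [act_tmul, one_smul]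
    rw [h1, h2, ← Module.End.mul_apply, ← Module.End.mul_apply, ← act_mul, ← act_mul, mul_comm e,
      mul_comm e, ← Algebra.FormallyUnramified.one_tmul_mul_elem (R := A) r]
  let σ := fun (Z : Type u) [AddCommGroup Z] [Module A Z] [Module A' Z] [IsScalarTower A A' Z] =>
    TensorProduct.liftAddHom (R := A') (M := N) (N := Z)
      (AddMonoidHom.mk' (fun n => AddMonoidHom.mk' (fun z => act N Z e (n ⊗ₜ[A] z))
        (fun z₁ z₂ => by rw [TensorProduct.tmul_add, map_add]))
        (fun n₁ n₂ => AddMonoidHom.ext fun z => by simp [TensorProduct.add_tmul]))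
      (hbal Z)
  have hnat : ∀ w : N ⊗[A'] X, σ Y ((u.restrictScalars A').lTensor N w) =
      (u.restrictScalars A).lTensor N (σ X w) := fun w => by
    induction w using TensorProduct.induction_on with
    | zero => simp
    | tmul n x =>
      show act N Y e (n ⊗ₜ[A] u x) = (u.restrictScalars A).lTensor N (act N X e (n ⊗ₜ[A] x))
      induction e using TensorProduct.induction_on with
      | zero => simp
      | tmul a b =>
        rw [act_tmul, act_tmul, LinearMap.lTensor_tmul]
        congr 1
        exact ((u.restrictScalars A').map_smul b x).symm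
      | add p q hp hq => simp only [map_add, LinearMap.add_apply, hp, hq]
    | add p q hp hq => simp only [map_add, hp, hq]
  let π : N ⊗[A] X →ₗ[A] N ⊗[A'] X :=
    TensorProduct.lift ((TensorProduct.mk A' N X).restrictScalars₁₂ A A)
  have hπ : ∀ w : N ⊗[A'] X, π (σ X w) = w := fun w => by
    induction w using TensorProduct.induction_on with
    | zero => simp
    | tmul n x =>
      show π (act N X e (n ⊗ₜ[A] x)) = _
      have : ∀ t : A' ⊗[A] A', π (act N X t (n ⊗ₜ[A] x)) =
          Algebra.TensorProduct.lmul' A t • (n ⊗ₜ[A'] x) := fun t => by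
        induction t using TensorProduct.induction_on with
        | zero => simp
        | tmul a b =>
          rw [act_tmul, Algebra.TensorProduct.lmul'_apply_tmul, mul_smul, ← TensorProduct.tmul_smul,
            TensorProduct.smul_tmul']
          rfl
        | add p q hp hq => simp only [map_add, LinearMap.add_apply, hp, hq, add_smul]
      rw [this, Algebra.FormallyUnramified.lmul_elem, one_smul]
    | add p q hp hq => simp only [map_add, hp, hq]
  have hπB : ∀ (b : B) (w : N ⊗[A] X), π (b • w) = b • π w := fun b w => by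
    induction w using TensorProduct.induction_on with
    | zero => simp
    | tmul n x => rfl
    | add p q hp hq => simp only [smul_add, map_add, hp, hq]
  obtain ⟨s, hs, hsz⟩ := h X Y u hu (σ X z) (by rw [← hnat, hz, map_zero])
  exact ⟨s, hs, by rw [← hπ z, ← hπB, hsz, map_zero]⟩

end Unramified

/-- Bijectivity after base change only depends on the composite algebra. -/
theorem bijective_baseChange_iff {B D K : Type u} [CommRing B] [CommRing D] [CommRing K] [Algebra B D]
    [Algebra B K] [Algebra D K] [IsScalarTower B D K] {P P' M M' : Type u} [AddCommGroup P] [Module B P]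
    [AddCommGroup M] [Module B M] [AddCommGroup P'] [Module D P'] [Module B P'] [IsScalarTower B D P']
    [AddCommGroup M'] [Module D M'] [Module B M'] [IsScalarTower B D M'] {f₁ : P →ₗ[B] P'} {f₂ : M →ₗ[B] M'}
    (h₁ : IsBaseChange D f₁) (h₂ : IsBaseChange D f₂) (α : P →ₗ[B] M) (α' : P' →ₗ[D] M')
    (hcomp : ∀ p, α' (f₁ p) = f₂ (α p)) :
    Function.Bijective (α'.baseChange K) ↔ Function.Bijective (α.baseChange K) := by
  let e₁ := (h₁.comp (TensorProduct.isBaseChange D P' K)).equiv
  let e₂ := (h₂.comp (TensorProduct.isBaseChange D M' K)).equiv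
  have hsq : ∀ w : K ⊗[B] P, α'.baseChange K (e₁ w) = e₂ (α.baseChange K w) := fun w => by
    induction w using TensorProduct.induction_on with
    | zero => simp
    | tmul k p => simp [e₁, e₂, IsBaseChange.equiv_tmul, hcomp]
    | add a b ha hb => simp only [map_add, ha, hb]
  rw [← Function.Bijective.of_comp_iff (α'.baseChange K) e₁.bijective,
    show (α'.baseChange K) ∘ e₁ = e₂ ∘ (α.baseChange K) from funext hsq,
    Function.Bijective.of_comp_iff' e₂.bijective]

/-- Flatness over the valuation ring at the closed fibre gives injectivity after tensor products. -/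
theorem univInj_of_vflat {R B V D : Type u} [CommRing R] [CommRing B] [CommRing V] [CommRing D]
    [Algebra R B] [Algebra R V] [Algebra B D] [Algebra V D] [Algebra R D] [IsScalarTower R B D]
    [IsScalarTower R V D] [Algebra.IsPushout R B V D] [IsLocalRing V] [Algebra.Smooth V D]
    (hirr : FlatCA.GeomIrredFibres V D) (wB : Ideal B) [wB.IsPrime] (w : Ideal D) [w.IsPrime]
    (hw : w = (IsLocalRing.maximalIdeal V).map (algebraMap V D)) (hwB : w.comap (algebraMap B D) = wB)
    {M : Type u} [AddCommGroup M] [Module B M] [Module R M] [IsScalarTower R B M] [Module.Finite B M]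
    {G : Type u} [AddCommGroup G] [Module D G] [Module V G] [IsScalarTower V D G] [Module B G]
    [IsScalarTower B D G] {f : M →ₗ[B] G} (hf : IsBaseChange D f)
    {r : ℕ} (α : (Fin r → B) →ₗ[B] M) (hb : Function.Bijective (α.baseChange wB.ResidueField))
    {y : Ideal B} (hy : wB ≤ y) (hV : VFlatAt R V y M) (X : Type u) [AddCommGroup X] [Module V X] [Module R X] [IsScalarTower R V X] :
    Function.Injective ((α.restrictScalars R).rTensor X) := by
  have hGw : FlatCA.FlatAt V w G := by
    unfold FlatCA.FlatAt
    rw [RG29.flat_localized_iff]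
    intro I z hz
    obtain ⟨cI, hcI⟩ := FlatMor67.FlatAtBC.exists_tensor_equiv (R := R) (R' := V) f hf I
    obtain ⟨cV, hcV⟩ := FlatMor67.FlatAtBC.exists_tensor_equiv (R := R) (R' := V) f hf V
    have hc : ∀ z, I.subtype.lTensor G (cI z) = cV ((I.subtype.restrictScalars R).lTensor M z) := fun z => by
      induction z using TensorProduct.induction_on with
      | zero => simp
      | tmul m x => simp [hcI, hcV]
      | add a b ha hb => simp only [map_add, ha, hb]
    have hsm : ∀ (s : B) z, cI (s • z) = algebraMap B D s • cI z := fun s z => by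
      induction z using TensorProduct.induction_on with
      | zero => simp
      | tmul m x => simp [hcI, TensorProduct.smul_tmul', map_smul]
      | add a b ha hb => simp only [smul_add, map_add, ha, hb]
    obtain ⟨z, rfl⟩ := cI.surjective z
    rw [hc, AddEquiv.map_eq_zero_iff] at hz
    obtain ⟨s, hs, hsz⟩ := hV I V I.subtype Subtype.val_injective z hz
    exact ⟨algebraMap B D s, fun h' => hs (hy (hwB.le h')), by rw [← hsm, hsz, map_zero]⟩
  haveI : Module.Finite D G := Module.Finite.equiv hf.equiv
  let f₁ : (Fin r → B) →ₗ[B] (Fin r → D) := (Algebra.linearMap B D).compLeft (Fin r)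
  have h₁ : IsBaseChange D f₁ := (IsBaseChange.linearMap B D).finitePow (Fin r)
  let α' : (Fin r → D) →ₗ[D] G := h₁.lift (f.comp α)
  have hα' : ∀ v, α' (f₁ v) = f (α v) := fun v => h₁.lift_eq _ v
  letI : Algebra wB.ResidueField w.ResidueField :=
    (Ideal.ResidueField.map wB w (algebraMap B D) hwB.symm).toAlgebra
  haveI : IsScalarTower B wB.ResidueField w.ResidueField := IsScalarTower.of_algebraMap_eq fun b => by
    rw [RingHom.algebraMap_toAlgebra, Ideal.ResidueField.map_algebraMap, ← IsScalarTower.algebraMap_apply]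
  have hb' : Function.Bijective (α'.baseChange w.ResidueField) := by
    refine (bijective_baseChange_iff h₁ hf α α' hα').2 ((bijective_baseChange_iff
      (TensorProduct.isBaseChange B (Fin r → B) wB.ResidueField) (TensorProduct.isBaseChange B M wB.ResidueField)
      α (α.baseChange wB.ResidueField) fun v => by simp).1 ?_)
    exact (LinearEquiv.ofBijective _ hb).baseChange wB.ResidueField w.ResidueField |>.bijective
  have hinj := RG29.univInj_of_flatAt hirr w hw hGw α' hb' X
  letI : Module B (Fin r → D) := Pi.module _ _ _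
  obtain ⟨cP, hcP⟩ := FlatMor67.FlatAtBC.exists_tensor_equiv (R := R) (R' := V) (S := B) (S' := D) f₁ h₁ X
  obtain ⟨cM, hcM⟩ := FlatMor67.FlatAtBC.exists_tensor_equiv (R := R) (R' := V) (S := B) (S' := D) f hf X
  have hc : ∀ z, (α'.restrictScalars V).rTensor X (cP z) = cM ((α.restrictScalars R).rTensor X z) := fun z => by
    induction z using TensorProduct.induction_on with
    | zero => simp
    | tmul m x => simp [hcP, hcM, hα']
    | add a b ha hb => simp only [map_add, ha, hb]
  intro a b hab
  refine cP.injective (hinj ?_)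
  rw [hc, hc, hab]

set_option maxHeartbeats 800000 in
/-- Injectivity after tensor products with modules over a valuation ring centred at the prime. -/
theorem univInj_dvr {R B V : Type u} [CommRing R] [CommRing B] [CommRing V] [Algebra R B] [Algebra R V]
    [IsLocalRing V] [Algebra.Smooth R B] (hirr : FlatCA.GeomIrredFibres R B) (p : Ideal R) [p.IsPrime]
    [hp : (p.map (algebraMap R B)).IsPrime]
    (hc : (IsLocalRing.maximalIdeal V).comap (algebraMap R V) = p)
    {M : Type u} [AddCommGroup M] [Module B M] [Module R M] [IsScalarTower R B M] [Module.Finite B M]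
    {r : ℕ} (α : (Fin r → B) →ₗ[B] M)
    (hb : Function.Bijective (α.baseChange (p.map (algebraMap R B)).ResidueField))
    {y : Ideal B} (hy : p.map (algebraMap R B) ≤ y) (hV : VFlatAt R V y M) (X : Type u) [AddCommGroup X] [Module V X] [Module R X] [IsScalarTower R V X] :
    Function.Injective ((α.restrictScalars R).rTensor X) := by
  letI : Algebra B (V ⊗[R] B) := Algebra.TensorProduct.rightAlgebra
  haveI : Algebra.IsPushout R B V (V ⊗[R] B) := inferInstance
  have hirr' := RG29.geomIrred_baseChange (R' := V) hirr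
  haveI hw := RG29.isPrime_map (IsLocalRing.maximalIdeal V) hirr'
  refine univInj_of_vflat (D := V ⊗[R] B) hirr' (p.map (algebraMap R B)) _ rfl ?_
    (TensorProduct.isBaseChange B M (V ⊗[R] B)) α hb hy hV X
  refine le_antisymm (fun b hbm => ?_) (Ideal.map_le_iff_le_comap.2 fun a ha => ?_)
  · let ψ : V ⊗[R] B →ₐ[R] IsLocalRing.ResidueField V ⊗[R] B :=
      Algebra.TensorProduct.map (IsScalarTower.toAlgHom R V (IsLocalRing.ResidueField V)) (AlgHom.id R B)
    have hker : (IsLocalRing.maximalIdeal V).map (algebraMap V (V ⊗[R] B)) ≤ RingHom.ker ψ.toRingHom :=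
      Ideal.map_le_iff_le_comap.2 fun v hv => by
        show ψ (v ⊗ₜ[R] (1 : B)) = 0
        simp only [ψ, Algebra.TensorProduct.map_tmul, IsScalarTower.coe_toAlgHom']
        rw [IsLocalRing.ResidueField.algebraMap_eq, (IsLocalRing.residue_eq_zero_iff v).2 hv, zero_tmul]
    have h0 : ψ ((1 : V) ⊗ₜ[R] b) = 0 := hker hbm
    simp only [ψ, Algebra.TensorProduct.map_tmul, map_one, AlgHom.coe_id, id_eq] at h0
    have hle : p ≤ RingHom.ker (algebraMap R (IsLocalRing.ResidueField V)) := fun a ha => by
      rw [RingHom.mem_ker, IsScalarTower.algebraMap_apply R V, IsLocalRing.ResidueField.algebraMap_eq,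
        IsLocalRing.residue_eq_zero_iff]
      exact hc.ge ha
    let j : R ⧸ p →ₐ[R] IsLocalRing.ResidueField V :=
      Ideal.Quotient.liftₐ p (Algebra.ofId R _) fun a ha => hle ha
    have hj : Function.Injective j := (injective_iff_map_eq_zero j).2 fun a ha => by
      obtain ⟨a, rfl⟩ := Ideal.Quotient.mk_surjective a
      rw [Ideal.Quotient.eq_zero_iff_mem, ← hc, Ideal.mem_comap, ← IsLocalRing.residue_eq_zero_iff]
      change algebraMap R (IsLocalRing.ResidueField V) a = 0 at ha
      rwa [IsScalarTower.algebraMap_apply R V, IsLocalRing.ResidueField.algebraMap_eq] at ha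
    have h1 : (Ideal.Quotient.mk p 1) ⊗ₜ[R] b = (0 : (R ⧸ p) ⊗[R] B) :=
      Module.Flat.rTensor_preserves_injective_linearMap (M := B) j.toLinearMap hj (by
        rw [map_zero, LinearMap.rTensor_tmul]
        show j 1 ⊗ₜ[R] b = 0
        rwa [map_one])
    have h2 := congrArg (TensorProduct.quotTensorEquivQuotSMul B p) h1
    rw [map_zero, TensorProduct.quotTensorEquivQuotSMul_mk_tmul, one_smul, Submodule.Quotient.mk_eq_zero,
      Ideal.smul_top_eq_map] at h2
    exact h2
  · rw [Ideal.mem_comap, Ideal.mem_comap, ← IsScalarTower.algebraMap_apply R B (V ⊗[R] B),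
      IsScalarTower.algebraMap_apply R V (V ⊗[R] B)]
    exact Ideal.mem_map_of_mem _ (hc.ge ha)

theorem mk'_sub_spec {C V : Type u} [CommRing C] [CommRing V] [Algebra C V] {M : Submonoid C}
    [IsLocalization M V] (c : C) (s : M) (t : C) :
    algebraMap C V (s : C) * (algebraMap C V (c * t) - IsLocalization.mk' V c s) =
      algebraMap C V (c * ((s : C) * t - 1)) := by
  simp only [map_mul, map_sub, map_one]
  linear_combination -IsLocalization.mk'_spec V c s

/-- A valuation ring centred at the closed point of a Noetherian local ring with algebraic residue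
extension, in which a given element outside a prime stays non-zero. -/
theorem exists_dvr_of_maximal {L : Type u} [CommRing L] [IsNoetherianRing L] [IsLocalRing L]
    {a : L} (y : Ideal L) [y.IsPrime] (ha : a ∉ y) (hmax : ∀ J : Ideal L, J.IsPrime → y < J → a ∈ J) :
    ∃ (V : Type u) (_ : CommRing V) (_ : IsDomain V) (_ : IsDiscreteValuationRing V) (f : L →+* V),
      f a ≠ 0 ∧ (IsLocalRing.maximalIdeal V).comap f = IsLocalRing.maximalIdeal L ∧
        ((IsLocalRing.residue V).comp f).IsIntegral := by
  by_cases hy : y = IsLocalRing.maximalIdeal L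
  · let κ := IsLocalRing.ResidueField L
    let f : L →+* PowerSeries κ := (PowerSeries.C).comp (IsLocalRing.residue L)
    have hmem : ∀ b : L, f b ∈ IsLocalRing.maximalIdeal (PowerSeries κ) ↔ b ∈ IsLocalRing.maximalIdeal L := fun b => by
      rw [IsLocalRing.mem_maximalIdeal, mem_nonunits_iff, PowerSeries.isUnit_iff_constantCoeff]
      show ¬ IsUnit (PowerSeries.constantCoeff (PowerSeries.C (IsLocalRing.residue L b))) ↔ _
      rw [PowerSeries.constantCoeff_C, isUnit_iff_ne_zero, not_not, IsLocalRing.residue_eq_zero_iff]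
    refine ⟨PowerSeries κ, inferInstance, inferInstance, inferInstance, f,
      fun h0 => ha (hy ▸ (hmem a).1 (h0 ▸ zero_mem _)), Ideal.ext hmem,
      RingHom.isIntegral_of_surjective _ fun x => ?_⟩
    obtain ⟨x, rfl⟩ := IsLocalRing.residue_surjective x
    obtain ⟨b, hb⟩ := IsLocalRing.residue_surjective (PowerSeries.constantCoeff x)
    refine ⟨b, (sub_eq_zero.1 ?_).symm⟩
    rw [RingHom.comp_apply, ← map_sub, IsLocalRing.residue_eq_zero_iff, IsLocalRing.mem_maximalIdeal,
      mem_nonunits_iff, PowerSeries.isUnit_iff_constantCoeff]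
    simp [f, hb]
  · let T := L ⧸ y
    haveI : IsLocalRing T := IsLocalRing.of_surjective' (Ideal.Quotient.mk y) Ideal.Quotient.mk_surjective
    let ā : T := Ideal.Quotient.mk y a
    have hā : ā ≠ 0 := fun h => ha (Ideal.Quotient.eq_zero_iff_mem.1 h)
    have hnz : ∀ P : Ideal T, P.IsPrime → P ≠ ⊥ → ā ∈ P := fun P hP hP0 => by
      refine hmax (P.comap (Ideal.Quotient.mk y)) inferInstance (lt_of_le_of_ne (fun x hx => ?_) fun heq => hP0 ?_)
      · rw [Ideal.mem_comap, Ideal.Quotient.eq_zero_iff_mem.2 hx]; exact zero_mem _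
      · rw [eq_bot_iff]
        intro x hx
        obtain ⟨x, rfl⟩ := Ideal.Quotient.mk_surjective x
        exact Ideal.Quotient.eq_zero_iff_mem.2 (heq.symm.le hx)
    have hT : ¬ IsField T := fun h =>
      hy (IsLocalRing.eq_maximalIdeal (Ideal.Quotient.maximal_of_isField _ h))
    have hm0 : IsLocalRing.maximalIdeal T ≠ ⊥ := fun h => hT (IsLocalRing.isField_iff_maximalIdeal_eq.2 h)
    have hdim : IsLocalRing.maximalIdeal T ∈ (Ideal.span {ā}).minimalPrimes := by
      by_contra hmin
      have hsub : ¬ ((IsLocalRing.maximalIdeal T : Set T) ⊆ ⋃ Q ∈ (Ideal.span {ā}).minimalPrimes, (Q : Set T)) := by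
        intro hsub
        obtain ⟨Q, hQ, hle⟩ :=
          (Ideal.subset_union_prime_finite (f := fun Q : Ideal T => Q) (Ideal.finite_minimalPrimes_of_isNoetherianRing T _) ⊥ ⊥
            (fun Q hQ _ _ => hQ.1.1)).1 hsub
        exact hmin ((IsLocalRing.maximalIdeal.isMaximal T).eq_of_le hQ.1.1.ne_top hle ▸ hQ)
      obtain ⟨b, hb, hbQ⟩ := Set.not_subset.1 hsub
      obtain ⟨P, hP⟩ := (Ideal.span {b}).nonempty_minimalPrimes (fun h => (IsLocalRing.maximalIdeal.isMaximal T).ne_top
        (eq_top_iff.2 (h ▸ (Ideal.span_singleton_le_iff_mem (I := IsLocalRing.maximalIdeal T)).2 hb)))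
      haveI := hP.1.1
      have hbP : b ∈ P := hP.1.2 (Ideal.mem_span_singleton_self b)
      have hb0 : b ≠ 0 := fun h0 => hbQ (by
        obtain ⟨Q, hQ, -⟩ := Ideal.exists_minimalPrimes_le (I := Ideal.span {ā}) (J := IsLocalRing.maximalIdeal T)
          ((Ideal.span_singleton_le_iff_mem _).2 (hnz _ inferInstance hm0))
        exact Set.mem_biUnion hQ (h0 ▸ Q.zero_mem))
      obtain ⟨Q, hQ, hQP⟩ := Ideal.exists_minimalPrimes_le (I := Ideal.span {ā}) (J := P)
        ((Ideal.span_singleton_le_iff_mem P).2 (hnz P inferInstance fun h => hb0 (Ideal.mem_bot.1 (h ▸ hbP))))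
      haveI := hQ.1.1
      rcases hQP.eq_or_lt with heq | hlt
      · exact hbQ (Set.mem_biUnion hQ (heq ▸ hbP))
      · have h1 : P.height ≤ 1 := Ideal.height_le_one_of_isPrincipal_of_mem_minimalPrimes _ P hP
        have hQ0 : Q ≠ ⊥ := fun h => hā (Ideal.mem_bot.1 (h ▸ hQ.1.2 (Ideal.mem_span_singleton_self ā)))
        have h2 := Ideal.height_strict_mono_of_isPrime_of_isPrime (I := (⊥ : Ideal T)) (bot_lt_iff_ne_bot.2 hQ0)
        rw [Order.lt_one_iff.1 ((Ideal.height_strict_mono_of_isPrime_of_isPrime hlt).trans_le h1)] at h2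
        simp at h2
    haveI : Ring.KrullDimLE 1 T := by
      rw [Ring.krullDimLE_iff, ← IsLocalRing.maximalIdeal_height_eq_ringKrullDim]
      exact_mod_cast Ideal.height_le_one_of_isPrincipal_of_mem_minimalPrimes _ _ hdim
    let K := FractionRing T
    let C := integralClosure T K
    haveI : IsDedekindDomain C := VarDim1.isDedekindDomain_integralClosure (L := K) K
    have hCinj : Function.Injective (algebraMap T C) := fun a b h =>
      IsFractionRing.injective T K (congrArg Subtype.val h)
    obtain ⟨Q, hQ, hQT⟩ := Ideal.exists_ideal_over_maximal_of_isIntegral (S := C) (IsLocalRing.maximalIdeal T)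
      (by rw [(RingHom.injective_iff_ker_eq_bot _).1 hCinj]; exact bot_le)
    haveI := hQ
    have hQ0 : Q ≠ ⊥ := by
      rintro rfl
      refine hm0 ?_
      rw [← hQT, ← RingHom.ker_eq_comap_bot, (RingHom.injective_iff_ker_eq_bot _).1 hCinj]
    let V := Localization.AtPrime Q
    haveI : IsDiscreteValuationRing V :=
      IsLocalization.AtPrime.isDiscreteValuationRing_of_dedekind_domain C hQ0 V
    let f : L →+* V := ((algebraMap C V).comp (algebraMap T C)).comp (Ideal.Quotient.mk y)
    refine ⟨V, inferInstance, inferInstance, inferInstance, f, fun h0 => hā ?_, ?_, ?_⟩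
    · exact hCinj ((IsLocalization.injective V Q.primeCompl_le_nonZeroDivisors (h0.trans (map_zero _).symm)).trans
        (map_zero _).symm)
    · have hne : (IsLocalRing.maximalIdeal V).comap f ≠ ⊤ :=
        Ideal.comap_ne_top f (IsLocalRing.maximalIdeal.isMaximal V).ne_top
      refine le_antisymm (IsLocalRing.le_maximalIdeal hne) fun b hb => ?_
      rw [Ideal.mem_comap]
      simp only [f, RingHom.comp_apply]
      rw [IsLocalization.AtPrime.to_map_mem_maximal_iff V Q, ← Ideal.mem_comap, hQT, IsLocalRing.mem_maximalIdeal,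
        mem_nonunits_iff]
      intro hu
      haveI : IsLocalHom (Ideal.Quotient.mk y) :=
        IsLocalHom.of_surjective (Ideal.Quotient.mk y) Ideal.Quotient.mk_surjective
      exact hb (isUnit_of_map_unit (Ideal.Quotient.mk y) b hu)
    · have hs : Function.Surjective ((IsLocalRing.residue V).comp (algebraMap C V)) := fun x => by
        obtain ⟨x, rfl⟩ := IsLocalRing.residue_surjective x
        obtain ⟨c, s, rfl⟩ := IsLocalization.exists_mk'_eq Q.primeCompl x
        obtain ⟨t, ht⟩ := (Ideal.Quotient.maximal_ideal_iff_isField_quotient Q |>.1 hQ).mul_inv_cancel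
          (a := Ideal.Quotient.mk Q (s : C)) (fun h => s.2 (Ideal.Quotient.eq_zero_iff_mem.1 h))
        obtain ⟨t, rfl⟩ := Ideal.Quotient.mk_surjective t
        rw [← map_mul, ← map_one (Ideal.Quotient.mk Q), Ideal.Quotient.eq] at ht
        refine ⟨c * t, sub_eq_zero.1 ?_⟩
        rw [RingHom.comp_apply, ← map_sub, IsLocalRing.residue_eq_zero_iff]
        have key := mk'_sub_spec (V := V) c s t
        have hmem : algebraMap C V (c * ((s : C) * t - 1)) ∈ IsLocalRing.maximalIdeal V :=
          (IsLocalization.AtPrime.to_map_mem_maximal_iff V Q _).2 (Q.mul_mem_left c ht)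
        rw [← key] at hmem
        exact (Ideal.unit_mul_mem_iff_mem _ (IsLocalization.map_units V s)).1 hmem
      exact ((RingHom.isIntegral_of_surjective _ Ideal.Quotient.mk_surjective).trans _ _
        ((algebraMap_isIntegral_iff.2 (inferInstance : Algebra.IsIntegral T C)).trans _ _
          (RingHom.isIntegral_of_surjective _ hs)))

/-- In a reduced Noetherian ring an element vanishing on all valuation rings centred at a prime
vanishes near the prime. -/
theorem exists_mul_eq_zero {R : Type u} [CommRing R] [IsReduced R] [IsNoetherianRing R] (p : Ideal R)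
    [p.IsPrime] (a : R)
    (h : ∀ (V : Type u) [CommRing V] [IsDomain V] [IsDiscreteValuationRing V] [Algebra R V],
      (IsLocalRing.maximalIdeal V).comap (algebraMap R V) = p → AlgRes p V → algebraMap R V a = 0) :
    ∃ c : R, c ∉ p ∧ c * a = 0 := by
  let L := Localization.AtPrime p
  have hmem : ∀ y : PrimeSpectrum L, algebraMap R L a ∈ y.asIdeal := fun y => by
    by_contra hay
    obtain ⟨y₁, hy₁⟩ : ∃ y₁ : Ideal L, Maximal (fun J : Ideal L => J.IsPrime ∧ algebraMap R L a ∉ J) y₁ :=
      exists_maximal_of_wellFoundedGT _ ⟨y.asIdeal, y.2, hay⟩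
    haveI := hy₁.1.1
    obtain ⟨V, _, _, _, f, hfa, hfm, hfi⟩ := exists_dvr_of_maximal y₁ hy₁.1.2 fun J hJ hlt => by
      by_contra haJ
      exact hlt.not_ge (hy₁.2 ⟨hJ, haJ⟩ hlt.le)
    letI : Algebra R V := (f.comp (algebraMap R L)).toAlgebra
    refine hfa (h V (Ideal.ext fun b => ?_) ⟨(IsLocalRing.residue V).comp f, fun _ => rfl, hfi⟩)
    show f (algebraMap R L b) ∈ IsLocalRing.maximalIdeal V ↔ b ∈ p
    rw [← IsLocalization.AtPrime.to_map_mem_maximal_iff L p b, ← hfm, Ideal.mem_comap]
  have h0 : algebraMap R L a = 0 := by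
    have : IsNilpotent (algebraMap R L a) := nilpotent_iff_mem_prime.2 fun J hJ => hmem ⟨J, hJ⟩
    exact this.eq_zero
  obtain ⟨⟨c, hc⟩, hca⟩ := (IsLocalization.map_eq_zero_iff p.primeCompl L a).1 h0
  exact ⟨c, hc, hca⟩

/-- Kernels are killed near the prime. -/
theorem exists_smul_eq_zero {R P M : Type u} [CommRing R] [IsReduced R] [IsNoetherianRing R] [AddCommGroup P]
    [Module R P] [Module.Projective R P] [AddCommGroup M] [Module R M] (p : Ideal R) [p.IsPrime]
    (α : P →ₗ[R] M)
    (h : ∀ (V : Type u) [CommRing V] [IsDomain V] [IsDiscreteValuationRing V] [Algebra R V],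
      (IsLocalRing.maximalIdeal V).comap (algebraMap R V) = p → AlgRes p V → Function.Injective (α.rTensor V))
    (v : P) (hv : α v = 0) : ∃ c : R, c ∉ p ∧ c • v = 0 := by
  classical
  obtain ⟨s, hs⟩ := Module.projective_def'.1 (inferInstance : Module.Projective R P)
  have hcoord : ∀ i : P, ∃ c : R, c ∉ p ∧ c * (s v i) = 0 := fun i => by
    refine exists_mul_eq_zero p _ fun V _ _ _ _ hV hVa => ?_
    have h0 : v ⊗ₜ[R] (1 : V) = 0 := h V hV hVa (by rw [map_zero, LinearMap.rTensor_tmul, hv, zero_tmul])
    have h1 := congrArg (fun z => TensorProduct.lid R V (((Finsupp.lapply i).comp s).rTensor V z)) h0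
    simp only [LinearMap.rTensor_tmul, TensorProduct.lid_tmul, map_zero, LinearMap.comp_apply,
      Finsupp.lapply_apply] at h1
    rwa [Algebra.algebraMap_eq_smul_one]
  choose c hc hcv using hcoord
  refine ⟨∏ i ∈ (s v).support, c i, fun h => ?_, ?_⟩
  · obtain ⟨i, -, hi⟩ := (‹p.IsPrime›.prod_mem_iff).1 h
    exact hc i hi
  have h0 : (∏ i ∈ (s v).support, c i) • s v = 0 := Finsupp.ext fun i => by
    by_cases hi : i ∈ (s v).support
    · obtain ⟨d, hd⟩ := Finset.dvd_prod_of_mem c hi
      rw [Finsupp.smul_apply, smul_eq_mul, hd, mul_comm (c i) d, mul_assoc, hcv, mul_zero, Finsupp.zero_apply]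
    · rw [Finsupp.smul_apply, Finsupp.notMem_support_iff.1 hi, smul_zero, Finsupp.zero_apply]
  have h1 := LinearMap.congr_fun hs ((∏ i ∈ (s v).support, c i) • v)
  rw [LinearMap.comp_apply, map_smul s, h0, map_zero, LinearMap.id_apply] at h1
  exact h1.symm

end Groth.Agent.FlatMor68.ValFlatBase
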