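import Groth.Agent.FlatMor68.ValFlatBase
import Groth.Agent.RG29.LocalFree
import Groth.Agent.Unr55.EtAscent
import Groth.Agent.CAlgH2.UnivInj

/-!
# The valuative criterion of flatness over a reduced Noetherian base
-/

set_option autoImplicit false
set_option linter.style.haveILetI false

universe u

open TensorProduct
open Groth.Agent.FlatMor68.ValFlatBase

namespace Groth.Agent.FlatMor68.ValFlatCrit

variable {R S : Type u} [CommRing R] [CommRing S] [Algebra R S] {N : Type u} [AddCommGroup N] [Module S N]
  {p : Ideal R} [p.IsPrime] (D : FlatCA.CompleteDevissage R S N p)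

/-- All steps of a dévissage stay flat at the points after base change to a valuation ring centred at
the prime, and their maps are universally injective there. -/
theorem vflatAt_steps {q : Ideal S} [q.IsPrime] [Module R N] [IsScalarTower R S N]
    (hA : FlatCA.CompleteDevissageAt R S N p q D) (V : Type u) [CommRing V] [Algebra R V] [IsLocalRing V]
    (hc : (IsLocalRing.maximalIdeal V).comap (algebraMap R V) = p) (h : VFlatAt R V q N) :
    ∀ j, j < D.n → ∀ (X : Type u) [AddCommGroup X] [Module V X] [Module R X] [IsScalarTower R V X],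
      Function.Injective (((D.α j).restrictScalars R).rTensor X) := by
  haveI := fun i => RG29.tower_RAM D i
  haveI := fun i => RG29.tower_RBM' D i
  haveI := fun i => hA.hqA i
  haveI := fun i => hA.hqB i
  haveI := fun i => hA.overA i
  haveI := fun i => hA.overB i
  have toB : ∀ j, j < D.n → VFlatAt R V (hA.qA j) (D.M j) → VFlatAt R V (hA.qB j) (D.M j) := fun j hj hM => by
    haveI := D.finiteBA j hj
    haveI : Algebra.IsIntegral (D.B j) (D.A j) := Algebra.IsIntegral.of_finite (D.B j) (D.A j)
    exact (vflatAt_iff_of_algebra (hA.qA j) (hA.qB j) (hA.overA j).over.symm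
      fun J hJ => RG29.exists_mem_of_unique (hA.qA j) (hA.qB j) (hA.uniq j hj) J hJ).1 hM
  have key : ∀ j, j < D.n → VFlatAt R V (hA.qB j) (D.M j) → ∀ (X : Type u) [AddCommGroup X] [Module V X]
      [Module R X] [IsScalarTower R V X], Function.Injective (((D.α j).restrictScalars R).rTensor X) :=
    fun j hj hM => by
      haveI := D.smooth j hj
      haveI := D.finiteBA j hj
      haveI := D.finiteM j hj
      haveI : Module.Finite (D.B j) (D.M j) := Module.Finite.trans (D.A j) (D.M j)
      exact univInj_dvr (D.geomIrred j hj) p hc (D.α j) (D.fibreIso j hj)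
        (Ideal.map_le_iff_le_comap.2 (hA.overB j).over.le) hM
  suffices hs : ∀ j, j < D.n → VFlatAt R V (hA.qA j) (D.M j) from fun j hj => key j hj (toB j hj (hs j hj))
  intro j
  induction j with
  | zero =>
    intro _
    haveI : IsScalarTower R S (D.M 0) := IsScalarTower.of_algebraMap_smul fun c m => by
      rw [← algebraMap_smul (D.A 0) (algebraMap R S c), ← IsScalarTower.algebraMap_apply, algebraMap_smul]
    exact (vflatAt_iff_of_algebra (hA.qA 0) q hA.q0
      fun J hJ => hA.q0 ▸ RG29.exists_mem_of_surjective D.surjSA _ J hJ).2 (vflatAt_of_equiv D.isoN h)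
  | succ j ih =>
    intro hj
    have hj' : j < D.n := by omega
    have hy := toB j hj' (ih hj')
    refine (vflatAt_iff_of_algebra (hA.qA (j + 1)) (hA.qB j) (hA.qStep j hj) fun J hJ => by
      rw [← hA.qStep j hj]
      exact RG29.exists_mem_of_surjective (D.surjBA' j hj) _ J hJ).2 ?_
    exact vflatAt_coker ((D.α j).restrictScalars R) (RG29.stepMap D j hj)
      (RG29.exact_stepMap D j hj) (RG29.stepMap_surjective D j hj) (key j hj' hy) hy

/-- Over a reduced Noetherian base, the criterion for a dévissage at a point. -/
theorem flatAt_of_devissage [IsReduced R] [IsNoetherianRing R] {q : Ideal S} [q.IsPrime] [Module R N]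
    [IsScalarTower R S N] (hA : FlatCA.CompleteDevissageAt R S N p q D)
    (h : ∀ (V : Type u) [CommRing V] [IsDomain V] [IsDiscreteValuationRing V] [Algebra R V],
      (IsLocalRing.maximalIdeal V).comap (algebraMap R V) = p → AlgRes p V → VFlatAt R V q N) :
    FlatCA.FlatAt R q N := by
  haveI := fun i => RG29.tower_RAM D i
  haveI := fun i => RG29.tower_RBM' D i
  haveI := fun i => hA.hqA i
  haveI := fun i => hA.hqB i
  haveI := fun i => hA.overA i
  haveI := fun i => hA.overB i
  have hprojP : ∀ j, j < D.n → Module.Projective R (Fin (D.r j) → D.B j) := fun j hj => by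
    haveI := D.smooth j hj
    haveI : Module.Projective R (D.B j) := RG29.projective_of_smooth_geomIrred (D.geomIrred j hj)
    exact Module.Projective.of_equiv
      (DFinsupp.linearEquivFunOnFintype (R := R) (M := fun _ : Fin (D.r j) => D.B j))
  have hinj : ∀ j, j < D.n → Function.Injective (LocalizedModule.map (hA.qB j).primeCompl (D.α j)) :=
    fun j hj => by
      haveI := hprojP j hj
      refine (injective_iff_map_eq_zero _).2 fun v hv => ?_
      induction v using LocalizedModule.induction_on with
      | _ v t =>
        rw [LocalizedModule.map_mk, ← LocalizedModule.zero_mk t, LocalizedModule.mk_eq] at hv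
        obtain ⟨u, hu⟩ := hv
        simp only [smul_zero, Submonoid.smul_def, smul_smul, ← map_smul] at hu
        obtain ⟨c, hc, hcv⟩ := ValFlatBase.exists_smul_eq_zero p ((D.α j).restrictScalars R)
          (fun V _ _ _ _ hV hVa => vflatAt_steps D hA V hV (h V hV hVa) j hj V) _ hu
        rw [← LocalizedModule.zero_mk t, LocalizedModule.mk_eq]
        have hcB : algebraMap R (D.B j) c ∉ hA.qB j := fun h' => hc ((hA.overB j).over.ge h')
        refine ⟨⟨algebraMap R (D.B j) c * u, (hA.qB j).primeCompl.mul_mem hcB u.2⟩, ?_⟩
        simp only [smul_zero, Submonoid.smul_def, smul_smul, mul_assoc]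
        rw [mul_smul, algebraMap_smul, hcv]
  have hflatP : ∀ j, j < D.n → Module.Flat R (LocalizedModule (hA.qB j).primeCompl (Fin (D.r j) → D.B j)) :=
    fun j hj => by
      haveI := hprojP j hj
      exact FibreBasisTFAE.flatAt_of_flat (hA.qB j)
  have hup : ∀ j, j < D.n → FlatCA.FlatAt R (hA.qB j) (D.M j) → FlatCA.FlatAt R (hA.qA j) (D.M j) :=
    fun j hj hy => by
      haveI := D.finiteBA j hj
      haveI : Algebra.IsIntegral (D.B j) (D.A j) := Algebra.IsIntegral.of_finite (D.B j) (D.A j)
      exact (RG29.flatAt_iff_of_algebra (hA.qA j) (hA.qB j) (hA.overA j).over.symm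
        fun J hJ => RG29.exists_mem_of_unique (hA.qA j) (hA.qB j) (hA.uniq j hj) J hJ).2 hy
  suffices hs : ∀ k j, j + k + 1 = D.n → FlatCA.FlatAt R (hA.qA j) (D.M j) by
    haveI : IsScalarTower R S (D.M 0) := IsScalarTower.of_algebraMap_smul fun c m => by
      rw [← algebraMap_smul (D.A 0) (algebraMap R S c), ← IsScalarTower.algebraMap_apply, algebraMap_smul]
    have h0 := hs (D.n - 1) 0 (by have := D.pos; omega)
    exact FlatCrit65.flat_localized_equiv D.isoN.symm q
      ((RG29.flatAt_iff_of_algebra (hA.qA 0) q hA.q0
        fun J hJ => hA.q0 ▸ RG29.exists_mem_of_surjective D.surjSA _ J hJ).1 h0)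
  intro k
  induction k with
  | zero =>
    intro j hjk
    have hj : j < D.n := by omega
    have hsurj : Function.Surjective (D.α j) := by
      obtain rfl : j = D.n - 1 := by omega
      exact D.cokerLast
    haveI := hflatP j hj
    refine hup j hj ?_
    exact Module.Flat.of_linearEquiv ((LinearEquiv.ofBijective (LocalizedModule.map (hA.qB j).primeCompl (D.α j))
      ⟨hinj j hj, LocalizedModule.map_surjective _ _ hsurj⟩).restrictScalars R).symm
  | succ k IH =>
    intro j hjk
    have hj : j < D.n := by omega
    have hj1 : j + 1 < D.n := by omega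
    haveI h3 : FlatCA.FlatAt R (hA.qB j) (D.M (j + 1)) :=
      (RG29.flatAt_iff_of_algebra (hA.qA (j + 1)) (hA.qB j) (hA.qStep j hj1) fun J hJ => by
        rw [← hA.qStep j hj1]
        exact RG29.exists_mem_of_surjective (D.surjBA' j hj1) _ J hJ).1 (IH (j + 1) (by omega))
    haveI h3' : Module.Flat R (LocalizedModule (hA.qB j).primeCompl (D.M (j + 1))) := h3
    haveI := hflatP j hj
    refine hup j hj ?_
    exact CAlgH2.flat_middle
      (f := (LocalizedModule.map (hA.qB j).primeCompl (D.α j)).restrictScalars R)
      (g := (LocalizedModule.map (hA.qB j).primeCompl (RG29.stepMap D j hj1)).restrictScalars R)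
      (hinj j hj) (LocalizedModule.map_exact _ _ _ (RG29.exact_stepMap D j hj1))
      (LocalizedModule.map_surjective _ _ (RG29.stepMap_surjective D j hj1))

end Groth.Agent.FlatMor68.ValFlatCrit

namespace Groth.Agent.FlatMor68.ValFlatCrit

/-- Algebraic residue extensions and elementary étale neighbourhoods of the base. -/
theorem algRes_of_etaleNhd {A A' V : Type u} [CommRing A] [CommRing A'] [CommRing V] [IsLocalRing V]
    [Algebra A A'] [Algebra A' V] [Algebra A V] [IsScalarTower A A' V] {p : Ideal A} [p.IsPrime] {p' : Ideal A'}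
    [p'.IsPrime] (hpp : p'.LiesOver p)
    (hb : Function.Bijective (Ideal.ResidueField.mapₐ p p' (Algebra.ofId A A') hpp.over)) (hV : (IsLocalRing.maximalIdeal V).comap (algebraMap A' V) = p') (h : AlgRes p' V) :
    AlgRes p V := by
  obtain ⟨g, hg, hgi⟩ := h
  let L' := Localization.AtPrime p'
  have hle : IsLocalRing.maximalIdeal L' ≤ RingHom.ker g := fun x hx => by
    obtain ⟨a', s, rfl⟩ := IsLocalization.exists_mk'_eq p'.primeCompl x
    have ha : a' ∈ p' := (IsLocalization.AtPrime.mk'_mem_maximal_iff L' p' a' s).1 hx
    have h1 := congrArg g (IsLocalization.mk'_spec L' a' s)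
    rw [map_mul, hg a', (IsLocalRing.residue_eq_zero_iff _).2 (hV.ge ha)] at h1
    exact (mul_eq_zero.1 h1).resolve_right ((IsLocalization.map_units L' s).map g).ne_zero
  let ψ : p'.ResidueField →+* IsLocalRing.ResidueField V :=
    Ideal.Quotient.lift (IsLocalRing.maximalIdeal L') g fun x hx => hle hx
  have hψ : ψ.comp (IsLocalRing.residue L') = g := RingHom.ext fun _ => rfl
  let m : p.ResidueField →+* p'.ResidueField := (Ideal.ResidueField.mapₐ p p' (Algebra.ofId A A') hpp.over).toRingHom
  refine ⟨ψ.comp (m.comp (IsLocalRing.residue (Localization.AtPrime p))), fun a => ?_,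
    ((RingHom.isIntegral_of_surjective (m.comp (IsLocalRing.residue (Localization.AtPrime p)))
      (hb.2.comp IsLocalRing.residue_surjective)).trans _ ψ ?_)⟩
  · show ψ (m (algebraMap A p.ResidueField a)) = _
    rw [show m (algebraMap A p.ResidueField a) = algebraMap A' p'.ResidueField (algebraMap A A' a) from
      ((Ideal.ResidueField.mapₐ p p' (Algebra.ofId A A') hpp.over).commutes a).trans
        (IsScalarTower.algebraMap_apply A A' p'.ResidueField a), IsScalarTower.algebraMap_apply A A' V, ← hg]
    rfl
  · exact RingHom.IsIntegral.tower_top _ _ (hψ ▸ hgi)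

set_option maxHeartbeats 800000 in
/-- The valuative criterion at a point, with valuation rings centred at its image. -/
theorem flatAt_of_forall_dvr {A B : Type u} [CommRing A] [IsReduced A] [IsNoetherianRing A] [CommRing B]
    [Algebra A B] [Algebra.FiniteType A B] (M : Type u) [AddCommGroup M] [Module A M] [Module B M]
    [IsScalarTower A B M] [Module.Finite B M] (p : Ideal A) [p.IsPrime] (q : Ideal B) [q.IsPrime]
    [q.LiesOver p]
    (h : ∀ (V : Type u) [CommRing V] [IsDomain V] [IsDiscreteValuationRing V] [Algebra A V],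
      (IsLocalRing.maximalIdeal V).comap (algebraMap A V) = p → AlgRes p V → VFlatAt A V q M) :
    FlatCA.FlatAt A q M := by
  by_cases hsupp : ∃ x ∈ Module.support (p.Fiber B) (FlatCA.fiberMod p B M), x.asIdeal = FlatCA.fiberIdeal p q
  · obtain ⟨A', B', _, _, _, _, _, _, _, _, p', q', _, _, hn, hn', hqp, hdev⟩ :=
      RG29.exists_hasCompleteDevissageAt M p q hsupp
    obtain ⟨het, hpp, hbij⟩ := hn
    obtain ⟨het', hqq, -⟩ := hn'
    haveI := het; haveI := het'; haveI := hpp; haveI := hqq; haveI := hqp
    obtain ⟨D, ⟨hA⟩⟩ := hdev (B' ⊗[B] M) (TensorProduct.mk B B' M 1) (TensorProduct.isBaseChange B M B')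
    haveI : IsNoetherianRing A' := Algebra.FiniteType.isNoetherianRing A A'
    haveI : IsReduced A' := Unr55.isReduced_of_etale (A := A)
    haveI : IsScalarTower A A' (B' ⊗[B] M) := IsScalarTower.of_algebraMap_smul fun c m => by
      rw [← algebraMap_smul B' (algebraMap A A' c), ← IsScalarTower.algebraMap_apply, algebraMap_smul]
    have hflat : FlatCA.FlatAt A' q' (B' ⊗[B] M) := flatAt_of_devissage D hA fun V _ _ _ _ hV hVa => by
      letI : Algebra A V := ((algebraMap A' V).comp (algebraMap A A')).toAlgebra
      haveI : IsScalarTower A A' V := IsScalarTower.of_algebraMap_eq fun _ => rfl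
      refine vflatAt_of_unramified (A := A) _ q' (vflatAt_flat_algebra q q' (h V ?_ (algRes_of_etaleNhd hpp hbij hV hVa)))
      rw [IsScalarTower.algebraMap_eq A A' V, ← Ideal.comap_comap, hV]
      exact hpp.over.symm
    have hflatA : FlatCA.FlatAt A q' (B' ⊗[B] M) := (RG29.flat_localized_etale_iff q'.primeCompl).2 hflat
    exact RG29.flatAt_of_baseChange (TensorProduct.isBaseChange B M B') q q' hflatA
  · obtain ⟨x, hxq, hxc⟩ := RG29.exists_fiber_point p q
    have hq : (⟨q, ‹q.IsPrime›⟩ : PrimeSpectrum B) ∉ Module.support B M := fun h => by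
      refine hsupp ⟨x, (RG29.mem_support_fiberMod_iff p M x).2 ?_, hxq⟩
      convert h using 2
      exact hxc
    haveI : Subsingleton (LocalizedModule q.primeCompl M) := Module.notMem_support_iff.1 hq
    show Module.Flat A (LocalizedModule q.primeCompl M)
    infer_instance

/-- The valuative criterion of flatness for finite modules over finite type algebras. -/
theorem flat_iff_forall_dvr (A : Type u) [CommRing A] [IsReduced A]
    [IsNoetherianRing A] (B : Type u) [CommRing B] [Algebra A B] [Algebra.FiniteType A B]
    (M : Type u) [AddCommGroup M] [Module A M] [Module B M] [IsScalarTower A B M] [Module.Finite B M] :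
    Module.Flat A M ↔
      ∀ (R : Type u) [CommRing R] [IsDomain R] [IsDiscreteValuationRing R] [Algebra A R],
        Module.Flat R (R ⊗[A] M) := by
  refine ⟨fun h R _ _ _ _ => inferInstance, fun h => ?_⟩
  refine Module.flat_of_isLocalized_maximal B M (fun P => LocalizedModule P.primeCompl M)
    (fun P => LocalizedModule.mkLinearMap P.primeCompl M) fun P hP => ?_
  exact flatAt_of_forall_dvr M (P.comap (algebraMap A B)) P fun V _ _ _ _ _ _ => vflatAt_of_vflat P (vflat_iff_flat.2 (h V))

end Groth.Agent.FlatMor68.ValFlatCrit
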