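import Groth.Agent.FlatMor68.ValFlatCrit
import Groth.Agent.FlatMor66.BCStalk
import Groth.Agent.Unr55.StalkCrit
import Groth.Agent.FlatMor67.FlatAtDesc
import Groth.Agent.SpFP87.FlatAt
import Groth.Agent.FlatMor66.FibCritScheme

/-!
# The valuative criterion of flatness at a point, with hypotheses at the points of the closed fibre
-/

set_option autoImplicit false
set_option linter.style.haveILetI false

universe u

open TensorProduct
open Groth.Agent.FlatMor68.ValFlatBase

namespace Groth.Agent.FlatMor68.ValFlatPoint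

set_option maxHeartbeats 1000000 in
set_option synthInstance.maxHeartbeats 100000 in
/-- Flatness at the points over `q` in the closed fibre gives flatness of the localization at `q`. -/
theorem vflatAt_of_forall_prime {A B V D : Type u} [CommRing A] [CommRing B] [CommRing V] [IsDomain V]
    [IsDiscreteValuationRing V] [CommRing D] [Algebra A B] [Algebra A V] [Algebra B D] [Algebra V D] [Algebra A D]
    [IsScalarTower A B D] [IsScalarTower A V D] [hpo : Algebra.IsPushout A B V D] (p : Ideal A) [p.IsPrime]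
    (hres : AlgRes p V)
    (q : Ideal B) [q.IsPrime] [hqp : q.LiesOver p]
    {M : Type u} [AddCommGroup M] [Module B M] [Module A M] [IsScalarTower A B M]
    {G : Type u} [AddCommGroup G] [Module D G] [Module V G] [IsScalarTower V D G] [Module B G]
    [IsScalarTower B D G] {f : M →ₗ[B] G} (hf : IsBaseChange D f)
    (h : ∀ (Q : Ideal D) [Q.IsPrime], Q.comap (algebraMap B D) = q →
      Q.comap (algebraMap V D) = IsLocalRing.maximalIdeal V → FlatCA.FlatAt V Q G) :
    VFlatAt A V q M := by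
  classical
  intro X Y _ _ _ _ _ _ _ _ u hu z hz
  obtain ⟨cX, hcX⟩ := FlatMor67.FlatAtBC.exists_tensor_equiv (R := A) (R' := V) f hf X
  obtain ⟨cY, hcY⟩ := FlatMor67.FlatAtBC.exists_tensor_equiv (R := A) (R' := V) f hf Y
  have hcnat : ∀ z, u.lTensor G (cX z) = cY ((u.restrictScalars A).lTensor M z) := fun z => by
    induction z using TensorProduct.induction_on with
    | zero => simp
    | tmul m x => simp [hcX, hcY]
    | add a b ha hb => simp only [map_add, ha, hb]
  have hsm : ∀ (s : B) z, cX (s • z) = algebraMap B D s • cX z := fun s z => by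
    induction z using TensorProduct.induction_on with
    | zero => simp
    | tmul m x => simp [hcX, TensorProduct.smul_tmul', map_smul]
    | add a b ha hb => simp only [smul_add, map_add, ha, hb]
  have hw : u.lTensor G (cX z) = 0 := by rw [hcnat, hz, map_zero]
  let J : Ideal D := LinearMap.ker (LinearMap.toSpanSingleton D _ (cX z))
  have hJmem : ∀ d : D, d ∈ J ↔ d • cX z = 0 := fun d => by
    rw [LinearMap.mem_ker, LinearMap.toSpanSingleton_apply]
  by_contra hcon
  push Not at hcon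
  have hJB : J.comap (algebraMap B D) ≤ q := fun s hs => by
    by_contra hsq
    exact hcon s hsq (cX.injective (by rw [hsm, (hJmem _).1 hs, map_zero]))
  -- generic flatness over the valuation ring
  haveI : Module.Flat V (LocalizedModule (nonZeroDivisors V) G) :=
    Module.Flat.trans V (FractionRing V) _
  obtain ⟨c, hc, hcz⟩ := FlatCrit65.exists_smul_eq_zero_of_injective (nonZeroDivisors V) u
    (Module.Flat.lTensor_preserves_injective_linearMap u hu) (cX z) hw
  obtain ⟨π, hπ⟩ := IsDiscreteValuationRing.exists_irreducible V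
  obtain ⟨n, hn⟩ := IsDiscreteValuationRing.associated_pow_irreducible (nonZeroDivisors.ne_zero hc) hπ
  have hπn : algebraMap V D π ^ n ∈ J := by
    obtain ⟨e, he⟩ := hn
    rw [hJmem, ← map_pow, algebraMap_smul, ← he, mul_comm, mul_smul, hcz, smul_zero]
  let J' := J ⊔ (IsLocalRing.maximalIdeal V).map (algebraMap V D)
  have hJ'B : J'.comap (algebraMap B D) ≤ q := fun s hs => by
    rw [Ideal.mem_comap, Submodule.mem_sup] at hs
    obtain ⟨j, hj, x, hx, hjx⟩ := hs
    rw [hπ.maximalIdeal_eq, Ideal.map_span, Set.image_singleton, Ideal.mem_span_singleton'] at hx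
    obtain ⟨d, rfl⟩ := hx
    refine ‹q.IsPrime›.mem_of_pow_mem n (hJB ?_)
    rw [Ideal.mem_comap, map_pow, ← hjx, ← Ideal.Quotient.eq_zero_iff_mem, map_pow, map_add,
      Ideal.Quotient.eq_zero_iff_mem.2 hj, zero_add, ← map_pow, Ideal.Quotient.eq_zero_iff_mem, mul_pow]
    exact J.mul_mem_left _ hπn
  -- a prime over `q` in the closed fibre
  let T := Algebra.algebraMapSubmonoid (D ⧸ J') q.primeCompl
  let E := Localization T
  let Bq := Localization.AtPrime q
  let σ : Bq →+* E := IsLocalization.map E (algebraMap B (D ⧸ J')) (T := T) (fun b hb => ⟨b, hb, rfl⟩)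
  let ι : D →+* E := (algebraMap (D ⧸ J') E).comp (Ideal.Quotient.mk J')
  have hσ : ∀ b : B, σ (algebraMap B Bq b) = ι (algebraMap B D b) := fun b => IsLocalization.map_eq _ _
  letI : Algebra Bq E := σ.toAlgebra
  have hvzero : ∀ v ∈ IsLocalRing.maximalIdeal V, ι (algebraMap V D v) = 0 := fun v hv => by
    show algebraMap (D ⧸ J') E (Ideal.Quotient.mk J' (algebraMap V D v)) = 0
    rw [Ideal.Quotient.eq_zero_iff_mem.2 (Ideal.mem_sup_right (Ideal.mem_map_of_mem _ hv)), map_zero]
  let ψ : IsLocalRing.ResidueField V →+* E :=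
    Ideal.Quotient.lift (IsLocalRing.maximalIdeal V) (ι.comp (algebraMap V D)) hvzero
  obtain ⟨g, hg, hgi⟩ := hres
  let τ : Localization.AtPrime p →+* Bq := Localization.localRingHom p q (algebraMap A B) hqp.over
  have hcompat : σ.comp τ = ψ.comp g := IsLocalization.ringHom_ext p.primeCompl (RingHom.ext fun a => by
    have e1 : τ (algebraMap A (Localization.AtPrime p) a) = algebraMap B Bq (algebraMap A B a) :=
      Localization.localRingHom_to_map p q (algebraMap A B) hqp.over a
    show σ (τ (algebraMap A (Localization.AtPrime p) a)) = ψ (g (algebraMap A (Localization.AtPrime p) a))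
    rw [e1, hσ, hg]
    show _ = ι (algebraMap V D (algebraMap A V a))
    rw [← IsScalarTower.algebraMap_apply A B D, ← IsScalarTower.algebraMap_apply A V D])
  have hvint : ∀ v : V, IsIntegral Bq (ι (algebraMap V D v)) := fun v => by
    obtain ⟨P, hP, hPx⟩ := hgi (IsLocalRing.residue V v)
    refine ⟨P.map τ, hP.map τ, ?_⟩
    rw [Polynomial.eval₂_map]
    show Polynomial.eval₂ (σ.comp τ) (ψ (IsLocalRing.residue V v)) P = 0
    rw [hcompat, ← Polynomial.hom_eval₂, hPx, map_zero]
  have hDint : ∀ d : D, IsIntegral Bq (ι d) := fun d => by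
    haveI : Algebra.IsPushout A V B D := hpo.symm
    refine IsBaseChange.inductionOn (Algebra.IsPushout.out (R := A) (S := V) (R' := B) (S' := D)) d
      (fun d => IsIntegral Bq (ι d)) ?_ ?_ ?_ ?_
    · rw [map_zero]; exact isIntegral_zero
    · intro b
      show IsIntegral Bq (ι (algebraMap B D b))
      rw [← hσ b]
      exact isIntegral_algebraMap
    · intro v d hd
      rw [Algebra.smul_def, map_mul]
      exact (hvint v).mul hd
    · intro a b ha hb
      rw [map_add]
      exact ha.add hb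
  haveI : Algebra.IsIntegral Bq E := ⟨fun e => by
    obtain ⟨d, t, rfl⟩ := IsLocalization.exists_mk'_eq T e
    obtain ⟨s, hs, hst⟩ := t.2
    obtain ⟨d, rfl⟩ := Ideal.Quotient.mk_surjective d
    have ht : t = ⟨algebraMap B (D ⧸ J') s, ⟨s, hs, rfl⟩⟩ := Subtype.ext hst.symm
    have heq : IsLocalization.mk' E (Ideal.Quotient.mk J' d) t =
        ι d * algebraMap Bq E (IsLocalization.mk' Bq 1 ⟨s, hs⟩) := by
      rw [IsLocalization.mk'_eq_iff_eq_mul, ht, mul_assoc]
      show ι d = ι d * (σ (IsLocalization.mk' Bq 1 ⟨s, hs⟩) * ι (algebraMap B D s))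
      rw [← hσ, ← map_mul, IsLocalization.mk'_spec, map_one, map_one, mul_one]
    rw [heq]
    exact (hDint d).mul isIntegral_algebraMap⟩
  haveI : Nontrivial E := nontrivial_of_ne 1 0 fun h10 => by
    obtain ⟨⟨_, s, hs, rfl⟩, h0⟩ :=
      (IsLocalization.map_eq_zero_iff T E 1).1 ((map_one (algebraMap (D ⧸ J') E)).trans h10)
    rw [mul_one] at h0
    exact hs (hJ'B ((Ideal.Quotient.eq_zero_iff_mem (I := J')).1
      (show Ideal.Quotient.mk J' (algebraMap B D s) = 0 from h0)))
  obtain ⟨Mx, hMx⟩ := Ideal.exists_maximal E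
  let Q := Mx.comap ι
  haveI hMB : (Mx.comap (algebraMap Bq E)).IsMaximal := Ideal.isMaximal_comap_of_isIntegral_of_isMaximal Mx
  have hQB : Q.comap (algebraMap B D) = q := by
    rw [← IsLocalization.AtPrime.under_maximalIdeal Bq q, ← IsLocalRing.eq_maximalIdeal hMB]
    ext b
    show ι (algebraMap B D b) ∈ Mx ↔ σ (algebraMap B Bq b) ∈ Mx
    rw [hσ]
  have hJ'Q : J' ≤ Q := fun d hd => by
    show algebraMap (D ⧸ J') E (Ideal.Quotient.mk J' d) ∈ Mx
    rw [Ideal.Quotient.eq_zero_iff_mem.2 hd, map_zero]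
    exact Mx.zero_mem
  have hQV : Q.comap (algebraMap V D) = IsLocalRing.maximalIdeal V :=
    ((IsLocalRing.maximalIdeal.isMaximal V).eq_of_le (Ideal.comap_ne_top _ (Ideal.IsPrime.ne_top inferInstance))
      (Ideal.map_le_iff_le_comap.1 (le_sup_right.trans hJ'Q))).symm
  have hflat : Module.Flat V (LocalizedModule Q.primeCompl G) := h Q hQB hQV
  obtain ⟨t, ht, htw⟩ := FlatCrit65.exists_smul_eq_zero_of_injective Q.primeCompl u
    (Module.Flat.lTensor_preserves_injective_linearMap u hu) (cX z) hw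
  exact ht (hJ'Q (Ideal.mem_sup_left ((hJmem t).2 htw)))

section Scheme

open CategoryTheory CategoryTheory.Limits AlgebraicGeometry

set_option backward.isDefEq.respectTransparency.types false
set_option maxHeartbeats 1600000
set_option synthInstance.maxHeartbeats 100000

theorem isPullback_comp_mono' {P X' Y' W Z : Scheme.{u}} {a : P ⟶ X'} {b : P ⟶ Y'} {f : X' ⟶ W} {g : Y' ⟶ W}
    (h : IsPullback a b f g) (m : W ⟶ Z) [Mono m] : IsPullback a b (f ≫ m) (g ≫ m) :=
  ⟨⟨by rw [reassoc_of% h.w]⟩, ⟨PullbackCone.isLimitOfCompMono f g m h.cone h.isLimit⟩⟩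

/-- The valuative criterion of flatness at a point of a scheme over a reduced Noetherian local ring. -/
theorem flat_stalkMap_iff {X Y : Scheme.{u}} (f : X ⟶ Y) [LocallyOfFinitePresentation f]
    (x : X) [IsNoetherianRing (Y.presheaf.stalk (f.base x))] [_root_.IsReduced (Y.presheaf.stalk (f.base x))] :
    (f.stalkMap x).hom.Flat ↔
      ∀ (A' : Type u) [CommRing A'] [IsDomain A'] [IsDiscreteValuationRing A']
        (φ : (Y.presheaf.stalk (f.base x) : Type u) →+* A') [IsLocalHom φ],
        ∀ x' : ↥(pullback f (Spec.map (CommRingCat.ofHom φ) ≫ Y.fromSpecStalk (f.base x))),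
          (pullback.fst f _).base x' = x →
          (pullback.snd f _).base x' = IsLocalRing.closedPoint A' →
          ((pullback.snd f (Spec.map (CommRingCat.ofHom φ) ≫ Y.fromSpecStalk (f.base x))).stalkMap x').hom.Flat := by
  constructor
  · intro h A' _ _ _ φ _ x' hx1 hx2
    exact FlatMor66.flat_stalkMap_fst (IsPullback.of_hasPullback f _).flip x' (SpFP87.flat_stalkMap_point f hx1.symm h)
  intro h
  obtain ⟨_, ⟨V, hV, rfl⟩, hxV, -⟩ :=
    Y.isBasis_affineOpens.exists_subset_of_mem_open (Set.mem_univ (f x)) isOpen_univ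
  obtain ⟨_, ⟨U, hU, rfl⟩, hxU, hUV⟩ :=
    X.isBasis_affineOpens.exists_subset_of_mem_open (show x ∈ (f ⁻¹ᵁ V : Set X) from hxV) (f ⁻¹ᵁ V).isOpen
  have e : U ≤ f ⁻¹ᵁ V := hUV
  let A₀ := Γ(Y, V)
  let B₀ := Γ(X, U)
  let R₀ : Type u := Y.presheaf.stalk (f x)
  letI aAB : Algebra A₀ B₀ := (f.appLE V U e).hom.toAlgebra
  letI aAR : Algebra A₀ R₀ := TopCat.Presheaf.algebra_section_stalk Y.presheaf ⟨f x, e hxU⟩
  let p₀ := (hV.primeIdealOf ⟨f x, e hxU⟩).asIdeal
  let q := (hU.primeIdealOf ⟨x, hxU⟩).asIdeal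
  have hpq : p₀ = q.comap (algebraMap A₀ B₀) := FlatMor66.primeIdealOf_image f hV hU e hxU
  haveI : IsLocalization.AtPrime R₀ p₀ := hV.isLocalization_stalk ⟨f x, e hxU⟩
  haveI : IsNoetherianRing R₀ := ‹IsNoetherianRing (Y.presheaf.stalk (f.base x))›
  haveI : _root_.IsReduced R₀ := ‹_root_.IsReduced (Y.presheaf.stalk (f.base x))›
  haveI : Algebra.FinitePresentation A₀ B₀ :=
    (LocallyOfFinitePresentation.finitePresentation_appLE f hV hU e)
  letI aBB : Algebra B₀ (R₀ ⊗[A₀] B₀) := Algebra.TensorProduct.rightAlgebra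
  haveI : Algebra.IsPushout A₀ B₀ R₀ (R₀ ⊗[A₀] B₀) := inferInstance
  obtain ⟨qB, hqB, hqBq, hqBm⟩ := FlatMor67.FlatAtDesc.exists_prime_pushout (R := A₀) (R' := R₀)
    (S' := R₀ ⊗[A₀] B₀) q (IsLocalRing.maximalIdeal R₀)
    (by rw [← hpq]; exact (IsLocalization.AtPrime.under_maximalIdeal R₀ p₀).symm)
  haveI := hqB
  haveI : qB.LiesOver (IsLocalRing.maximalIdeal R₀) := ⟨hqBm.symm⟩
  have hflat : FlatCA.FlatAt R₀ qB (R₀ ⊗[A₀] B₀) := by
    refine ValFlatCrit.flatAt_of_forall_dvr (R₀ ⊗[A₀] B₀) (IsLocalRing.maximalIdeal R₀) qB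
      fun A' _ _ _ _ hc hres => ?_
    haveI : IsLocalHom (algebraMap R₀ A') := ((IsLocalRing.local_hom_TFAE (algebraMap R₀ A')).out 0 4).2 hc
    letI : Algebra A₀ A' := ((algebraMap R₀ A').comp (algebraMap A₀ R₀)).toAlgebra
    haveI : IsScalarTower A₀ R₀ A' := IsScalarTower.of_algebraMap_eq fun _ => rfl
    letI aBD : Algebra (R₀ ⊗[A₀] B₀) (A' ⊗[R₀] (R₀ ⊗[A₀] B₀)) := Algebra.TensorProduct.rightAlgebra
    let D := A' ⊗[R₀] (R₀ ⊗[A₀] B₀)
    letI : Algebra B₀ D := ((algebraMap (R₀ ⊗[A₀] B₀) D).comp (algebraMap B₀ (R₀ ⊗[A₀] B₀))).toAlgebra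
    haveI : IsScalarTower B₀ (R₀ ⊗[A₀] B₀) D := IsScalarTower.of_algebraMap_eq fun _ => rfl
    haveI : Algebra.IsPushout R₀ (R₀ ⊗[A₀] B₀) A' D := inferInstance
    refine vflatAt_of_forall_prime (D := D) (IsLocalRing.maximalIdeal R₀) hres qB
      (IsBaseChange.linearMap (R₀ ⊗[A₀] B₀) D) fun Q _ hQB hQV => ?_
    haveI : IsScalarTower A₀ R₀ D := IsScalarTower.of_algebraMap_eq fun a =>
      (IsScalarTower.algebraMap_apply A₀ A' D a).trans ((congrArg _ (IsScalarTower.algebraMap_apply A₀ R₀ A' a)).trans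
        (IsScalarTower.algebraMap_apply R₀ A' D _).symm)
    haveI : IsScalarTower A₀ (R₀ ⊗[A₀] B₀) D := IsScalarTower.of_algebraMap_eq fun a => by
      rw [IsScalarTower.algebraMap_apply A₀ R₀ (R₀ ⊗[A₀] B₀),
        ← IsScalarTower.algebraMap_apply R₀ (R₀ ⊗[A₀] B₀) D, ← IsScalarTower.algebraMap_apply A₀ R₀ D]
    haveI : IsScalarTower A₀ B₀ D := IsScalarTower.of_algebraMap_eq fun a => by
      rw [IsScalarTower.algebraMap_apply B₀ (R₀ ⊗[A₀] B₀) D, ← IsScalarTower.algebraMap_apply A₀ B₀ (R₀ ⊗[A₀] B₀),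
        ← IsScalarTower.algebraMap_apply A₀ (R₀ ⊗[A₀] B₀) D]
    haveI : Algebra.IsPushout A₀ R₀ B₀ (R₀ ⊗[A₀] B₀) := inferInstance
    haveI : Algebra.IsPushout R₀ A' (R₀ ⊗[A₀] B₀) D := inferInstance
    haveI hpo : Algebra.IsPushout A₀ A' B₀ D :=
      (Algebra.IsPushout.comp_iff (R := A₀) (S := R₀) (R' := B₀) (S' := R₀ ⊗[A₀] B₀)).2 inferInstance
    let g₀ := Spec.map (CommRingCat.ofHom (algebraMap R₀ A')) ≫ Y.fromSpecStalk (f x)
    have hg : Spec.map (CommRingCat.ofHom (algebraMap A₀ A')) ≫ hV.fromSpec = g₀ := by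
      show Spec.map (CommRingCat.ofHom ((algebraMap R₀ A').comp (algebraMap A₀ R₀))) ≫ hV.fromSpec =
        Spec.map (CommRingCat.ofHom (algebraMap R₀ A')) ≫ Y.fromSpecStalk (f x)
      rw [CommRingCat.ofHom_comp, Spec.map_comp, Category.assoc,
        ← hV.fromSpecStalk_eq_fromSpecStalk (e hxU)]
      rfl
    let a := Spec.map (CommRingCat.ofHom (algebraMap B₀ D)) ≫ hU.fromSpec
    let b := Spec.map (CommRingCat.ofHom (algebraMap A' D))
    have hsq : IsPullback b (Spec.map (CommRingCat.ofHom (algebraMap B₀ D))) g₀ (hU.fromSpec ≫ f) := by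
      have h1 := isPullback_comp_mono' (isPullback_SpecMap_of_isPushout _ _ _ _
        (CommRingCat.isPushout_iff_isPushout.2 hpo)) hV.fromSpec
      rw [hg, show Spec.map (CommRingCat.ofHom (algebraMap A₀ B₀)) ≫ hV.fromSpec = hU.fromSpec ≫ f from
        hV.SpecMap_appLE_fromSpec f hU e] at h1
      exact h1
    let j : Spec (CommRingCat.of D) ⟶ pullback f g₀ :=
      pullback.lift a b (by rw [hsq.w, Category.assoc])
    have hj : IsPullback j (Spec.map (CommRingCat.ofHom (algebraMap B₀ D))) (pullback.fst f g₀) hU.fromSpec := by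
      refine IsPullback.of_right (h₁₂ := pullback.snd f g₀) (h₂₂ := f) (v₁₃ := g₀) ?_ (pullback.lift_fst _ _ _)
        (IsPullback.of_hasPullback f g₀).flip
      rw [pullback.lift_snd]
      exact hsq
    haveI : IsOpenImmersion j := MorphismProperty.of_isPullback (P := @IsOpenImmersion) hj.flip inferInstance
    let x' := j ⟨Q, inferInstance⟩
    have hfst : pullback.fst f g₀ x' = x := by
      show (j ≫ pullback.fst f g₀) ⟨Q, inferInstance⟩ = x
      rw [pullback.lift_fst, Scheme.Hom.comp_apply]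
      refine Eq.trans (congrArg (fun z => hU.fromSpec.base z) (PrimeSpectrum.ext ?_))
        (hU.fromSpec_primeIdealOf ⟨x, hxU⟩)
      show Q.comap (algebraMap B₀ D) = q
      rw [IsScalarTower.algebraMap_eq B₀ (R₀ ⊗[A₀] B₀) D, ← Ideal.comap_comap, hQB, hqBq]
    have hsnd : pullback.snd f g₀ x' = IsLocalRing.closedPoint A' := by
      show (j ≫ pullback.snd f g₀) ⟨Q, inferInstance⟩ = _
      rw [pullback.lift_snd]
      exact PrimeSpectrum.ext hQV
    have hx' := h A' (algebraMap R₀ A') x' hfst hsnd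
    have hQ : (b.stalkMap ⟨Q, inferInstance⟩).hom.Flat :=
      SpFP87.flat_stalkMap_congr (pullback.lift_snd a b _)
        (SpFP87.flat_stalkMap_comp j (pullback.snd f g₀) (Flat.stalkMap j _) hx')
    have hQ' : Module.Flat A' (Localization.AtPrime Q) :=
      (Unr55.localRingHom_flat_iff Q).1 ((RingHom.Flat.respectsIso.arrow_mk_iso_iff
        (Scheme.arrowStalkMapSpecIso (CommRingCat.ofHom (algebraMap A' D)) ⟨Q, inferInstance⟩)).1 hQ)
    exact Module.Flat.of_linearEquiv
      ((IsLocalizedModule.iso Q.primeCompl (Algebra.linearMap D (Localization.AtPrime Q))).restrictScalars A')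
  haveI : Module.Flat A₀ R₀ := IsLocalization.flat R₀ p₀.primeCompl
  have hflat' : FlatCA.FlatAt A₀ q B₀ := FlatMor67.FlatAtDesc.flatAt_descent (R := A₀) (R' := R₀)
    (Algebra.linearMap B₀ (R₀ ⊗[A₀] B₀)) (IsBaseChange.linearMap B₀ _) q (IsLocalRing.maximalIdeal R₀) qB hqBq hqBm
    (Module.Flat.trans A₀ R₀ _) hflat
  haveI : Module.Flat A₀ (LocalizedModule q.primeCompl B₀) := hflat'
  rw [FlatMor66.flat_stalkMap_iff_localization f hV hU e hxU]
  exact Module.Flat.of_linearEquiv
    ((IsLocalizedModule.iso q.primeCompl (Algebra.linearMap B₀ (Localization.AtPrime q))).symm.restrictScalars A₀)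

end Scheme

end Groth.Agent.FlatMor68.ValFlatPoint
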