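import Groth.Agent.FlatMor68.SepClosedIn
import Groth.Agent.FBase64.Geometric
import Groth.Statements.S7200

/-! The field lemma behind Bertini's theorem on irreducibility (Zariski's lemma). -/

set_option autoImplicit false
set_option linter.style.haveILetI false

universe u

open TensorProduct IntermediateField

namespace Groth.Agent.FlatMor68.ZariskiLine

open SepClosedIn

/-- Algebraic independence is preserved by invertible substitutions. -/
theorem indep_subst {F Ω : Type u} {ι : Type*} [Field F] [Field Ω] [Algebra F Ω] {x : ι → Ω} (hx : AlgebraicIndependent F x)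
    (p q : ι → MvPolynomial ι F) (h : ∀ i, MvPolynomial.aeval q (p i) = MvPolynomial.X i) :
    AlgebraicIndependent F fun i => MvPolynomial.aeval x (p i) := by
  have hid : (MvPolynomial.aeval q).comp (MvPolynomial.aeval p) = AlgHom.id F (MvPolynomial ι F) :=
    MvPolynomial.algHom_ext fun i => by rw [AlgHom.comp_apply, MvPolynomial.aeval_X]; exact h i
  have heq : (MvPolynomial.aeval fun i => MvPolynomial.aeval x (p i)) = (MvPolynomial.aeval x).comp (MvPolynomial.aeval p) :=
    MvPolynomial.algHom_ext fun i => by simp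
  have hid' : ∀ w, (MvPolynomial.aeval q) ((MvPolynomial.aeval p) w) = w := fun w => by
    rw [← AlgHom.comp_apply, hid, AlgHom.id_apply]
  have hinj : Function.Injective (MvPolynomial.aeval p : MvPolynomial ι F → MvPolynomial ι F) :=
    Function.LeftInverse.injective hid'
  rw [AlgebraicIndependent, heq, AlgHom.coe_comp]
  exact Function.Injective.comp hx hinj

theorem separable_of_hom {F F' E E' : Type u} [Field F] [Field F'] [Field E] [Field E'] [Algebra F E] [Algebra F' E']
    (e : F →+* F') (j : E →+* E') (hc : ∀ a, j (algebraMap F E a) = algebraMap F' E' (e a))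
    {x : E} (hx : IsSeparable F x) : IsSeparable F' (j x) := by
  refine (Polynomial.Separable.map (f := e) hx).of_dvd (minpoly.dvd F' (j x) ?_)
  rw [Polynomial.aeval_def, Polynomial.eval₂_map,
    show (algebraMap F' E').comp e = j.comp (algebraMap F E) from RingHom.ext fun a => (hc a).symm,
    ← Polynomial.hom_eval₂, ← Polynomial.aeval_def, minpoly.aeval, map_zero]

theorem transcendental_of_hom {F F' E : Type u} [Field F] [Field F'] [Field E] [Algebra F E] [Algebra F' E]
    (e : F →+* F') (hc : ∀ a, algebraMap F E a = algebraMap F' E (e a)) {x : E} (hx : Transcendental F' x) :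
    Transcendental F x := by
  rintro ⟨P, hP, hP0⟩
  refine hx ⟨P.map e, (Polynomial.map_ne_zero_iff e.injective).2 hP, ?_⟩
  rw [Polynomial.aeval_def, Polynomial.eval₂_map,
    show (algebraMap F' E).comp e = algebraMap F E from RingHom.ext fun a => (hc a).symm]
  exact hP0

theorem transcendental_of_surjective {F F' E : Type u} [Field F] [Field F'] [Field E] [Algebra F E] [Algebra F' E]
    (e : F →+* F') (he : Function.Surjective e) (hc : ∀ a, algebraMap F E a = algebraMap F' E (e a)) {x : E}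
    (hx : Transcendental F x) : Transcendental F' x := by
  rintro ⟨P, hP, hP0⟩
  obtain ⟨Q, rfl⟩ := Polynomial.map_surjective e he P
  refine hx ⟨Q, fun h => hP (by rw [h, Polynomial.map_zero]), ?_⟩
  rwa [Polynomial.aeval_def, Polynomial.eval₂_map,
    show (algebraMap F' E).comp e = algebraMap F E from RingHom.ext fun a => (hc a).symm] at hP0

variable {k Ω Ω' : Type u} [Field k] [Field Ω] [Algebra k Ω] [Field Ω'] [Algebra k Ω']

theorem separable_map (f : Ω →ₐ[k] Ω') {S : IntermediateField k Ω} {x : Ω} (hx : IsSeparable S x) :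
    IsSeparable (S.map f) (f x) :=
  separable_of_hom ((f.toRingHom.comp S.val.toRingHom).codRestrict (S.map f) fun a => ⟨a, a.2, rfl⟩) f.toRingHom (fun _ => rfl) hx

theorem separable_of_map (f : Ω →ₐ[k] Ω') {S : IntermediateField k Ω} {x : Ω} (hx : IsSeparable (S.map f) (f x)) :
    IsSeparable S x :=
  separable_of_injective ((f.toRingHom.comp S.val.toRingHom).codRestrict (S.map f) fun a => ⟨a, a.2, rfl⟩)
    (fun ⟨_, a, ha, h⟩ => ⟨⟨a, ha⟩, Subtype.ext h⟩) f.toRingHom (fun _ => rfl) hx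

theorem closed_bot_fieldRange {B : Type u} [Field B] [Algebra k B] (j : B →ₐ[k] Ω) (hB : separableClosure k B = ⊥) :
    Closed (⊥ : IntermediateField k Ω) j.fieldRange := by
  rintro _ ⟨b, rfl⟩ hb
  have hb' : IsSeparable k b := separable_of_injective (algebraMap k (⊥ : IntermediateField k Ω))
    (fun ⟨_, c, hc⟩ => ⟨c, Subtype.ext hc⟩) j.toRingHom (fun c => j.commutes c) hb
  obtain ⟨c, hc⟩ : b ∈ (⊥ : IntermediateField k B) := hB ▸ mem_separableClosure_iff.2 hb'
  exact ⟨c, by rw [← hc]; exact (j.commutes c).symm⟩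

theorem indep_base {B : IntermediateField k Ω} {u v t s : Ω} (hu : u ∈ B) (hv : v ∈ B)
    (huv : AlgebraicIndependent k ![u, v]) (ht : Transcendental B t) (hs : Transcendental (B ⊔ k⟮t⟯ : IntermediateField k Ω) s) :
    AlgebraicIndependent (k⟮t⟯ ⊔ k⟮s⟯ : IntermediateField k Ω) ![u, v] := by
  have hone : AlgebraicIndependent B (fun _ : Unit => t) := algebraicIndependent_unique_type_iff.2 ht
  have hs' : Transcendental (Algebra.adjoin B (Set.range fun _ : Unit => t)) s := by
    rw [Set.range_const, ← IntermediateField.transcendental_adjoin_iff]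
    exact transcendental_of_hom
      ((algebraMap B⟮t⟯ Ω).codRestrict (B ⊔ k⟮t⟯ : IntermediateField k Ω) fun a => (mem_adjoin_iff_sup t _).1 a.2)
      (fun _ => rfl) hs
  have hy : AlgebraicIndependent B (Sum.elim (fun _ : Unit => s) (fun _ : Unit => t)) :=
    hone.sumElim (algebraicIndependent_unique_type_iff.2 hs')
  have hrange : Set.range ![u, v] ⊆ Set.range (algebraMap B Ω) := by
    rintro _ ⟨i, rfl⟩
    fin_cases i
    · exact ⟨⟨u, hu⟩, rfl⟩
    · exact ⟨⟨v, hv⟩, rfl⟩
  have hall := huv.sumElim_of_tower (S := B) hrange hy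
  have hall' : AlgebraicIndependent k (Sum.elim ![u, v] (Sum.elim (fun _ : Unit => s) (fun _ : Unit => t))) := by
    refine (algebraicIndependent_equiv' (Equiv.sumComm _ _) ?_).1 hall
    ext (_ | _) <;> rfl
  have h2 := (AlgebraicIndependent.sumElim_iff.1 hall').2
  rw [← IntermediateField.algebraicIndependent_adjoin_iff] at h2
  have he : adjoin k (Set.range (Sum.elim (fun _ : Unit => s) (fun _ : Unit => t))) = k⟮t⟯ ⊔ k⟮s⟯ := by
    rw [Set.Sum.elim_range, Set.range_const, Set.range_const, adjoin_union, sup_comm]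
  rwa [he] at h2

theorem transcendental_conjugate {B : IntermediateField k Ω} {u v t s : Ω} (hu : u ∈ B) (hv : v ∈ B)
    (huv : AlgebraicIndependent k ![u, v]) (ht : Transcendental B t) (hs : Transcendental (B ⊔ k⟮t⟯ : IntermediateField k Ω) s)
    (hts : t ≠ s) :
    Transcendental (k⟮t⟯ ⊔ k⟮s⟯ ⊔ k⟮u + t * v⟯ : IntermediateField k Ω) (u + s * v) := by
  let k0 := k⟮t⟯ ⊔ k⟮s⟯
  have h := indep_base hu hv huv ht hs
  let T : k0 := ⟨t, (le_sup_left : k⟮t⟯ ≤ k0) (mem_adjoin_simple_self k t)⟩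
  let S : k0 := ⟨s, (le_sup_right : k⟮s⟯ ≤ k0) (mem_adjoin_simple_self k s)⟩
  let e : k0 := (T - S)⁻¹
  have he : (T - S) * e = 1 := mul_inv_cancel₀ (sub_ne_zero.2 fun h0 => hts (congrArg Subtype.val h0))
  have hxy : AlgebraicIndependent k0 fun i => MvPolynomial.aeval ![u, v]
      ((![MvPolynomial.X 0 + MvPolynomial.C T * MvPolynomial.X 1,
          MvPolynomial.X 0 + MvPolynomial.C S * MvPolynomial.X 1] : Fin 2 → MvPolynomial (Fin 2) k0) i) := by
    let V : MvPolynomial (Fin 2) k0 := MvPolynomial.C e * (MvPolynomial.X 0 - MvPolynomial.X 1)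
    refine indep_subst (F := k0) h _ (![MvPolynomial.X 0 - MvPolynomial.C T * V, V] : Fin 2 → MvPolynomial (Fin 2) k0) fun i => ?_
    have hC : (MvPolynomial.C T - MvPolynomial.C S) * MvPolynomial.C e = (1 : MvPolynomial (Fin 2) k0) := by
      rw [← map_sub, ← map_mul, he, map_one]
    fin_cases i
    · simp
    · simp [V]
      linear_combination (MvPolynomial.X 1 - MvPolynomial.X 0) * hC
  have hXY : AlgebraicIndependent k0 ![u + t * v, u + s * v] := by
    convert hxy using 1
    funext i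
    fin_cases i <;> simp [T, S]
  have htr := ((AlgebraicIndependent.iff_transcendental_adjoin_image 1).1 hXY).2
  rw [← IntermediateField.transcendental_adjoin_iff] at htr
  refine transcendental_of_hom (F' := adjoin k0 (![u + t * v, u + s * v] '' {(1 : Fin 2)}ᶜ))
    ((k0 ⊔ k⟮u + t * v⟯).val.toRingHom.codRestrict _ fun a => ?_) (fun _ => rfl) htr
  have hsub : k0⟮u + t * v⟯ ≤ adjoin k0 (![u + t * v, u + s * v] '' {(1 : Fin 2)}ᶜ) :=
    adjoin.mono k0 _ _ (Set.singleton_subset_iff.2 ⟨0, by simp, rfl⟩)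
  exact hsub ((mem_adjoin_iff_sup _ _).2 a.2)

/-- The two copies argument. -/
theorem closed_twoCopies {B : IntermediateField k Ω} (hB : Closed ⊥ B) {u v t s : Ω} (hu : u ∈ B) (hv : v ∈ B)
    (huv : AlgebraicIndependent k ![u, v]) (ht : Transcendental B t) (hs : Transcendental (B ⊔ k⟮t⟯ : IntermediateField k Ω) s)
    (σ : Ω →ₐ[k] Ω) (hσB : ∀ x ∈ B, σ x = x) (hσt : σ t = s) (hσs : σ s = t) :
    Closed (k⟮t⟯ ⊔ k⟮u + t * v⟯) (B ⊔ k⟮t⟯) := by
  intro β hβB hsep
  let X := u + t * v
  let Y := u + s * v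
  let A := adjoin k ({u, v} : Set Ω)
  have hts : t ≠ s := fun h => hs (h ▸ isAlgebraic_algebraMap (⟨t, (le_sup_right : k⟮t⟯ ≤ B ⊔ k⟮t⟯) (mem_adjoin_simple_self k t)⟩ : (B ⊔ k⟮t⟯ : IntermediateField k Ω)))
  have hAB : A ≤ B := adjoin_le_iff.2 (Set.insert_subset_iff.2 ⟨hu, Set.singleton_subset_iff.2 hv⟩)
  have huA : u ∈ A := subset_adjoin k _ (Set.mem_insert _ _)
  have hvA : v ∈ A := subset_adjoin k _ (Set.mem_insert_of_mem _ rfl)
  have mt : ∀ y : Ω, y ∈ k⟮y⟯ := mem_adjoin_simple_self k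
  have hAt : k⟮t⟯ ⊔ k⟮X⟯ ≤ A ⊔ k⟮t⟯ := sup_le le_sup_right (adjoin_simple_le_iff.2
    (add_mem ((le_sup_left : A ≤ A ⊔ k⟮t⟯) huA) (mul_mem ((le_sup_right : k⟮t⟯ ≤ A ⊔ k⟮t⟯) (mt t)) ((le_sup_left : A ≤ A ⊔ k⟮t⟯) hvA))))
  -- the constants
  let F := B ⊓ (separableClosure A Ω).restrictScalars k
  have hF : Closed F B := fun x hx hxs => ⟨hx, mem_separableClosure_iff.2 (by
    have h1 : IsSeparable ((separableClosure A Ω).restrictScalars k) x := separable_of_le inf_le_right hxs
    have h2 : IsSeparable (separableClosure A Ω) x := h1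
    exact h2.of_algebra_isSeparable_of_isSeparable A)⟩
  have hAF : A ≤ F := le_inf hAB fun a ha => mem_separableClosure_iff.2 (isSeparable_algebraMap (⟨a, ha⟩ : A))
  have hβF : β ∈ F ⊔ k⟮t⟯ := closed_sup_adjoin inf_le_left hF ht β hβB
    (separable_of_le (hAt.trans (sup_le_sup_right hAF _)) hsep)
  rw [← adjoin_self k F, ← adjoin_union] at hβF
  obtain ⟨T, hT, hβT⟩ := exists_finset_of_mem_adjoin hβF
  let S₀ : Set Ω := ↑T ∩ ↑F
  let M₁ := adjoin A S₀
  have hS₀ : ∀ x ∈ S₀, IsSeparable A x := fun x hx => mem_separableClosure_iff.1 hx.2.2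
  haveI : FiniteDimensional A M₁ := by
    haveI : Finite S₀ := (T.finite_toSet.inter_of_left _).to_subtype
    exact finiteDimensional_adjoin fun x hx => (hS₀ x hx).isIntegral
  haveI : Algebra.IsSeparable A M₁ := (le_separableClosure_iff A Ω M₁).1
    (adjoin_le_iff.2 fun x hx => hx.2.2)
  obtain ⟨θ₁, hθ₁⟩ := Field.exists_primitive_element A M₁
  let θ : Ω := θ₁
  have hM₁ : M₁ = A⟮θ⟯ := by
    rw [show A⟮θ⟯ = lift A⟮θ₁⟯ from (lift_adjoin_simple _ _ _).symm, hθ₁, lift_top]
  let M := A ⊔ k⟮θ⟯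
  have hMr : M₁.restrictScalars k = M := by rw [hM₁, restrictScalars_adjoin_eq_sup]
  have hMr' : M₁.restrictScalars k = A ⊔ adjoin k S₀ := restrictScalars_adjoin_eq_sup k A S₀
  have hθ : IsIntegral A θ := (Algebra.IsSeparable.isIntegral A θ₁).map M₁.val
  have hMB : M ≤ B := by
    rw [← hMr, hMr']
    exact sup_le hAB (adjoin_le_iff.2 fun x hx => hx.2.1)
  have hβM : β ∈ M ⊔ k⟮t⟯ := by
    refine (adjoin_le_iff.2 fun x hx => ?_ : adjoin k (T : Set Ω) ≤ M ⊔ k⟮t⟯) hβT
    rcases hT hx with h | h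
    · exact (le_sup_left : M ≤ _) (by rw [← hMr, hMr']; exact (le_sup_right : adjoin k S₀ ≤ _) (subset_adjoin k _ ⟨hx, h⟩))
    · rw [Set.mem_singleton_iff.1 h]; exact (le_sup_right : k⟮t⟯ ≤ _) (mt t)
  obtain ⟨C, hC, hβC⟩ := exists_constants θ le_sup_left rfl hθ (transcendental_of_le hMB ht) hβM
  -- conjugate
  let k0 := k⟮t⟯ ⊔ k⟮s⟯
  have hmapA : A.map σ = A := by
    rw [adjoin_map, Set.image_pair, hσB u hu, hσB v hv]
  have hmap : ∀ y : Ω, (k⟮y⟯).map σ = k⟮σ y⟯ := fun y => by rw [adjoin_map, Set.image_singleton]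
  have hσX : σ X = Y := by simp [X, Y, hσB u hu, hσB v hv, hσt]
  have hσY : σ Y = X := by simp [X, Y, hσB u hu, hσB v hv, hσs]
  have hC' : adjoin k C ≤ A ⊔ k⟮s⟯ ⊔ k⟮σ β⟯ := adjoin_le_iff.2 fun c hc => by
    have h1 : σ c ∈ (A ⊔ k⟮t⟯ ⊔ k⟮β⟯).map σ := ⟨c, (hC c hc).2, rfl⟩
    rw [IntermediateField.map_sup, IntermediateField.map_sup, hmapA, hmap, hmap, hσt, hσB c (hMB (hC c hc).1)] at h1
    exact h1
  let R := k0 ⊔ k⟮X⟯ ⊔ k⟮Y⟯
  have hAR : A ≤ R := by
    have h0 : ∀ y, y ∈ k⟮X⟯ → y ∈ R := fun y hy => (le_sup_left : k0 ⊔ k⟮X⟯ ≤ R) ((le_sup_right : k⟮X⟯ ≤ _) hy)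
    have htR : t ∈ R := (le_sup_left : k0 ⊔ k⟮X⟯ ≤ R) ((le_sup_left : k0 ≤ _) ((le_sup_left : k⟮t⟯ ≤ k0) (mt t)))
    have hsR : s ∈ R := (le_sup_left : k0 ⊔ k⟮X⟯ ≤ R) ((le_sup_left : k0 ≤ _) ((le_sup_right : k⟮s⟯ ≤ k0) (mt s)))
    have hvR : v ∈ R := by
      rw [show v = (X - Y) / (t - s) from (eq_div_iff (sub_ne_zero.2 hts)).2 (by simp only [X, Y]; ring)]
      exact div_mem (sub_mem (h0 _ (mt X)) ((le_sup_right : k⟮Y⟯ ≤ R) (mt Y))) (sub_mem htR hsR)
    refine adjoin_le_iff.2 (Set.insert_subset_iff.2 ⟨?_, Set.singleton_subset_iff.2 hvR⟩)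
    rw [show u = X - t * v by simp [X]]
    exact sub_mem (h0 _ (mt X)) (mul_mem htR hvR)
  have hk0R : k0 ≤ R := le_sup_left.trans le_sup_left
  have hβR : β ∈ R ⊔ k⟮σ β⟯ := by
    refine (sup_le (sup_le (hAR.trans le_sup_left) ((le_sup_left.trans hk0R).trans le_sup_left)) (hC'.trans ?_) :
      A ⊔ k⟮t⟯ ⊔ adjoin k C ≤ R ⊔ k⟮σ β⟯) hβC
    exact sup_le (sup_le (hAR.trans le_sup_left) ((le_sup_right.trans hk0R).trans le_sup_left)) le_sup_right
  have hk0 : k0.map σ = k0 := by rw [IntermediateField.map_sup, hmap, hmap, hσt, hσs, sup_comm]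
  have hσσ : σ (σ β) = β := by
    suffices hh : ∀ y ∈ adjoin k ((B : Set Ω) ∪ {t}), σ (σ y) = y from hh β (by rwa [adjoin_union, adjoin_self])
    intro y hy
    induction hy using adjoin_induction with
    | mem x hx =>
      rcases hx with h | h
      · rw [hσB x h, hσB x h]
      · rw [Set.mem_singleton_iff.1 h, hσt, hσs]
    | algebraMap a => rw [σ.commutes, σ.commutes]
    | add x y _ _ ihx ihy => rw [map_add, map_add, ihx, ihy]
    | inv x _ ihx => rw [map_inv₀, map_inv₀, ihx]
    | mul x y _ _ ihx ihy => rw [map_mul, map_mul, ihx, ihy]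
  let E := k0 ⊔ k⟮X⟯ ⊔ k⟮β⟯
  have hσβE : σ β ∈ E ⊔ k⟮Y⟯ := by
    have h1 : σ β ∈ (R ⊔ k⟮σ β⟯).map σ := ⟨β, hβR, rfl⟩
    rw [IntermediateField.map_sup, IntermediateField.map_sup, IntermediateField.map_sup, hk0, hmap, hmap, hmap, hσX, hσY, hσσ] at h1
    refine (sup_le (sup_le (sup_le ?_ le_sup_right) ?_) ?_ : k0 ⊔ k⟮Y⟯ ⊔ k⟮X⟯ ⊔ k⟮β⟯ ≤ E ⊔ k⟮Y⟯) h1
    · exact (le_sup_left.trans le_sup_left).trans le_sup_left
    · exact (le_sup_right.trans le_sup_left).trans le_sup_left
    · exact le_sup_right.trans le_sup_left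
  -- the ambient closedness
  have hk0E : k0 ≤ E := le_sup_left.trans le_sup_left
  have hB2 : Closed k0 (B ⊔ k⟮t⟯ ⊔ k⟮s⟯) := by
    have h1 := closed_sup_adjoin bot_le hB ht
    rw [bot_sup_eq] at h1
    exact closed_sup_adjoin le_sup_right h1 hs
  have hXB : X ∈ B ⊔ k⟮t⟯ := add_mem ((le_sup_left : B ≤ _) hu) (mul_mem ((le_sup_right : k⟮t⟯ ≤ _) (mt t)) ((le_sup_left : B ≤ _) hv))
  have hE : Closed k0 E := fun y hy => hB2 y
    ((sup_le (sup_le (sup_le (le_sup_right.trans le_sup_left) le_sup_right) ((adjoin_simple_le_iff.2 hXB).trans le_sup_left))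
      ((adjoin_simple_le_iff.2 hβB).trans le_sup_left) : E ≤ B ⊔ k⟮t⟯ ⊔ k⟮s⟯) hy)
  have hAtk : k⟮t⟯ ⊔ k⟮X⟯ ≤ k0 ⊔ k⟮X⟯ := sup_le_sup_right le_sup_left _
  have hYE : Transcendental E Y := by
    let L := k0 ⊔ k⟮X⟯
    have hYL : Transcendental L Y := transcendental_conjugate hu hv huv ht hs hts
    have hβL : IsIntegral L β := isIntegral_of_le hAtk hsep.isIntegral
    haveI : Algebra.IsAlgebraic L L⟮β⟯ := isAlgebraic_adjoin_simple hβL
    have h1 : Transcendental L⟮β⟯ Y := fun ha => hYL (IsAlgebraic.restrictScalars L ha)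
    exact transcendental_of_hom (F' := L⟮β⟯) (E.val.toRingHom.codRestrict _ fun a => (mem_adjoin_iff_sup _ _).2 a.2) (fun _ => rfl) h1
  have hσsep : IsSeparable (k0 ⊔ k⟮Y⟯ : IntermediateField k Ω) (σ β) := by
    refine separable_of_le ?_ (separable_map σ hsep)
    rw [IntermediateField.map_sup, hmap, hmap, hσt, hσX]
    exact sup_le_sup_right le_sup_right _
  have hσk : σ β ∈ k0 ⊔ k⟮Y⟯ := closed_sup_adjoin hk0E hE hYE _ hσβE hσsep
  have hfin : β ∈ k⟮t⟯ ⊔ k⟮X⟯ ⊔ k⟮s⟯ := by
    have h1 : σ (σ β) ∈ (k0 ⊔ k⟮Y⟯).map σ := ⟨_, hσk, rfl⟩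
    rw [IntermediateField.map_sup, hk0, hmap, hσY, hσσ, sup_right_comm] at h1
    exact h1
  exact mem_of_mem_sup (sup_le le_sup_right (adjoin_simple_le_iff.2 hXB)) hs hβB hfin

theorem exists_swap (B : Type u) [Field B] [Algebra k B] (F : Type u) [Field F] [Algebra B F]
    [Algebra (MvPolynomial (Fin 2) B) F] [IsScalarTower B (MvPolynomial (Fin 2) B) F]
    [IsFractionRing (MvPolynomial (Fin 2) B) F] [Algebra k F] [IsScalarTower k B F] :
    ∃ σ : F →ₐ[k] F, σ (algebraMap _ F (MvPolynomial.X (0 : Fin 2) : MvPolynomial (Fin 2) B)) = algebraMap _ F (MvPolynomial.X (1 : Fin 2) : MvPolynomial (Fin 2) B) ∧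
      σ (algebraMap _ F (MvPolynomial.X (1 : Fin 2) : MvPolynomial (Fin 2) B)) = algebraMap _ F (MvPolynomial.X (0 : Fin 2) : MvPolynomial (Fin 2) B) ∧
      ∀ b : B, σ (algebraMap B F b) = algebraMap B F b := by
  let E : F ≃ₐ[B] F := IsFractionRing.algEquivOfAlgEquiv (MvPolynomial.renameEquiv B (Equiv.swap (0 : Fin 2) 1))
  have hE : ∀ p : MvPolynomial (Fin 2) B, E (algebraMap _ F p) =
      algebraMap _ F (MvPolynomial.rename (Equiv.swap (0 : Fin 2) 1) p) :=
    fun p => IsFractionRing.algEquivOfAlgEquiv_algebraMap (MvPolynomial.renameEquiv B (Equiv.swap (0 : Fin 2) 1)) p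
  refine ⟨E.toAlgHom.restrictScalars k, ?_, ?_, fun b => E.commutes b⟩
  · show E _ = _
    rw [hE, MvPolynomial.rename_X, Equiv.swap_apply_left]
  · show E _ = _
    rw [hE, MvPolynomial.rename_X, Equiv.swap_apply_right]

set_option maxHeartbeats 1000000 in
/-- If `k` is separably closed in `B` then `k(t, u + t v)` is separably closed in `B(t)`. -/
theorem closed_line {B : Type u} [Field B] [Algebra k B] (hB : separableClosure k B = ⊥) {u v : B}
    (huv : AlgebraicIndependent k ![u, v]) [Algebra B Ω] [IsScalarTower k B Ω] {t : Ω} (ht : Transcendental B t)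
    {x : Ω} (hx : x ∈ B⟮t⟯) (hsep : IsSeparable (k⟮t⟯ ⊔ k⟮algebraMap B Ω u + t * algebraMap B Ω v⟯ : IntermediateField k Ω) x) :
    x ∈ k⟮t⟯ ⊔ k⟮algebraMap B Ω u + t * algebraMap B Ω v⟯ := by
  let P2 := MvPolynomial (Fin 2) B
  let Ω2 := FractionRing P2
  let X0 : Ω2 := algebraMap P2 Ω2 (MvPolynomial.X 0)
  let X1 : Ω2 := algebraMap P2 Ω2 (MvPolynomial.X 1)
  have hindep : AlgebraicIndependent B ![X0, X1] := by
    have h := (MvPolynomial.algebraicIndependent_X (Fin 2) B).map' (f := IsScalarTower.toAlgHom B P2 Ω2) (IsFractionRing.injective P2 Ω2)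
    convert h using 1
    funext i
    fin_cases i <;> rfl
  obtain ⟨h0, h1⟩ := (AlgebraicIndependent.iff_transcendental_adjoin_image 1).1 hindep
  rw [← IntermediateField.transcendental_adjoin_iff] at h1
  have ht0 : Transcendental B X0 := hindep.transcendental 0
  let j : B →ₐ[k] Ω2 := IsScalarTower.toAlgHom k B Ω2
  let B2 := j.fieldRange
  have hT : Transcendental B2 X0 :=
    transcendental_of_surjective (j.toRingHom.codRestrict B2 fun b => ⟨b, rfl⟩)
      (fun ⟨_, b, hb⟩ => ⟨b, Subtype.ext hb⟩) (fun _ => rfl) ht0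
  have hsub : (adjoin B {X0}).restrictScalars k = B2 ⊔ k⟮X0⟯ := by
    apply le_antisymm
    · intro y hy
      rw [mem_restrictScalars] at hy
      induction hy using adjoin_induction with
      | mem z hz => rw [Set.mem_singleton_iff.1 hz]; exact (le_sup_right : k⟮X0⟯ ≤ _) (mem_adjoin_simple_self k X0)
      | algebraMap b => exact (le_sup_left : B2 ≤ _) ⟨b, rfl⟩
      | add a b _ _ iha ihb => exact add_mem iha ihb
      | inv a _ iha => exact inv_mem iha
      | mul a b _ _ iha ihb => exact mul_mem iha ihb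
    · refine sup_le ?_ (adjoin_simple_le_iff.2 (mem_adjoin_simple_self B X0))
      rintro _ ⟨b, rfl⟩
      exact IntermediateField.algebraMap_mem (adjoin B {X0}) b
  have hS : Transcendental (B2 ⊔ k⟮X0⟯ : IntermediateField k Ω2) X1 := by
    have hle : (adjoin B {X0}) ≤ adjoin B (![X0, X1] '' {(1 : Fin 2)}ᶜ) :=
      adjoin.mono B _ _ (Set.singleton_subset_iff.2 ⟨0, by simp, rfl⟩)
    exact transcendental_of_hom ((B2 ⊔ k⟮X0⟯).val.toRingHom.codRestrict _ fun a => hle (hsub.ge a.2)) (fun _ => rfl) h1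
  obtain ⟨σ, hσ0, hσ1, hσB'⟩ := exists_swap (k := k) B Ω2
  have hσB : ∀ y ∈ B2, σ y = y := by
    rintro _ ⟨b, rfl⟩
    exact hσB' b
  have key := closed_twoCopies (closed_bot_fieldRange j hB) (u := j u) (v := j v) (t := X0) (s := X1)
    ⟨u, rfl⟩ ⟨v, rfl⟩ (by
      rw [show ![j u, j v] = j ∘ ![u, v] from funext fun i => by fin_cases i <;> rfl]
      exact huv.map' (f := j) j.toRingHom.injective) hT hS σ hσB hσ0 hσ1
  -- transport
  obtain ⟨r, rfl⟩ := (ratHom_range t ht x).1 hx
  let g : RatFunc B →ₐ[k] Ω := (ratHom t ht).restrictScalars k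
  let g2 : RatFunc B →ₐ[k] Ω2 := (ratHom X0 ht0).restrictScalars k
  let RX : RatFunc B := algebraMap (Polynomial B) (RatFunc B) Polynomial.X
  let RC : B → RatFunc B := fun b => algebraMap (Polynomial B) (RatFunc B) (Polynomial.C b)
  let P := k⟮RX⟯ ⊔ k⟮RC u + RX * RC v⟯
  have hg : P.map g = k⟮t⟯ ⊔ k⟮algebraMap B Ω u + t * algebraMap B Ω v⟯ := by
    simp only [P, IntermediateField.map_sup, adjoin_map, Set.image_singleton, map_add, map_mul]
    rw [show g RX = t from (ratHom_algebraMap t ht _).trans (Polynomial.aeval_X t),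
      show ∀ b, g (RC b) = algebraMap B Ω b from fun b => (ratHom_algebraMap t ht _).trans (Polynomial.aeval_C t b),
      show ∀ b, g (RC b) = algebraMap B Ω b from fun b => (ratHom_algebraMap t ht _).trans (Polynomial.aeval_C t b)]
  have hg2 : P.map g2 = k⟮X0⟯ ⊔ k⟮j u + X0 * j v⟯ := by
    simp only [P, IntermediateField.map_sup, adjoin_map, Set.image_singleton, map_add, map_mul]
    rw [show g2 RX = X0 from (ratHom_algebraMap X0 ht0 _).trans (Polynomial.aeval_X X0),
      show ∀ b, g2 (RC b) = j b from fun b => (ratHom_algebraMap X0 ht0 _).trans (Polynomial.aeval_C X0 b),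
      show ∀ b, g2 (RC b) = j b from fun b => (ratHom_algebraMap X0 ht0 _).trans (Polynomial.aeval_C X0 b)]
  have hr : IsSeparable P r := by
    refine separable_of_map g ?_
    rw [hg]; exact hsep
  have hmem : g2 r ∈ P.map g2 := by
    rw [hg2]
    refine key _ (hsub.le ((ratHom_range X0 ht0 _).2 ⟨r, rfl⟩)) ?_
    rw [← hg2]
    exact separable_map g2 hr
  obtain ⟨r', hr', he⟩ := hmem
  rw [← hg]
  exact ⟨r', hr', congrArg g (g2.toRingHom.injective he)⟩

theorem separableClosure_eq_bot_of_geometricallyIrreducible {K : Type u} [Field K] [Algebra k K]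
    (h : AlgebraicGeometry.GeometricallyIrreducible (AlgebraicGeometry.Spec.map (CommRingCat.ofHom (algebraMap k K)))) :
    separableClosure k K = ⊥ := by
  refine separableClosure_eq_bot fun L _ _ => ?_
  let y := AlgebraicGeometry.Spec.map (CommRingCat.ofHom (algebraMap k L))
  have h1 := h.geometrically_irreducibleSpace y _ _
    (CategoryTheory.IsPullback.of_hasPullback (AlgebraicGeometry.Spec.map (CommRingCat.ofHom (algebraMap k K))) y)
  haveI := h1
  let e := AlgebraicGeometry.pullbackSpecIso k K L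
  have h2 : IrreducibleSpace (PrimeSpectrum (K ⊗[k] L)) :=
    (AlgebraicGeometry.Scheme.homeoOfIso e).irreducibleSpace_iff.1 h1
  exact FBase64.isPrime_nilradical_of_injective (Algebra.TensorProduct.comm k L K).toRingHom
    (Algebra.TensorProduct.comm k L K).injective (PrimeSpectrum.irreducibleSpace_iff_isPrime_nilradical.mp h2)

section Multi

variable {K : Type u} [Field K] [Algebra k K] [Algebra K Ω] [IsScalarTower k K Ω] {ι : Type*} {y : ι → Ω}

theorem transcendental_sup (hy : AlgebraicIndependent K y) (T : Finset ι) {a : ι} (ha : a ∉ T) :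
    Transcendental ((IsScalarTower.toAlgHom k K Ω).fieldRange ⊔ adjoin k (y '' T) : IntermediateField k Ω) (y a) := by
  have h := hy.adjoin_of_disjoint (s := (T : Set ι)) (t := {a}) (Set.disjoint_singleton_right.2 ha)
  rw [algebraicIndependent_unique_type_iff] at h
  rw [← IntermediateField.transcendental_adjoin_iff] at h
  have hle : (IsScalarTower.toAlgHom k K Ω).fieldRange ⊔ adjoin k (y '' T) ≤ (adjoin K (y '' T)).restrictScalars k := by
    refine sup_le ?_ (adjoin_le_iff.2 (subset_adjoin K (y '' (T : Set ι))))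
    rintro _ ⟨b, rfl⟩
    exact IntermediateField.algebraMap_mem (adjoin K (y '' T)) b
  exact transcendental_of_hom (F' := adjoin K (y '' T))
    (((IsScalarTower.toAlgHom k K Ω).fieldRange ⊔ adjoin k (y '' T)).val.toRingHom.codRestrict _ fun b => hle b.2)
    (fun _ => rfl) h

theorem closed_adjoin (hK : separableClosure k K = ⊥) (hy : AlgebraicIndependent K y) (T : Finset ι) :
    Closed (adjoin k (y '' T)) ((IsScalarTower.toAlgHom k K Ω).fieldRange ⊔ adjoin k (y '' T)) := by
  classical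
  induction T using Finset.induction_on with
  | empty =>
    simp only [Finset.coe_empty, Set.image_empty, adjoin_empty, sup_bot_eq]
    exact closed_bot_fieldRange _ hK
  | insert a T ha ih =>
    rw [Finset.coe_insert, Set.image_insert_eq, Set.insert_eq, adjoin_union, sup_comm k⟮y a⟯, ← sup_assoc]
    exact closed_sup_adjoin le_sup_right ih (transcendental_sup hy T ha)

end Multi

theorem separableClosure_line {K : Type u} [Field K] [Algebra k K] [Algebra K Ω] [IsScalarTower k K Ω]
    (hK : separableClosure k K = ⊥) (m : ℕ) (x : Fin (m + 1) → Ω) (hx : AlgebraicIndependent K x)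
    (hgen : adjoin K (Set.range x) = ⊤) (g : Fin (m + 1) → K) (c : Fin (m + 1) → k)
    (hind : AlgebraicIndependent k
      (Sum.elim x ![∑ i, algebraMap K Ω (g i) * x i, algebraMap K Ω (∑ i, c i • g i)])) :
    separableClosure ↥(adjoin k (Set.range x ∪ {∑ i, algebraMap K Ω (g i) * x i})) Ω = ⊥ := by
  classical
  let ξ := ∑ i, algebraMap K Ω (g i) * x i
  let v := algebraMap K Ω (∑ i, c i • g i)
  have hξv : AlgebraicIndependent (adjoin k (Set.range x)) ![ξ, v] := by
    rw [IntermediateField.algebraicIndependent_adjoin_iff]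
    refine (AlgebraicIndependent.sumElim_iff.1 ?_).2
    refine (algebraicIndependent_equiv' (Equiv.sumComm _ _) ?_).1 hind
    ext (_ | _) <;> rfl
  obtain ⟨i0, hi0⟩ : ∃ i, c i ≠ 0 := by
    by_contra hall
    push Not at hall
    refine hξv.ne_zero 1 ?_
    simp [v, hall]
  let cK := fun i => algebraMap k K (c i)
  have hc0 : cK i0 ≠ 0 := (map_ne_zero_iff _ (algebraMap k K).injective).2 hi0
  let p : Fin (m + 1) → MvPolynomial (Fin (m + 1)) K := fun i =>
    if i = i0 then MvPolynomial.C (cK i0)⁻¹ * MvPolynomial.X i0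
    else MvPolynomial.X i - MvPolynomial.C (cK i * (cK i0)⁻¹) * MvPolynomial.X i0
  let q : Fin (m + 1) → MvPolynomial (Fin (m + 1)) K := fun i =>
    if i = i0 then MvPolynomial.C (cK i0) * MvPolynomial.X i0
    else MvPolynomial.X i + MvPolynomial.C (cK i) * MvPolynomial.X i0
  let y : Fin (m + 1) → Ω := fun i => MvPolynomial.aeval x (p i)
  have hy : AlgebraicIndependent K y := indep_subst hx p q fun i => by
    by_cases hi : i = i0
    · subst hi
      simp only [p, q, ↓reduceIte, map_mul, MvPolynomial.aeval_C, MvPolynomial.aeval_X, MvPolynomial.algebraMap_eq]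
      rw [← mul_assoc, ← map_mul, inv_mul_cancel₀ hc0, map_one, one_mul]
    · simp [p, q, hi]
      rw [mul_assoc, ← mul_assoc (MvPolynomial.C (cK i0)⁻¹), ← map_mul, inv_mul_cancel₀ hc0]
      simp
  let t := y i0
  have ht' : t = algebraMap K Ω (cK i0)⁻¹ * x i0 := by simp [t, y, p]
  have hcΩ : ∀ i, algebraMap K Ω (cK i) = algebraMap k Ω (c i) := fun i => (IsScalarTower.algebraMap_apply k K Ω (c i)).symm
  have hx0 : x i0 = algebraMap k Ω (c i0) * t := by
    rw [ht', ← hcΩ, ← mul_assoc, ← map_mul, mul_inv_cancel₀ hc0, map_one, one_mul]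
  have hyi : ∀ i ≠ i0, y i = x i - algebraMap k Ω (c i) * t := fun i hi => by
    rw [ht', ← hcΩ]
    simp [y, p, hi]
    ring
  let T : Finset (Fin (m + 1)) := Finset.univ.erase i0
  let k' := adjoin k (y '' T)
  let B := (IsScalarTower.toAlgHom k K Ω).fieldRange ⊔ k'
  have hk'B : k' ≤ B := le_sup_right
  letI : Algebra k' B := (IntermediateField.inclusion hk'B).toRingHom.toAlgebra
  haveI : IsScalarTower k' B Ω := .of_algebraMap_eq fun _ => rfl
  have hbot : separableClosure k' B = ⊥ := by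
    refine eq_bot_iff.2 fun b hb => ?_
    have hb' : IsSeparable k' (b : Ω) := (mem_separableClosure_iff.1 hb).map (IsScalarTower.toAlgHom k' B Ω) Subtype.val_injective
    exact ⟨⟨b, closed_adjoin hK hy T _ b.2 hb'⟩, Subtype.ext rfl⟩
  have htB : Transcendental B t := transcendental_sup hy T (Finset.notMem_erase i0 _)
  have hyk : ∀ i ∈ T, y i ∈ k' := fun i hi => subset_adjoin k _ ⟨i, hi, rfl⟩
  have hKB : ∀ a : K, algebraMap K Ω a ∈ B := fun a => (le_sup_left : _ ≤ B) ⟨a, rfl⟩
  let u := ∑ i ∈ T, algebraMap K Ω (g i) * y i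
  have huB : u ∈ B := sum_mem fun i hi => mul_mem (hKB _) (hk'B (hyk i hi))
  have hξ : ξ = u + t * v := by
    simp only [ξ, u, v]
    rw [map_sum, Finset.mul_sum, ← Finset.add_sum_erase _ _ (Finset.mem_univ i0),
      ← Finset.add_sum_erase _ (fun i => t * algebraMap K Ω (c i • g i)) (Finset.mem_univ i0)]
    simp only [Algebra.smul_def, map_mul, ← IsScalarTower.algebraMap_apply k K Ω]
    rw [hx0]
    have : ∀ i ∈ T, algebraMap K Ω (g i) * x i =
        algebraMap K Ω (g i) * y i + t * (algebraMap k Ω (c i) * algebraMap K Ω (g i)) := fun i hi => by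
      rw [hyi i (Finset.ne_of_mem_erase hi)]; ring
    rw [Finset.sum_congr rfl this, Finset.sum_add_distrib]
    ring
  let Fx := adjoin k (Set.range x)
  have hxF : ∀ i, x i ∈ Fx := fun i => subset_adjoin k _ ⟨i, rfl⟩
  have htF : t ∈ Fx := by
    rw [ht', map_inv₀, hcΩ]
    exact mul_mem (inv_mem (Fx.algebraMap_mem _)) (hxF i0)
  have hk'F : k' ≤ Fx := adjoin_le_iff.2 (by
    rintro _ ⟨i, hi, rfl⟩
    rw [hyi i (Finset.ne_of_mem_erase hi)]
    exact sub_mem (hxF i) (mul_mem (Fx.algebraMap_mem _) htF))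
  have huv : AlgebraicIndependent k' ![(⟨u, huB⟩ : B), ⟨v, hKB _⟩] := by
    letI : Algebra k' Fx := (IntermediateField.inclusion hk'F).toRingHom.toAlgebra
    haveI : IsScalarTower k' Fx Ω := .of_algebraMap_eq fun _ => rfl
    have h := indep_subst (F := Fx) hξv
      ![MvPolynomial.X 0 - MvPolynomial.C ⟨t, htF⟩ * MvPolynomial.X 1, MvPolynomial.X 1]
      (![MvPolynomial.X 0 + MvPolynomial.C ⟨t, htF⟩ * MvPolynomial.X 1, MvPolynomial.X 1] : Fin 2 → MvPolynomial (Fin 2) Fx)
      (fun i => by fin_cases i <;> simp)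
    have h' : AlgebraicIndependent Fx ![u, v] := by
      have e : (fun i => MvPolynomial.aeval ![ξ, v] ((![MvPolynomial.X 0 - MvPolynomial.C ⟨t, htF⟩ * MvPolynomial.X 1,
          MvPolynomial.X 1] : Fin 2 → MvPolynomial (Fin 2) Fx) i)) = ![u, v] := funext fun i => by
        fin_cases i
        · simp [hξ]
        · simp
      exact e ▸ h
    refine AlgebraicIndependent.of_comp (IsScalarTower.toAlgHom k' B Ω) ?_
    rw [show (IsScalarTower.toAlgHom k' B Ω) ∘ ![(⟨u, huB⟩ : B), ⟨v, hKB _⟩] = ![u, v] from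
      funext fun i => by fin_cases i <;> rfl]
    exact h'.restrictScalars (IntermediateField.inclusion_injective hk'F)
  refine eq_bot_iff.2 fun w hw => ?_
  have hwB : w ∈ (B⟮t⟯ : IntermediateField B Ω) := by
    rw [mem_adjoin_iff_sup]
    have htop : (adjoin K (Set.range x)).restrictScalars k ≤ B ⊔ k⟮t⟯ := fun z hz => by
      rw [mem_restrictScalars] at hz
      induction hz using adjoin_induction with
      | mem z hz =>
        obtain ⟨i, rfl⟩ := hz
        have hti : ∀ a : k, algebraMap k Ω a * t ∈ B ⊔ k⟮t⟯ := fun a =>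
          mul_mem ((B ⊔ k⟮t⟯).algebraMap_mem a) ((le_sup_right : k⟮t⟯ ≤ _) (mem_adjoin_simple_self k t))
        by_cases hi : i = i0
        · rw [hi, hx0]; exact hti _
        · rw [show x i = y i + algebraMap k Ω (c i) * t by rw [hyi i hi]; ring]
          exact add_mem ((le_sup_left : B ≤ _) (hk'B (hyk i (Finset.mem_erase.2 ⟨hi, Finset.mem_univ _⟩)))) (hti _)
      | algebraMap a => exact (le_sup_left : B ≤ _) (hKB a)
      | add a b _ _ iha ihb => exact add_mem iha ihb
      | inv a _ iha => exact inv_mem iha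
      | mul a b _ _ iha ihb => exact mul_mem iha ihb
    exact htop (by rw [mem_restrictScalars, hgen]; trivial)
  let P := k'⟮t⟯ ⊔ k'⟮ξ⟯
  have hP : P.restrictScalars k = adjoin k (Set.range x ∪ {ξ}) := by
    apply le_antisymm
    · have hFle : Fx ≤ adjoin k (Set.range x ∪ {ξ}) := adjoin.mono k _ _ Set.subset_union_left
      rw [show P = adjoin k' ({t} ∪ {ξ}) by rw [adjoin_union], restrictScalars_adjoin, adjoin_le_iff]
      rintro z (hz | hz | hz)
      · exact hFle (hk'F hz)
      · rw [Set.mem_singleton_iff.1 hz]; exact hFle htF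
      · rw [Set.mem_singleton_iff.1 hz]; exact subset_adjoin k _ (Set.mem_union_right _ rfl)
    · refine adjoin_le_iff.2 ?_
      have htP : t ∈ P := (le_sup_left : k'⟮t⟯ ≤ P) (mem_adjoin_simple_self k' t)
      have hck : ∀ a : k, algebraMap k Ω a * t ∈ P := fun a =>
        mul_mem (P.algebraMap_mem (algebraMap k k' a)) htP
      rintro z (⟨i, rfl⟩ | hz)
      · show x i ∈ P
        by_cases hi : i = i0
        · rw [hi, hx0]; exact hck _
        · rw [show x i = y i + algebraMap k Ω (c i) * t by rw [hyi i hi]; ring]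
          exact add_mem (P.algebraMap_mem ⟨y i, hyk i (Finset.mem_erase.2 ⟨hi, Finset.mem_univ _⟩)⟩) (hck _)
      · rw [Set.mem_singleton_iff.1 hz]
        exact (le_sup_right : k'⟮ξ⟯ ≤ P) (mem_adjoin_simple_self k' ξ)
  have hw' : IsSeparable P w := by
    have h1 : IsSeparable (P.restrictScalars k) w := separable_of_le hP.ge (mem_separableClosure_iff.1 hw)
    exact h1
  have hmem : w ∈ P := by
    have := closed_line (k := k') hbot huv htB hwB
    have hξ' : algebraMap B Ω ⟨u, huB⟩ + t * algebraMap B Ω ⟨v, hKB _⟩ = ξ := hξ.symm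
    rw [hξ'] at this
    exact this hw'
  exact ⟨⟨w, hP.le hmem⟩, rfl⟩

theorem main {K : Type u} [Field K] [Algebra k K]
    (h : AlgebraicGeometry.GeometricallyIrreducible (AlgebraicGeometry.Spec.map (CommRingCat.ofHom (algebraMap k K))))
    (m : ℕ) (g : Fin (m + 1) → K) (c : Fin (m + 1) → k)
    (hind : AlgebraicIndependent k
      (Sum.elim
        (fun i : Fin (m + 1) => algebraMap (MvPolynomial (Fin (m + 1)) K) (FractionRing (MvPolynomial (Fin (m + 1)) K)) (MvPolynomial.X i))
        ![∑ i, algebraMap K (FractionRing (MvPolynomial (Fin (m + 1)) K)) (g i) * algebraMap (MvPolynomial (Fin (m + 1)) K) (FractionRing (MvPolynomial (Fin (m + 1)) K)) (MvPolynomial.X i),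
          algebraMap K (FractionRing (MvPolynomial (Fin (m + 1)) K)) (∑ i, c i • g i)])) :
    AlgebraicGeometry.GeometricallyIrreducible (AlgebraicGeometry.Spec.map (CommRingCat.ofHom (algebraMap
      ↥(IntermediateField.adjoin k
        (Set.range (fun i : Fin (m + 1) => algebraMap (MvPolynomial (Fin (m + 1)) K) (FractionRing (MvPolynomial (Fin (m + 1)) K)) (MvPolynomial.X i)) ∪
          {∑ i, algebraMap K (FractionRing (MvPolynomial (Fin (m + 1)) K)) (g i) * algebraMap (MvPolynomial (Fin (m + 1)) K) (FractionRing (MvPolynomial (Fin (m + 1)) K)) (MvPolynomial.X i)}))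
      (FractionRing (MvPolynomial (Fin (m + 1)) K))))) := by
  let P := MvPolynomial (Fin (m + 1)) K
  let F := FractionRing P
  let x : Fin (m + 1) → F := fun i => algebraMap P F (MvPolynomial.X i)
  refine FBase64.geometricallyIrreducible_specMap (separableClosure_line
    (separableClosure_eq_bot_of_geometricallyIrreducible h) m x
    ((MvPolynomial.algebraicIndependent_X (Fin (m + 1)) K).map' (f := IsScalarTower.toAlgHom K P F) (IsFractionRing.injective P F))
    ?_ g c hind)
  refine eq_top_iff.2 fun z _ => ?_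
  have hp : ∀ p : P, algebraMap P F p ∈ adjoin K (Set.range x) := fun p => by
    induction p using MvPolynomial.induction_on with
    | C a => exact IntermediateField.algebraMap_mem (adjoin K (Set.range x)) a
    | add p q hp hq => rw [map_add]; exact add_mem hp hq
    | mul_X p i hp => rw [map_mul]; exact mul_mem hp (subset_adjoin K _ ⟨i, rfl⟩)
  obtain ⟨a, b, -, rfl⟩ := IsFractionRing.div_surjective (A := P) z
  exact div_mem (hp a) (hp b)

end Groth.Agent.FlatMor68.ZariskiLine
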